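import Cfsg.Agent.H9.B24T

/-! The `5`-blocks of the characters of degree `252` and `5796`. -/

set_option autoImplicit false

namespace Cfsg.Agent.H7.B24

open Cfsg Cfsg.Agent.H3 Cfsg.Agent.H2.D1 Finset
open Cfsg.Agent.H9.Tri (cj T dg_cj cj_mem_T two_sq)
open Cfsg.Agent.H9.Def
open scoped ComplexConjugate Classical

variable {G : Type*} [Group G] [Fintype G] {x w : G} {β1 β2 β3 β4 : IrrCharacter G}

namespace R5

open T5

/-- the multiplicity as a function of the degree -/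
def nf (d : ℕ) : ℤ :=
  if d % 5 = 1 then -1 else if d % 5 = 2 then -2 else if d % 5 = 3 then 2 else
    if d % 5 = 4 then 1 else 0

theorem m_cj' (p : ℕ) [Fact p.Prime] (χ ψ : IrrCharacter G) : m p (cj χ) (cj ψ) = m p χ ψ := by
  rw [← m_comm χ ψ]
  refine mul_left_cancel₀ (card_ne_zero' (G := G)) ?_
  rw [card_mul_m, card_mul_m]
  refine sum_congr rfl fun g _ => ?_
  simp only [Complex.conj_conj]
  ring

theorem cj_b4 (B : B5 β1 β2 β3 β4) : cj β4 = β4 := by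
  have hb := B.d13
  have h2 := B.d2
  have h4 := B.d4
  have h5 := dg_cj β4
  simp only [List.mem_cons, Prod.mk.injEq, List.not_mem_nil, or_false] at hb
  have a := m_val B β4 (cj β4) (-1) (fun g hg => by simp [(B.sing g hg).2.2.2])
  have b := m_val B (cj β4) β4 (-1) (fun g hg => by simp [(B.sing g hg).2.2.2])
  rw [dl_ne (χ := β4) (ψ := triv) (by rw [dg_tr]; omega), dl_ne (χ := β4) (ψ := β1) (by omega),
    dl_ne (χ := β4) (ψ := β2) (by omega), dl_ne (χ := β4) (ψ := β3) (by omega), dl_self] at a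
  rw [dl_ne (χ := cj β4) (ψ := triv) (by rw [dg_tr]; omega),
    dl_ne (χ := cj β4) (ψ := β1) (by omega),
    dl_ne (χ := cj β4) (ψ := β2) (by omega), dl_ne (χ := cj β4) (ψ := β3) (by omega),
    m_comm β4 (cj β4)] at b
  by_contra hne
  rw [show dl β4 (cj β4) = 0 from if_neg (Ne.symm hne)] at a
  rw [show dl (cj β4) β4 = 0 from if_neg hne] at b
  have : (1 : ℂ) = 0 := by
    push_cast at a b
    linear_combination a - b
  exact one_ne_zero this

theorem zc : ∀ d ∈ 1 :: (DN ++ DZ), ∀ n ∈ [(-2 : ℤ), -1, 1, 2], 5 ∣ 244823040 / d →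
    (((244823040 / d : ℕ) : ℤ) * n / 5) % 5 = 2 → n = nf d := by decide +kernel

/-- the partners of a character -/
theorem part (D : Data G x w) (χ : IrrCharacter G) (k : ℤ) (hk : 5 * m 5 χ χ = k)
    (hd : (dg χ, k) ∈ [(252, (3 : ℤ)), (5796, 4)]) (h0 : m 5 χ triv = 0) :
    ∃ S : Finset (IrrCharacter G), (∀ ψ, ψ ∈ S ↔ ψ ≠ χ ∧ m 5 χ ψ ≠ 0) ∧
      (∀ ψ ∈ S, dg ψ ∈ DN ++ DZ ∧ nf (dg ψ) ≠ 0 ∧ 5 * m 5 χ ψ = nf (dg ψ)) ∧
      ∑ ψ ∈ S, nf (dg ψ) ^ 2 = k * (5 - k) ∧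
      ∑ ψ ∈ S, nf (dg ψ) * dg ψ = (5 - k) * dg χ ∧
      ∑ ψ ∈ S, nf (dg ψ) * Af (dg ψ) = (5 - k) * Af (dg χ) ∧
      ∑ ψ ∈ S, nf (dg ψ) * Cf (dg ψ) = (5 - k) * Cf (dg χ) := by
  simp only [List.mem_cons, Prod.mk.injEq, List.not_mem_nil, or_false] at hd
  obtain ⟨n, z, a1, a2, -, a3, -, -, -, a4, a5, a6⟩ := defect (p := 5) (k := 1) χ
    (by rw [D.card]; rcases hd with h | h <;> rw [h.1] <;> decide)
  simp only [Nat.cast_ofNat, pow_one] at a1 a2 a3 a4 a5 a6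
  have nk : n χ = k := by
    have := a1 χ
    rw [hk] at this
    exact_mod_cast this.symm
  set S : Finset (IrrCharacter G) := univ.filter fun ψ => ψ ≠ χ ∧ n ψ ≠ 0 with hS
  have split : ∀ {M : Type} [AddCommMonoid M] (f : IrrCharacter G → M),
      (∀ ψ, n ψ = 0 → f ψ = 0) → ∑ ψ, f ψ = f χ + ∑ ψ ∈ S, f ψ := by
    intro M _ f hf
    rw [← add_sum_erase _ _ (mem_univ χ)]
    congr 1
    refine (sum_subset (fun ψ hψ => ?_) (fun ψ h1 h2 => ?_)).symm
    · simp only [hS, mem_filter, mem_univ, true_and] at hψ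
      simp [hψ.1]
    · simp only [hS, mem_filter, mem_univ, true_and, mem_erase, and_true, not_and, not_not] at h1 h2
      exact hf _ (h2 h1)
  have sq : ∑ ψ ∈ S, n ψ ^ 2 = k * (5 - k) := by
    rw [split _ (fun ψ h => by simp [h]), nk] at a3
    linear_combination a3
  have zχ : z χ % 5 = 2 := by
    have := a5 χ
    rw [D.card, nk] at this
    rcases hd with h | h <;> rw [h.1, h.2] at this <;> norm_num at this <;> omega
  have key : ∀ ψ ∈ S, n ψ = nf (dg ψ) := by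
    intro ψ hψ
    have l : n ψ ^ 2 ≤ k * (5 - k) := sq ▸ single_le_sum (f := fun ψ => n ψ ^ 2)
      (fun _ _ => sq_nonneg _) hψ
    simp only [hS, mem_filter, mem_univ, true_and] at hψ
    have l2 : n ψ ^ 2 ≤ 6 := by rcases hd with h | h <;> rw [h.2] at l <;> omega
    have l3 : -3 < n ψ ∧ n ψ < 3 := by constructor <;> nlinarith
    have b4 := a4 ψ hψ.2 hψ.1
    have b5 := a5 ψ
    have b6 := a6 ψ hψ.2
    rw [D.card] at b4 b5
    refine zc _ (mem_L D ψ) _ (by simp only [List.mem_cons, List.not_mem_nil]; omega) b4 ?_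
    rw [b5]
    omega
  have ev : ∀ g, IsPReg 5 g → ∑ ψ ∈ S, (nf (dg ψ) : ℂ) * (ψ : G → ℂ) g =
      (5 - k) * (χ : G → ℂ) g := by
    intro g hg
    have := a2 g hg
    rw [split _ (fun ψ h => by simp [h]), nk] at this
    rw [sum_congr rfl (fun ψ hψ => by rw [← key ψ hψ])]
    linear_combination -this
  refine ⟨S, fun ψ => ?_, fun ψ hψ => ?_, ?_, ?_, ?_, ?_⟩
  · simp only [hS, mem_filter, mem_univ, true_and]
    refine and_congr_right fun _ => not_congr ?_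
    have := a1 ψ
    constructor
    · intro h
      rw [h] at this
      linear_combination this / 5
    · intro h
      rw [h, mul_zero] at this
      exact_mod_cast this.symm
  · have e := key ψ hψ
    simp only [hS, mem_filter, mem_univ, true_and] at hψ
    refine ⟨List.mem_append.2 (D.deg ψ ?_), e ▸ hψ.2, e ▸ a1 ψ⟩
    rintro rfl
    have := a1 triv
    rw [h0, mul_zero] at this
    exact hψ.2 (by exact_mod_cast this.symm)
  · rw [← sq]
    exact sum_congr rfl fun ψ hψ => by rw [key ψ hψ]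
  · have := ev 1 (by rw [IsPReg, orderOf_one]; decide)
    simp only [dg_eq] at this
    exact_mod_cast this
  · have e1 := ev x (by rw [IsPReg, D.ox]; decide)
    have e2 := ev x⁻¹ (by rw [IsPReg, orderOf_inv, D.ox]; decide)
    have : ∑ ψ ∈ S, (nf (dg ψ) : ℂ) * (Af (dg ψ) : ℂ) = (5 - k) * (Af (dg χ) : ℂ) := by
      simp only [← D.vA, mul_add, sum_add_distrib, e1, e2]
    exact_mod_cast this
  · have := ev w (by rw [IsPReg, D.ow]; decide)
    simp only [D.vC] at this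
    exact_mod_cast this

theorem t1 : ∀ d ∈ DN ++ DZ, nf d ^ 2 ≠ 4 → d ≠ 15456 → d ≠ 3024 →
    -(if d = 276 then 1 else 0) ≤ nf d * Cf d := by decide +kernel

theorem t2 : ∀ d ∈ DN ++ DZ, nf d ^ 2 = 4 → nf d * Cf d % 2 = 0 := by decide +kernel

theorem t3 : ∀ a ∈ DN ++ DZ, nf a ^ 2 = 4 → ∀ b ∈ DN ++ DZ, nf b ^ 2 = 1 → ∀ c ∈ DN ++ DZ,
    nf a * a + (nf b * b + nf c * c) = 504 → nf c ^ 2 = 1 →
    nf a * Af a + (nf b * Af b + nf c * Af c) = -4 →
    nf a * Cf a + (nf b * Cf b + nf c * Cf c) = -2 →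
    a = 12 ∨ (a = 483 ∧ b = 231 ∧ c = 231) ∨ b = 15456 ∨ c = 15456 ∨ b = 3024 ∨ c = 3024 ∨
      (b = 276 ∧ c = 276) := by decide +kernel

theorem cnt_ne {χ : IrrCharacter G} {d : ℕ} (h : dg χ = d) : cnt G d ≠ 0 :=
  card_ne_zero.2 ⟨χ, by simp [h]⟩

theorem two_le_cnt {χ ψ : IrrCharacter G} {d : ℕ} (hne : χ ≠ ψ) (h : dg χ = d) (h' : dg ψ = d) :
    2 ≤ cnt G d :=
  one_lt_card.2 ⟨χ, by simp [h], ψ, by simp [h'], hne⟩

theorem low {S : Finset (IrrCharacter G)} (h : ∀ ψ ∈ S, dg ψ ∈ DN ++ DZ ∧ nf (dg ψ) ^ 2 ≠ 4)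
    (h1 : cnt G 15456 = 0) (h2 : cnt G 3024 = 0) :
    -(cnt G 276 : ℤ) ≤ ∑ ψ ∈ S, nf (dg ψ) * Cf (dg ψ) := by
  have a : ∑ ψ ∈ S, -(if dg ψ = 276 then (1 : ℤ) else 0) ≤ ∑ ψ ∈ S, nf (dg ψ) * Cf (dg ψ) :=
    sum_le_sum fun ψ hψ => t1 _ (h ψ hψ).1 (h ψ hψ).2 (fun e => cnt_ne e h1) (fun e => cnt_ne e h2)
  rw [sum_neg_distrib, sum_boole] at a
  have b : #(S.filter fun ψ => dg ψ = 276) ≤ cnt G 276 :=
    card_le_card (filter_subset_filter _ (subset_univ _))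
  omega

end R5

open T5 R5 in
theorem hR (D : Data G x w) (B : B5 β1 β2 β3 β4) {c1 c3 : IrrCharacter G} (h1 : dg c1 = 252)
    (h3 : dg c3 = 5796) (hT : T β4 = {c1, β4, c3})
    (h : (5 * m 5 c1 c1 = 3 ∧ m 5 c1 β4 = 0 ∧ m 5 c1 c3 = 0 ∧ m 5 c1 triv = 0) ∨
      (c3 ≠ β2 ∧ 5 * m 5 c3 c3 = 4 ∧ m 5 c3 c1 = 0 ∧ m 5 c3 β4 = 0 ∧ m 5 c3 triv = 0 ∧
        m 5 c3 β2 = 0)) :
    (2 ≤ cnt G 231 ∧ cnt G 483 ≠ 0) ∨ cnt G 276 ≠ 0 ∧ (2 ≤ cnt G 276 ∨ 2 ≤ cnt G 5796) ∨
      cnt G 15456 ≠ 0 ∨ cnt G 3024 ≠ 0 := by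
  by_contra hc
  simp only [not_or, not_not] at hc
  obtain ⟨k1, k2, k3, k4⟩ := hc
  rcases h with ⟨e, -, -, e0⟩ | ⟨ne, e, -, -, e0, -⟩
  · obtain ⟨S, s1, s2, s3, s4, s5, s6⟩ := part D c1 3 (by exact_mod_cast e) (by simp [h1]) e0
    rw [h1] at s4 s5 s6
    rw [show (5 - 3 : ℤ) * Af 252 = -4 by decide] at s5
    rw [show (5 - 3 : ℤ) * Cf 252 = -2 by decide] at s6
    by_cases h4 : ∃ a ∈ S, nf (dg a) ^ 2 = 4
    · obtain ⟨a, ha, h4⟩ := h4
      rw [← add_sum_erase _ _ ha] at s3 s4 s5 s6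
      obtain ⟨c2, pm⟩ := two_sq (N := S.erase a) (f := fun ψ => nf (dg ψ))
        (fun ψ hψ => (s2 ψ (mem_of_mem_erase hψ)).2.1) (by omega)
      obtain ⟨b, c, bc, hS⟩ := card_eq_two.1 c2
      have hb : b ∈ S.erase a := by rw [hS]; simp
      have hc : c ∈ S.erase a := by rw [hS]; simp
      have pb : nf (dg b) ^ 2 = 1 := by rcases pm b hb with e | e <;> rw [e] <;> rfl
      have pc : nf (dg c) ^ 2 = 1 := by rcases pm c hc with e | e <;> rw [e] <;> rfl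
      rw [hS, sum_pair bc] at s4 s5 s6
      rcases t3 _ (s2 a ha).1 h4 _ (s2 b (mem_of_mem_erase hb)).1 pb _
        (s2 c (mem_of_mem_erase hc)).1 (by rw [s4]; norm_num) pc s5 s6 with
        e | ⟨e1, e2, e3⟩ | e | e | e | e | ⟨e1, e2⟩
      · have r1 : cj c1 = c1 := by
          have : cj c1 ∈ T (cj β4) := cj_mem_T.2 (by rw [hT]; simp)
          rw [cj_b4 B, hT] at this
          have d := dg_cj c1
          have d4 := B.d4
          simp only [mem_insert, mem_singleton] at this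
          rcases this with r | r | r
          · exact r
          · rw [r] at d; omega
          · rw [r] at d; omega
        obtain ⟨θ, hθ, hh⟩ := D.ex
        have cc : cj (cj θ) = θ := by ext; simp
        have r2 : cj a ≠ a := by
          rcases (hh a).1 (by rw [e]; decide) with r | r
          · rw [r]; exact hθ.symm
          · rw [r, cc]; exact hθ
        have r3 : cj a ∈ S.erase a := by
          refine mem_erase.2 ⟨r2, (s1 _).2 ⟨fun r => ?_, ?_⟩⟩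
          · have := dg_cj a
            rw [r] at this
            omega
          · rw [← r1, m_cj']
            exact ((s1 a).1 ha).2
        have := pm _ r3
        simp only [dg_cj, e] at this
        revert this
        decide
      · exact k1 ⟨two_le_cnt bc e2 e3, cnt_ne e1⟩
      · exact cnt_ne e k3
      · exact cnt_ne e k3
      · exact cnt_ne e k4
      · exact cnt_ne e k4
      · exact k2 ⟨cnt_ne e1, Or.inl (two_le_cnt bc e1 e2)⟩
    · simp only [not_exists, not_and] at h4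
      have := low (S := S) (fun ψ hψ => ⟨(s2 ψ hψ).1, h4 ψ hψ⟩) k3 k4
      exact k2 ⟨by omega, Or.inl (by omega)⟩
  · obtain ⟨S, s1, s2, s3, -, -, s6⟩ := part D c3 4 (by exact_mod_cast e) (by simp [h3]) e0
    rw [h3, show (5 - 4 : ℤ) * Cf 5796 = -1 by decide] at s6
    by_cases h4 : ∃ a ∈ S, nf (dg a) ^ 2 = 4
    · obtain ⟨a, ha, h4⟩ := h4
      rw [← add_sum_erase _ _ ha] at s3 s6
      have z : ∀ ψ ∈ S.erase a, nf (dg ψ) ^ 2 = 0 :=
        (sum_eq_zero_iff_of_nonneg (fun _ _ => sq_nonneg _)).1 (by omega)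
      rw [sum_eq_zero (fun ψ hψ => by rw [pow_eq_zero_iff two_ne_zero |>.1 (z ψ hψ), zero_mul])]
        at s6
      have := t2 _ (s2 a ha).1 h4
      omega
    · simp only [not_exists, not_and] at h4
      have := low (S := S) (fun ψ hψ => ⟨(s2 ψ hψ).1, h4 ψ hψ⟩) k3 k4
      exact k2 ⟨by omega, Or.inr (two_le_cnt ne h3 B.d2)⟩

end Cfsg.Agent.H7.B24
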