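import Mathlib
import Cfsg.Agent.H3.PSL2Spec

/-!
# Groups with the class sizes of `PSL₂(q)`: the central quotient
-/

set_option autoImplicit false

namespace Cfsg.Agent.H3

open Subgroup

variable {G : Type*} [Group G] [Finite G]

theorem exists_part_notMem {H : Subgroup G} {g : G} {l : ℕ} (hl : l.Prime)
    (h : ∀ n, g ^ n ∈ H → l ∣ n) : ∃ m i, g ^ m ∉ H ∧ (g ^ m) ^ l ^ i = 1 := by
  have h0 : orderOf g ≠ 0 := (orderOf_pos g).ne'
  refine ⟨ordCompl[l] (orderOf g), (orderOf g).factorization l,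
    fun hm => Nat.not_dvd_ordCompl hl h0 (h _ hm), ?_⟩
  rw [← pow_mul, mul_comm, Nat.ordProj_mul_ordCompl_eq_self, pow_orderOf_eq_one]

theorem exists_prime_part_notMem {H : Subgroup G} {g : G} (hg : g ∉ H) :
    ∃ l m i, l.Prime ∧ g ^ m ∉ H ∧ (g ^ m) ^ l ^ i = 1 := by
  have key : ∀ n, g ^ n ∈ H ↔ Function.minimalPeriod (g • ·) ((1 : G) : G ⧸ H) ∣ n := fun n => by
    rw [← MulAction.pow_smul_eq_iff_minimalPeriod_dvd]
    change _ ↔ ((g ^ n * 1 : G) : G ⧸ H) = (1 : G)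
    rw [eq_comm, QuotientGroup.eq]
    simp
  obtain ⟨l, hl, hd⟩ := Nat.exists_prime_and_dvd (n := Function.minimalPeriod (g • ·)
    ((1 : G) : G ⧸ H)) (fun h => hg (by simpa using (key 1).mpr h.dvd))
  obtain ⟨m, i, h⟩ := exists_part_notMem hl (fun n hn => hd.trans ((key n).mp hn))
  exact ⟨l, m, i, hl, h⟩

omit [Finite G] in
theorem coprime_orderOf_of_pow {x y : G} {r s i j : ℕ} (hr : r.Prime) (hs : s.Prime) (hrs : r ≠ s)
    (hx : x ^ r ^ i = 1) (hy : y ^ s ^ j = 1) : Nat.Coprime (orderOf x) (orderOf y) :=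
  ((Nat.Coprime.pow i j ((Nat.coprime_primes hr hs).mpr hrs)).coprime_dvd_left
    (orderOf_dvd_of_pow_eq_one hx)).coprime_dvd_right (orderOf_dvd_of_pow_eq_one hy)

omit [Finite G] in
theorem centralizer_mul_le_left {u v : G} (hc : u * v = v * u)
    (ho : Nat.Coprime (orderOf u) (orderOf v)) : centralizer {u * v} ≤ centralizer {u} := by
  intro w hw
  rw [mem_centralizer_singleton_iff] at hw ⊢
  have h1 : Commute w ((u * v) ^ orderOf v) := Commute.pow_right hw _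
  rw [Commute.mul_pow hc, pow_orderOf_eq_one, mul_one] at h1
  obtain ⟨k, hk⟩ := exists_pow_eq_self_of_coprime ho.symm
  rw [← hk]
  exact h1.pow_right k

/-- The size of the conjugacy class of `g`. -/
noncomputable abbrev sz (g : G) : ℕ := (centralizer {g}).index

/-- The order of `C(g) / Z(G)`. -/
noncomputable abbrev kap (g : G) : ℕ :=
  Nat.card ((centralizer {g}).map (QuotientGroup.mk' (center G)))

omit [Finite G] in
theorem sz_eq_one_iff {g : G} : sz g = 1 ↔ g ∈ center G := by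
  rw [index_eq_one, centralizer_eq_top_iff_subset, Set.singleton_subset_iff, SetLike.mem_coe]

omit [Finite G] in
theorem sz_mul_kap (g : G) : sz g * kap g = Nat.card (G ⧸ center G) := by
  rw [← index_mul_card ((centralizer {g}).map (QuotientGroup.mk' (center G))),
    index_map_eq _ (QuotientGroup.mk'_surjective _)
      (by rw [QuotientGroup.ker_mk']; exact center_le_centralizer _)]

omit [Finite G] in
theorem sz_pow_dvd (g : G) (m : ℕ) : sz (g ^ m) ∣ sz g :=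
  index_dvd_of_le fun w hw => by
    rw [mem_centralizer_singleton_iff] at hw ⊢
    exact Commute.pow_right hw m

omit [Finite G] in
theorem sz_conj (g x : G) : sz (g * x * g⁻¹) = sz x := by
  rw [sz, sz, ← index_comap_of_surjective _ (f := (MulAut.conj g).toMonoidHom)
    (MulAut.conj g).surjective]
  congr 1
  ext w
  simp only [mem_comap, mem_centralizer_singleton_iff, MulEquiv.coe_toMonoidHom, MulAut.conj_apply]
  constructor
  · intro h
    have : w * x = g⁻¹ * (g * w * g⁻¹ * (g * x * g⁻¹)) * g := by group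
    rw [this, h]; group
  · intro h
    have : g * w * g⁻¹ * (g * x * g⁻¹) = g * (w * x) * g⁻¹ := by group
    rw [this, h]; group

theorem exists_noncentral_of_dvd_kap {g : G} {r : ℕ} (hr : r.Prime) (h : r ∣ kap g) :
    ∃ y : G, g * y = y * g ∧ y ∉ center G ∧ ∃ i, y ^ r ^ i = 1 := by
  obtain ⟨_, ⟨y, hy, rfl⟩, ho⟩ := exists_orderOf_eq_mem hr h
  obtain ⟨m, i, h1, h2⟩ := exists_part_notMem (H := center G) (g := y) hr (fun n hn => by
    rw [← ho, orderOf_dvd_iff_pow_eq_one, ← map_pow, QuotientGroup.mk'_apply,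
      QuotientGroup.eq_one_iff]
    exact hn)
  exact ⟨y ^ m, (Commute.pow_left (mem_centralizer_singleton_iff.mp hy) m).symm, h1, i, h2⟩

omit [Finite G] in
theorem mk_mem_map_centralizer_iff {g y : G} : (QuotientGroup.mk y : G ⧸ center G) ∈
    (centralizer {g}).map (QuotientGroup.mk' (center G)) ↔ y * g = g * y := by
  rw [← mem_centralizer_singleton_iff, ← QuotientGroup.mk'_apply, ← mem_comap,
    comap_map_eq_self (by rw [QuotientGroup.ker_mk']; exact center_le_centralizer _)]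

omit [Finite G] in
theorem map_centralizer_le (g : G) : (centralizer {g}).map (QuotientGroup.mk' (center G)) ≤
    centralizer {(QuotientGroup.mk g : G ⧸ center G)} := by
  rintro _ ⟨y, hy, rfl⟩
  rw [mem_centralizer_singleton_iff, QuotientGroup.mk'_apply, ← QuotientGroup.mk_mul,
    mem_centralizer_singleton_iff.mp hy, QuotientGroup.mk_mul]

omit [Finite G] in
theorem orderOf_mk_dvd_kap (g : G) : orderOf (QuotientGroup.mk g : G ⧸ center G) ∣ kap g :=
  orderOf_dvd_natCard _ (mk_mem_map_centralizer_iff.mpr rfl)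

theorem card_centralizer_dvd_of_spec {A B C : ℕ} (hG : Nat.card G = A * (B * C))
    (hB : Nat.Coprime A B) (hC : Nat.Coprime A C)
    (hs : ∀ g : G, orderOf g ∣ A ∨ orderOf g ∣ B ∨ orderOf g ∣ C) {ρ : G} (h1 : ρ ≠ 1)
    (hρ : orderOf ρ ∣ A) : Nat.card (centralizer {ρ}) ∣ A := by
  refine Nat.Coprime.dvd_of_dvd_mul_right (n := B * C) ?_ (hG ▸ card_subgroup_dvd_card _)
  refine Nat.Coprime.symm (Nat.coprime_of_dvd (fun s hs' hd hd' => ?_))
  obtain ⟨c, hc, hco⟩ := exists_orderOf_eq_mem hs' hd'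
  have hm : Nat.Coprime (B * C) A := Nat.Coprime.mul_left hB.symm hC.symm
  obtain ⟨z, hz⟩ := H9.exists_orderOf_mul_of_commute
    ((hm.coprime_dvd_left hd).coprime_dvd_right hρ)
    (mem_centralizer_singleton_iff.mp hc) hco.symm.dvd dvd_rfl
  rcases hs z with h2 | h2 | h2 <;> rw [hz] at h2
  · exact hs'.one_lt.ne' (Nat.eq_one_of_dvd_coprimes hm hd (Dvd.dvd.trans (Dvd.intro _ rfl) h2))
  · exact h1 (orderOf_eq_one_iff.mp (Nat.eq_one_of_dvd_coprimes hB hρ
      (Dvd.dvd.trans (Dvd.intro_left _ rfl) h2)))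
  · exact h1 (orderOf_eq_one_iff.mp (Nat.eq_one_of_dvd_coprimes hC hρ
      (Dvd.dvd.trans (Dvd.intro_left _ rfl) h2)))

/-- Numerical data: `q`, the two torus orders `e`, `o` (with `e` even if `d = 2`). -/
structure CSPar (q e o d : ℕ) : Prop where
  cqe : Nat.Coprime q e
  cqo : Nat.Coprime q o
  ceo : Nat.Coprime e o
  q1 : 1 < q
  e2 : 2 < e
  o1 : 1 < o
  hd : d = 1 ∨ (d = 2 ∧ 2 ∣ e)

/-- The class size `s` belongs to the family `t`. -/
def FamN (q e o d s t : ℕ) : Prop :=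
  (t = q ∧ s = d * e * o) ∨ (t = o ∧ s = d * q * e) ∨ (t = e ∧ (s = d * q * o ∨ s = q * o))

namespace CSPar

variable {q e o d : ℕ} (h : CSPar q e o d)
include h

theorem d_dvd : d ∣ e := by
  rcases h.hd with rfl | ⟨rfl, h'⟩
  · exact one_dvd _
  · exact h'

theorem cqd : Nat.Coprime q d := h.cqe.coprime_dvd_right h.d_dvd

theorem cod : Nat.Coprime o d := h.ceo.symm.coprime_dvd_right h.d_dvd

theorem d_pos : 0 < d := by rcases h.hd with rfl | ⟨rfl, -⟩ <;> omega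

theorem d_le : d ≤ 2 := by rcases h.hd with rfl | ⟨rfl, -⟩ <;> omega

theorem not_dvd {s t : ℕ} (hf : FamN q e o d s t) : ¬ t ∣ s := by
  intro hd
  rcases hf with ⟨rfl, rfl⟩ | ⟨rfl, rfl⟩ | ⟨rfl, hs⟩
  · exact h.q1.ne' (Nat.eq_one_of_dvd_coprimes ((h.cqd.mul_right h.cqe).mul_right h.cqo) dvd_rfl hd)
  · exact h.o1.ne' (Nat.eq_one_of_dvd_coprimes ((h.cod.mul_right h.cqo.symm).mul_right h.ceo.symm)
      dvd_rfl hd)
  · have h1 : t ∣ d * (q * o) := by
      rcases hs with rfl | rfl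
      · rwa [← mul_assoc]
      · exact hd.mul_left d
    have := Nat.le_of_dvd h.d_pos ((h.cqe.symm.mul_right h.ceo).dvd_of_dvd_mul_right h1)
    have := h.d_le
    have := h.e2
    omega

omit h in
theorem dvd_of_ne {s t s' t' : ℕ} (hf : FamN q e o d s t) (hf' : FamN q e o d s' t')
    (hne : t' ≠ t) : t' ∣ s := by
  rcases hf with ⟨rfl, rfl⟩ | ⟨rfl, rfl⟩ | ⟨rfl, rfl | rfl⟩ <;>
    rcases hf' with ⟨rfl, -⟩ | ⟨rfl, -⟩ | ⟨rfl, -⟩ <;>
    first | exact absurd rfl hne | exact Dvd.intro_left _ rfl | exact Dvd.intro _ rfl |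
      exact (Dvd.intro_left _ rfl).mul_right _

theorem eq_of_dvd {s t s' t' : ℕ} (hf : FamN q e o d s t) (hf' : FamN q e o d s' t')
    (hd : s ∣ s') : t' = t := by
  by_contra hne
  exact h.not_dvd hf' ((dvd_of_ne hf hf' hne).trans hd)

theorem qo : q ≠ o := fun e => h.q1.ne' (Nat.eq_one_of_dvd_coprimes h.cqo dvd_rfl e.dvd)

theorem qe : q ≠ e := fun e => h.q1.ne' (Nat.eq_one_of_dvd_coprimes h.cqe dvd_rfl e.dvd)

theorem oe : o ≠ e := fun e => h.o1.ne' (Nat.eq_one_of_dvd_coprimes h.ceo.symm dvd_rfl e.dvd)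

theorem le_two_mul {s s' t : ℕ} (hf : FamN q e o d s t) (hf' : FamN q e o d s' t) :
    s' ≤ 2 * s ∧ (t ≠ e ∨ d = 1 → s' = s) := by
  have h1 := h.qo
  have h2 := h.qe
  have h3 := h.oe
  have h4 := mul_assoc d q o
  rcases h.hd with h5 | ⟨h5, -⟩ <;> rw [h5] at h4 <;>
  rcases hf with ⟨_, _⟩ | ⟨_, _⟩ | ⟨_, _ | _⟩ <;>
    rcases hf' with ⟨_, _⟩ | ⟨_, _⟩ | ⟨_, _ | _⟩ <;> subst h5 <;> omega

theorem kap_cases {s t k c : ℕ} (hf : FamN q e o d s t) (hk : s * k = d * q * e * o * c) :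
    (t = q ∧ k = c * q) ∨ (t = o ∧ k = c * o) ∨ (t = e ∧ (k = c * e ∨ k = c * (d * e))) := by
  have h1 := h.q1
  have h2 := h.e2
  have h3 := h.o1
  have h4 := h.d_pos
  rcases hf with ⟨rfl, rfl⟩ | ⟨rfl, rfl⟩ | ⟨rfl, rfl | rfl⟩
  · exact Or.inl ⟨rfl, Nat.eq_of_mul_eq_mul_left (by positivity) (hk.trans (by ring))⟩
  · exact Or.inr (Or.inl ⟨rfl, Nat.eq_of_mul_eq_mul_left (by positivity) (hk.trans (by ring))⟩)
  · exact Or.inr (Or.inr ⟨rfl, Or.inl
      (Nat.eq_of_mul_eq_mul_left (by positivity) (hk.trans (by ring)))⟩)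
  · exact Or.inr (Or.inr ⟨rfl, Or.inr
      (Nat.eq_of_mul_eq_mul_left (by positivity) (hk.trans (by ring)))⟩)

theorem mul_dvd_kap {s t k c : ℕ} (hf : FamN q e o d s t) (hk : s * k = d * q * e * o * c) :
    c * t ∣ k := by
  rcases h.kap_cases hf hk with ⟨rfl, rfl⟩ | ⟨rfl, rfl⟩ | ⟨rfl, rfl | rfl⟩
  · exact dvd_rfl
  · exact dvd_rfl
  · exact dvd_rfl
  · exact ⟨d, by ring⟩

theorem one_lt {s t : ℕ} (hf : FamN q e o d s t) : 1 < t := by
  have h1 := h.q1
  have h2 := h.e2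
  have h3 := h.o1
  rcases hf with ⟨rfl, -⟩ | ⟨rfl, -⟩ | ⟨rfl, -⟩ <;> omega

theorem ne_one {s t : ℕ} (hf : FamN q e o d s t) : s ≠ 1 := by
  rintro rfl
  by_cases ht : t = q
  · exact h.o1.ne' (Nat.dvd_one.mp (dvd_of_ne hf (Or.inr (Or.inl ⟨rfl, rfl⟩)) (ht ▸ h.qo.symm)))
  · exact h.q1.ne' (Nat.dvd_one.mp (dvd_of_ne hf (Or.inl ⟨rfl, rfl⟩) (Ne.symm ht)))

end CSPar

/-- `G` has the class sizes of `PSL₂(q)`. -/
structure CS (G : Type*) [Group G] (q e o d : ℕ) : Prop where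
  par : CSPar q e o d
  fam : ∀ g : G, g ∉ center G → ∃ t, FamN q e o d (sz g) t
  exq : ∃ g : G, sz g = d * e * o
  exo : ∃ g : G, sz g = d * q * e
  exe : ∃ g : G, sz g = q * o

namespace CS

variable {q e o d : ℕ} (h : CS G q e o d)
include h

omit [Finite G] in
theorem notMem {g : G} {t : ℕ} (hg : FamN q e o d (sz g) t) : g ∉ center G :=
  sz_eq_one_iff.not.mp (h.par.ne_one hg)

omit [Finite G] in
theorem fam_of_dvd {g x : G} {t : ℕ} (hg : FamN q e o d (sz g) t) (hx : x ∉ center G)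
    (hd : sz x ∣ sz g) : FamN q e o d (sz x) t := by
  obtain ⟨t', h'⟩ := h.fam x hx
  rwa [h.par.eq_of_dvd h' hg hd]

omit [Finite G] in
theorem fam_of_dvd' {g x : G} {t : ℕ} (hg : FamN q e o d (sz g) t)
    (hd : sz g ∣ sz x) : FamN q e o d (sz x) t := by
  obtain ⟨t', h'⟩ := h.fam x (fun hx => h.par.ne_one hg
    (Nat.dvd_one.mp (sz_eq_one_iff.mpr hx ▸ hd)))
  rwa [← h.par.eq_of_dvd hg h' hd]

omit [Finite G] in
theorem fam_of_commute {u v : G} {t : ℕ} (hu : FamN q e o d (sz u) t) (hv : v ∉ center G)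
    (hc : u * v = v * u) (ho : Nat.Coprime (orderOf u) (orderOf v)) : FamN q e o d (sz v) t :=
  h.fam_of_dvd (h.fam_of_dvd' hu (index_dvd_of_le (centralizer_mul_le_left hc ho))) hv
    (index_dvd_of_le (hc ▸ centralizer_mul_le_left hc.symm ho.symm))

theorem commute_of_coprime {u v w : G} {t : ℕ} (hu : FamN q e o d (sz u) t)
    (hc : u * v = v * u) (ho : Nat.Coprime (orderOf u) (orderOf v)) (hw : w * u = u * w)
    (h' : Odd (orderOf w) ∨ t ≠ e ∨ d = 1) : w * v = v * w := by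
  have hle := centralizer_mul_le_left hc ho
  obtain ⟨h1, h2⟩ := h.par.le_two_mul hu (h.fam_of_dvd' hu (index_dvd_of_le hle))
  have h3 := index_mul_card (centralizer {u})
  have h4 := index_mul_card (centralizer {u * v})
  have h5 : 0 < sz (u * v) := Nat.pos_of_ne_zero index_ne_zero_of_finite
  refine mem_centralizer_singleton_iff.mp (centralizer_mul_le_left hc.symm ho.symm (hc ▸ ?_))
  rcases h' with h' | h'
  · refine mem_of_odd_of_relIndex hle (Nat.le_of_mul_le_mul_left ?_ h5)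
      (mem_centralizer_singleton_iff.mpr hw) h'
    calc _ ≤ 2 * sz u * Nat.card (centralizer {u}) := Nat.mul_le_mul_right _ h1
      _ = _ := by rw [mul_assoc, h3, ← h4]; ring
  · rw [eq_of_le_of_card_ge hle (Nat.le_of_mul_le_mul_left (by rw [h4, h2 h', h3]) h5)]
    exact mem_centralizer_singleton_iff.mpr hw

omit [Finite G] in
theorem exists_fam {s t : ℕ} (hf : FamN q e o d s t) : ∃ g : G, FamN q e o d (sz g) t := by
  rcases hf with ⟨rfl, -⟩ | ⟨rfl, -⟩ | ⟨rfl, -⟩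
  · exact h.exq.imp fun g hg => Or.inl ⟨rfl, hg⟩
  · exact h.exo.imp fun g hg => Or.inr (Or.inl ⟨rfl, hg⟩)
  · exact h.exe.imp fun g hg => Or.inr (Or.inr ⟨rfl, Or.inr hg⟩)

omit [Finite G] in
theorem dvd_card : d * q * e * o ∣ Nat.card (G ⧸ center G) := by
  obtain ⟨x, hx⟩ := h.exq
  obtain ⟨y, hy⟩ := h.exo
  rw [show d * q * e * o = q * (d * e * o) by ring]
  refine Nat.Coprime.mul_dvd_of_dvd_of_dvd ((h.par.cqd.mul_right h.par.cqe).mul_right h.par.cqo)
    ?_ (hx ▸ Dvd.intro _ (sz_mul_kap x))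
  exact Dvd.dvd.trans ⟨d * e, by rw [hy]; ring⟩ (Dvd.intro _ (sz_mul_kap y))

section Order

variable {c r : ℕ} (hc : Nat.card (G ⧸ center G) = d * q * e * o * c) (hr : r.Prime) (hrc : r ∣ c)
include hc hr hrc

theorem exists_fam_pow {s t : ℕ} (hf : FamN q e o d s t) :
    ∃ y : G, FamN q e o d (sz y) t ∧ ∃ i, y ^ r ^ i = 1 := by
  obtain ⟨g, hg⟩ := h.exists_fam hf
  obtain ⟨l, m, i, hl, h1, h2⟩ := exists_prime_part_notMem (h.notMem hg)
  have hx := h.fam_of_dvd hg h1 (sz_pow_dvd g m)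
  by_cases hlr : l = r
  · exact ⟨g ^ m, hx, i, hlr ▸ h2⟩
  · obtain ⟨y, h3, h4, j, h5⟩ := exists_noncentral_of_dvd_kap (g := g ^ m) hr
      ((hrc.mul_right t).trans (h.par.mul_dvd_kap hx ((sz_mul_kap _).trans hc)))
    exact ⟨y, h.fam_of_commute hx h4 h3 (coprime_orderOf_of_pow hl hr hlr h2 h5), j, h5⟩

theorem exists_fam_commute {s t : ℕ} (hf : FamN q e o d s t) {z : G} (hz : ¬ r ∣ sz z) :
    ∃ y : G, FamN q e o d (sz y) t ∧ y * z = z * y ∧ ∃ i, y ^ r ^ i = 1 := by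
  obtain ⟨y, hy, i, hi⟩ := h.exists_fam_pow hc hr hrc hf
  obtain ⟨g, hg⟩ := exists_conj_mem_of_not_dvd_index hr hz hi
  exact ⟨g * y * g⁻¹, by rwa [sz_conj], mem_centralizer_singleton_iff.mp hg, i,
    by rw [conj_pow, hi]; simp⟩

theorem dvd_of_not_dvd_sz {z : G} {t₀ j : ℕ} (hz₀ : FamN q e o d (sz z) t₀) (hz : ¬ r ∣ sz z)
    (hj : z ^ r ^ j = 1) {s t : ℕ} (hf : FamN q e o d s t) (hne : t ≠ t₀) : r ∣ t := by
  obtain ⟨y, hy, hyz, i, hi⟩ := h.exists_fam_commute hc hr hrc hf hz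
  obtain ⟨l, hl, hd⟩ := Nat.exists_prime_and_dvd (h.par.one_lt hf).ne'
  by_contra hcon
  have hlr : r ≠ l := by rintro rfl; exact hcon hd
  obtain ⟨w, h3, h4, k, h5⟩ := exists_noncentral_of_dvd_kap (g := y) hl
    ((hd.mul_left c).trans (h.par.mul_dvd_kap hy ((sz_mul_kap _).trans hc)))
  have hw := h.fam_of_commute hy h4 h3 (coprime_orderOf_of_pow hr hl hlr hi h5)
  have hzw := h.commute_of_coprime hy h3 (coprime_orderOf_of_pow hr hl hlr hi h5) hyz.symm (by
    rcases hr.eq_two_or_odd' with rfl | ho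
    · rcases h.par.hd with h1 | ⟨rfl, -⟩
      · exact Or.inr (Or.inr h1)
      · refine Or.inr (Or.inl ?_)
        rintro rfl
        rcases hz₀ with ⟨-, h1⟩ | ⟨-, h1⟩ | ⟨h1, -⟩
        · exact hz (h1 ▸ ⟨_, mul_assoc _ _ _⟩)
        · exact hz (h1 ▸ ⟨_, mul_assoc _ _ _⟩)
        · exact hne h1.symm
    · exact Or.inl ((ho.pow (n := j)).of_dvd_nat (orderOf_dvd_of_pow_eq_one hj)))
  exact hne (h.par.eq_of_dvd (h.fam_of_commute hz₀ h4 hzw (coprime_orderOf_of_pow hr hl hlr hj h5))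
    hw dvd_rfl)

theorem false_of_prime_dvd : False := by
  have fq : FamN q e o d _ q := Or.inl ⟨rfl, rfl⟩
  have fo : FamN q e o d _ o := Or.inr (Or.inl ⟨rfl, rfl⟩)
  have fe : FamN q e o d _ e := Or.inr (Or.inr ⟨rfl, Or.inl rfl⟩)
  have cop : ∀ {x y : ℕ}, Nat.Coprime x y → r ∣ x → r ∣ y → False := fun hxy hx hy =>
    hr.one_lt.ne' (Nat.eq_one_of_dvd_coprimes hxy hx hy)
  by_cases hz : ∃ z : G, z ∉ center G ∧ ¬ r ∣ sz z ∧ ∃ j, z ^ r ^ j = 1
  · obtain ⟨z, h1, h2, j, h3⟩ := hz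
    obtain ⟨t₀, h0⟩ := h.fam z h1
    have key := fun {s t : ℕ} => h.dvd_of_not_dvd_sz hc hr hrc h0 h2 h3 (s := s) (t := t)
    rcases h0 with ⟨rfl, -⟩ | ⟨rfl, -⟩ | ⟨rfl, -⟩
    · exact cop h.par.ceo (key fe h.par.qe.symm) (key fo h.par.qo.symm)
    · exact cop h.par.cqe (key fq h.par.qo) (key fe h.par.oe.symm)
    · exact cop h.par.cqo (key fq h.par.qe) (key fo h.par.oe)
  · have key : ∀ z : G, z ∉ center G → ∀ j, z ^ r ^ j = 1 → r ∣ sz z := fun z h1 j h2 => by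
      by_contra h3
      exact hz ⟨z, h1, h3, j, h2⟩
    obtain ⟨g, hg⟩ := h.exe
    have hg' : FamN q e o d (sz g) e := Or.inr (Or.inr ⟨rfl, Or.inr hg⟩)
    obtain ⟨l, m, i, hl, h1, h2⟩ := exists_prime_part_notMem (h.notMem hg')
    by_cases h3 : r ∣ sz (g ^ m)
    · rcases hr.dvd_mul.mp (hg ▸ h3.trans (sz_pow_dvd g m)) with h4 | h4
      · obtain ⟨y, hy, j, hj⟩ := h.exists_fam_pow hc hr hrc fq
        exact cop ((h.par.cqd.mul_right h.par.cqe).mul_right h.par.cqo) h4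
          ((h.par.le_two_mul fq hy).2 (Or.inl h.par.qe) ▸ key y (h.notMem hy) j hj)
      · obtain ⟨y, hy, j, hj⟩ := h.exists_fam_pow hc hr hrc fo
        exact cop ((h.par.cod.mul_right h.par.cqo.symm).mul_right h.par.ceo.symm) h4
          ((h.par.le_two_mul fo hy).2 (Or.inl h.par.oe) ▸ key y (h.notMem hy) j hj)
    · obtain ⟨y, hy, hyx, j, hj⟩ := h.exists_fam_commute hc hr hrc fq h3
      have hlr : r ≠ l := by rintro rfl; exact h3 (key _ h1 i h2)
      exact h.par.qe (h.par.eq_of_dvd (h.fam_of_dvd hg' h1 (sz_pow_dvd g m))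
        (h.fam_of_commute hy h1 hyx (coprime_orderOf_of_pow hr hl hlr hj h2)) dvd_rfl)

end Order

theorem card_quotient : Nat.card (G ⧸ center G) = d * q * e * o := by
  obtain ⟨c, hc⟩ := h.dvd_card
  by_cases h1 : c = 1
  · rw [hc, h1, mul_one]
  · obtain ⟨r, hr, hrc⟩ := Nat.exists_prime_and_dvd h1
    exact (h.false_of_prime_dvd hc hr hrc).elim

theorem kap_cases {g : G} {t : ℕ} (hg : FamN q e o d (sz g) t) :
    (t = q ∧ kap g = q) ∨ (t = o ∧ kap g = o) ∨ (t = e ∧ (kap g = e ∨ kap g = d * e)) := by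
  simpa using h.par.kap_cases hg (c := 1) (by rw [sz_mul_kap, h.card_quotient, mul_one])

theorem spec (x : G ⧸ center G) : orderOf x ∣ q ∨ orderOf x ∣ o ∨ orderOf x ∣ d * e := by
  obtain ⟨g, rfl⟩ := QuotientGroup.mk_surjective x
  by_cases hg : g ∈ center G
  · rw [(QuotientGroup.eq_one_iff g).mpr hg, orderOf_one]
    exact Or.inl (one_dvd _)
  obtain ⟨t, ht⟩ := h.fam g hg
  have := orderOf_mk_dvd_kap g
  rcases h.kap_cases ht with ⟨-, h1⟩ | ⟨-, h1⟩ | ⟨-, h1 | h1⟩ <;> rw [h1] at this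
  · exact Or.inl this
  · exact Or.inr (Or.inl this)
  · exact Or.inr (Or.inr (this.mul_left d))
  · exact Or.inr (Or.inr this)

theorem card_centralizer_dvd_o {x : G ⧸ center G} (h1 : x ≠ 1) (hx : orderOf x ∣ o) :
    Nat.card (centralizer {x}) ∣ o :=
  card_centralizer_dvd_of_spec (B := q) (C := d * e) (by rw [h.card_quotient]; ring)
    h.par.cqo.symm (h.par.cod.mul_right h.par.ceo.symm)
    (fun g => by have := h.spec g; tauto) h1 hx

theorem card_centralizer_dvd_e {x : G ⧸ center G} (h1 : x ≠ 1) (hx : orderOf x ∣ d * e) :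
    Nat.card (centralizer {x}) ∣ d * e :=
  card_centralizer_dvd_of_spec (B := q) (C := o) (by rw [h.card_quotient]; ring)
    (h.par.cqd.mul_right h.par.cqe).symm (h.par.cod.mul_right h.par.ceo.symm).symm
    (fun g => by have := h.spec g; tauto) h1 hx

theorem card_centralizer_dvd_q {x : G ⧸ center G} (h1 : x ≠ 1) (hx : orderOf x ∣ q) :
    Nat.card (centralizer {x}) ∣ q :=
  card_centralizer_dvd_of_spec (B := o) (C := d * e) (by rw [h.card_quotient]; ring)
    h.par.cqo (h.par.cqd.mul_right h.par.cqe) h.spec h1 hx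

theorem card_centralizer_le {g : G} (hg : g ∉ center G) :
    Nat.card (centralizer {(QuotientGroup.mk g : G ⧸ center G)}) ≤ 2 * kap g := by
  obtain ⟨t, ht⟩ := h.fam g hg
  have h1 := (QuotientGroup.eq_one_iff g).not.mpr hg
  have h2 := orderOf_mk_dvd_kap g
  have h3 := h.par.q1
  have h4 := h.par.o1
  have h5 := h.par.e2
  have h6 : d * e ≤ 2 * e := Nat.mul_le_mul_right e h.par.d_le
  have h7 : 0 < d * e := Nat.mul_pos h.par.d_pos (by omega)
  rcases h.kap_cases ht with ⟨-, h8⟩ | ⟨-, h8⟩ | ⟨-, h8 | h8⟩ <;> rw [h8] at h2 ⊢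
  · have := Nat.le_of_dvd (by omega) (h.card_centralizer_dvd_q h1 h2); omega
  · have := Nat.le_of_dvd (by omega) (h.card_centralizer_dvd_o h1 h2); omega
  · have := Nat.le_of_dvd h7 (h.card_centralizer_dvd_e h1 (h2.mul_left d)); omega
  · have := Nat.le_of_dvd h7 (h.card_centralizer_dvd_e h1 h2); omega

theorem comm_of_odd {ρ τ y z : G} {r s i j : ℕ} (hr : r.Prime) (hs : s.Prime) (hrs : r ≠ s)
    (hρ : ρ ∉ center G) (hτ : τ ∉ center G) (hi : ρ ^ r ^ i = 1) (hj : τ ^ s ^ j = 1)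
    (hc : ρ * τ = τ * ρ) (hy : y * ρ = ρ * y) (hz : z * ρ = ρ * z) (hyo : Odd (orderOf y))
    (hzo : Odd (orderOf z)) : y * z = z * y := by
  by_contra hcon
  obtain ⟨l, m, k, hl, h1, h2⟩ := exists_prime_part_notMem (H := centralizer {z})
    (mem_centralizer_singleton_iff.not.mpr hcon)
  obtain ⟨t, ht⟩ := h.fam ρ hρ
  have hx : y ^ m * ρ = ρ * y ^ m := Commute.pow_left hy m
  have hco := coprime_orderOf_of_pow hr hs hrs hi hj
  refine h1 (mem_centralizer_singleton_iff.mpr (Eq.symm ?_))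
  by_cases hlr : r = l
  · subst hlr
    exact h.commute_of_coprime (h.fam_of_commute ht hτ hc hco)
      (h.commute_of_coprime ht hc hco hx (Or.inl (hyo.of_dvd_nat (orderOf_pow_dvd m)))).symm
      (coprime_orderOf_of_pow hs hr hrs.symm hj h2)
      (h.commute_of_coprime ht hc hco hz (Or.inl hzo)) (Or.inl hzo)
  · exact h.commute_of_coprime ht hx.symm (coprime_orderOf_of_pow hr hl hlr hi h2) hz (Or.inl hzo)

theorem local_odd (he : 2 ∣ e) (ρ : G ⧸ center G) (hr : (orderOf ρ).Prime) (h2 : orderOf ρ ≠ 2)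
    (hq : ¬ orderOf ρ ∣ q) : IsPGroup (orderOf ρ) (centralizer {ρ}) ∨
      ∀ y z : G ⧸ center G, y * ρ = ρ * y → z * ρ = ρ * z →
        Odd (orderOf y) → Odd (orderOf z) → y * z = z * y := by
  have : Fact (Nat.Prime 2) := ⟨Nat.prime_two⟩
  obtain ⟨g, rfl⟩ := QuotientGroup.mk_surjective ρ
  set r := orderOf (QuotientGroup.mk g : G ⧸ center G) with hrdef
  obtain ⟨m, i, h1, h3⟩ := exists_part_notMem (H := center G) (g := g) hr (fun n hn => by
    rw [orderOf_dvd_iff_pow_eq_one, ← QuotientGroup.mk_pow, QuotientGroup.eq_one_iff]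
    exact hn)
  have h1' := (QuotientGroup.eq_one_iff _).not.mpr h1
  have hro : orderOf (QuotientGroup.mk (g ^ m) : G ⧸ center G) = r := by
    have : Fact r.Prime := ⟨hr⟩
    refine orderOf_eq_prime ?_ h1'
    rw [QuotientGroup.mk_pow, ← pow_mul, mul_comm, pow_mul, pow_orderOf_eq_one, one_pow]
  have hle : centralizer {(QuotientGroup.mk g : G ⧸ center G)} ≤
      centralizer {(QuotientGroup.mk (g ^ m) : G ⧸ center G)} := fun w hw => by
    rw [mem_centralizer_singleton_iff] at hw ⊢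
    exact Commute.pow_right hw m
  by_cases hs : ∃ s, s.Prime ∧ r ≠ s ∧ s ∣ kap (g ^ m)
  · obtain ⟨s, hs, hrs, hd⟩ := hs
    obtain ⟨τ, h4, h5, j, h6⟩ := exists_noncentral_of_dvd_kap hs hd
    have key : ∀ y : G ⧸ center G, y * g = g * y → Odd (orderOf y) → ∃ y' : G,
        QuotientGroup.mk y' = y ∧ y' * g ^ m = g ^ m * y' ∧ Odd (orderOf y') := fun y hy ho => by
      obtain ⟨y₀, hy₀, rfl⟩ := mem_of_odd_of_relIndex (map_centralizer_le _)
        (h.card_centralizer_le h1) (hle (mem_centralizer_singleton_iff.mpr hy)) ho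
      obtain ⟨y', h7, h8, h9⟩ := H9.exists_coprime_lift _ hy₀ (Nat.coprime_two_right.mpr ho)
      exact ⟨y', h8, mem_centralizer_singleton_iff.mp h7, Nat.coprime_two_right.mp h9⟩
    refine Or.inr fun y z hy hz hyo hzo => ?_
    obtain ⟨y', rfl, h7, h8⟩ := key y hy hyo
    obtain ⟨z', rfl, h9, h10⟩ := key z hz hzo
    rw [← QuotientGroup.mk_mul, h.comm_of_odd hr hs hrs h1 h5 h3 h6 h4 h7 h9 h8 h10,
      QuotientGroup.mk_mul]
  · left
    obtain ⟨t, ht⟩ := h.fam _ h1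
    have h4 := orderOf_mk_dvd_kap (g ^ m)
    rw [hro] at h4
    rcases h.kap_cases ht with ⟨-, h8⟩ | ⟨-, h8⟩ | ⟨-, h8 | h8⟩
    · exact absurd (h8 ▸ h4) hq
    · refine IsPGroup.to_le (IsPGroup.of_card (Nat.eq_prime_pow_of_unique_prime_dvd
        Nat.card_pos.ne' (fun {s} hs' hd => ?_))) hle
      by_contra hne
      exact hs ⟨s, hs', Ne.symm hne, h8 ▸ hd.trans (h.card_centralizer_dvd_o h1' (hro ▸ h8 ▸ h4))⟩
    · exact absurd ⟨2, Nat.prime_two, h2, h8 ▸ he⟩ hs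
    · exact absurd ⟨2, Nat.prime_two, h2, h8 ▸ he.mul_left d⟩ hs

universe v

theorem nonempty_mulEquiv_psl2 {p a b : ℕ} (hP : Par p q a b d)
    (hab : (a = e ∧ b = o) ∨ (a = o ∧ b = e)) (F : Type v) [Field F] [Finite F]
    (hF : Nat.card F = q) :
    Nonempty (G ⧸ center G ≃* Matrix.ProjectiveSpecialLinearGroup (Fin 2) F) := by
  have : Fact p.Prime := ⟨hP.prime⟩
  have he : p ≠ 2 → 2 ∣ e := fun hp => by
    rcases h.par.hd with h1 | h1
    · rcases hP.hd with h2 | h2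
      · exact absurd h2.2 hp
      · omega
    · exact h1.2
  obtain ⟨f, hf⟩ := hP.pow
  refine nonempty_mulEquiv_psl2_of_local hP ?_ (fun x y hc hx hy => ?_) (fun hp ρ hr h2 hp' => ?_)
    (fun hp ha x y hc hx hy => ?_) F hF
  · rw [h.card_quotient]
    rcases hab with ⟨rfl, rfl⟩ | ⟨rfl, rfl⟩ <;> ring
  · refine or_iff_not_imp_left.mpr fun h1 => orderOf_eq_one_iff.mp ?_
    refine Nat.eq_one_of_dvd_coprimes (hf ▸ hy.pow_right f) dvd_rfl ?_
    exact (orderOf_dvd_natCard _ (mem_centralizer_singleton_iff.mpr hc.symm)).trans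
      (h.card_centralizer_dvd_q h1 ((orderOf_dvd_of_pow_eq_one hx).trans hP.dvd_q))
  · exact h.local_odd (he hp) ρ hr h2 (fun hd => hp' ((Nat.prime_dvd_prime_iff_eq hr hP.prime).mp
      (hr.dvd_of_dvd_pow (hf ▸ hd))))
  · rcases hab with ⟨rfl, -⟩ | ⟨rfl, -⟩
    · exact absurd (he hp) ha.not_two_dvd_nat
    · refine or_iff_not_imp_right.mpr fun h1 => orderOf_eq_one_iff.mp ?_
      exact Nat.eq_one_of_dvd_coprimes (Nat.coprime_two_left.mpr ha)
        (orderOf_dvd_of_pow_eq_one (by rw [sq, hx]))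
        ((orderOf_dvd_natCard _ (mem_centralizer_singleton_iff.mpr hc)).trans
          (h.card_centralizer_dvd_o h1 hy))

end CS

end Cfsg.Agent.H3
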