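import Mathlib
import Cfsg.Agent.H3.ClassSize
import Cfsg.Agent.H3.PSL2Cent

/-!
# Groups with the class sizes of `PSL₂(q)`: the class sizes of `PSL₂(q)` and the splitting
-/

set_option autoImplicit false

namespace Cfsg.Agent.H3

open Subgroup
open scoped commutatorElement

variable {G : Type*} [Group G] [Finite G]

omit [Finite G] in
theorem CS.of_range_eq {L : Type*} [Group L] {q e o d : ℕ} (h : CS L q e o d)
    (hr : Set.range (sz : G → ℕ) = Set.range (sz : L → ℕ)) : CS G q e o d := by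
  refine ⟨h.par, fun g hg => ?_, hr.ge h.exq, hr.ge h.exo, hr.ge h.exe⟩
  obtain ⟨x, hx⟩ := hr.le ⟨g, rfl⟩
  rw [← hx]
  exact h.fam x (sz_eq_one_iff.not.mp (hx ▸ sz_eq_one_iff.not.mpr hg))

theorem exists_ne_one_not_dvd_sz {r : ℕ} (hr : r.Prime) (h : r ∣ Nat.card G) :
    ∃ u : G, u ≠ 1 ∧ ¬ r ∣ sz u := by
  have : Fact r.Prime := ⟨hr⟩
  obtain ⟨S⟩ : Nonempty (Sylow r G) := inferInstance
  have : Nontrivial S := (nontrivial_iff_ne_bot _).mpr (S.ne_bot_of_dvd_card h)
  have := S.2.center_nontrivial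
  obtain ⟨⟨u, hu⟩, hu1⟩ := exists_ne (1 : center S)
  refine ⟨u, fun h0 => hu1 (Subtype.ext (Subtype.ext h0)),
    fun hd => S.not_dvd_index (hd.trans (index_dvd_of_le fun w hw => ?_))⟩
  exact mem_centralizer_singleton_iff.mpr (congrArg Subtype.val (mem_center_iff.mp hu ⟨w, hw⟩))

section PSL

variable {F : Type*} [Field F] [Finite F]

local notation "PSL2" => Matrix.ProjectiveSpecialLinearGroup (Fin 2) F

theorem cs_psl2 {p q a b e o d : ℕ} (hP : Par p q a b d) (hab : a * b = e * o)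
    (hS : Spec PSL2 p q e o d) (h : CSPar q e o d) : CS PSL2 q e o d := by
  have hq := h.q1
  have he := h.e2
  have ho := h.o1
  have hd := h.d_pos
  have h1 : ∀ x : PSL2, x ≠ 1 → orderOf x ∣ p → sz x = d * e * o := fun x hx hp => by
    rw [show d * e * o = a * b * d by rw [hab]; ring]
    exact (count_p_elements hP (by rw [hab]; exact hS.card) hS.isolated).2 x hx
      ⟨1, by rwa [pow_one, ← orderOf_dvd_iff_pow_eq_one]⟩
  have h2 : ∀ x : PSL2, x ≠ 1 → orderOf x ∣ o → sz x = d * q * e := fun x hx hp => by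
    have h3 : Nat.card (centralizer {x}) = o := Nat.dvd_antisymm
      (((hS.symm.card_centralizer_coprime hx hp).coprime_dvd_right
        (h.d_dvd.mul_left q)).dvd_of_dvd_mul_right (hS.symm.card_centralizer_dvd hx hp))
      (hS.symm.dvd_card_centralizer hx hp)
    have h4 := index_mul_card (centralizer {x})
    rw [h3, hS.card] at h4
    exact Nat.eq_of_mul_eq_mul_right (by omega) (h4.trans (by ring))
  have h3 : ∀ x : PSL2, x ≠ 1 → orderOf x ∣ e → sz x = d * q * o ∨ sz x = q * o := fun x hx hp => by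
    obtain ⟨k, hk⟩ := hS.dvd_card_centralizer hx hp
    have h3 := hS.card_centralizer_dvd hx hp
    have h4 := index_mul_card (centralizer {x})
    rw [hk, Nat.mul_dvd_mul_iff_left (by omega)] at h3
    rw [hk, hS.card] at h4
    obtain rfl | rfl : k = 1 ∨ k = d := by
      rcases hS.hd with rfl | rfl
      · exact Or.inl (Nat.dvd_one.mp h3)
      · exact (Nat.dvd_prime Nat.prime_two).mp h3
    · exact Or.inl (Nat.eq_of_mul_eq_mul_right (by omega) (h4.trans (by ring)))
    · exact Or.inr (Nat.eq_of_mul_eq_mul_right (by positivity) (h4.trans (by ring)))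
  have h4 : ∀ x : PSL2, x ≠ 1 → ∃ t, FamN q e o d (sz x) t := fun x hx => by
    rcases hS.spec x with h5 | h5 | h5
    · exact ⟨q, Or.inl ⟨rfl, h1 x hx h5⟩⟩
    · exact ⟨e, Or.inr (Or.inr ⟨rfl, h3 x hx h5⟩)⟩
    · exact ⟨o, Or.inr (Or.inl ⟨rfl, h2 x hx h5⟩)⟩
  refine ⟨h, fun x hx => h4 x (fun h0 => hx (h0 ▸ one_mem _)), ?_, ?_, ?_⟩
  · have : Fact p.Prime := ⟨hP.prime⟩
    obtain ⟨x, hx⟩ := exists_prime_orderOf_dvd_card' (G := PSL2) p
      (hS.card ▸ hS.dvd_q.mul_right _)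
    exact ⟨x, h1 x (ne_one_of_orderOf_prime (hx ▸ hP.prime)) hx.dvd⟩
  · obtain ⟨x, hx⟩ := hS.exn
    exact ⟨x, h2 x (fun h0 => by rw [h0, orderOf_one] at hx; omega) hx.dvd⟩
  · rcases hS.hd with rfl | rfl
    · obtain ⟨x, hx⟩ := hS.exm
      exact ⟨x, by simpa using h3 x (fun h0 => by rw [h0, orderOf_one] at hx; omega) hx.dvd⟩
    · obtain ⟨u, hu1, hu⟩ := exists_ne_one_not_dvd_sz (G := PSL2) Nat.prime_two
        (hS.card ▸ (Dvd.intro_left _ rfl).mul_left q)
      obtain ⟨t, ⟨-, h5⟩ | ⟨-, h5⟩ | ⟨-, h5 | h5⟩⟩ := h4 u hu1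
      · exact absurd (h5 ▸ ⟨_, mul_assoc _ _ _⟩) hu
      · exact absurd (h5 ▸ ⟨_, mul_assoc _ _ _⟩) hu
      · exact absurd (h5 ▸ ⟨_, mul_assoc _ _ _⟩) hu
      · exact ⟨u, h5⟩

theorem exists_cs_psl2 (F : Type*) [Field F] [Fintype F]
    (hq : (2 ∣ Fintype.card F ∧ 2 < Fintype.card F) ∨
      (¬ 2 ∣ Fintype.card F ∧ 7 ≤ Fintype.card F)) :
    ∃ a b e o d, Par (ringChar F) (Fintype.card F) a b d ∧ ((a = e ∧ b = o) ∨ (a = o ∧ b = e)) ∧
      Spec (Matrix.ProjectiveSpecialLinearGroup (Fin 2) F) (ringChar F) (Fintype.card F) e o d ∧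
      CS (Matrix.ProjectiveSpecialLinearGroup (Fin 2) F) (Fintype.card F) e o d := by
  have hP := par_field F (by omega)
  have hS := spec_of_range_eq (G := Matrix.ProjectiveSpecialLinearGroup (Fin 2) F) F (by omega)
    rfl rfl
  generalize Nat.gcd (Fintype.card F - 1) 2 = d at hP hS
  generalize (Fintype.card F - 1) / d = a at hP hS
  generalize (Fintype.card F + 1) / d = b at hP hS
  have h1 := hP.ha
  have h2 := hP.hb
  have h3 := hP.dvd_q
  rcases hP.hd with ⟨rfl, h4⟩ | ⟨rfl, -⟩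
  · rw [h4] at h3
    exact ⟨a, b, a, b, 1, hP, Or.inl ⟨rfl, rfl⟩, hS, cs_psl2 hP rfl hS
      ⟨hS.cqm, hS.cqn, hS.cmn, by omega, by omega, by omega, Or.inl rfl⟩⟩
  · by_cases h5 : 2 ∣ a
    · exact ⟨a, b, a, b, 2, hP, Or.inl ⟨rfl, rfl⟩, hS, cs_psl2 hP rfl hS
        ⟨hS.cqm, hS.cqn, hS.cmn, by omega, by omega, by omega, Or.inr ⟨rfl, h5⟩⟩⟩
    · exact ⟨a, b, b, a, 2, hP, Or.inr ⟨rfl, rfl⟩, hS.symm, cs_psl2 hP (mul_comm _ _) hS.symm
        ⟨hS.cqn, hS.cqm, hS.cmn.symm, by omega, by omega, by omega, Or.inr ⟨rfl, by omega⟩⟩⟩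

/-- The centralizer of an involution is "dihedral". -/
theorem Spec.exists_dihedral {p q e o : ℕ} (hS : Spec PSL2 p q e o 2) (h2 : (2 : F) ≠ 0)
    (h : CSPar q e o 2) {u : PSL2} (hu1 : u ≠ 1) (hu : 2 * e ∣ Nat.card (centralizer {u}))
    (hu' : orderOf u ∣ 2 * e) :
    Nat.card (centralizer {u}) = 2 * e ∧ ∃ a : PSL2, orderOf a = e ∧ a * u = u * a ∧
      ∀ y : PSL2, y * u = u * y → y ∉ zpowers a → ∀ a' ∈ zpowers a, a' * y = y * a' →
        a' = 1 ∨ a' = u := by
  have he : 2 ∣ e := h.d_dvd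
  have he2 := h.e2
  have hdvd : ∀ x : PSL2, orderOf x ∣ 2 * e → orderOf x ∣ e := fun x hx => by
    rcases hS.spec x with h1 | h1 | h1
    · rw [Nat.eq_one_of_dvd_coprimes (h.cqd.mul_right h.cqe) (h1.trans hS.dvd_q) hx]
      exact one_dvd _
    · exact h1
    · rw [Nat.eq_one_of_dvd_coprimes (h.cod.mul_right h.ceo.symm) h1 hx]
      exact one_dvd _
  have hc : Nat.card (centralizer {u}) = 2 * e :=
    Nat.dvd_antisymm (mul_comm e 2 ▸ hS.card_centralizer_dvd hu1 (hdvd u hu')) hu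
  obtain ⟨a, ha, hau⟩ := hS.exists_commute hu1 (hdvd u hu')
  refine ⟨hc, a, ha, hau, fun y hy hya a' ha' hay => ?_⟩
  have ha2 : a ^ 2 ≠ 1 := fun h0 => by
    have := Nat.le_of_dvd two_pos (orderOf_dvd_of_pow_eq_one h0)
    omega
  have hle : zpowers a ≤ centralizer {u} :=
    zpowers_le.mpr (mem_centralizer_singleton_iff.mpr hau)
  have hnc : a * y ≠ y * a := fun hc' => by
    have hi : ((zpowers a).subgroupOf (centralizer {u})).index = 2 := by
      have h1 := index_mul_card ((zpowers a).subgroupOf (centralizer {u}))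
      rw [Nat.card_congr (subgroupOfEquivOfLe hle).toEquiv, Nat.card_zpowers, ha, hc] at h1
      exact Nat.eq_of_mul_eq_mul_right (by omega) h1
    obtain ⟨k, hk⟩ : y * y ∈ zpowers a :=
      mul_self_mem_of_index_two hi ⟨y, mem_centralizer_singleton_iff.mpr hy⟩
    obtain ⟨f, hf⟩ := he
    have hcm : Commute a y := hc'
    have hk' : a ^ k = y * y := hk
    rcases Int.even_or_odd' k with ⟨j, rfl | rfl⟩
    · have h1 : a ^ f ≠ 1 := pow_ne_one_of_lt_orderOf (by omega) (by omega)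
      refine hya ?_
      by_cases h3 : y * a ^ (-j) = 1
      · exact ⟨j, by rw [zpow_neg, mul_inv_eq_one] at h3; exact h3.symm⟩
      · have := psl_involution_unique h2 ha2 (Commute.self_pow a f)
          (hcm.mul_right (Commute.self_zpow a (-j))) h1 h3
          (by rw [← pow_mul, mul_comm, ← hf, ← ha, pow_orderOf_eq_one])
          (by rw [(hcm.symm.zpow_right _).mul_pow, sq y, ← hk']; group)
        exact ⟨f + j, by simp only [zpow_add, zpow_natCast, this]; group⟩
    · have h1 : y ^ e = 1 := orderOf_dvd_iff_pow_eq_one.mp (hdvd y (hc ▸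
        orderOf_dvd_natCard _ (mem_centralizer_singleton_iff.mpr hy)))
      rw [hf, pow_mul, sq, ← hk', ← zpow_natCast, ← zpow_mul, ← orderOf_dvd_iff_zpow_eq_one, ha,
        hf] at h1
      push_cast at h1
      have := Int.dvd_of_mul_dvd_mul_right (by omega) h1
      omega
  have hau' : a * a' = a' * a := by
    obtain ⟨k, rfl⟩ := ha'
    exact Commute.self_zpow a k
  refine or_iff_not_imp_left.mpr fun h1 => psl_involution_unique h2 ha2 hau' hau h1 hu1 ?_ ?_
  · by_contra h3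
    exact hnc (psl_comm_of_commute h1 (Or.inl h3) hau'.symm hay)
  · by_contra h3
    exact hnc (psl_comm_of_commute hu1 (Or.inl h3) hau.symm hy.symm)

end PSL

theorem pow_index_mem_commutator {H : Subgroup G} {z : G} (hz : z ∈ center G)
    (hz' : z ∈ commutator G) : z ^ H.index ∈ ⁅H, H⁆ := by
  have key : ∀ (k : ℕ) (g₀ : G), g₀⁻¹ * z ^ k * g₀ ∈ H → g₀⁻¹ * z ^ k * g₀ = z ^ k :=
    fun k g _ => by rw [mul_assoc, ← mem_center_iff.mp (pow_mem hz k)]; group
  have h1 := MonoidHom.transfer_eq_pow (Abelianization.of (G := H)) z key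
  rw [Abelianization.commutator_subset_ker _ hz', eq_comm, ← MonoidHom.mem_ker,
    Abelianization.ker_of] at h1
  rw [← map_subtype_commutator]
  exact ⟨_, h1, rfl⟩

theorem pow_index_eq_one_of_comm {H : Subgroup G} (hH : ∀ x ∈ H, ∀ y ∈ H, x * y = y * x) {z : G}
    (hz : z ∈ center G) (hz' : z ∈ commutator G) : z ^ H.index = 1 := by
  have : ⁅H, H⁆ ≤ ⊥ := commutator_le.mpr fun x hx y hy =>
    mem_bot.mpr (commutatorElement_eq_one_iff_mul_comm.mpr (hH x hx y hy))
  exact this (pow_index_mem_commutator hz hz')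

omit [Finite G] in
theorem exists_eq_commutator_of_index_two {A H : Subgroup G} (hA : ∀ x ∈ A, ∀ y ∈ A, x * y = y * x)
    (hAH : A ≤ H) (hi : (A.subgroupOf H).index = 2) {y : G} (hy : y ∈ H) (hyA : y ∉ A) {w : G}
    (hw : w ∈ ⁅H, H⁆) : ∃ a ∈ A, w = a * y * a⁻¹ * y⁻¹ := by
  have hn : ∀ a ∈ A, y * a * y⁻¹ ∈ A := fun a ha =>
    (normal_of_index_eq_two hi).conj_mem ⟨a, hAH ha⟩ ha ⟨y, hy⟩
  have hdec : ∀ x ∈ H, x ∈ A ∨ ∃ a ∈ A, x = a * y := fun x hx =>
    or_iff_not_imp_left.mpr fun hxA => ⟨x * y⁻¹, (mul_mem_iff_of_index_two hi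
      (a := ⟨x, hx⟩) (b := ⟨y, hy⟩⁻¹)).mpr (iff_of_false hxA (fun h => hyA (by
        simpa [mem_subgroupOf] using h))), by group⟩
  have hc : ∀ a ∈ A, ∀ b ∈ A, y * a * y⁻¹ * b = b * (y * a * y⁻¹) := fun a ha b hb =>
    hA _ (hn a ha) b hb
  let B : Subgroup G :=
    { carrier := {w | ∃ a ∈ A, w = a * y * a⁻¹ * y⁻¹}
      one_mem' := ⟨1, A.one_mem, by group⟩
      mul_mem' := by
        rintro _ _ ⟨a, ha, rfl⟩ ⟨b, hb, rfl⟩
        refine ⟨a * b, A.mul_mem ha hb, ?_⟩
        calc _ = a * (y * a⁻¹ * y⁻¹ * b) * (y * b⁻¹ * y⁻¹) := by group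
          _ = a * b * y * (b * a)⁻¹ * y⁻¹ := by rw [hc _ (A.inv_mem ha) b hb]; group
          _ = _ := by rw [hA b hb a ha]
      inv_mem' := by
        rintro _ ⟨a, ha, rfl⟩
        refine ⟨a⁻¹, A.inv_mem ha, ?_⟩
        calc _ = y * a * y⁻¹ * a⁻¹ := by group
          _ = _ := by rw [hc a ha _ (A.inv_mem ha)]; group }
  have key : ∀ a ∈ A, ∀ b ∈ A, ⁅a, b * y⁆ ∈ B := fun a ha b hb => ⟨a, ha, by
    calc _ = a * (b * (y * a⁻¹ * y⁻¹)) * b⁻¹ := by rw [commutatorElement_def]; group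
      _ = _ := by rw [← hc _ (A.inv_mem ha) b hb]; group⟩
  refine (show ⁅H, H⁆ ≤ B from commutator_le.mpr fun x hx x' hx' => ?_) hw
  rcases hdec x hx with h1 | ⟨a, ha, rfl⟩ <;> rcases hdec x' hx' with h2 | ⟨b, hb, rfl⟩
  · rw [commutatorElement_eq_one_iff_mul_comm.mpr (hA x h1 x' h2)]
    exact B.one_mem
  · exact key x h1 b hb
  · rw [← commutatorElement_inv]
    exact B.inv_mem (key x' h2 a ha)
  · refine ⟨a * b⁻¹, A.mul_mem ha (A.inv_mem hb), ?_⟩
    calc _ = a * (y * (b * a⁻¹) * y⁻¹ * b⁻¹) := by rw [commutatorElement_def]; group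
      _ = _ := by rw [hc _ (A.mul_mem hb (A.inv_mem ha)) _ (A.inv_mem hb)]; group

omit [Finite G] in
theorem comm_comap_zpowers (x : G ⧸ center G) :
    ∀ a ∈ (zpowers x).comap (QuotientGroup.mk' (center G)),
      ∀ b ∈ (zpowers x).comap (QuotientGroup.mk' (center G)), a * b = b * a := by
  obtain ⟨g, rfl⟩ := QuotientGroup.mk_surjective x
  have key : ∀ a ∈ (zpowers (g : G ⧸ center G)).comap (QuotientGroup.mk' (center G)),
      ∃ (k : ℤ) (c : G), c ∈ center G ∧ a = g ^ k * c := by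
    rintro a ⟨k, hk⟩
    refine ⟨k, (g ^ k)⁻¹ * a, QuotientGroup.eq.mp ?_, by group⟩
    rw [QuotientGroup.mk_zpow]
    exact hk
  intro a ha b hb
  obtain ⟨k, c, hc, rfl⟩ := key a ha
  obtain ⟨l, c', hc', rfl⟩ := key b hb
  have h1 : ∀ w, Commute w c := mem_center_iff.mp hc
  have h2 : ∀ w, Commute w c' := mem_center_iff.mp hc'
  exact ((Commute.zpow_zpow_self g k l).mul_left (h1 _).symm).mul_right (h2 _)

theorem pow_index_zpowers_eq_one (x : G ⧸ center G) {z : G} (hz : z ∈ center G)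
    (hz' : z ∈ commutator G) : z ^ (zpowers x).index = 1 := by
  rw [← index_comap_of_surjective _ (QuotientGroup.mk'_surjective (center G))]
  exact pow_index_eq_one_of_comm (comm_comap_zpowers x) hz hz'

namespace CS

variable {q e o d : ℕ} (h : CS G q e o d)
include h

theorem comm_centralizer {x : G} (hx : sz x = d * e * o)
    (hb : ∀ y z : G ⧸ center G, x * y = y * x → x * z = z * x → y * z = z * y) :
    ∀ y ∈ centralizer {x}, ∀ z ∈ centralizer {x}, y * z = z * y := by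
  intro y hy z hz
  by_cases hyZ : y ∈ center G
  · exact (mem_center_iff.mp hyZ z).symm
  have h1 := (QuotientGroup.eq_one_iff y).not.mpr hyZ
  have hk : kap x = q := by
    rcases h.kap_cases (Or.inl ⟨rfl, hx⟩) with h2 | h2 | h2
    · exact h2.2
    · exact absurd h2.1 h.par.qo
    · exact absurd h2.1 h.par.qe
  have h2 : orderOf (QuotientGroup.mk y : G ⧸ center G) ∣ q :=
    hk ▸ orderOf_dvd_natCard _ (mem_map_of_mem _ hy)
  have h3 := orderOf_mk_dvd_kap y
  have h4 : kap y = q := by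
    obtain ⟨t, ht⟩ := h.fam y hyZ
    rcases h.kap_cases ht with ⟨-, h5⟩ | ⟨-, h5⟩ | ⟨-, h5 | h5⟩ <;> rw [h5] at h3
    · exact h5
    · exact absurd (orderOf_eq_one_iff.mp (Nat.eq_one_of_dvd_coprimes h.par.cqo h2 h3)) h1
    · exact absurd (orderOf_eq_one_iff.mp (Nat.eq_one_of_dvd_coprimes h.par.cqe h2 h3)) h1
    · exact absurd (orderOf_eq_one_iff.mp (Nat.eq_one_of_dvd_coprimes
        (h.par.cqd.mul_right h.par.cqe) h2 h3)) h1
  have h5 := eq_of_le_of_card_ge (map_centralizer_le y) ((Nat.le_of_dvd (zero_lt_one.trans h.par.q1)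
    (h.card_centralizer_dvd_q h1 h2)).trans h4.ge)
  refine (mk_mem_map_centralizer_iff.mp (h5 ▸ mem_centralizer_singleton_iff.mpr ?_)).symm
  rw [mem_centralizer_singleton_iff] at hy hz
  exact hb z y (by rw [← QuotientGroup.mk_mul, ← hz, QuotientGroup.mk_mul])
    (by rw [← QuotientGroup.mk_mul, ← hy, QuotientGroup.mk_mul])

theorem pow_eq_one_of_dihedral {u : G} (hu : kap u = 2 * e) {a : G ⧸ center G}
    (hc : Nat.card (centralizer {(u : G ⧸ center G)}) = 2 * e) (ha : orderOf a = e)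
    (hau : a * u = u * a) (hD : ∀ y : G ⧸ center G, y * u = u * y → y ∉ zpowers a →
      ∀ a' ∈ zpowers a, a' * y = y * a' → a' = 1 ∨ a' = u) {z : G} (hz : z ∈ center G)
    (hz' : z ∈ commutator G) : z ^ sz u = 1 := by
  have he := h.par.e2
  have h1 := eq_of_le_of_card_ge (map_centralizer_le u) (hc.trans hu.symm).le
  have h2 : (centralizer {(u : G ⧸ center G)}).comap (QuotientGroup.mk' (center G)) =
      centralizer {u} := by
    rw [← h1, comap_map_eq_self (by rw [QuotientGroup.ker_mk']; exact center_le_centralizer _)]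
  have hle : zpowers a ≤ centralizer {(u : G ⧸ center G)} :=
    zpowers_le.mpr (mem_centralizer_singleton_iff.mpr hau)
  have hi : (zpowers a).relIndex (centralizer {(u : G ⧸ center G)}) = 2 := by
    have h1 := index_mul_card ((zpowers a).subgroupOf (centralizer {(u : G ⧸ center G)}))
    rw [Nat.card_congr (subgroupOfEquivOfLe hle).toEquiv, Nat.card_zpowers, ha, hc] at h1
    exact Nat.eq_of_mul_eq_mul_right (by omega) h1
  have hi' : ((zpowers a).comap (QuotientGroup.mk' (center G))).relIndex (centralizer {u}) = 2 := by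
    rw [relIndex_comap, h1, hi]
  obtain ⟨y, hy, hyA⟩ : ∃ y ∈ centralizer {u},
      y ∉ (zpowers a).comap (QuotientGroup.mk' (center G)) := by
    by_contra hcon
    push Not at hcon
    rw [relIndex_eq_one.mpr hcon] at hi'
    omega
  obtain ⟨b, hb, h3⟩ := exists_eq_commutator_of_index_two (comm_comap_zpowers a)
    (h2 ▸ comap_mono hle) hi' hy hyA (pow_index_mem_commutator hz hz')
  have hyu := mem_centralizer_singleton_iff.mp hy
  have h4 : (b : G ⧸ center G) * y = y * b := by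
    have := (QuotientGroup.eq_one_iff _).mpr (h3 ▸ pow_mem hz (sz u))
    rw [← commutatorElement_eq_one_iff_mul_comm]
    exact this
  rw [h3, ← commutatorElement_def, commutatorElement_eq_one_iff_mul_comm]
  rcases hD y (by rw [← QuotientGroup.mk_mul, hyu, QuotientGroup.mk_mul]) hyA b hb h4 with h5 | h5
  · exact (mem_center_iff.mp ((QuotientGroup.eq_one_iff _).mp h5) y).symm
  · have h6 : ∀ w, Commute w (u⁻¹ * b) := mem_center_iff.mp (QuotientGroup.eq.mp h5.symm)
    rw [show b = u * (u⁻¹ * b) by group]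
    exact (Commute.mul_right hyu (h6 y)).symm

theorem commutator_inf_center {F : Type*} [Field F] [Finite F] {p : ℕ}
    (hS : Spec (Matrix.ProjectiveSpecialLinearGroup (Fin 2) F) p q e o d)
    (hd : (d = 1 ∧ (2 : F) = 0) ∨ (d = 2 ∧ (2 : F) ≠ 0))
    (φ : G ⧸ center G ≃* Matrix.ProjectiveSpecialLinearGroup (Fin 2) F) :
    commutator G ⊓ center G = ⊥ := by
  refine eq_bot_iff.mpr fun z ⟨hz', hz⟩ => mem_bot.mpr (orderOf_eq_one_iff.mp ?_)
  have hq := h.par.q1
  have he := h.par.e2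
  have ho := h.par.o1
  have key : ∀ (m k : ℕ), 0 < m → (∃ g : Matrix.ProjectiveSpecialLinearGroup (Fin 2) F,
      orderOf g = m) → d * q * e * o = k * m → orderOf z ∣ k := by
    rintro m k hm ⟨g, hg⟩ hk
    have h1 := index_mul_card (zpowers (φ.symm g))
    rw [Nat.card_zpowers, φ.symm.orderOf_eq, hg, h.card_quotient, hk] at h1
    rw [← Nat.eq_of_mul_eq_mul_right hm h1]
    exact orderOf_dvd_of_pow_eq_one (pow_index_zpowers_eq_one _ hz hz')
  have h1 := key e (d * (q * o)) (by omega) hS.exm (by ring)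
  have h2 := key o (d * (q * e)) (by omega) hS.exn (by ring)
  have h3 : orderOf z ∣ d * (e * o) := by
    obtain ⟨x, hx⟩ := h.exq
    have hxf : FamN q e o d (sz x) q := Or.inl ⟨rfl, hx⟩
    have hx1 := (QuotientGroup.eq_one_iff x).not.mpr (h.notMem hxf)
    rw [← mul_assoc, ← hx]
    refine orderOf_dvd_of_pow_eq_one (pow_index_eq_one_of_comm
      (h.comm_centralizer hx fun y w hy hw => φ.injective ?_) hz hz')
    rw [map_mul, map_mul]
    refine psl_comm_of_commute (x := φ x) (by simpa using hx1) ?_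
      (by rw [← map_mul, hy, map_mul]) (by rw [← map_mul, hw, map_mul])
    rcases hd with ⟨-, h4⟩ | ⟨rfl, -⟩
    · exact Or.inr h4
    · refine Or.inl fun h4 => hx1 (orderOf_eq_one_iff.mp (Nat.eq_one_of_dvd_coprimes h.par.cqd ?_
        (φ.orderOf_eq x ▸ orderOf_dvd_of_pow_eq_one h4)))
      have := orderOf_mk_dvd_kap x
      rcases h.kap_cases hxf with h2 | h2 | h2
      · exact h2.2 ▸ this
      · exact absurd h2.1 h.par.qo
      · exact absurd h2.1 h.par.qe
  have h4 : orderOf z ∣ d := by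
    have h5 := Nat.dvd_gcd (Nat.dvd_gcd h1 h2) h3
    rwa [Nat.gcd_mul_left, Nat.gcd_mul_left, Nat.gcd_mul_left, h.par.ceo.symm, mul_one,
      h.par.cqe.mul_right h.par.cqo, mul_one] at h5
  rcases hd with ⟨rfl, -⟩ | ⟨rfl, h2F⟩
  · exact Nat.dvd_one.mp h4
  · obtain ⟨u, hu⟩ := h.exe
    have hk : kap u = 2 * e := by
      have := sz_mul_kap u
      rw [hu, h.card_quotient] at this
      exact Nat.eq_of_mul_eq_mul_left (by positivity) (this.trans (by ring))
    have hu1 := (QuotientGroup.eq_one_iff u).not.mpr (h.notMem (Or.inr (Or.inr ⟨rfl, Or.inr hu⟩)))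
    have hcard : Nat.card (centralizer {φ u}) = Nat.card (centralizer {(u : G ⧸ center G)}) := by
      refine Nat.card_congr (φ.symm.toEquiv.subtypeEquiv fun w => ?_)
      rw [mem_centralizer_singleton_iff, mem_centralizer_singleton_iff, ← φ.injective.eq_iff]
      simp
    obtain ⟨hc, a, ha, hau, hD⟩ := hS.exists_dihedral h2F h.par (u := φ u) (by simpa using hu1)
      (by rw [hcard, ← hk]; exact card_dvd_of_le (map_centralizer_le u))
      (by rw [φ.orderOf_eq, ← hk]; exact orderOf_mk_dvd_kap u)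
    have h5 := h.pow_eq_one_of_dihedral hk (a := φ.symm a) (hcard ▸ hc)
      (by rw [φ.symm.orderOf_eq, ha]) (φ.injective (by simpa using hau))
      (fun y hy hya a' ha' hc' => by
        have := hD (φ y) (by rw [← map_mul, hy, map_mul]) (fun ⟨k, hk⟩ => hya ⟨k, φ.injective (by
          simpa using hk)⟩) (φ a') (by
            obtain ⟨k, rfl⟩ := ha'
            exact ⟨k, by simp⟩) (by rw [← map_mul, hc', map_mul])
        simpa using this) hz hz'
    exact Nat.eq_one_of_dvd_coprimes (h.par.cqd.symm.mul_right h.par.cod.symm) h4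
      (hu ▸ orderOf_dvd_of_pow_eq_one h5)

end CS

omit [Finite G] in
theorem exists_split_of_perfect {L : Type*} [Group L] (φ : G ⧸ center G ≃* L)
    (hL : commutator L = ⊤) (h : commutator G ⊓ center G = ⊥) :
    commutator G ⊔ center G = ⊤ ∧ Nonempty (commutator G ≃* L) := by
  let f : G →* L := φ.toMonoidHom.comp (QuotientGroup.mk' _)
  have hf : Function.Surjective f := φ.surjective.comp (QuotientGroup.mk'_surjective _)
  have hk : f.ker = center G := by
    ext x
    simp [f]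
  have hm : (commutator G).map f = ⊤ := by
    rw [map_commutator_eq, MonoidHom.range_eq_top.mpr hf, ← commutator_def, hL]
  refine ⟨by rw [← hk, ← comap_map_eq, hm, comap_top],
    ⟨MulEquiv.ofBijective (f.domRestrict _) ⟨?_, fun y => ?_⟩⟩⟩
  · rw [← MonoidHom.ker_eq_bot_iff, MonoidHom.ker_domRestrict, hk, subgroupOf_eq_bot, disjoint_iff,
      inf_comm, h]
  · obtain ⟨x, hx, rfl⟩ := hm.ge (mem_top y)
    exact ⟨⟨x, hx⟩, rfl⟩

theorem exists_sq_ne_one {F : Type*} [Field F] [Fintype F] (hF : 4 ≤ Fintype.card F) :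
    ∃ a : F, a ≠ 0 ∧ a ^ 2 ≠ 1 := by
  obtain ⟨x, hx⟩ : IsCyclic Fˣ := by infer_instance
  refine ⟨x, Units.ne_zero x, fun h ↦ ?_⟩
  have h1 := orderOf_le_of_pow_eq_one (x := x) zero_lt_two (Units.ext <| by simpa using h)
  rw [orderOf_eq_card_of_forall_mem_zpowers hx, Nat.card_units, Nat.card_eq_fintype_card] at h1
  omega

theorem classSize_main {F : Type*} [Field F] [Fintype F]
    (hq : (2 ∣ Fintype.card F ∧ 2 < Fintype.card F) ∨
      (¬ 2 ∣ Fintype.card F ∧ 7 ≤ Fintype.card F))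
    (h : Set.range (sz : G → ℕ) =
      Set.range (sz : Matrix.ProjectiveSpecialLinearGroup (Fin 2) F → ℕ)) :
    Nonempty (G ⧸ center G ≃* Matrix.ProjectiveSpecialLinearGroup (Fin 2) F) ∧
      commutator G ⊓ center G = ⊥ := by
  obtain ⟨a, b, e, o, d, hP, hab, hS, hC⟩ := exists_cs_psl2 F hq
  have hG := hC.of_range_eq h
  obtain ⟨φ⟩ := hG.nonempty_mulEquiv_psl2 hP hab F Nat.card_eq_fintype_card
  refine ⟨⟨φ⟩, hG.commutator_inf_center hS (hP.hd.imp (And.imp_right fun h2 => ?_)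
    (And.imp_right fun h2 => Ring.two_ne_zero h2)) φ⟩
  have := (ringChar.spec F 2).mpr h2.dvd
  exact_mod_cast this

end Cfsg.Agent.H3
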