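import Cfsg.Agent.H6.B22Def
import Cfsg.Agent.H5.MtE
import Cfsg.Agent.H9.M22a

/-! The columns of the character table of a simple group of order `443520`. -/

set_option autoImplicit false

namespace Cfsg.Agent.H6.B22

open Cfsg Cfsg.Agent.H2.D1 Cfsg.Agent.H3 Cfsg.Agent.H5 Finset Subgroup
open Cfsg.Agent.H4.Nse (mo index_eq_of_conj)
open scoped ComplexConjugate Classical

/-- The integers of absolute value at most `n`. -/
def rg (n : ℕ) : List ℤ := (List.range (2 * n + 1)).map fun i : ℕ => (i : ℤ) - n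

theorem mem_rg {n : ℕ} {x : ℤ} (h : x * x < (n + 1) * (n + 1)) : x ∈ rg n := by
  have h1 : -(n + 1 : ℤ) < x := by nlinarith
  have h2 : x < (n + 1 : ℤ) := by nlinarith
  exact List.mem_map.2 ⟨(x + n).toNat, List.mem_range.2 (by omega), by omega⟩

theorem srchA1 : ∀ a ∈ rg 33, a % 4 = 1 → ∀ b ∈ rg 33, b % 4 = 1 → ∀ e ∈ rg 33, e % 4 = 2 →
    2520 - 120 * a ^ 2 + 112 * b ^ 2 + 12 * e ^ 2 - 9 * (1 - a + 2 * b + e) ^ 2 = 0 →
    2 * (b * b) + 2 * ((1 - a + 2 * b + e) * (1 - a + 2 * b + e)) < 1152 →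
    (a = 5 ∧ b = -3 ∧ e = 2) ∨ (a = 9 ∧ b = 9 ∧ e = 6) := by decide +kernel

theorem srchA3 : ∀ c ∈ rg 33, ∀ d ∈ rg 33, 1152 < 792 + c * c + (c + 8) * (c + 8) + d * d +
    (c + d - 2) * (c + d - 2) + (-30 - c - d) * (-30 - c - d) := by decide +kernel

theorem srchA2 : ∀ c ∈ rg 33, c % 4 = 3 → ∀ d ∈ rg 33, d % 4 = 2 → ∀ w ∈ rg 33,
    385 * (c + d + w) = 6930 → ∀ N : ℤ,
    N = 176 + c * c + (c - 4) * (c - 4) + d * d + (c + d - 10) * (c + d - 10) + w * w →
    1152 % N = 0 → 443520 / N * 3 % 45 = 0 → 443520 / N * (c - 4) % 99 = 0 →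
    c = 7 ∧ d = 10 := by
  simp only [forall_eq]
  decide +kernel

theorem srchB : ∀ a ∈ rg 33, ∀ d ∈ rg 33, ∀ N : ℤ, N = 2 + a * a + d * d +
    (a + d - 1) * (a + d - 1) + (d - a - 1) * (d - a - 1) + 2 * (d * d) + (1 - 3 * d) * (1 - 3 * d) →
    1152 % N = 0 → N % 3 = 0 → (d = 1 ∧ (a = -3 ∨ a = -1 ∨ a = 0 ∨ a = 1 ∨ a = 3)) ∨
      (d = 4 ∧ (a = -1 ∨ a = 1)) := by
  simp only [forall_eq]
  decide +kernel

/-- The norm of a column orthogonal to the columns of the orders `1`, `2`, `6`. -/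
def nD (a c w : ℤ) : ℤ :=
  1 + a * a + 2 * ((a - 3 * w) * (a - 3 * w)) + c * c + (a - 3 * w + c - 1) * (a - 3 * w + c - 1) +
    (w - c + 1) * (w - c + 1) + (7 * w - a - 1) * (7 * w - a - 1) + (-1 - 2 * w) * (-1 - 2 * w) +
    2 * (w * w) + (1 - 3 * w) * (1 - 3 * w)

theorem srchD : ∀ a ∈ rg 11, ∀ c ∈ rg 11, ∀ w ∈ rg 11, 128 % nD a c w = 0 → nD a c w % 16 = 0 →
    w = 0 ∧ (a, c) ∈ [(-3, -1), (-3, 7), (1, -1), (1, 3), (5, -1)] := by decide +kernel

/-- The inner product of two columns. -/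
def dot (v w : Fin 9 → ℤ) : ℤ :=
  1 + v 0 * w 0 + 2 * (v 1 * w 1) + v 2 * w 2 + v 3 * w 3 + v 4 * w 4 + v 5 * w 5 + v 6 * w 6 +
    2 * (v 7 * w 7) + v 8 * w 8

variable {G : Type*} [Group G] [Finite G]

/-- The column of an element. -/
noncomputable def col (X : Fin 9 → IrrCharacter G) (g : G) (i : Fin 9) : ℤ := yv g (X i)

/-- The order of the centralizer. -/
noncomputable def cc (g : G) : ℤ := Nat.card (centralizer ({g} : Set G))

omit [Finite G] in
theorem reg_of {g : G} {n : ℕ} (h : orderOf g = n) (hn : n.Coprime 385 := by norm_num) : Reg g := by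
  rwa [Reg, h]

theorem cc_ne (g : G) : cc g ≠ 0 := Int.natCast_ne_zero.2 Nat.card_pos.ne'

theorem ord_conj {g h : G} (e : IsConj g h) : orderOf g = orderOf h := by
  obtain ⟨c, rfl⟩ := isConj_iff.1 e
  exact (H4.Nse.orderOf_conj' c g).symm

theorem exists_comm {g : G} {r : ℕ} (hr : r.Prime) (h : (r : ℤ) ∣ cc g) :
    ∃ x, orderOf x = r ∧ Commute g x := by
  have := Fact.mk hr
  obtain ⟨x, hx, e⟩ := H9.exists_mem_orderOf_eq_prime (p := r) (H := centralizer {g})
    (Int.natCast_dvd_natCast.1 h)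
  exact ⟨x, e, (mem_centralizer_singleton_iff.1 hx).symm⟩

omit [Finite G] in
theorem dvd_cc {g x : G} (h : Commute g x) : (orderOf x : ℤ) ∣ cc g := by
  have := card_dvd_of_le (zpowers_le_of_mem (mem_centralizer_singleton_iff.2 h.symm))
  rw [Nat.card_zpowers] at this
  exact Int.natCast_dvd_natCast.2 this

theorem D_ne : ∀ i, 1 ≠ D i := by decide

theorem D_inj : ∀ i j, D i = D j → i = j := by decide

namespace Tab

variable {X : Fin 9 → IrrCharacter G} (h : Tab X)
include h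

theorem val {g : G} (hg : Reg g) (i : Fin 9) : (X i : G → ℂ) g = col X g i := by
  obtain ⟨n, hn⟩ : ∃ n : ℤ, (X i : G → ℂ) g = n := by
    refine H9.FT.int_of_fixed (char_isIntegral (MT.ch _) g) fun u => ?_
    have h1 : (MT.gal u (X i)).1 1 = D i := by rw [MT.gal_one, h.deg]
    rcases h.cover (MT.gal u (X i)) with e | ⟨j, e⟩
    · rw [e] at h1
      exact absurd (by exact_mod_cast (show (1 : ℂ) = D i from h1)) (D_ne i)
    · have h2 : D j = D i := by
        exact_mod_cast (h.deg j).symm.trans ((e 1 (reg_of orderOf_one)).symm.trans h1)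
      obtain rfl := D_inj _ _ h2
      exact e g hg
  rw [col, yv_eq hn, hn]

theorem col_one (i : Fin 9) : col X 1 i = D i := yv_eq (by rw [h.deg]; simp)

theorem orth {g k : G} (hg : Reg g) (hk : Reg k) :
    dot (col X g) (col X k) = if IsConj g k then cc g else 0 := by
  have h1 := h.sum (fun χ => (χ : G → ℂ) k * conj ((χ : G → ℂ) g)) fun χ ψ e => by
    simp only [e g hg, e k hk]
  rw [sum_irr_mul_conj] at h1
  simp only [h.val hg, h.val hk, map_intCast, Fin.sum_univ_succ, M] at h1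
  have h2 : ((dot (col X g) (col X k) : ℤ) : ℂ) = (if IsConj g k then cc g else 0 : ℤ) := by
    rw [dot, cc]
    push_cast
    rw [h1]
    simp
    ring
  exact_mod_cast h2

theorem nrm {g : G} (hg : Reg g) : dot (col X g) (col X g) = cc g := by
  rw [h.orth hg hg, if_pos (IsConj.refl g)]

theorem orth0 {g k : G} (hg : Reg g) (hk : Reg k) (e : orderOf g ≠ orderOf k) :
    dot (col X g) (col X k) = 0 := by
  rw [h.orth hg hk, if_neg fun c => e (ord_conj c)]

theorem conj_of {g k : G} (hg : Reg g) (hk : Reg k) (e : dot (col X g) (col X k) ≠ 0) :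
    IsConj g k := by
  by_contra c
  exact e (by rw [h.orth hg hk, if_neg c])

theorem lin {g : G} (hg : Reg g) (g1 : g ≠ 1) :
    col X g 0 - 2 * col X g 1 - col X g 5 + col X g 7 = 1 ∧
    col X g 1 + col X g 2 - col X g 3 = 1 ∧ col X g 3 + col X g 4 - col X g 0 - col X g 6 = 1 ∧
    1 + col X g 0 * 21 + 2 * (col X g 1 * 45) + col X g 2 * 55 + col X g 3 * 99 + col X g 4 * 154 +
      col X g 5 * 210 + col X g 6 * 231 + 2 * (col X g 7 * 280) + col X g 8 * 385 = 0 := by
  have h1 := h.l11 g hg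
  have h2 := h.l7 g hg
  have h3 := h.l5 g hg
  have h4 := h.orth0 hg (reg_of orderOf_one) (by simpa using g1)
  simp only [h.val hg] at h1 h2 h3
  simp only [dot, h.col_one] at h4
  exact ⟨by exact_mod_cast h1, by exact_mod_cast h2, by exact_mod_cast h3, h4⟩

theorem idx (g : G) : ((centralizer ({g} : Set G)).index : ℤ) * cc g = 443520 := by
  have := (centralizer ({g} : Set G)).index_mul_card
  rw [h.card] at this
  rw [cc]
  exact_mod_cast this

theorem cc_dvd {g : G} (hg : Reg g) (g1 : g ≠ 1) : cc g ∣ 1152 := by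
  have k : ∀ r : ℕ, r = 5 ∨ r = 7 ∨ r = 11 → (Nat.card (centralizer ({g} : Set G))).Coprime r :=
    fun r hr => by
    have hp : r.Prime := by rcases hr with rfl | rfl | rfl <;> norm_num
    have h5 : r ∣ 385 := by rcases hr with rfl | rfl | rfl <;> norm_num
    refine ((Nat.Prime.coprime_iff_not_dvd hp).mpr fun e => ?_).symm
    obtain ⟨x, hx, c⟩ := exists_comm (g := g) hp (Int.natCast_dvd_natCast.2 e)
    have h1 := c.orderOf_mul_eq_mul_orderOf_of_coprime (hx ▸ hg.coprime_dvd_right h5)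
    have h2 : (orderOf (g * x)).Prime := by
      rcases h.ord (g * x) with e | e | e | e
      · exact absurd (Nat.eq_one_of_dvd_coprimes e (h1 ▸ hx ▸ Dvd.intro_left _ rfl) h5) hp.ne_one
      all_goals rw [e]; norm_num
    rw [h1, hx] at h2
    exact g1 (orderOf_eq_one_iff.1 (((Nat.prime_mul_iff.1 h2).resolve_left
      fun e => hp.ne_one e.2).2))
  have h1 : Nat.card (centralizer ({g} : Set G)) ∣ 1152 * 11 * 7 * 5 :=
    (card_subgroup_dvd_card _).trans (by rw [h.card])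
  rw [cc]
  exact_mod_cast (k 11 (by simp)).dvd_of_dvd_mul_right ((k 7 (by simp)).dvd_of_dvd_mul_right
    ((k 5 (by simp)).dvd_of_dvd_mul_right h1))

theorem cc_le {g : G} (hg : Reg g) (g1 : g ≠ 1) : cc g ≤ 1152 :=
  Int.le_of_dvd (by norm_num) (h.cc_dvd hg g1)

theorem cdvd {g : G} (hg : Reg g) (i : Fin 9) : (D i : ℤ) ∣ 443520 / cc g * col X g i := by
  have h1 := MT.dvd_of_central (X i) {()} (fun _ => g) (fun _ _ => rfl) (h.deg i)
    (a := col X g i) (by simpa using h.val hg i)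
  rwa [← h.idx g, Int.mul_ediv_cancel _ (cc_ne g)]

theorem mo_of {g : G} {n m : ℕ} (hg : orderOf g = n) (e : ∀ x, orderOf x = n → IsConj g x)
    (hm : m * cc g = 443520) : mo G n = m := by
  rw [← hg, ← index_eq_of_conj fun x hx => isConj_iff.1 (e x (hx.trans hg))]
  exact_mod_cast mul_right_cancel₀ (cc_ne g) ((h.idx g).trans hm.symm)

theorem sq_le {g : G} (hg : Reg g) (i : Fin 9) : col X g i * col X g i < cc g := by
  rw [← h.nrm hg, dot]
  have := fun j => mul_self_nonneg (col X g j)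
  fin_cases i <;> simp only [Fin.reduceFinMk, Fin.zero_eta, Fin.mk_one] <;>
    linarith [this 0, this 1, this 2, this 3, this 4, this 5, this 6, this 7, this 8]

theorem rg33 {g : G} (hg : Reg g) (g1 : g ≠ 1) (i : Fin 9) : col X g i ∈ rg 33 :=
  mem_rg ((h.sq_le hg i).trans_le ((h.cc_le hg g1).trans (by norm_num)))

theorem colT [NS G] {t : G} (ht : orderOf t = 2) :
    col X t = ![5, -3, 7, 3, 10, 2, 7, -8, 1] := by
  have hg := reg_of ht
  obtain ⟨t1, tt⟩ := Ma.of_o2 ht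
  have m4 : ∀ i, (4 : ℤ) ∣ D i - col X t i := fun i =>
    MT.four_dvd (fun e => by
      obtain ⟨a, b, c⟩ := NS.nc (G := G)
      exact c (e.1.1 a b)) (MT.ch _) tt (h.deg i) (h.val hg i)
  have a0 := m4 0
  have a1 := m4 1
  have a2 := m4 2
  have a4 := m4 4
  have a5 := m4 5
  simp only [D, Matrix.cons_val] at a0 a1 a2 a4 a5
  obtain ⟨l1, l2, l3, l4⟩ := h.lin hg t1
  have i1 := h.inv t tt
  have n1 := h.nrm hg
  have n2 := h.cc_le hg t1
  have sq := fun j => mul_self_nonneg (col X t j)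
  have x7 : 1 - col X t 0 + 2 * col X t 1 + col X t 5 = col X t 7 := by omega
  rw [dot] at n1
  obtain ⟨e0, e1, e5⟩ := (srchA1 _ (h.rg33 hg t1 0) (by omega) _ (h.rg33 hg t1 1) (by omega) _
    (h.rg33 hg t1 5) (by omega) (by rw [x7]; exact i1) (by
      rw [x7]; linarith [sq 0, sq 2, sq 3, sq 4, sq 5, sq 6, sq 8])).resolve_right
      fun ⟨e0, e1, e5⟩ => by
    have := srchA3 _ (h.rg33 hg t1 2) _ (h.rg33 hg t1 4)
    rw [show col X t 2 + 8 = col X t 3 by omega, show col X t 2 + col X t 4 - 2 = col X t 6 by omega,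
      show -30 - col X t 2 - col X t 4 = col X t 8 by omega] at this
    rw [e0, e1, e5, show col X t 7 = 16 by omega] at n1
    linarith
  have e7 : col X t 7 = -8 := by omega
  have e3 : col X t 3 = col X t 2 - 4 := by omega
  have e6 : col X t 6 = col X t 2 + col X t 4 - 10 := by omega
  have d1 := h.cdvd hg 1
  have d3 := h.cdvd hg 3
  rw [e1] at d1
  rw [e3] at d3
  obtain ⟨e2, e4⟩ := srchA2 _ (h.rg33 hg t1 2) (by omega) _ (h.rg33 hg t1 4) (by omega) _
    (h.rg33 hg t1 8) (by omega) (cc t) (by rw [← n1, e0, e1, e3, e5, e6, e7]; ring)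
    (Int.emod_eq_zero_of_dvd (h.cc_dvd hg t1))
    (Int.emod_eq_zero_of_dvd (by simpa [D] using d1)) (Int.emod_eq_zero_of_dvd d3)
  funext i
  fin_cases i <;> simp <;> omega

/-- The column of a `3`-singular element. -/
def c3 (a d : ℤ) : Fin 9 → ℤ := ![a, 0, 1, 0, d, a + d - 1, d - a - 1, d, 1 - 3 * d]

omit h in
theorem dot_c3 (a d b : ℤ) : dot (c3 a d) (c3 b 1) = 9 * d + 3 * (a * b) := by
  simp only [dot, c3, Matrix.cons_val]
  ring

theorem orthT [NS G] {t g : G} (ht : orderOf t = 2) (hg : Reg g) (g2 : orderOf g ≠ 2) :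
    1 + col X g 0 * 5 + 2 * (col X g 1 * -3) + col X g 2 * 7 + col X g 3 * 3 + col X g 4 * 10 +
      col X g 5 * 2 + col X g 6 * 7 + 2 * (col X g 7 * -8) + col X g 8 * 1 = 0 := by
  have := h.orth0 hg (reg_of ht) (ht ▸ g2)
  rwa [h.colT ht] at this

theorem col3 [NS G] {t g : G} (ht : orderOf t = 2) (hg : Reg g) (h3 : 3 ∣ orderOf g) :
    ∃ a d, col X g = c3 a d ∧ ((d = 1 ∧ (a = -3 ∨ a = -1 ∨ a = 0 ∨ a = 1 ∨ a = 3)) ∨
      (d = 4 ∧ (a = -1 ∨ a = 1))) := by
  have g1 : g ≠ 1 := fun e => by simp [e] at h3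
  have z : ∀ i, ¬ 443520 / D i % 3 = 0 → col X g i = 0 := fun i e => by
    have := MT.defz Nat.prime_three (h.deg i) (h.card ▸ e) h3
    rw [h.val hg] at this
    exact_mod_cast this
  have e1 := z 1 (by decide)
  have e3 := z 3 (by decide)
  obtain ⟨l1, l2, l3, l4⟩ := h.lin hg g1
  have l5 := h.orthT ht hg (by omega)
  have e : col X g = c3 (col X g 0) (col X g 4) := by
    funext i
    fin_cases i <;> simp [c3] <;> omega
  refine ⟨_, _, e, srchB _ (h.rg33 hg g1 0) _ (h.rg33 hg g1 4) (cc g) ?_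
    (Int.emod_eq_zero_of_dvd (h.cc_dvd hg g1)) (Int.emod_eq_zero_of_dvd
      ((Int.natCast_dvd_natCast.2 h3).trans (dvd_cc (Commute.refl g))))⟩
  rw [← h.nrm hg, e]
  simp only [dot, c3, Matrix.cons_val]
  ring

theorem colU [NS G] {t u : G} (ht : orderOf t = 2) (hu : orderOf u = 3) :
    ∃ a, col X u = c3 a 1 ∧ (a = -3 ∨ a = 0 ∨ a = 3) := by
  obtain ⟨a, d, e, h1⟩ := h.col3 ht (reg_of hu) hu.symm.dvd
  have h2 := MT.cong_int (k := 1) Nat.prime_three (MT.ch (X 0)) (u := u) (g := 1)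
    (by rw [pow_one, ← hu, pow_orderOf_eq_one]) (Commute.one_right u)
    (by rw [mul_one]; exact h.val (reg_of hu) 0) (h.val (reg_of orderOf_one) 0)
  rw [h.col_one, e] at h2
  simp only [c3, D, Matrix.cons_val] at h2
  obtain rfl : d = 1 := by omega
  exact ⟨a, e, by omega⟩

theorem h22 [NS G] : Ma.H22 G := by
  have := Fact.mk Nat.prime_two
  obtain ⟨t, ht⟩ := exists_prime_orderOf_dvd_card' (G := G) 2 (by rw [h.card]; norm_num)
  have rt := reg_of ht
  have ct : cc t = 384 := by rw [← h.nrm rt, h.colT ht]; rfl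
  obtain ⟨u, hu, tu⟩ := exists_comm (g := t) Nat.prime_three (by rw [ct]; norm_num)
  have ru := reg_of hu
  obtain ⟨b, eu, hb⟩ := h.colU ht hu
  have cu : cc u = 36 := by
    have h1 := dvd_cc tu.symm
    have h2 := h.nrm ru
    rw [eu, dot_c3] at h2
    rw [ht, ← h2] at h1
    rw [← h2]
    rcases hb with rfl | rfl | rfl <;> revert h1 <;> norm_num
  have o6 : orderOf (u * t) = 6 := by
    rw [tu.symm.orderOf_mul_eq_mul_orderOf_of_coprime (by rw [hu, ht]; norm_num), hu, ht]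
  have r6 := reg_of o6
  have k3 : ∀ g, Reg g → 3 ∣ orderOf g → orderOf g ≠ 3 → ∃ a, col X g = c3 a 1 ∧ a * b = -3 :=
    fun g hg h3 h4 => by
    obtain ⟨a, d, e, h1⟩ := h.col3 ht hg h3
    have h2 := h.orth0 hg ru (hu ▸ h4)
    rw [e, eu, dot_c3] at h2
    obtain rfl : d = 1 := by rcases hb with rfl | rfl | rfl <;> omega
    exact ⟨a, e, by omega⟩
  have es : col X (u * t) = c3 (-1) 1 ∧ b = 3 := by
    obtain ⟨a, e, h1⟩ := k3 _ r6 (by rw [o6]; norm_num) (by rw [o6]; norm_num)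
    have h2 := MT.cong_int (k := 1) Nat.prime_three (MT.ch (X 0)) (u := u) (g := t)
      (by rw [pow_one, ← hu, pow_orderOf_eq_one]) tu.symm (h.val r6 0) (h.val rt 0)
    rw [h.colT ht, e] at h2
    simp only [c3, Matrix.cons_val] at h2
    obtain ⟨rfl, rfl⟩ : a = -1 ∧ b = 3 := by rcases hb with rfl | rfl | rfl <;> omega
    exact ⟨e, rfl⟩
  obtain ⟨es, rfl⟩ := es
  have k6 : ∀ g, Reg g → 3 ∣ orderOf g → orderOf g ≠ 3 → IsConj (u * t) g := fun g hg h3 h4 => by
    obtain ⟨a, e, h1⟩ := k3 g hg h3 h4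
    refine h.conj_of r6 hg ?_
    rw [es, e, dot_c3]
    omega
  have kD : ∀ g k : G, orderOf g = 16 → Commute k g → (orderOf k = 4 ∨ orderOf k = 8 ∨ orderOf k = 16) →
      Reg k ∧ ∃ p ∈ [((-3 : ℤ), (-1 : ℤ)), (-3, 7), (1, -1), (1, 3), (5, -1)], col X k =
        ![p.1, p.1, p.2, p.1 + p.2 - 1, 1 - p.2, -p.1 - 1, -1, 0, 1] := fun g k hg c hk => by
    have rk : Reg k := by rcases hk with e | e | e <;> exact reg_of e
    have k1 : k ≠ 1 := fun e => by simp [e] at hk
    obtain ⟨l1, l2, l3, l4⟩ := h.lin rk k1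
    have l5 := h.orthT ht rk (by omega)
    have l6 := h.orth0 rk r6 (by omega)
    rw [es] at l6
    simp only [dot, c3, Matrix.cons_val] at l6
    have d1 : cc k ∣ 128 := by
      refine IsCoprime.dvd_of_dvd_mul_right (z := 3 ^ 2) (y := 128) (IsCoprime.pow_right
        ((Int.prime_three).coprime_iff_not_dvd.2 fun e => ?_).symm) (h.cc_dvd rk k1)
      obtain ⟨x, hx, c⟩ := exists_comm Nat.prime_three e
      have h1 : orderOf (k * x) = orderOf k * 3 := by
        rw [c.orderOf_mul_eq_mul_orderOf_of_coprime (by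
          rw [hx]; rcases hk with e | e | e <;> rw [e] <;> norm_num), hx]
      have h2 := ord_conj (k6 (k * x) (by
        rcases hk with e | e | e <;> exact reg_of (h1.trans (by rw [e]))) (h1 ▸ Dvd.intro_left _ rfl)
        (by omega))
      omega
    have d2 := dvd_cc c
    rw [hg] at d2
    have r11 : ∀ i, col X k i ∈ rg 11 := fun i =>
      mem_rg ((h.sq_le rk i).trans_le ((Int.le_of_dvd (by norm_num) d1).trans (by norm_num)))
    have en : nD (col X k 0) (col X k 2) (col X k 7) = cc k := by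
      rw [← h.nrm rk, dot, nD, show col X k 1 = col X k 0 - 3 * col X k 7 by omega,
        show col X k 3 = col X k 0 - 3 * col X k 7 + col X k 2 - 1 by omega,
        show col X k 4 = col X k 7 - col X k 2 + 1 by omega,
        show col X k 5 = 7 * col X k 7 - col X k 0 - 1 by omega,
        show col X k 6 = -1 - 2 * col X k 7 by omega, show col X k 8 = 1 - 3 * col X k 7 by omega]
    obtain ⟨e7, hp⟩ := srchD _ (r11 0) _ (r11 2) _ (r11 7)
      (en ▸ Int.emod_eq_zero_of_dvd d1) (en ▸ Int.emod_eq_zero_of_dvd d2)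
    refine ⟨rk, _, hp, funext fun i => ?_⟩
    fin_cases i <;> simp <;> omega
  have n16 : ∀ g : G, orderOf g ≠ 16 := fun g hg => by
    have o8 : orderOf (g ^ 2) = 8 := by rw [orderOf_pow' _ (by norm_num), hg]; norm_num
    have o4 : orderOf (g ^ 4) = 4 := by rw [orderOf_pow' _ (by norm_num), hg]; norm_num
    obtain ⟨r1, p, hp, e1⟩ := kD g g hg (Commute.refl g) (by omega)
    obtain ⟨r2, q, hq, e2⟩ := kD g _ hg ((Commute.refl g).pow_left 2) (by omega)
    obtain ⟨r3, r, hr, e3⟩ := kD g _ hg ((Commute.refl g).pow_left 4) (by omega)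
    have a1 := h.orth0 r1 r2 (by omega)
    have a2 := h.orth0 r1 r3 (by omega)
    have a3 := h.orth0 r2 r3 (by omega)
    rw [e1] at a1 a2
    rw [e2] at a1 a3
    rw [e3] at a2 a3
    clear e1 e2 e3
    revert p q r
    decide +kernel
  refine ⟨h.card, fun g => ?_, h.mo_of ht (fun x hx => h.conj_of rt (reg_of hx) ?_)
    (by rw [ct]; norm_num), h.mo_of hu (fun x hx => h.conj_of ru (reg_of hx) ?_)
    (by rw [cu]; norm_num), h.mo_of o6 (fun x hx => k6 x (reg_of hx) (by rw [hx]; norm_num)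
      (by omega)) (by rw [← h.nrm r6, es, dot_c3]; norm_num)⟩
  · rcases h.ord g with hg | e | e | e
    rotate_left
    iterate 3 simp [e]
    by_cases h3 : 3 ∣ orderOf g
    · by_cases h4 : orderOf g = 3
      · simp [h4]
      · simp [← ord_conj (k6 g hg h3 h4), o6]
    have h4 : orderOf g ∣ 2 ^ 7 * 3 ^ 2 * 385 := (orderOf_dvd_natCard g).trans (by norm_num [h.card])
    obtain ⟨k, -, hk⟩ := (Nat.dvd_prime_pow Nat.prime_two).1 (Nat.Coprime.dvd_of_dvd_mul_right
      ((Nat.prime_three.coprime_iff_not_dvd.2 h3).symm.pow_right 2) (hg.dvd_of_dvd_mul_right h4))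
    by_cases h5 : k < 4
    · interval_cases k <;> simp [hk]
    · obtain ⟨j, rfl⟩ : ∃ j, k = j + 4 := ⟨k - 4, by omega⟩
      refine absurd ?_ (n16 (g ^ 2 ^ j))
      rw [orderOf_pow' _ (by positivity), hk, pow_add, Nat.gcd_mul_right_left,
        Nat.mul_div_cancel_left _ (by positivity)]
      norm_num
  · rw [h.colT ht, h.colT hx]
    decide
  · obtain ⟨a, e, h1⟩ := h.colU ht hx
    rw [eu, e, dot_c3]
    omega

end Tab

end Cfsg.Agent.H6.B22
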