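import Cfsg.Agent.H7.B24L

/-! Two blocks `[45, 990, 1035]`: comparing the primes `3` and `7`. -/

set_option autoImplicit false

namespace Cfsg.Agent.H7.B24

open Cfsg Cfsg.Agent.H3 Cfsg.Agent.H2.D1 Finset
open Cfsg.Agent.H9.Def (m card_mul_m)
open scoped ComplexConjugate Classical

variable {G : Type*} [Group G] [Fintype G] {x w : G} {F : Finset (IrrCharacter G)}
  {bs : List (List (IrrCharacter G))}

namespace P5

instance fact7 : Fact (Nat.Prime 7) := ⟨by norm_num⟩

/-- The second weight. -/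
def W6 (d : ℕ) : ℤ := if d = 45 then 1 else if d = 990 then -1 else 0

theorem dg_tr : dg (triv : IrrCharacter G) = 1 := by
  have := dg_eq (triv : IrrCharacter G)
  simp only [Pi.one_apply] at this
  exact_mod_cast this.symm

theorem val7 (D : Data G x w) (h : BL F bs) (hF : ∀ ψ ∈ F, dg ψ ∈ [252, 5544, 5796])
    {χ : IrrCharacter G} {d : ℕ} (hd : dg χ = d) (hd' : d = 45 ∨ d = 990) {k : ℤ}
    (hr : ¬ relAll 7 d 5 W5 (fun _ u => u != k) (1 :: (dgs bs).flatten.erase d) = true) :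
    7 * ∑ ψ, m 7 χ ψ * (W5 (dg ψ) : ℂ) = k := by
  have hχ : χ ∈ bs.flatten := h.cov χ (by rcases hd' with e | e <;> rw [hd, e] <;> decide)
    fun e => by
      have := hF χ e
      simp only [List.mem_cons, List.not_mem_nil, or_false] at this
      omega
  obtain ⟨n, n0, a1, -, a2, a3, a4⟩ := rel_sound D (p := 7) (Or.inr rfl) (i := 5) hd
    (by rcases hd' with e | e <;> rw [e]) (l := triv :: bs.flatten.erase χ)
    (List.nodup_cons.2 ⟨fun e => (h.out _ (List.mem_of_mem_erase e)).2 rfl, h.nd.erase _⟩)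
    (fun e => by
      rcases List.mem_cons.1 e with e | e
      · exact (h.out _ hχ).2 e
      · exact h.nd.not_mem_erase e)
    (fun ψ e _ => by
      by_cases e1 : ψ = triv
      · exact Or.inl (e1 ▸ List.mem_cons_self)
      rcases D.deg ψ e1 with e2 | e2
      · by_cases e3 : ψ ∈ F
        · have := hF ψ e3
          simp only [List.mem_cons, List.not_mem_nil, or_false] at this
          exact Or.inr (Or.inr (by omega))
        · exact Or.inl (List.mem_cons_of_mem _ ((List.mem_erase_of_ne e).2 (h.cov ψ e2 e3)))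
      · exact Or.inr (Or.inl e2))
    (L := 1 :: (dgs bs).flatten.erase d)
    (by
      rw [List.map_cons, dg_tr, dgs_flatten, ← hd]
      exact (erase_perm hχ).cons _)
  have e : ∑ ψ, n ψ * W5 (dg ψ) = k := by
    by_contra e
    exact hr (relAll_of a2 a3 (a4 W5 _ (by decide) (by simpa using e)))
  rw [← e, mul_sum]
  push_cast
  exact sum_congr rfl fun ψ _ => by rw [← a1, mul_assoc]; rfl

theorem sum_zero (h : BL F bs) (hF : ∀ ψ ∈ F, dg ψ ∈ [252, 5544, 5796]) (W : ℕ → ℤ)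
    (hW : ∀ d, d ≠ 45 → d ≠ 990 → d ≠ 1035 → W d = 0) (g : G)
    (hs : ∀ b ∈ bs, b.map dg = [45, 990, 1035] ∨ ∀ ψ ∈ b, dg ψ ≠ 45 ∧ dg ψ ≠ 990 ∧ dg ψ ≠ 1035)
    (hg : ∀ c1 c2 c3 : IrrCharacter G, H9.Tri.TyA c1 c2 c3 →
      W 45 * (c1 : G → ℂ) g + (W 990 * (c2 : G → ℂ) g + W 1035 * (c3 : G → ℂ) g) = 0) :
    ∑ θ : IrrCharacter G, (W (dg θ) : ℂ) * (θ : G → ℂ) g = 0 := by
  rw [← sum_subset (subset_univ bs.flatten.toFinset) (fun θ _ e => by
    rw [hW, Int.cast_zero, zero_mul] <;>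
    · intro e1
      refine e (List.mem_toFinset.2 (h.cov θ (by rw [e1]; decide) fun e2 => ?_))
      have := hF θ e2
      simp only [List.mem_cons, List.not_mem_nil, or_false] at this
      omega), List.sum_toFinset _ h.nd, List.map_flatten, List.sum_flatten]
  refine List.sum_eq_zero fun z hz => ?_
  simp only [List.map_map, List.mem_map, Function.comp] at hz
  obtain ⟨b, hb, rfl⟩ := hz
  rcases hs b hb with e | e
  · rcases h.ty b hb with ⟨ψ, -, -, rfl⟩ | ⟨c1, c2, c3, rfl, -, -, -, -, ty, -⟩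
    · simp at e
    · simp only [List.map_cons, List.map_nil, List.cons.injEq, and_true] at e
      obtain ⟨e1, e2, e3⟩ := e
      rcases ty with ty | ty
      · simp only [List.map_cons, List.map_nil, List.sum_cons, List.sum_nil, add_zero, e1, e2, e3]
        exact hg _ _ _ ty
      · have := ty.dg
        omega
  · refine List.sum_eq_zero fun z hz => ?_
    obtain ⟨ψ, hψ, rfl⟩ := List.mem_map.1 hz
    obtain ⟨e1, e2, e3⟩ := e ψ hψ
    rw [hW _ e1 e2 e3, Int.cast_zero, zero_mul]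

end P5

open P5 in
theorem fP5_sound (D : Data G x w) (h : BL F bs) (hF : ∀ ψ ∈ F, dg ψ ∈ [252, 5544, 5796]) :
    fP5 (dgs bs) = true := by
  by_contra hc
  simp only [fP5, Bool.or_eq_true, not_or, Bool.not_eq_true', Bool.not_eq_false] at hc
  obtain ⟨hs, r1, r2⟩ := hc
  simp only [s5, Bool.and_eq_true, beq_iff_eq, List.all_eq_true, Bool.or_eq_true, bne_iff_ne]
    at hs
  obtain ⟨hs, c1, c2⟩ := hs
  have nF : ∀ d, d = 45 ∨ d = 990 → ∀ ψ ∈ F, dg ψ ≠ d := fun d hd ψ e => by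
    have := hF ψ e
    simp only [List.mem_cons, List.not_mem_nil, or_false] at this
    omega
  rw [h.count (by decide) (nF _ (Or.inl rfl))] at c1
  rw [h.count (by decide) (nF _ (Or.inr rfl))] at c2
  have hs' : ∀ b ∈ bs, b.map dg = [45, 990, 1035] ∨
      ∀ ψ ∈ b, dg ψ ≠ 45 ∧ dg ψ ≠ 990 ∧ dg ψ ≠ 1035 := fun b hb =>
    (hs _ (List.mem_map_of_mem hb)).imp id fun e ψ hψ => e _ (List.mem_map_of_mem hψ)
  have z1 : ∀ g, IsPReg 3 g → ∑ θ : IrrCharacter G, (W5 (dg θ) : ℂ) * (θ : G → ℂ) g = 0 :=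
    fun g hg => sum_zero h hF W5 (fun d a b c => by simp [W5, a, b, c]) g hs' fun c1 c2 c3 t => by
      simp only [W5]
      norm_num
      linear_combination t.1 g hg
  have z2 : ∀ g, ¬ IsPReg 3 g → ∑ θ : IrrCharacter G, (W6 (dg θ) : ℂ) * (θ : G → ℂ) g = 0 :=
    fun g hg => sum_zero h hF W6 (fun d a b _ => by simp [W6, a, b]) g hs' fun c1 c2 c3 t => by
      simp only [W6]
      norm_num
      linear_combination (t.2 g hg).1
  have z : ∑ χ : IrrCharacter G, (W6 (dg χ) : ℂ) * ∑ ψ, m 7 χ ψ * (W5 (dg ψ) : ℂ) = 0 := by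
    refine mul_left_cancel₀ (card_ne_zero' (G := G)) ?_
    have e : ∀ χ ψ : IrrCharacter G, (Nat.card G : ℂ) * ((W6 (dg χ) : ℂ) *
        (m 7 χ ψ * (W5 (dg ψ) : ℂ))) = ∑ g, regInd 7 G g * ((W6 (dg χ) : ℂ) * (χ : G → ℂ) g) *
          conj ((W5 (dg ψ) : ℂ) * (ψ : G → ℂ) g) := fun χ ψ => by
      rw [show (Nat.card G : ℂ) * ((W6 (dg χ) : ℂ) * (m 7 χ ψ * (W5 (dg ψ) : ℂ))) =
        (W6 (dg χ) : ℂ) * (W5 (dg ψ) : ℂ) * ((Nat.card G : ℂ) * m 7 χ ψ) by ring, card_mul_m,
        mul_sum]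
      refine sum_congr rfl fun g _ => ?_
      rw [map_mul, map_intCast]
      ring
    simp only [mul_sum, e, mul_zero]
    rw [sum_congr rfl fun χ _ => sum_comm, sum_comm]
    refine sum_eq_zero fun g _ => ?_
    simp only [← mul_sum, ← sum_mul, ← map_sum]
    by_cases hg : IsPReg 3 g
    · rw [z1 g hg, map_zero, mul_zero]
    · rw [z2 g hg, mul_zero, zero_mul]
  have t : ∀ χ : IrrCharacter G, 7 * ((W6 (dg χ) : ℂ) * ∑ ψ, m 7 χ ψ * (W5 (dg ψ) : ℂ)) =
      6 * (if dg χ = 45 then 1 else 0) - 7 * (if dg χ = 990 then 1 else 0) := fun χ => by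
    by_cases e1 : dg χ = 45
    · have := val7 D h hF e1 (Or.inl rfl) r1
      simp only [e1, W6]
      norm_num
      exact_mod_cast this
    by_cases e2 : dg χ = 990
    · have := val7 D h hF e2 (Or.inr rfl) r2
      simp only [e2, W6]
      norm_num
      push_cast at this
      linear_combination this / 7
    · simp [W6, e1, e2]
  have t2 := congrArg (7 * ·) z
  simp only [mul_zero] at t2
  rw [mul_sum, sum_congr rfl fun χ _ => t χ, sum_sub_distrib, ← mul_sum, ← mul_sum, sum_boole,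
    sum_boole] at t2
  change 6 * (cnt G 45 : ℂ) - 7 * (cnt G 990 : ℂ) = 0 at t2
  rw [c1, c2] at t2
  norm_num at t2

end Cfsg.Agent.H7.B24
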