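import Mathlib
import Cfsg.Agent.L0.C12S1
import Cfsg.Agent.H1.C12S3

/-!
# A self-centralizing elementary subgroup of order eight
-/

set_option autoImplicit false

namespace Cfsg.Agent.L0.C12

open Subgroup Cfsg.Agent.L0.SC3 Cfsg.Agent.H9 Cfsg.Agent.H1.T3

universe u

/-- Four classes of involutions and `C(A) = A` for `A = V⟨a⟩`. -/
structure Tri {G : Type u} [Group G] (x a : G) (V : Subgroup G) : Prop extends Ctx x a V where
  card : Nat.card V = 4
  n1 : ∀ v ∈ V, ¬ IsConj a v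
  n2 : ∀ v ∈ V, v ≠ 1 → ∃ u ∈ V, IsConj v (a * u)
  n3 : ∀ u ∈ V, ∀ u' ∈ V, IsConj (a * u) (a * u') → u = u'
  ca : ∀ g, (∀ v ∈ V, Commute g v) → Commute g a → g ∈ V ⊔ zpowers a
  big : ∀ v ∈ V, v ≠ 1 → 32 ∣ Nat.card (centralizer ({v} : Set G))

/-- The local data of an element `c` moving `A` inside its normalizer. -/
structure Lo {G : Type*} [Group G] (a v c : G) (A : Subgroup G) : Prop where
  v : Commute c v
  a : Commute c a
  out : c ∉ normalizer (A : Set G)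
  sq : c * c ∈ normalizer (A : Set G)
  mem : ∀ y ∈ A, c * y * c⁻¹ ∈ normalizer (A : Set G)

theorem cj_isConj {G : Type*} [Group G] (g y : G) : IsConj y (g * y * g⁻¹) := isConj_iff.2 ⟨g, rfl⟩

theorem cj_of_comm {G : Type*} [Group G] {g y : G} (h : Commute g y) : g * y * g⁻¹ = y :=
  mul_inv_eq_iff_eq_mul.2 h

theorem comm_of_cj {G : Type*} [Group G] {g y : G} (h : g * y * g⁻¹ = y) : Commute g y :=
  mul_inv_eq_iff_eq_mul.1 h

theorem comm_of_invol {G : Type*} [Group G] {a b : G} (ha : a * a = 1) (hb : b * b = 1)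
    (h : a * b * (a * b) = 1) : Commute a b := by
  rw [Commute, SemiconjBy, ← inv_eq_of_mul_eq_one_right h, mul_inv_rev,
    inv_eq_of_mul_eq_one_right ha, inv_eq_of_mul_eq_one_right hb]

namespace Tri

variable {G : Type u} [Group G] [Finite G] {x a : G} {V : Subgroup G} (c : Tri x a V)
include c

omit [Finite G] in
theorem aV : ∀ k ∈ V, a * k * a⁻¹ ∈ V := fun k hk => by rwa [cj_of_comm (c.sV k hk)]

theorem memA {g : G} (h : g ∈ V ⊔ zpowers a) : ∃ u ∈ V, g = u ∨ g = a * u := by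
  rcases (mem_sup_invol c.ss c.aV).1 h with h | h
  · exact ⟨g, h, Or.inl rfl⟩
  · exact ⟨_, h, Or.inr (by rw [(c.sV _ h).eq, mul_assoc, c.ss, mul_one])⟩

omit [Finite G] c in
theorem aA : a ∈ V ⊔ zpowers a := mem_sup_right (mem_zpowers a)

theorem commA {g k : G} (h : g ∈ V ⊔ zpowers a) (hv : ∀ v ∈ V, Commute k v) (ha : Commute k a) :
    Commute k g := by
  obtain ⟨u, hu, rfl | rfl⟩ := c.memA h
  exacts [hv _ hu, ha.mul_right (hv u hu)]

theorem abA {g k : G} (h : g ∈ V ⊔ zpowers a) (hk : k ∈ V ⊔ zpowers a) : Commute k g :=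
  c.commA h (fun v hv => (c.commA hk (fun _ h => c.comm hv h) (c.sV v hv).symm).symm)
    (c.commA hk c.sV (Commute.refl a)).symm

theorem twoA : IsPGroup 2 (V ⊔ zpowers a : Subgroup G) :=
  isPGroup_sup_invol c.ss c.aV (IsPGroup.of_card (n := 2) c.card)

theorem cardA : Nat.card (V ⊔ zpowers a : Subgroup G) = 8 := by
  rw [card_sup_invol c.ss c.aV c.s_notMem, c.card]

theorem fa {y : G} (hy : y ∈ V ⊔ zpowers a) (h : IsConj a y) : y = a := by
  obtain ⟨u, hu, rfl | rfl⟩ := c.memA hy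
  · exact absurd h (c.n1 _ hu)
  · rw [← c.n3 1 (one_mem _) u hu (by rwa [mul_one]), mul_one]

theorem ra {r : G} (hr : r ∈ normalizer (V ⊔ zpowers a : Subgroup G)) : Commute r a :=
  comm_of_cj (c.fa (conj_mem_of_mem_normalizer hr aA) (cj_isConj _ _))

theorem ca' {g v w : G} (hv : v ∈ V) (hw : w ∈ V) (v1 : v ≠ 1) (w1 : w ≠ 1) (vw : v ≠ w)
    (h1 : Commute g v) (h2 : Commute g w) (h3 : Commute g a) : g ∈ V ⊔ zpowers a := by
  refine c.ca g (fun u hu => ?_) h3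
  rcases mem_four c.card hv hw (c.sq hv) v1 w1 vw hu with rfl | rfl | rfl | rfl
  exacts [Commute.one_right _, h1, h2, h1.mul_right h2]

theorem normA {g v w : G} (hv : v ∈ V) (hw : w ∈ V) (v1 : v ≠ 1) (w1 : w ≠ 1) (vw : v ≠ w)
    (h1 : g * v * g⁻¹ ∈ V ⊔ zpowers a) (h2 : g * w * g⁻¹ ∈ V ⊔ zpowers a) (h3 : Commute g a) :
    g ∈ normalizer (V ⊔ zpowers a : Subgroup G) := by
  refine mem_normalizer_of_conj fun y hy => ?_
  have k : ∀ u ∈ V, g * u * g⁻¹ ∈ V ⊔ zpowers a := fun u hu => by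
    rcases mem_four c.card hv hw (c.sq hv) v1 w1 vw hu with rfl | rfl | rfl | rfl
    · simp
    · exact h1
    · exact h2
    · rw [← conj_mul]; exact mul_mem h1 h2
  obtain ⟨u, hu, rfl | rfl⟩ := c.memA hy
  · exact k _ hu
  · rw [← conj_mul, cj_of_comm h3]; exact mul_mem aA (k u hu)

theorem exS {v : G} (hv : v ∈ V) (v1 : v ≠ 1) : ∃ S : Subgroup G, IsPGroup 2 S ∧
    V ⊔ zpowers a ≤ S ∧ (∀ g ∈ S, Commute g v) ∧ 32 ≤ Nat.card S := by
  obtain ⟨S, hS, h⟩ := H9.exists_isSylowIn_ge (L := centralizer {v})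
    (fun y hy => SC3.mem_cent.2 (c.abA (mem_sup_left hv) hy)) c.twoA
  refine ⟨S, hS.isPGroup, h, fun g hg => SC3.mem_cent.1 (hS.le hg), ?_⟩
  have := c.big v hv v1
  rw [← card_mul_relIndex_of_le hS.le] at this
  exact Nat.le_of_dvd Nat.card_pos (Nat.Coprime.dvd_of_dvd_mul_right (Nat.Coprime.pow_left 5
    ((Nat.Prime.coprime_iff_not_dvd Nat.prime_two).2 hS.not_dvd)) this)

theorem cl {v y : G} (hv : v ∈ V) (v1 : v ≠ 1) (hy : y ∈ V ⊔ zpowers a) (h : IsConj v y) :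
    y = v ∨ y = a * v := by
  obtain ⟨u, hu, e⟩ := c.n2 v hv v1
  have k : ∀ y ∈ V ⊔ zpowers a, IsConj v y → y = v ∨ y = a * u := fun y hy h => by
    obtain ⟨u', hu', rfl | rfl⟩ := c.memA hy
    · exact Or.inl (c.eq_of_isConj hv hu' h).symm
    · exact Or.inr (by rw [c.n3 u hu u' hu' (e.symm.trans h)])
  obtain ⟨S, hS, h1, h2, h3⟩ := c.exS hv v1
  obtain ⟨r, hr, r1, r2⟩ := H7.exists_mem_normalizer_of_lt hS.isNilpotent
    (lt_of_le_of_ne h1 fun e => by rw [← e, c.cardA] at h3; omega)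
  suffices u = v from this ▸ k y hy h
  by_contra uv
  rcases k _ (conj_mem_of_mem_normalizer r2 (mul_mem aA (mem_sup_left hu)))
    (e.trans (cj_isConj _ _)) with e1 | e1
  · rw [← cj_of_comm (h2 r hr), mul_left_inj, mul_right_inj] at e1
    exact c.s_notMem ((mul_mem_cancel_right hu).1 (e1 ▸ hv))
  · rw [← conj_mul, cj_of_comm (c.ra r2), mul_right_inj] at e1
    exact r1 (c.ca' hu hv (by rintro rfl; exact c.n1 v hv (by simpa using e.symm)) v1 uv
      (comm_of_cj e1) (h2 r hr) (c.ra r2))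

theorem act {r v : G} (hr : r ∈ normalizer (V ⊔ zpowers a : Subgroup G)) (hv : v ∈ V)
    (v1 : v ≠ 1) : r * v * r⁻¹ = v ∨ r * v * r⁻¹ = a * v :=
  c.cl hv v1 (conj_mem_of_mem_normalizer hr (mem_sup_left hv)) (cj_isConj _ _)

theorem mulA {r r' v : G} (hv : v ∈ V) (v1 : v ≠ 1)
    (hr : r ∈ normalizer (V ⊔ zpowers a : Subgroup G))
    (hr' : r' ∈ normalizer (V ⊔ zpowers a : Subgroup G)) (h : Commute r v) (h' : Commute r' v)
    (k : r ∉ V ⊔ zpowers a) (k' : r' ∉ V ⊔ zpowers a) : r * r' ∈ V ⊔ zpowers a := by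
  obtain ⟨w, hw, w1, wv⟩ := exists_ne_two c.card v
  have e : ∀ r ∈ normalizer (V ⊔ zpowers a : Subgroup G), Commute r v → r ∉ V ⊔ zpowers a →
      r * w * r⁻¹ = a * w := fun r hr h k => (c.act hr hw w1).resolve_left fun e =>
    k (c.ca' hw hv w1 v1 wv (comm_of_cj e) h (c.ra hr))
  refine c.ca' hw hv w1 v1 wv (comm_of_cj ?_) (h.mul_left h') ((c.ra hr).mul_left (c.ra hr'))
  rw [show r * r' * w * (r * r')⁻¹ = r * (r' * w * r'⁻¹) * r⁻¹ by group, e r' hr' h' k', ← conj_mul,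
    e r hr h k, cj_of_comm (c.ra hr), ← mul_assoc, c.ss, one_mul]

theorem loc {v : G} (hv : v ∈ V) (v1 : v ≠ 1) : ∃ d, Lo a v d (V ⊔ zpowers a) := by
  obtain ⟨S, hS, h1, h2, h3⟩ := c.exS hv v1
  have h4 := card_half (A := S ⊓ normalizer (V ⊔ zpowers a : Subgroup G)) (D := V ⊔ zpowers a)
    fun r hr r' hr' => c.mulA hv v1 hr.2 hr'.2 (h2 r hr.1) (h2 r' hr'.1)
  have h5 := card_le_of_le (inf_le_right (a := S ⊓ normalizer (V ⊔ zpowers a : Subgroup G))
    (b := V ⊔ zpowers a))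
  rw [c.cardA] at h5
  obtain ⟨m, hm, m1, m2⟩ := H7.exists_mem_normalizer_of_lt hS.isNilpotent
    (lt_of_le_of_ne (inf_le_left (b := normalizer (V ⊔ zpowers a : Subgroup G)))
      fun e => by rw [← e] at h3; omega)
  obtain ⟨d, hd, d1, d2⟩ := exists_sq_mem (El2.of_mem hS hm) m1
  have dS := zpowers_le.2 hm hd
  have dN := zpowers_le.2 m2 hd
  have k : ∀ d ∈ normalizer (S ⊓ normalizer (V ⊔ zpowers a : Subgroup G) : Subgroup G),
      ∀ y ∈ V ⊔ zpowers a, d * y * d⁻¹ ∈ normalizer (V ⊔ zpowers a : Subgroup G) := fun d h y hy =>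
    (conj_mem_of_mem_normalizer h (mem_inf.2 ⟨h1 hy, le_normalizer hy⟩)).2
  have k1 : ∀ y ∈ V ⊔ zpowers a, Commute (d * a * d⁻¹) y := fun y hy => by
    simpa [mul_assoc] using Commute.cj (c.ra (k _ (inv_mem dN) y hy)).symm d
  exact ⟨d, h2 d dS, comm_of_cj (c.fa (c.ca _ (fun v hv => k1 v (mem_sup_left hv)) (k1 a aA))
    (cj_isConj _ _)), fun h => d1 ⟨dS, h⟩, d2.2, k d dN⟩

variable {v d : G} (hv : v ∈ V) (v1 : v ≠ 1) (l : Lo a v d (V ⊔ zpowers a))
include hv v1 l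

theorem out {w : G} (hw : w ∈ V) (w1 : w ≠ 1) (vw : v ≠ w) : d * w * d⁻¹ ∉ V ⊔ zpowers a :=
  fun h => l.out (c.normA hv hw v1 w1 vw (by rw [cj_of_comm l.v]; exact mem_sup_left hv) h l.a)

theorem inv {y : G} (hy : y ∈ normalizer (V ⊔ zpowers a : Subgroup G)) (h : Commute y v)
    (k : y ∉ V ⊔ zpowers a) (y2 : y * y = 1) : d⁻¹ * y * d ∈ V ⊔ zpowers a := by
  obtain ⟨w, hw, w1, wv⟩ := exists_ne_two c.card v
  have m := l.mem w (mem_sup_left hw)
  have o := c.out hv v1 l hw w1 wv.symm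
  have cv : Commute (d * w * d⁻¹) v := by
    simpa only [cj_of_comm l.v] using Commute.cj (c.comm hw hv) d
  have w2 : d * w * d⁻¹ * (d * w * d⁻¹) = 1 := by rw [conj_mul, c.sq hw]; group
  have m1 := c.mulA hv v1 hy m h cv k o
  have e : Commute (d * w * d⁻¹) (y * (d * w * d⁻¹)) := by
    have h2 : ∀ g ∈ V ⊔ zpowers a, g * g = 1 := fun g hg => by
      obtain ⟨u, hu, rfl | rfl⟩ := c.memA hg
      · exact c.sq hu
      · rw [mul_assoc, ← mul_assoc u, ← (c.sV u hu).eq, mul_assoc, c.sq hu, mul_one, c.ss]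
    exact (comm_of_invol y2 w2 (h2 _ m1)).symm.mul_right (Commute.refl _)
  have e1 : Commute d (y * (d * w * d⁻¹)) := by
    have k1 : ∀ u ∈ V, Commute (d * w * d⁻¹) u → Commute d u := fun u hu h => by
      by_cases u1 : u = 1
      · rw [u1]; exact Commute.one_right _
      by_cases uv : u = v
      · rw [uv]; exact l.v
      exact absurd (c.ca' hu hv u1 v1 uv h cv (c.ra m)) o
    obtain ⟨u, hu, e2 | e2⟩ := c.memA m1 <;> rw [e2] at e ⊢
    · exact k1 u hu e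
    · exact l.a.mul_right (k1 u hu (by simpa using (c.ra m).inv_right.mul_right e))
  rw [show d⁻¹ * y * d = d⁻¹ * (y * (d * w * d⁻¹)) * d⁻¹⁻¹ * w⁻¹ by group, cj_of_comm e1.inv_left]
  exact mul_mem m1 (inv_mem (mem_sup_left hw))

theorem nR {r : G} (hr : r ∈ normalizer (V ⊔ zpowers a : Subgroup G)) :
    d * r * d⁻¹ ∈ normalizer (V ⊔ zpowers a : Subgroup G) := by
  suffices ∀ r ∈ normalizer (V ⊔ zpowers a : Subgroup G),
      d⁻¹ * r * d ∈ normalizer (V ⊔ zpowers a : Subgroup G) by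
    convert this _ (mul_mem (mul_mem l.sq hr) (inv_mem l.sq)) using 1
    group
  intro r hr
  obtain ⟨w, hw, w1, wv⟩ := exists_ne_two c.card v
  have m := l.mem w (mem_sup_left hw)
  refine c.normA hv hw v1 w1 wv.symm ?_ ?_ ((l.a.inv_left.mul_left (c.ra hr)).mul_left l.a)
  · rw [show d⁻¹ * r * d * v * (d⁻¹ * r * d)⁻¹ = d⁻¹ * (r * (d * v * d⁻¹) * r⁻¹) * d⁻¹⁻¹ by group,
      cj_of_comm l.v]
    rcases c.act hr hv v1 with e | e <;> rw [e]
    · rw [cj_of_comm l.v.inv_left]; exact mem_sup_left hv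
    · rw [cj_of_comm (l.a.mul_right l.v).inv_left]; exact mul_mem aA (mem_sup_left hv)
  · rw [show d⁻¹ * r * d * w * (d⁻¹ * r * d)⁻¹ = d⁻¹ * (r * (d * w * d⁻¹) * r⁻¹) * d by group]
    refine c.inv hv v1 l (mul_mem (mul_mem hr m) (inv_mem hr)) ?_
      (fun h => c.out hv v1 l hw w1 wv.symm ((mem_normalizer_iff.1 hr _).2 h))
      (by rw [conj_mul, conj_mul, c.sq hw]; group)
    have cv : Commute (d * w * d⁻¹) v := by
      simpa only [cj_of_comm l.v] using Commute.cj (c.comm hw hv) d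
    have : Commute (d * w * d⁻¹) (r⁻¹ * v * r⁻¹⁻¹) := by
      rcases c.act (inv_mem hr) hv v1 with e | e <;> rw [e]
      exacts [cv, (c.ra m).mul_right cv]
    simpa [mul_assoc] using Commute.cj this r

theorem pair {u y : G} (hu : u ∈ V) (u1 : u ≠ 1)
    (hy : y ∈ normalizer (V ⊔ zpowers a : Subgroup G)) (h : Commute y v) (k : y ∉ V ⊔ zpowers a)
    (e : IsConj u y) : y = d * u * d⁻¹ ∨ y = a * (d * u * d⁻¹) := by
  have y2 : y * y = 1 := by
    obtain ⟨g, rfl⟩ := isConj_iff.1 e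
    rw [conj_mul, c.sq hu]; group
  rcases c.cl hu u1 (c.inv hv v1 l hy h k y2) (e.trans (isConj_iff.2 ⟨d⁻¹, by rw [inv_inv]⟩))
    with e | e
  · exact Or.inl (by rw [← e]; group)
  · exact Or.inr (by rw [← cj_of_comm l.a, conj_mul, ← e]; group)

omit hv v1 l in
theorem false : False := by
  obtain ⟨v, hv, v1, -⟩ := exists_ne_two c.card 1
  obtain ⟨w, hw, w1, wv⟩ := exists_ne_two c.card v
  have hz := mul_mem hv hw
  have z1 : v * w ≠ 1 := fun e => wv (by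
    rw [eq_inv_of_mul_eq_one_right e, inv_eq_of_mul_eq_one_right (c.sq hv)])
  have zv : v * w ≠ v := by simpa using w1
  have zw : v * w ≠ w := by simpa using v1
  obtain ⟨d1, l1⟩ := c.loc hv v1
  obtain ⟨d2, l2⟩ := c.loc hw w1
  obtain ⟨d3, l3⟩ := c.loc hz z1
  let E : G → G → Prop := fun p y => y = p ∨ y = a * p
  have Ec : ∀ {g p y}, Commute g a → E p y → E (g * p * g⁻¹) (g * y * g⁻¹) := by
    rintro g p y h (rfl | rfl)
    exacts [Or.inl rfl, Or.inr (by rw [← conj_mul, cj_of_comm h])]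
  have aa : ∀ p, a * (a * p) = p := fun p => by rw [← mul_assoc, c.ss, one_mul]
  have Es : ∀ {p y}, E p y → E y p := by
    rintro p y (rfl | rfl)
    exacts [Or.inl rfl, Or.inr (aa p).symm]
  have Et : ∀ {p q y}, E p q → E q y → E p y := by
    rintro p q y (rfl | rfl) (rfl | rfl)
    exacts [Or.inl rfl, Or.inr rfl, Or.inr rfl, Or.inl (aa p)]
  have Ei : ∀ {g p y}, Commute g a → E (g * p * g⁻¹) (g * y * g⁻¹) → E p y := fun {g p y} h e => by
    simpa [mul_assoc] using Ec h.inv_left e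
  have cls : ∀ y ∈ normalizer (V ⊔ zpowers a : Subgroup G), IsConj v y →
      E v y ∨ E (d2 * v * d2⁻¹) y ∨ E (d3 * v * d3⁻¹) y := fun y hy e => by
    by_cases k : y ∈ V ⊔ zpowers a
    · exact Or.inl (c.cl hv v1 k e)
    rcases c.act hy hv v1 with e1 | e1
    · exact Or.inl (cj_of_comm l1.v ▸ c.pair hv v1 l1 hv v1 hy (comm_of_cj e1) k e)
    rcases c.act hy hw w1 with e2 | e2
    · exact Or.inr (Or.inl (c.pair hw w1 l2 hv v1 hy (comm_of_cj e2) k e))
    refine Or.inr (Or.inr (c.pair hz z1 l3 hv v1 hy (comm_of_cj ?_) k e))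
    rw [← conj_mul, e1, e2, mul_assoc, ← mul_assoc v, ← (c.sV v hv).eq, mul_assoc, aa]
  have EA : ∀ {y}, E v y → y ∈ V ⊔ zpowers a := by
    rintro y (rfl | rfl)
    exacts [mem_sup_left hv, mul_mem aA (mem_sup_left hv)]
  have o2 : ¬ E v (d2 * v * d2⁻¹) := fun h => c.out hw w1 l2 hv v1 wv (EA h)
  have o3 : ¬ E v (d3 * v * d3⁻¹) := fun h => c.out hz z1 l3 hv v1 zv (EA h)
  have m2 := l2.mem v (mem_sup_left hv)
  have m3 := l3.mem v (mem_sup_left hv)
  have o23 : ¬ E (d3 * v * d3⁻¹) (d2 * v * d2⁻¹) := fun h => by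
    have c3 : Commute (d3 * v * d3⁻¹) (v * w) := by
      simpa only [cj_of_comm l3.v] using Commute.cj (c.comm hv hz) d3
    refine c.out hw w1 l2 hv v1 wv (c.ca' hw hz w1 z1 zw.symm (by
      simpa only [cj_of_comm l2.v] using Commute.cj (c.comm hv hw) d2) ?_ (c.ra m2))
    rcases h with h | h <;> rw [h]
    exacts [c3, (c.sV _ hz).mul_left c3]
  have sq : ∀ {d u}, Lo a u d (V ⊔ zpowers a) → E v (d * (d * v * d⁻¹) * d⁻¹) := fun {d u} l => by
    have := c.act l.sq hv v1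
    rwa [show d * d * v * (d * d)⁻¹ = d * (d * v * d⁻¹) * d⁻¹ by group] at this
  have f23 : E (d3 * v * d3⁻¹) (d2 * (d3 * v * d3⁻¹) * d2⁻¹) := by
    rcases cls _ (c.nR hw w1 l2 m3) ((cj_isConj _ _).trans (cj_isConj _ _)) with e | e | e
    exacts [absurd (Ei l2.a (Et (Es e) (sq l2))) o23, absurd (Ei l2.a e) o3, e]
  have f32 : E (d2 * v * d2⁻¹) (d3 * (d2 * v * d2⁻¹) * d3⁻¹) := by
    rcases cls _ (c.nR hz z1 l3 m2) ((cj_isConj _ _).trans (cj_isConj _ _)) with e | e | e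
    exacts [absurd (Es (Ei l3.a (Et (Es e) (sq l3)))) o23, e, absurd (Ei l3.a e) o2]
  have ga := l2.a.mul_left l3.a
  have g0 : ∀ y, d2 * d3 * y * (d2 * d3)⁻¹ = d2 * (d3 * y * d3⁻¹) * d2⁻¹ := fun y => by group
  let K : Subgroup G :=
    { carrier := {g | Commute g a ∧ E v (g * v * g⁻¹)}
      one_mem' := ⟨Commute.one_left _, Or.inl (by group)⟩
      mul_mem' := fun {g h} hg hh => ⟨hg.1.mul_left hh.1, Et hg.2 (by
        simpa [mul_assoc] using Ec hg.1 hh.2)⟩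
      inv_mem' := fun {g} hg => ⟨hg.1.inv_left, Ei hg.1 (by simpa [mul_assoc] using Es hg.2)⟩ }
  have k : d2 * d3 ∈ K := by
    refine mem_of_cube_mem (B := centralizer {a}) (fun b hb b3 => by_contra fun b1 => ?_)
      (SC3.mem_cent.2 ga) ⟨ga.pow_left 3, ?_⟩
    · obtain ⟨u, hu, e⟩ := c.isConj_of_commute c.ss b1 b3 (SC3.mem_cent.1 hb)
      exact c.n1 u hu e
    · rw [show (d2 * d3) ^ 3 * v * ((d2 * d3) ^ 3)⁻¹ = d2 * d3 * (d2 * d3 *
        (d2 * d3 * v * (d2 * d3)⁻¹) * (d2 * d3)⁻¹) * (d2 * d3)⁻¹ by rw [pow_three]; group]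
      refine Et ?_ (Ec ga (Et (p := d2 * v * d2⁻¹) ?_ (Ec ga (g0 v ▸ f23))))
      · rw [g0]; exact Et (sq l2) (Ec l2.a f32)
      · rw [g0]; exact Ec l2.a (sq l3)
  exact o3 (Et (g0 v ▸ k.2) (Es f23))

end Tri

end Cfsg.Agent.L0.C12
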