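import Mathlib
import Cfsg.Agent.H3.C12IIa

/-!
# Centralizers of type II in the configuration with `|V| = 4`
-/

set_option autoImplicit false

namespace Cfsg.Agent.L0.C12

open Subgroup Cfsg.Agent.L0.SC3 Cfsg.Agent.H9 Cfsg.Agent.H1.T3
open scoped MatrixGroups

universe u

theorem one_class {S : Type*} [Group S] [Finite S] (hs : IsSimpleGroup S) {y u : S} (y1 : y ≠ 1)
    (y3 : y ^ 3 = 1) {A : Subgroup S} (hi : A.index % 4 = 2) (hu : u * u = 1) :
    ∃ g, g * u * g⁻¹ ∈ A := by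
  by_contra! h
  obtain ⟨N, hN, k⟩ := thompson_transfer (L := ⊤) (A := A) (by rwa [relIndex_top_right])
    (mem_top u) hu fun g _ => h g
  rcases hs.eq_bot_or_eq_top_of_normal N ⟨fun n hn g => (hN.conj trivial trivial).2 hn⟩ with e | e
  · exact y1 (mem_bot.1 (e ▸ hN.cube trivial y3))
  · exact k (e ▸ mem_top u)

theorem mem_of_eq_one {S : Type*} [Group S] {K : Subgroup S} {g : S} (h : g = 1) : g ∈ K :=
  h ▸ one_mem K

set_option synthInstance.maxSize 2000 in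
set_option synthInstance.maxHeartbeats 200000 in
theorem l7_four0 : ∃ y c : L7, y ≠ 1 ∧ y ^ 3 = 1 ∧ c ^ 2 ≠ 1 ∧ c ^ 4 = 1 ∧ ∀ a : L7, a * a = 1 →
    a * c = c * a → a = 1 ∨ a = c * c := by
  refine ⟨QuotientGroup.mk' _ (sfm 7 0 1 6 6 rfl), QuotientGroup.mk' _ (sfm 7 0 1 6 3 rfl),
    ?_, ?_, ?_, ?_, fun u => ?_⟩
  · simp only [← map_one (QuotientGroup.mk' (center SL(2, ZMod 7))), sf_mk_eq, ne_eq]
    decide +kernel
  · simp only [← map_pow, ← map_one (QuotientGroup.mk' (center SL(2, ZMod 7))), sf_mk_eq]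
    decide +kernel
  · simp only [← map_pow, ← map_one (QuotientGroup.mk' (center SL(2, ZMod 7))), sf_mk_eq, ne_eq]
    decide +kernel
  · simp only [← map_pow, ← map_one (QuotientGroup.mk' (center SL(2, ZMod 7))), sf_mk_eq]
    decide +kernel
  obtain ⟨A, rfl⟩ := QuotientGroup.mk'_surjective _ u
  obtain ⟨a, b, c, d, h, rfl⟩ : ∃ a b c d h, A = sfm 7 a b c d h :=
    ⟨A.1 0 0, A.1 0 1, A.1 1 0, A.1 1 1, by rw [← Matrix.det_fin_two]; exact A.2,
      Subtype.ext (Matrix.eta_fin_two _)⟩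
  simp only [← map_mul, ← map_one (QuotientGroup.mk' (center SL(2, ZMod 7))), sf_mk_eq]
  revert a b c d
  decide +kernel

theorem l7_four {u : L7} (hu : u * u = 1) (u1 : u ≠ 1) : ∃ c : L7, Commute c u ∧ ∀ a : L7,
    a * a = 1 → Commute a c → a = 1 ∨ a = u := by
  obtain ⟨y, c, y1, y3, c2, c4, h⟩ := l7_four0
  have : Fact (Nat.Prime 2) := ⟨Nat.prime_two⟩
  have o : orderOf c = 2 ^ 2 := orderOf_eq_prime_pow (by rwa [pow_one]) c4
  obtain ⟨g, n, e⟩ := one_class sf7.simple y1 y3 (A := zpowers c) (by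
    have := (zpowers c).index_mul_card
    rw [Nat.card_zpowers, o, card_psl27] at this
    omega) hu
  have e1 := (h (g * u * g⁻¹) (by rw [conj_mul, hu]; group)
    (e ▸ (Commute.refl c).zpow_left n)).resolve_left (by simpa using u1)
  refine ⟨g⁻¹ * c * g, ?_, fun a ha k => (h (g * a * g⁻¹) (by rw [conj_mul, ha]; group)
    (by simpa [mul_assoc] using (Commute.cj k g).eq)).imp (by simp) fun k => by simpa using k.trans e1.symm⟩
  have := Commute.cj ((Commute.refl c).mul_right (Commute.refl c)) g⁻¹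
  rw [← e1] at this
  simpa [mul_assoc] using this

variable {G : Type u} [Group G] [Finite G] {x s : G} {V : Subgroup G}

theorem Ctx.normV (c : Ctx x s V) {g : G} (h : ∀ v ∈ V, g * v * g⁻¹ ∈ V) :
    g ∈ centralizer (V : Set G) := fun v hv =>
  (comm_of_cj (c.eq_of_isConj hv (h v hv) (cj_isConj _ _)).symm).symm

theorem Ctx.eq_V (c : Ctx x s V) {B : Subgroup G} (hB : IsPGroup 2 B) (hV : V ≤ B)
    (h : ∀ g ∈ B, g ∈ centralizer (V : Set G) → g ∈ V) : B = V := by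
  by_contra e
  obtain ⟨g, hg, g1, g2⟩ := H7.exists_mem_normalizer_of_lt hB.isNilpotent
    (lt_of_le_of_ne hV (Ne.symm e))
  exact g1 (h g hg (c.normV fun v => conj_mem_of_mem_normalizer g2))

omit [Finite G] in
theorem cV_le {v : G} (hv : v ∈ V) : centralizer (V : Set G) ≤ centralizer {v} :=
  centralizer_le (Set.singleton_subset_iff.2 hv)

omit [Finite G] in
theorem Ctx.v_mem (c : Ctx x s V) {v : G} (hv : v ∈ V) {K M : Subgroup G}
    (h : TII x (centralizer {v}) K M) : zpowers v ≤ K :=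
  h.max _ (zpowers_le.2 (SC3.mem_cent.2 rfl)) (fun l hl n hn => by
    obtain ⟨k, rfl⟩ := hn
    rw [cj_of_comm (Commute.zpow_right (SC3.mem_cent.1 hl) k)]
    exact ⟨k, rfl⟩) fun hx => c.t3.ne (by
      have := c.sq (zpowers_le.2 hv hx)
      rw [← c.t3.cube, pow_three', this, one_mul])

namespace C4

variable (c : C4 x s V)
include c

theorem uniq (h : ∀ v ∈ V, v ≠ 1 → fcl s V v = 1) {u u' : G} (hu : u ∈ V) (hu' : u' ∈ V)
    (e : IsConj (s * u) (s * u')) : u = u' := by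
  by_cases hn : ∀ v ∈ V, ¬ IsConj (s * u) v
  · obtain ⟨a, ha, a1, -⟩ := exists_ne_two c.card 1
    obtain ⟨b, hb, b1, ab⟩ := exists_ne_two c.card a
    have h1 := c.sum_fcl ha hb a1 b1 ab.symm
    rw [h a ha a1, h b hb b1, h _ (mul_mem ha hb) (c.mul_ne_one ha ab.symm)] at h1
    exact congrArg (fun a => (a.1 : G)) ((Finite.card_le_one_iff_subsingleton.1 (show Nat.card
      {w : V // ∀ v ∈ V, ¬ IsConj (s * w) v} ≤ 1 by omega)).elim ⟨⟨u, hu⟩, hn⟩
      ⟨⟨u', hu'⟩, fun v hv k => hn v hv (e.trans k)⟩)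
  · push Not at hn
    obtain ⟨v, hv, k⟩ := hn
    exact congrArg (fun a => (a.1 : G)) ((Finite.card_le_one_iff_subsingleton.1 (h v hv (by
      rintro rfl; exact (c.shift hu).s_ne (isConj_one_left.1 k))).le).elim ⟨⟨u, hu⟩, k.symm⟩
      ⟨⟨u', hu'⟩, k.symm.trans e⟩)

theorem p2 (h0 : TI x (centralizer (V : Set G)) V)
    (h : ∀ v ∈ V, v ≠ 1 → Nat.card (centralizer ({v} : Set G)) = 672) : False := by
  obtain ⟨h1, w, hw, hn⟩ := c.exists_new fun v hv v1 w hw w1 => by rw [h v hv v1, h w hw w1]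
  have c' := c.shift hw
  refine Tri.false (x := x) ⟨c', c.card, hn, fun v hv v1 => ?_, fun u hu u' hu' e => ?_,
    fun g h1 h2 => ?_, fun v hv v1 => by rw [h v hv v1]; norm_num⟩
  · obtain ⟨u, hu, e⟩ := c.fpos v (c.sq hv) v1
    exact ⟨_, mul_mem hw hu, by rwa [mul_assoc, ← mul_assoc w, c.sq hw, one_mul]⟩
  · rw [mul_assoc, mul_assoc] at e
    exact mul_left_cancel (c.uniq h1 (mul_mem hw hu) (mul_mem hw hu') e)
  · exact h0.mem_S_of_norm c.t3 (fun v hv => (c'.sV v hv).symm) c'.sx c'.ss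
      (fun v hv => (h1 v hv).symm) (by rw [cj_of_comm h2]; exact Tri.aA)

variable {v : G} (hv : v ∈ V) (v1 : v ≠ 1) {K M : Subgroup G} (h : TII x (centralizer {v}) K M)
include hv v1 h

theorem q7 : Quo L7 K M := h.quo.resolve_right fun q => by
  obtain ⟨KV, w, hw, wM, wK⟩ := c.L13' h q
  have vK := c.v_mem hv h (mem_zpowers v)
  have w1 : w ≠ 1 := fun e => wK (e ▸ one_mem _)
  have VM : V ≤ M := fun g hg => by
    rcases mem_four c.card hv hw (c.sq hv) v1 w1 (fun e => wK (e ▸ vK)) hg with rfl | rfl | rfl | rfl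
    exacts [one_mem _, h.le vK, wM, mul_mem (h.le vK) wM]
  obtain ⟨u, hu, e⟩ := c.fpos v (c.sq hv) v1
  have c' := c.shift hu
  obtain ⟨m, hm, k, -, k1, k2, e1⟩ := h.fra _ (c'.s_mem hv)
  have sM : s * u ∈ M := e1 ▸ mul_mem hm (VM ((c.memV k).2 ⟨k1, k2⟩))
  obtain ⟨π, hπ, hk⟩ := q
  have := sf13.finite
  have : Fact (Nat.Prime 2) := ⟨Nat.prime_two⟩
  have o : orderOf (π ⟨w, wM⟩) = 2 := orderOf_eq_prime (by
    rw [← map_pow, hk, pow_two]; exact mem_of_eq_one (c.sq hw)) fun e => wK ((hk _).1 e)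
  obtain ⟨g, n, e2⟩ := one_class sf13.simple (y := π ⟨x, h.mem⟩)
    (fun e => c.t3.ne (h.cube x ((hk _).1 e) c.t3.cube))
    (by rw [← map_pow, hk]; exact mem_of_eq_one c.t3.cube) (A := zpowers (π ⟨w, wM⟩)) (by
      have := (zpowers (π ⟨w, wM⟩)).index_mul_card
      rw [Nat.card_zpowers, o, card_L13] at this
      omega) (u := π ⟨_, sM⟩) (by rw [← map_mul, hk]; exact mem_of_eq_one c'.ss)
  obtain ⟨g, rfl⟩ := hπ g
  have e3 : (g : G) * (s * u) * (g : G)⁻¹ ∈ V := by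
    have := (hk ((⟨w, wM⟩ ^ n)⁻¹ * (g * ⟨_, sM⟩ * g⁻¹))).1 (by
      rw [map_mul, map_inv, map_zpow, map_mul, map_mul, map_inv, ← e2, inv_mul_cancel])
    exact (mul_mem_cancel_left (inv_mem (zpow_mem hw n))).1 (KV this)
  have e4 := c.eq_of_isConj hv e3 (e.trans (cj_isConj _ _))
  rw [← cj_of_comm (SC3.mem_cent.1 (h.le' g.2)), mul_left_inj, mul_right_inj] at e4
  exact c'.s_notMem (e4 ▸ hv)

theorem card_P (hV : ¬ V ≤ K) : Nat.card (centralizer ({v} : Set G)) ≤ 672 := by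
  have vK := c.v_mem hv h
  have k : ∀ B : Subgroup G, v ∈ B → ¬ V ≤ B → ∀ b ∈ B, b ∈ V → b ∈ zpowers v :=
    fun B hB hV b hb bV => by
      by_contra k
      refine hV fun g hg => ?_
      rcases mem_four c.card hv bV (c.sq hv) v1 (fun e => k (e ▸ one_mem _))
        (fun e => k (e ▸ mem_zpowers v)) hg with rfl | rfl | rfl | rfl
      exacts [one_mem _, hB, hb, mul_mem hB hb]
  have nz : ∀ l ∈ centralizer ({v} : Set G), ∀ d ∈ zpowers v, l * d * l⁻¹ ∈ zpowers v :=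
    fun l hl d ⟨n, e⟩ => ⟨n, by rw [← e, cj_of_comm (Commute.zpow_right (SC3.mem_cent.1 hl) n)]⟩
  have Kv : K ≤ zpowers v := h.L0 c.t3 ⟨c.t3.cube, c.t3.ne, ⟨h.nK x (c.x_mem hv), h.cube⟩, vK,
    fun b hb => nz b (h.le' (h.le hb)), nz x (c.x_mem hv), fun b hb e =>
      k K (vK (mem_zpowers v)) hV b hb (c.mem_of_commute h.cube hb e)⟩ (c.Lodd h) nz h.nK
  have : Fact (Nat.Prime 2) := ⟨Nat.prime_two⟩
  have h1 := card_le_of_le Kv
  rw [Nat.card_zpowers, orderOf_eq_prime (by rw [pow_two, c.sq hv]) v1] at h1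
  have h2 := (c.q7 hv v1 h).card h.le
  rw [card_psl27] at h2
  have h3 := card_half (A := centralizer {v}) (D := M) fun a ha b hb a1 b1 => by
    obtain ⟨m, hm, d, -, d1, d2, rfl⟩ := h.fra a ha
    obtain ⟨m', hm', d', -, d1', d2', rfl⟩ := h.fra b hb
    have dV := (c.memV d).2 ⟨d1, d2⟩
    have dV' := (c.memV d').2 ⟨d1', d2'⟩
    have vM := h.le (vK (mem_zpowers v))
    rw [show m * d * (m' * d') = m * (d * m' * d⁻¹) * (d * d') by group]
    refine mul_mem (mul_mem hm (h.nM d (c.le_cent hv dV) _ hm')) ?_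
    rw [mul_mem_cancel_left hm] at a1
    rw [mul_mem_cancel_left hm'] at b1
    rcases mem_four c.card hv dV (c.sq hv) v1 (fun e => a1 (e ▸ one_mem _)) (fun e => a1 (e ▸ vM))
      dV' with rfl | rfl | rfl | rfl
    · exact absurd (one_mem _) b1
    · exact absurd vM b1
    · rw [d2]; exact one_mem _
    · rwa [← mul_assoc, (c.comm dV hv).eq, mul_assoc, d2, mul_one]
  have h4 := card_le_of_le (inf_le_right (a := centralizer ({v} : Set G)) (b := M))
  omega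

theorem two0 {K0 : Subgroup G} (h0 : TI x (centralizer (V : Set G)) K0) : IsPGroup 2 K0 := by
  by_contra h2
  obtain ⟨F, hF, -, nc, ho, -⟩ := c.exists_noncyclic h0 (fun v hv => (c.sV v hv).symm) h2
  obtain ⟨k, hk⟩ := (c.Lodd h).exists_card_eq
  have h1 := (card_dvd_of_le (hF.trans (h0.le.trans (cV_le hv)))).trans (c.card_dvd h)
  rw [(c.q7 hv v1 h).card h.le, card_psl27, hk, show 2 ^ k * 168 * 4 = 2 ^ (k + 5) * (3 * 7) by ring]
    at h1
  have h3 : ¬ 3 ∣ Nat.card F := fun e => by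
    obtain ⟨g, hg⟩ := exists_prime_orderOf_dvd_card' (G := F) 3 e
    have := h0.cube g (hF g.2) (congrArg Subtype.val (hg ▸ pow_orderOf_eq_one g))
    rw [show g = 1 from Subtype.ext this, orderOf_one] at hg
    omega
  exact nc (isCyclic_of_card_dvd_prime (p := 7) (Nat.Coprime.dvd_of_dvd_mul_left
    ((Nat.Prime.coprime_iff_not_dvd Nat.prime_three).2 h3).symm (Nat.Coprime.dvd_of_dvd_mul_left
    (Nat.Coprime.pow_right _ ho.coprime_two_right) h1)))

omit hv v1 h in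
theorem caseC (h2 : ∀ v ∈ V, v ≠ 1 → ∀ K, TI x (centralizer {v}) K → IsPGroup 2 K)
    (h : TII x (centralizer (V : Set G)) K M) : False := by
  have V2 : IsPGroup 2 V := IsPGroup.of_card (n := 2) c.card
  have VC : V ≤ centralizer (V : Set G) := fun v hv w hw => c.comm hw hv
  have nV : ∀ l ∈ centralizer (V : Set G), ∀ d ∈ V, l * d * l⁻¹ ∈ V := fun l hl d hd => by
    rwa [cj_of_comm (hl d hd).symm]
  obtain ⟨rfl, rfl, ⟨π, hπ, hk⟩, hc⟩ := c.tii_of_le c.card h le_rfl VC V2 nV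
  rw [c.card] at hc
  have eq : ∀ v ∈ K, v ≠ 1 → centralizer (K : Set G) = centralizer {v} := fun v hv v1 => by
    refine eq_of_le_of_card_ge (cV_le hv) ?_
    rcases c.str_sub (c.centralizer_ne_top v1) (c.x_mem hv) with ⟨T, hT⟩ | ⟨T, N, hT⟩
    · obtain ⟨k, hk⟩ := (h2 v hv v1 T hT).exists_card_eq
      have h1 := card_dvd_of_le (cV_le hv)
      rw [hc, hT.card c.t3 (c.s_mem hv) c.sx, hk] at h1
      rcases (Nat.Prime.dvd_mul (by norm_num : Nat.Prime 7)).1 (Dvd.dvd.trans (by norm_num) h1)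
        with e | e
      · omega
      · exact absurd ((by norm_num : Nat.Prime 7).dvd_of_dvd_pow e) (by norm_num)
    by_cases hV : K ≤ T
    · obtain rfl := c.eq_V (c.Lodd hT) hV fun g hg g1 => h.max (T ⊓ centralizer (K : Set G))
        inf_le_right (fun l hl n hn => ⟨hT.nK l (cV_le hv hl) n hn.1,
          Subgroup.mul_mem _ (Subgroup.mul_mem _ hl hn.2) (Subgroup.inv_mem _ hl)⟩)
        (fun hx => c.t3.ne (hT.cube x hx.1 c.t3.cube)) ⟨hg, g1⟩
      exact card_le_of_le fun g hg => c.normV (hT.nK g hg)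
    · exact hc ▸ c.card_P hv v1 hT hV
  obtain ⟨f1, -⟩ := c.exists_new fun v hv v1 w hw w1 => by rw [← eq v hv v1, ← eq w hw w1]
  obtain ⟨v, hv, v1, -⟩ := exists_ne_two c.card 1
  obtain ⟨u, hu, e⟩ := c.fpos v (c.sq hv) v1
  have c' := c.shift hu
  obtain ⟨g, e⟩ := isConj_iff.1 e
  have sC : s * u ∈ centralizer (K : Set G) := fun v hv => (c'.sV v hv).symm
  have tr : ∀ k, Commute k (s * u) → ∀ w ∈ K, Commute k (g * w * g⁻¹) := fun k h w hw => by
    have h1 : g⁻¹ * k * g ∈ centralizer (K : Set G) := by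
      rw [eq v hv v1, SC3.mem_cent]
      simpa [← e, mul_assoc] using Commute.cj h g⁻¹
    simpa [mul_assoc] using Commute.cj (Commute.symm (h1 w hw)) g
  obtain ⟨d, d1, d2⟩ := l7_four (u := π ⟨_, sC⟩) (by rw [← map_mul, hk]; exact mem_of_eq_one c'.ss)
    fun e => c'.s_notMem ((hk _).1 e)
  obtain ⟨d, rfl⟩ := hπ d
  have h1 : (s * u)⁻¹ * (d * (s * u) * (d : G)⁻¹) ∈ K := (hk ((⟨_, sC⟩)⁻¹ * (d * ⟨_, sC⟩ * d⁻¹))).1
    (by rw [map_mul, map_inv, map_mul, map_mul, map_inv, cj_of_comm d1, inv_mul_cancel])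
  have h3 := c.uniq f1 hu (mul_mem hu h1) (by
    rw [← mul_assoc, mul_inv_cancel_left]; exact cj_isConj _ _)
  rw [left_eq_mul, inv_mul_eq_one] at h3
  obtain ⟨w, hw, w1, wv⟩ := exists_ne_two c.card v
  have wC : g * w * g⁻¹ ∈ centralizer (K : Set G) := fun k hk => tr k (c'.sV k hk).symm w hw
  have k0 : ∀ w ∈ K, w ≠ 1 → g * w * g⁻¹ ∉ K := fun w hw w1 m => by
    have h4 : g⁻¹ * x * g ∈ centralizer (K : Set G) := by
      rw [eq w hw w1, SC3.mem_cent]
      simpa [mul_assoc] using Commute.cj (c.cx m) g⁻¹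
    have h5 := Commute.cj (Commute.symm (h4 v hv)) g
    rw [e] at h5
    exact c.t3.ne_inv (by rw [← c'.sx, cj_of_comm]; simpa [mul_assoc] using h5.symm)
  rcases d2 (π ⟨_, wC⟩) (by
      rw [← map_mul, hk]
      change _ * _ ∈ K
      rw [conj_mul, c.sq hw]; simp)
    (Commute.map (Subtype.ext (tr d (comm_of_cj h3.symm) w hw).symm.eq) π) with e1 | e1
  · exact k0 w hw w1 ((hk _).1 e1)
  · refine k0 (v⁻¹ * w) (mul_mem (inv_mem hv) hw) (fun e => wv (inv_mul_eq_one.1 e).symm) ?_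
    rw [← conj_mul, ← conj_inv, e]
    exact (hk ((⟨_, sC⟩)⁻¹ * ⟨_, wC⟩)).1 (by rw [map_mul, map_inv, e1, inv_mul_cancel])

/-- Reduction of the type II case to the two remaining configurations. -/
theorem not_typeII_of (h2 : ∀ v ∈ V, v ≠ 1 → ∀ K, TI x (centralizer {v}) K → IsPGroup 2 K)
    (p1 : ∀ v ∈ V, v ≠ 1 → ∀ K M K0, TII x (centralizer {v}) K M → Quo L7 K M → ¬ V ≤ K →
      TI x (centralizer (V : Set G)) K0 → IsPGroup 2 K0 →
      K0 = V ∧ Nat.card (centralizer ({v} : Set G)) = 672)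
    (W : ∀ K0, TI x (centralizer (V : Set G)) K0 → IsPGroup 2 K0 →
      (∀ v ∈ V, v ≠ 1 → ∀ K M, TII x (centralizer {v}) K M → V ≤ K ∧ Quo L7 K M) → False) :
    False := by
  rcases c.str_sub (L := centralizer (V : Set G)) (fun e => c.centralizer_ne_top v1
    (top_le_iff.1 (e ▸ cV_le hv))) (fun v hv => (c.cx hv).symm) with ⟨K0, h0⟩ | ⟨K0, M0, h0⟩
  swap
  · exact c.caseC h2 h0
  have h02 := c.two0 hv v1 h h0
  refine W K0 h0 h02 fun v hv v1 K M h => ⟨by_contra fun hV => ?_, c.q7 hv v1 h⟩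
  obtain ⟨rfl, e⟩ := p1 v hv v1 K M K0 h (c.q7 hv v1 h) hV h0 h02
  have h24 := h0.card c.t3 (fun v hv => (c.sV v hv).symm) c.sx
  rw [c.card] at h24
  have k : ∀ T : Subgroup G, IsPGroup 2 T → K0 ≤ T → Inv x T → T = K0 := fun T h1 h2 h3 =>
    c.eq_V h1 h2 fun g hg g1 => h0.le_of_inv c.t3 (B := T ⊓ centralizer (K0 : Set G))
      ⟨fun b hb => ⟨h3.conj b hb.1, Subgroup.mul_mem _ (Subgroup.mul_mem _ h0.mem hb.2)
        (Subgroup.inv_mem _ h0.mem)⟩,
        fun b hb => h3.cube b hb.1⟩ inf_le_right ⟨hg, g1⟩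
  refine c.p2 h0 fun w hw w1 => ?_
  rcases c.str_sub (c.centralizer_ne_top w1) (c.x_mem hw) with ⟨T, hT⟩ | ⟨T, N, hT⟩
  · obtain rfl := k T (h2 w hw w1 T hT) (c.le_TI hT (c.le_cent hw)) hT.inv
    have h1 := c.ratio v w (c.sq hv) v1 (c.sq hw) w1
    rw [e, hT.card c.t3 (c.s_mem hw) c.sx, c.card] at h1
    have := c.fcl_pos (c.sq hv) v1
    have := c.fcl_le hw w1
    omega
  by_cases hV : K0 ≤ T
  · obtain rfl := k T (c.Lodd hT) hV ⟨hT.nK x (c.x_mem hw), hT.cube⟩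
    have h1 := card_le_of_le (hT.le'.trans fun g hg => c.normV (hT.nK g hg))
    rw [(c.q7 hw w1 hT).card hT.le, card_psl27, h24, c.card] at h1
    omega
  · exact (p1 w hw w1 T N K0 hT (c.q7 hw w1 hT) hV h0 h02).2

end C4

end Cfsg.Agent.L0.C12
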