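import Mathlib
import Cfsg.Agent.H3.C12IIb
import Cfsg.Agent.H7.C12IIW
import Cfsg.Agent.H8.C12V2La
import Cfsg.Agent.H5.C12Str

/-!
# No centralizer of type II in the configuration with `|V| = 4`
-/

set_option autoImplicit false

namespace Cfsg.Agent.L0.C12

open Subgroup Cfsg.Agent.L0.SC3 Cfsg.Agent.H9 Cfsg.Agent.H1.T3

universe u

theorem l7_six {y a : L7} (y1 : y ≠ 1) (y3 : y ^ 3 = 1) (ha : a * a = 1) (h : Commute a y) :
    a = 1 := by
  have a2 : a ^ 2 = 1 := by rw [pow_two, ha]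
  rcases p1spec_L7.spec (a * y) with e | e | e <;>
    rw [orderOf_dvd_iff_pow_eq_one, h.mul_pow] at e
  · rw [show a ^ 7 = (a ^ 2) ^ 3 * a by rw [← pow_mul, ← pow_succ],
      show y ^ 7 = (y ^ 3) ^ 2 * y by rw [← pow_mul, ← pow_succ], a2, y3, one_pow, one_pow, one_mul,
      one_mul] at e
    rw [eq_inv_of_mul_eq_one_left e, ← mul_inv_rev, inv_eq_one] at ha
    exact absurd (by rw [← y3, pow_three', ha, one_mul]) y1
  · rwa [y3, mul_one, pow_succ, a2, one_mul] at e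
  · rw [show a ^ 4 = (a ^ 2) ^ 2 by rw [← pow_mul], a2, one_pow, one_mul, pow_succ, y3,
      one_mul] at e
    exact absurd e y1

variable {G : Type u} [Group G] [Finite G] {x s : G} {V : Subgroup G}

omit [Finite G] in
theorem T3.noinv (h : T3 x) {θ g : G} (o : orderOf θ = 7) (hx : x * θ * x⁻¹ ∈ zpowers θ)
    (hg : g * θ * g⁻¹ ∈ zpowers θ) (e : g * x * g⁻¹ = x⁻¹) : False := by
  obtain ⟨m, hm⟩ := hx
  obtain ⟨n, hn⟩ := hg
  simp only at hm hn
  have e1 : g * (x * θ * x⁻¹) * g⁻¹ = x * (g * θ * g⁻¹) * x⁻¹ := by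
    rw [← hm, ← hn, ← conj_zpow, ← conj_zpow, ← hm, ← hn, ← zpow_mul, ← zpow_mul, mul_comm]
  have e2 : Commute x (g * θ * g⁻¹) := by
    refine Commute.inv_left_iff.1 (comm_of_cj ?_)
    rw [← h.mul_self, show x * x * (g * θ * g⁻¹) * (x * x)⁻¹ = x * (x * (g * θ * g⁻¹) * x⁻¹) * x⁻¹
      by group, ← e1, show g * (x * θ * x⁻¹) * g⁻¹ = g * x * g⁻¹ * (g * θ * g⁻¹) * (g * x * g⁻¹)⁻¹
      by group, e]
    group
  have e3 := h.six _ e2
  rw [conj_pow, conj_eq_one_iff, ← orderOf_dvd_iff_pow_eq_one, o] at e3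
  omega

namespace C4

variable (c : C4 x s V) {v : G} (hv : v ∈ V) (v1 : v ≠ 1) {K M : Subgroup G}
  (h : TII x (centralizer {v}) K M)
include c hv v1 h

theorem card_P' (hV : ¬ V ≤ K) : Nat.card (centralizer ({v} : Set G)) = 672 := by
  have h1 := c.card_P hv v1 h hV
  have q := c.q7 hv v1 h
  have h2 := q.card h.le
  have : Fact (Nat.Prime 2) := ⟨Nat.prime_two⟩
  have h3 := card_le_of_le (c.v_mem hv h)
  rw [Nat.card_zpowers, orderOf_eq_prime (by rw [pow_two, c.sq hv]) v1] at h3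
  rw [card_psl27] at h2
  have h4 := card_mul_relIndex_of_le h.le'
  have h5 : M.relIndex (centralizer {v}) ≠ 1 := fun e => hV fun w hw => by
    obtain ⟨π, -, hk⟩ := q
    have wM := relIndex_eq_one.1 e (c.le_cent hv hw)
    exact (hk ⟨w, wM⟩).1 (l7_six (y := π ⟨x, h.mem⟩)
      (fun e => c.t3.ne (h.cube x ((hk _).1 e) c.t3.cube))
      (by rw [← map_pow, hk]; exact mem_of_eq_one c.t3.cube)
      (by rw [← map_mul, hk]; exact mem_of_eq_one (c.sq hw))
      (Commute.map (Subtype.ext (c.cx hw).symm.eq) π))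
  have h6 : M.relIndex (centralizer {v}) ≠ 0 := fun e => by
    rw [e] at h4
    exact Nat.card_pos.ne h4
  have : Nat.card M * 2 ≤ Nat.card M * M.relIndex (centralizer {v}) :=
    Nat.mul_le_mul_left _ (by omega)
  omega

theorem p1' (hV : ¬ V ≤ K) {K0 : Subgroup G} (h0 : TI x (centralizer (V : Set G)) K0)
    (h02 : IsPGroup 2 K0) : K0 = V := by
  have hH := c.card_P' hv v1 h hV
  have VK : V ≤ K0 := c.le_TI h0 fun v hv w hw => c.comm hw hv
  have sC : s ∈ centralizer (V : Set G) := fun v hv => (c.sV v hv).symm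
  obtain ⟨j, hj⟩ := c.card_four_pow c.card h02 h0.inv.conj VK
  have hC := h0.card c.t3 sC c.sx
  have h1 := card_dvd_of_le (cV_le hv)
  rw [hC, hj, hH] at h1
  rcases j with _ | _ | j
  · exact (eq_of_le_of_card_ge VK (by rw [hj, c.card]; rfl)).symm
  swap
  · exact absurd ((show 64 ∣ 6 * 4 ^ (j + 1 + 1 + 1) from ⟨6 * 4 ^ j, by ring⟩).trans h1)
      (by norm_num)
  exfalso
  rw [hj] at hC
  obtain ⟨θ, θM, o, hx⟩ := h.theta c.t3 (c.Lodd h) (c.q7 hv v1 h)
  have xθ : x * θ * x⁻¹ ∈ zpowers θ := by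
    rcases hx with e | e <;> rw [e] <;> exact pow_mem (mem_zpowers θ) _
  have nθ : ∀ g, g * θ * g⁻¹ ∈ zpowers θ → g ∈ normalizer (zpowers θ : Set G) := fun g hg =>
    mem_normalizer_of_conj fun b ⟨n, e⟩ => by rw [← e, ← conj_zpow]; exact zpow_mem hg n
  have c7 : Nat.card (zpowers θ) = 7 := by rw [Nat.card_zpowers, o]
  have θH := h.le' θM
  have PH := zpowers_le.2 θH
  obtain ⟨r, r1, r2⟩ := v2l_index (p := 7) ⟨PH, IsPGroup.of_card (n := 1) c7, fun e => by
    have := card_mul_relIndex_of_le PH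
    rw [c7, hH] at this
    omega⟩
  have d7 := c7 ▸ card_dvd_of_le (le_inf PH le_normalizer)
  have r3 : Nat.card (centralizer ({v} : Set G) ⊓ normalizer (zpowers θ : Set G) : Subgroup G) =
      84 := by
    obtain ⟨m, hm⟩ := d7
    have : r ∣ 96 := ⟨m, by rw [hm, hH] at r2; nlinarith⟩
    have h8 : r = 1 ∨ r = 8 := by
      have := Nat.le_of_dvd (by norm_num) this
      interval_cases r <;> omega
    rcases h8 with rfl | rfl
    · have e := eq_of_le_of_card_ge (inf_le_left (a := centralizer ({v} : Set G))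
        (b := normalizer (zpowers θ : Set G))) (by omega)
      obtain ⟨k, hk⟩ := (c.Lodd h).exists_card_eq
      have := card_dvd_of_le (h.max _ PH (fun l hl n hn =>
        conj_mem_of_mem_normalizer (e.ge hl).2 hn) fun hx => by
          have := orderOf_dvd_natCard _ hx
          rw [c7, c.t3.orderOf_eq] at this
          omega)
      rw [c7, hk] at this
      exact absurd ((by norm_num : Nat.Prime 7).dvd_of_dvd_pow this) (by norm_num)
    · omega
  have xN : x ∈ centralizer ({v} : Set G) ⊓ normalizer (zpowers θ : Set G) := ⟨c.x_mem hv, nθ x xθ⟩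
  have c3 : Nat.card (zpowers x) = 3 := by rw [Nat.card_zpowers, c.t3.orderOf_eq]
  have : Fact (Nat.Prime 3) := ⟨Nat.prime_three⟩
  obtain ⟨r', r4, r5⟩ := v2l_index (p := 3) ⟨zpowers_le.2 xN, IsPGroup.of_card (n := 1) c3,
    fun e => by
      have := card_mul_relIndex_of_le (zpowers_le.2 xN)
      rw [c3, r3] at this
      omega⟩
  have le2 : centralizer ({v} : Set G) ⊓ normalizer (zpowers θ : Set G) ⊓
      normalizer (zpowers x : Set G) ≤ centralizer {x} := fun g hg => by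
    rcases (mem_zpowers_three c.t3.cube).1 (conj_mem_of_mem_normalizer hg.2 (mem_zpowers x))
      with e | e | e
    · exact absurd (conj_eq_one_iff.1 e) c.t3.ne
    · exact SC3.mem_cent.2 (comm_of_cj e)
    · exact (c.t3.noinv o xθ (conj_mem_of_mem_normalizer hg.1.2 (mem_zpowers θ)) e).elim
  have d2 := orderOf_dvd_natCard _ (show v ∈ centralizer ({v} : Set G) ⊓
      normalizer (zpowers θ : Set G) ⊓ normalizer (zpowers x : Set G) from
    ⟨⟨SC3.mem_cent.2 rfl, nθ v (by rw [cj_of_comm (SC3.mem_cent.1 θH).symm]; exact mem_zpowers θ)⟩,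
      mem_normalizer_of_conj fun b ⟨n, e⟩ => by
        rw [← e, cj_of_comm ((c.cx hv).symm.zpow_right n)]; exact ⟨n, rfl⟩⟩)
  have : Fact (Nat.Prime 2) := ⟨Nat.prime_two⟩
  rw [orderOf_eq_prime (by rw [pow_two, c.sq hv]) v1] at d2
  have d3 := c3 ▸ card_dvd_of_le (le_inf (zpowers_le.2 xN) le_normalizer)
  have d12 := Nat.le_of_dvd (by norm_num) c.t3.dvd
  have e12 := eq_of_le_of_card_ge le2 (by
    have := card_le_of_le le2
    rw [r3] at r5
    generalize Nat.card (centralizer ({v} : Set G) ⊓ normalizer (zpowers θ : Set G) ⊓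
      normalizer (zpowers x : Set G) : Subgroup G) = n at *
    have : n ≤ 12 := by omega
    interval_cases n <;> omega)
  obtain ⟨w, hw, w1, wv⟩ := exists_ne_two c.card v
  have wN := (e12.ge (SC3.mem_cent.2 (c.cx hw).symm)).1.2
  have wθ := conj_mem_of_mem_normalizer wN (mem_zpowers θ)
  have bot : centralizer (V : Set G) ⊓ zpowers θ = ⊥ :=
    (disjoint_of_coprime_natCard (by rw [hC, c7]; norm_num)).eq_bot
  have e1 : θ * (w * θ * w⁻¹) = 1 := by
    have m := mul_mem (mem_zpowers θ) wθ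
    refine mem_bot.1 (bot.le ⟨fun u hu => ?_, m⟩)
    have k1 : Commute v (θ * (w * θ * w⁻¹)) := (SC3.mem_cent.1 (PH m)).symm
    have k2 : Commute w (θ * (w * θ * w⁻¹)) := comm_of_cj (by
      obtain ⟨n, e⟩ := wθ
      rw [← conj_mul, show w * (w * θ * w⁻¹) * w⁻¹ = (w * w) * θ * (w * w)⁻¹ by group, c.sq hw,
        one_mul, inv_one, mul_one, ← e]
      exact ((Commute.refl θ).zpow_left n).eq)
    rcases mem_four c.card hv hw (c.sq hv) v1 w1 wv.symm hu with rfl | rfl | rfl | rfl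
    exacts [Commute.one_left _, k1, k2, k1.mul_left k2]
  obtain ⟨b, hb, a, ha, e⟩ := H7.exists_mul_of_card (cV_le hv) PH bot (by rw [hH, hC, c7]; norm_num)
    (mul_mem (c.s_mem hv) θH)
  have e2 : s * θ ^ 2 * s⁻¹ = b * (w * b⁻¹ * w⁻¹) := by
    have e3 : s * θ * w * (s * θ)⁻¹ = b * w * b⁻¹ := by
      rw [← e, show b * a * w * (b * a)⁻¹ = b * (a * w * a⁻¹) * b⁻¹ by group,
        cj_of_comm (Commute.symm (ha w hw))]
    have e4 : θ = w * θ⁻¹ * w⁻¹ := by rw [← conj_inv, ← eq_inv_of_mul_eq_one_left e1]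
    calc s * θ ^ 2 * s⁻¹ = s * (θ * (w * θ⁻¹ * w⁻¹)) * s⁻¹ := by rw [← e4, pow_two]
      _ = s * θ * w * (s * θ)⁻¹ * (s * w * s⁻¹)⁻¹ := by group
      _ = _ := by rw [e3, cj_of_comm (c.sV w hw)]; group
  refine c.t3.noinv o xθ ?_ c.sx
  have := pow_mem (e2 ▸ mul_mem hb (conj_mem_of_mem_normalizer wN (inv_mem hb))) 4
  rwa [conj_pow, ← pow_mul, show 2 * 4 = orderOf θ + 1 by rw [o], pow_succ, pow_orderOf_eq_one,
    one_mul] at this

omit hv v1 h in
theorem not_typeII (h2 : ∀ v ∈ V, v ≠ 1 → ∀ K, TI x (centralizer {v}) K → IsPGroup 2 K)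
    {v : G} (hv : v ∈ V) (h1 : v ≠ 1) {K M : Subgroup G} (h : TII x (centralizer {v}) K M) :
    False :=
  c.not_typeII_of hv h1 h h2
    (fun _ hv v1 _ _ _ h _ hV h0 h02 => ⟨c.p1' hv v1 h hV h0 h02, c.card_P' hv v1 h hV⟩)
    fun _ h0 h02 hW => c.caseW h2 h0 h02 hW hv h1 h

end C4

end Cfsg.Agent.L0.C12
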