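import Cfsg.Agent.H3.ElS1
import Cfsg.Agent.H1.ElA
import Cfsg.Agent.H5.ElBu
import Cfsg.Agent.H6.ElB

set_option autoImplicit false
set_option linter.unusedSectionVars false

namespace Cfsg.Agent.H1.El

open Cfsg.Agent.H3.ElS MulAction

variable {G : Type*} [Group G] [Finite G] {Ω : Type*} [MulAction G Ω] [FaithfulSMul G Ω]
  [Fintype Ω] [DecidableEq Ω] {p q : ℕ}
variable {P : Sylow p G} {E : Subgroup G} {x : G} {F : Finset Ω}

theorem Cx.s1_cF (h : Cx p q P E x F) (hs : p + 1 = 2 * q) : F.card = p := by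
  rw [h.cF, ← hs]; simp

theorem Cx.s1_xF (h : Cx p q P E x F) {g : G} (hg : g ∈ (P : Subgroup G)) (a : Ω) :
    g • a ∈ F ↔ a ∈ F := h.invF (h.nrm g hg) a

theorem Cx.s1_full (h : Cx p q P E x F) (hs : p + 1 = 2 * q) {A : Finset Ω} (hA : A ⊆ F) {a : Ω}
    (ha : a ∈ A) {k : ℕ} (hk : ¬ p ∣ k) (inv : ∀ c ∈ A, x ^ k • c ∈ A) : A = F := by
  apply Finset.eq_of_subset_of_card_le hA
  rw [h.s1_cF hs]
  have hm : ∀ m : ℕ, (x ^ k) ^ m • a ∈ A := by
    intro m
    induction m with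
    | zero => simpa using ha
    | succ m ih => rw [pow_succ', mul_smul]; exact inv _ ih
  have key : ∀ m n : ℕ, m < n → n < p → (x ^ k) ^ m • a ≠ (x ^ k) ^ n • a := by
    intro m n hmn hn e
    obtain ⟨d, rfl⟩ := Nat.exists_eq_add_of_lt hmn
    rw [add_assoc, pow_add, mul_smul] at e
    have e2 := (smul_left_cancel_iff _).mp e
    rw [← pow_mul] at e2
    have := (h.regF (hA ha)).mp e2.symm
    rcases (Nat.Prime.dvd_mul h.hp).mp this with h1 | h1
    · exact hk h1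
    · have := Nat.le_of_dvd (by omega) h1
      omega
  have := Finset.card_le_card_of_injOn (s := Finset.range p) (t := A)
    (fun m => (x ^ k) ^ m • a) (fun m _ => hm m) (by
      intro m hm n hn e
      simp only [Finset.coe_range, Set.mem_Iio] at hm hn
      rcases lt_trichotomy m n with h1 | h1 | h1
      · exact absurd e (key m n h1 hn)
      · exact h1
      · exact absurd e.symm (key n m h1 hm))
  simpa using this

theorem Cx.s1_trF (h : Cx p q P E x F) (hs : p + 1 = 2 * q) {a b : Ω} (ha : a ∈ F) (hb : b ∈ F) :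
    ∃ j : ℕ, x ^ j • a = b := by
  classical
  have := h.s1_full hs (A := F.filter fun c => ∃ j : ℕ, x ^ j • a = c) (Finset.filter_subset _ _)
    (a := a) (Finset.mem_filter.mpr ⟨ha, 0, by simp⟩) (k := 1) h.hp.not_dvd_one (by
      intro c hc
      obtain ⟨hc, j, rfl⟩ := Finset.mem_filter.mp hc
      refine Finset.mem_filter.mpr ⟨(h.s1_xF (pow_mem h.xP _) _).mpr hc, 1 + j, ?_⟩
      rw [pow_add, mul_smul])
  rw [← this] at hb
  exact (Finset.mem_filter.mp hb).2

/-- a subgroup containing `x`, preserving `F`, with the Burnside condition lies in `⟨x⟩` -/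
theorem Cx.s1_bu (h : Cx p q P E x F) (hE : E = Subgroup.zpowers (x ^ p)) (hs : p + 1 = 2 * q)
    (X : Subgroup G) (hx : x ∈ X) (hF : ∀ g ∈ X, ∀ a, g • a ∈ F ↔ a ∈ F)
    (hN : ∀ n ∈ X, n * x * n⁻¹ ∈ Subgroup.zpowers x → n * x ^ p * n⁻¹ = x ^ p) :
    ∀ g ∈ X, ∃ k : ℕ, g = x ^ k := by
  obtain ⟨-, hP, h3, -⟩ := h.cyc hE
  obtain ⟨U, hUX, hUn, hU, hdec⟩ := bu h.hp X x hx h.ord h3 hN
  have hQ : IsPGroup p (Subgroup.zpowers x) := hP ▸ P.isPGroup'
  have hU1 : ∀ u ∈ U, u = 1 := by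
    intro u hu
    apply eq_of_smul_eq_smul (α := Ω)
    intro a
    rw [one_smul]
    refine triv h.hp U (Subgroup.zpowers x) hU hQ
      (fun y hy v hv => hUn y ((Subgroup.zpowers_le_of_mem hx) hy) v hv) a ?_ u hu
    intro v hv
    by_cases ha : a ∈ F
    · obtain ⟨j, hj⟩ := h.s1_trF hs ha ((hF v (hUX hv) a).mpr ha)
      exact ⟨x ^ j, Subgroup.npow_mem_zpowers x j, hj.symm⟩
    · obtain ⟨j, hj⟩ := h.trL ha (fun h' => ha ((hF v (hUX hv) a).mp h'))
      exact ⟨x ^ j, Subgroup.npow_mem_zpowers x j, hj.symm⟩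
  intro g hg
  obtain ⟨u, hu, k, rfl⟩ := hdec g hg
  exact ⟨k, by rw [hU1 u hu, one_mul]⟩

theorem Cx.s1_pw (h : Cx p q P E x F) {i : ℕ} (hi : i ≡ 1 [MOD p]) : (x ^ i) ^ p = x ^ p := by
  rw [← pow_mul, pow_eq_pow_iff_modEq, h.ord, pow_two]
  have := Nat.ModEq.mul_right' p hi
  rwa [one_mul] at this

theorem Cx.s1_cz (h : Cx p q P E x F) (hE : E = Subgroup.zpowers (x ^ p)) (hs : p + 1 = 2 * q)
    {g : G} (hg : g * x ^ p = x ^ p * g) : ∃ k : ℕ, g = x ^ k := by
  have hmem : ∀ n : G, n ∈ Subgroup.centralizer ({x ^ p} : Set G) ↔ n * x ^ p = x ^ p * n := by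
    intro n
    rw [Subgroup.mem_centralizer_singleton_iff]
  refine h.s1_bu hE hs (Subgroup.centralizer ({x ^ p} : Set G)) ?_ ?_ ?_ g ((hmem g).mpr hg)
  · rw [hmem]; exact (Commute.self_pow x p).eq
  · intro n hn a
    apply h.invF
    intro e he
    rw [hE] at he ⊢
    obtain ⟨m, rfl⟩ := he
    have hc : Commute n (x ^ p) := (hmem n).mp hn
    have := (hc.zpow_right m).eq
    simp only
    rw [this, mul_inv_cancel_right]
    exact Subgroup.zpow_mem_zpowers _ _
  · intro n hn _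
    rw [(hmem n).mp hn, mul_inv_cancel_right]

theorem Cx.s1_comm (_h : Cx p q P E x F) (hE : E = Subgroup.zpowers (x ^ p)) {e : G} (he : e ∈ E) :
    x * e = e * x := by
  rw [hE] at he
  obtain ⟨m, rfl⟩ := he
  exact ((Commute.self_pow x p).zpow_right m).eq

/-- step 2: the normaliser of `E` in a two-point stabiliser -/
theorem Cx.s1_nE (h : Cx p q P E x F) (hE : E = Subgroup.zpowers (x ^ p)) (hs : p + 1 = 2 * q)
    {a b : Ω} (ha : a ∈ F) (hb : b ∈ F) (hab : a ≠ b) {n : G} (h1 : n • a = a) (h2 : n • b = b)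
    (hn : ∀ e ∈ E, n⁻¹ * e * n ∈ E) : n ∈ E := by
  have hz := hn _ h.zE
  have hc : x * (n⁻¹ * x ^ p * n) = (n⁻¹ * x ^ p * n) * x := h.s1_comm hE hz
  obtain ⟨i, hi⟩ := h.s1_cz hE hs (g := n * x * n⁻¹) (by
    have : n * x * n⁻¹ * x ^ p = n * (x * (n⁻¹ * x ^ p * n)) * n⁻¹ := by group
    rw [this, hc]; group)
  obtain ⟨j, hj⟩ := h.s1_trF hs ha hb
  have hj0 : ¬ p ∣ j := fun hd => hab (by rw [← hj, (h.regF ha).mpr hd])
  have e1 : (x ^ i) ^ j • a = x ^ j • a := by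
    rw [← hi, conj_pow, mul_smul, mul_smul, inv_smul_eq_iff.mpr h1.symm, hj, h2]
  have i0 : i ≠ 0 := by
    rintro rfl
    rw [pow_zero] at hi
    have : x = 1 := by
      have : x = n⁻¹ * (n * x * n⁻¹) * n := by group
      rw [this, hi]; simp
    exact h.xE (this ▸ E.one_mem)
  obtain ⟨d, rfl⟩ : ∃ d, i = 1 + d := ⟨i - 1, by omega⟩
  rw [← pow_mul, add_mul, one_mul, pow_add, mul_smul] at e1
  have e2 := (smul_left_cancel_iff _).mp e1
  have hd : p ∣ d := ((Nat.Prime.dvd_mul h.hp).mp ((h.regF ha).mp e2)).resolve_right hj0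
  have e3 : (x ^ (1 + d)) ^ p = x ^ p := h.s1_pw (by
    have := (Nat.modEq_zero_iff_dvd.mpr hd).add_left 1
    simpa using this)
  rw [← hi, conj_pow] at e3
  obtain ⟨k, hk⟩ := h.s1_cz hE hs (g := n) (by rw [← mul_inv_eq_iff_eq_mul, e3])
  exact h.stabP (hk ▸ pow_mem h.xP k) h1

theorem s1_cj_one : cj 1 E = E := by
  ext y; simp [mem_cj]

theorem Cx.s1_le (h : Cx p q P E x F) {a b : Ω} (ha : a ∈ F) (hb : b ∈ F) :
    E ≤ stabilizer G a ⊓ stabilizer G b := fun e he =>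
  ⟨(h.memF a).mp ha e he, (h.memF b).mp hb e he⟩

/-- step 4a: a `G_ab`-orbit meets `F` in at most one point -/
theorem Cx.s1_orb (h : Cx p q P E x F) (hE : E = Subgroup.zpowers (x ^ p)) (hs : p + 1 = 2 * q)
    {a b : Ω} (ha : a ∈ F) (hb : b ∈ F) (hab : a ≠ b) {w : G}
    (hw : w ∈ stabilizer G a ⊓ stabilizer G b) {c : Ω} (hc : c ∈ F) (hwc : w • c ∈ F) :
    w • c = c := by
  have hEW := h.s1_le ha hb
  have l1 : cj 1 E ≤ (stabilizer G a ⊓ stabilizer G b) ⊓ stabilizer G c := by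
    rw [s1_cj_one]
    exact le_inf hEW (fun e he => (h.memF c).mp hc e he)
  have l2 : cj w⁻¹ E ≤ (stabilizer G a ⊓ stabilizer G b) ⊓ stabilizer G c := by
    intro y hy
    rw [mem_cj, inv_inv] at hy
    constructor
    · have := Subgroup.mul_mem _ (Subgroup.mul_mem _ (Subgroup.inv_mem _ hw) (hEW hy)) hw
      simpa [mul_assoc] using this
    · have := (h.memF _).mp hwc _ hy
      rw [mul_smul, inv_smul_smul, mul_smul] at this
      exact (smul_left_cancel_iff _).mp this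
  obtain ⟨v, hv, e⟩ := h.cjW (W := (stabilizer G a ⊓ stabilizer G b) ⊓ stabilizer G c) (a := c)
    (fun y hy => hy.2) l2 l1
  rw [s1_cj_one] at e
  have hn : v * w⁻¹ ∈ stabilizer G a ⊓ stabilizer G b :=
    Subgroup.mul_mem _ hv.1 (Subgroup.inv_mem _ hw)
  have hnE : v * w⁻¹ ∈ E := h.s1_nE hE hs ha hb hab hn.1 hn.2 (fun y hy => by
    rw [← e] at hy
    exact mem_cj.mp hy)
  have e1 := (h.memF _).mp hwc _ hnE
  rw [mul_smul, inv_smul_smul] at e1
  rw [← e1]
  exact hv.2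

/-- step 4b: many fixed points -/
theorem Cx.s1_many (h : Cx p q P E x F) (hE : E = Subgroup.zpowers (x ^ p)) (hs : p + 1 = 2 * q)
    {a b : Ω} (ha : a ∈ F) (hb : b ∈ F) (hab : a ≠ b) (L : Finset Ω)
    (hL : ∀ c, c ∈ L ↔ c ∈ F ∧ ∀ w ∈ stabilizer G a ⊓ stabilizer G b, w • c = c) :
    p + 1 ≤ 2 * L.card := by
  classical
  obtain ⟨cE, hP, h3, h2⟩ := h.cyc hE
  set W := stabilizer G a ⊓ stabilizer G b with hW
  have hEW : E ≤ W := h.s1_le ha hb
  have hW2 : ¬ p ^ 2 ∣ Nat.card W := fun hd =>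
    h2 a (hd.trans (Subgroup.card_dvd_of_le inf_le_left))
  obtain ⟨U, hUW, hUn, hU, hdec⟩ := burn h.hp W E hEW cE hW2 h.comm (fun n hn hne => by
    have hi : n⁻¹ ∈ W := W.inv_mem hn
    have := h.s1_nE hE hs ha hb hab hi.1 hi.2 (fun e he => by rw [inv_inv]; exact hne e he)
    exact (E.inv_mem_iff).mp this)
  have hzp : (x ^ p) ^ p = 1 := (h.om _ (h.le h.zE)).mpr h.zE
  let O : Ω → Finset Ω := fun c => Finset.univ.filter fun d => ∃ w ∈ W, w • c = d
  have mO : ∀ c d, d ∈ O c ↔ ∃ w ∈ W, w • c = d := fun c d => by simp [O]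
  have invO : ∀ c, ∀ w ∈ W, ∀ d ∈ O c, w • d ∈ O c := by
    intro c w hw d hd
    obtain ⟨v, hv, rfl⟩ := (mO c d).mp hd
    exact (mO _ _).mpr ⟨w * v, W.mul_mem hw hv, mul_smul _ _ _⟩
  have self : ∀ c, c ∈ O c := fun c => (mO c c).mpr ⟨1, W.one_mem, one_smul _ _⟩
  have nF : ∀ c ∈ F, ∀ d ∈ (O c).erase c, d ∉ F := by
    intro c hc d hd hdF
    obtain ⟨h1, h2⟩ := Finset.mem_erase.mp hd
    obtain ⟨v, hv, rfl⟩ := (mO c d).mp h2
    exact h1 (h.s1_orb hE hs ha hb hab hv hc hdF)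
  have big : ∀ c ∈ F \ L, 2 * p ≤ ((O c).erase c).card := by
    intro c hc
    obtain ⟨hc, hcL⟩ := Finset.mem_sdiff.mp hc
    have hd : p ∣ ((O c).erase c).card := by
      apply dvd_fpf h.hp (x ^ p) hzp
      · intro d hd
        obtain ⟨h1, h2⟩ := Finset.mem_erase.mp hd
        refine Finset.mem_erase.mpr ⟨?_, invO c _ (hEW h.zE) d h2⟩
        intro e
        apply nF c hc d hd
        rw [← h.s1_xF (pow_mem h.xP p), e]
        exact hc
      · intro d hd
        exact h.zmv d (nF c hc d hd)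
    obtain ⟨t, ht⟩ := hd
    have t0 : t ≠ 0 := by
      rintro rfl
      apply hcL
      refine (hL c).mpr ⟨hc, fun w hw => ?_⟩
      by_contra hne
      have : w • c ∈ (O c).erase c := Finset.mem_erase.mpr ⟨hne, invO c w hw c (self c)⟩
      rw [mul_zero, Finset.card_eq_zero] at ht
      rw [ht] at this
      simp at this
    have t1 : t ≠ 1 := by
      rintro rfl
      have cO : (O c).card = 2 * q := by
        rw [← Finset.card_erase_add_one (self c), ht, mul_one, hs]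
      have trU : ∀ d ∈ O c, ∃ u ∈ U, u • c = d := by
        intro d hd
        obtain ⟨v, hv, rfl⟩ := (mO c d).mp hd
        obtain ⟨u, hu, e, he, rfl⟩ := hdec v hv
        exact ⟨u, hu, by rw [mul_smul, (h.memF c).mp hc e he]⟩
      refine cl h.hp h.hq h.q2 h.qp U hU (x ^ p) hzp (hUn _ (hEW h.zE)) (O c) cO
        (fun u hu => invO c u (hUW hu)) ?_ ⟨c, self c, (h.memF c).mp hc _ h.zE⟩ ?_
      · intro d hd d' hd'
        obtain ⟨u, hu, rfl⟩ := trU d hd
        obtain ⟨u', hu', rfl⟩ := trU d' hd'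
        exact ⟨u' * u⁻¹, U.mul_mem hu' (U.inv_mem hu), by rw [mul_smul, inv_smul_smul]⟩
      · refine lt_of_le_of_lt (b := 1) ?_ h.hq.one_lt
        rw [← Finset.card_singleton c]
        refine Finset.card_le_card fun d hd => ?_
        obtain ⟨h1, h2⟩ := Finset.mem_filter.mp hd
        by_contra hne
        exact h.zmv d (nF c hc d (Finset.mem_erase.mpr ⟨by simpa using hne, h1⟩)) h2
    rw [ht, mul_comm 2 p]
    exact Nat.mul_le_mul_left p (by omega)
  have disj : ((F \ L : Finset Ω) : Set Ω).PairwiseDisjoint fun c => (O c).erase c := by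
    intro c hc c' hc' hne
    have hc := (Finset.mem_sdiff.mp (Finset.mem_coe.mp hc)).1
    have hc' := (Finset.mem_sdiff.mp (Finset.mem_coe.mp hc')).1
    refine Finset.disjoint_left.mpr fun d hd hd' => hne ?_
    obtain ⟨v, hv, rfl⟩ := (mO c d).mp (Finset.mem_erase.mp hd).2
    obtain ⟨v', hv', e⟩ := (mO c' _).mp (Finset.mem_erase.mp hd').2
    have e2 : (v'⁻¹ * v) • c = c' := by rw [mul_smul, ← e, inv_smul_smul]
    have := h.s1_orb hE hs ha hb hab (W.mul_mem (W.inv_mem hv') hv) hc (e2 ▸ hc')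
    rw [← this, e2]
  have c1 := Finset.card_biUnion disj
  have c2 : ((F \ L).biUnion fun c => (O c).erase c).card ≤ Fᶜ.card := by
    apply Finset.card_le_card
    intro d hd
    obtain ⟨c, hc, hd⟩ := Finset.mem_biUnion.mp hd
    exact Finset.mem_compl.mpr (nF c (Finset.mem_sdiff.mp hc).1 d hd)
  have c3 : Fᶜ.card = p * p := by
    rw [Finset.card_compl, h.cardF, pow_two]; simp
  have c4 := Finset.card_nsmul_le_sum (F \ L) (fun c => ((O c).erase c).card) (2 * p) big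
  have hLF : L ⊆ F := fun c hc => ((hL c).mp hc).1
  have c5 := Finset.card_sdiff_add_card_eq_card hLF
  rw [h.s1_cF hs] at c5
  rw [← c1, smul_eq_mul] at c4
  have c6 : (2 * (F \ L).card) * p ≤ p * p := by
    calc (2 * (F \ L).card) * p = (F \ L).card * (2 * p) := by ring
      _ ≤ p * p := c4.trans (c2.trans c3.le)
  have c7 := Nat.le_of_mul_le_mul_right c6 h.hp.pos
  omega

/-- the pointwise stabiliser of `F` is `E` -/
theorem Cx.s1_pt (h : Cx p q P E x F) (hE : E = Subgroup.zpowers (x ^ p)) (hs : p + 1 = 2 * q)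
    {a : Ω} (ha : a ∈ F) {w : G} (hw : ∀ c ∈ F, w • c = c) : w ∈ E := by
  have xF : ∀ (k : ℤ) (c : Ω), x ^ k • c ∈ F ↔ c ∈ F := fun k c => h.s1_xF (zpow_mem h.xP k) c
  let X : Subgroup G :=
    { carrier := {g | ∃ k : ℤ, ∀ c ∈ F, g • c = x ^ k • c}
      one_mem' := ⟨0, by simp⟩
      mul_mem' := by
        rintro g g' ⟨k, hk⟩ ⟨l, hl⟩
        refine ⟨k + l, fun c hc => ?_⟩
        rw [mul_smul, hl c hc, hk _ ((xF l c).mpr hc), zpow_add, mul_smul]
      inv_mem' := by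
        rintro g ⟨k, hk⟩
        refine ⟨-k, fun c hc => ?_⟩
        rw [inv_smul_eq_iff, hk _ ((xF _ c).mpr hc), ← mul_smul]
        simp }
  have fwd : ∀ g ∈ X, ∀ c ∈ F, g • c ∈ F := by
    rintro g ⟨k, hk⟩ c hc
    rw [hk c hc]; exact (xF k c).mpr hc
  obtain ⟨k, hk⟩ := h.s1_bu hE hs X ⟨1, by simp⟩ (fun g hg c =>
    ⟨fun h' => by simpa using fwd g⁻¹ (X.inv_mem hg) _ h', fwd g hg c⟩) (by
      rintro n ⟨k, hk⟩ hn
      obtain ⟨i, hi⟩ := (mem_powers_iff_mem_zpowers.mpr hn : _ ∈ Submonoid.powers x)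
      simp only at hi
      have i0 : i ≠ 0 := by
        rintro rfl
        rw [pow_zero] at hi
        have : x = 1 := by
          have : x = n⁻¹ * (n * x * n⁻¹) * n := by group
          rw [this, ← hi]; simp
        exact h.xE (this ▸ E.one_mem)
      obtain ⟨d, rfl⟩ : ∃ d, i = 1 + d := ⟨i - 1, by omega⟩
      have e1 : x ^ (1 + d) • (n • a) = x • (n • a) := by
        rw [hi, mul_smul, mul_smul, inv_smul_smul, hk _ ((h.s1_xF h.xP a).mpr ha), hk a ha,
          ← mul_smul, ← mul_smul, ((Commute.refl x).zpow_left k).eq]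
      rw [pow_add, pow_one, mul_smul] at e1
      have e2 := (smul_left_cancel_iff _).mp e1
      have hd : p ∣ d := (h.regF (fwd n ⟨k, hk⟩ a ha)).mp e2
      have e3 : (x ^ (1 + d)) ^ p = x ^ p := h.s1_pw (by
        have := (Nat.modEq_zero_iff_dvd.mpr hd).add_left 1
        simpa using this)
      rwa [hi, conj_pow] at e3) w ⟨0, by simpa using hw⟩
  exact h.stabP (hk ▸ pow_mem h.xP k) (hw a ha)

/-- S1a (helper3): two-point stabilizers in `F` -/
theorem Cx.s1a (h : Cx p q P E x F) (hE : E = Subgroup.zpowers (x ^ p)) (hs : p + 1 = 2 * q)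
    {a b : Ω} (ha : a ∈ F) (hb : b ∈ F) (hab : a ≠ b) {g : G} (h1 : g • a = a) (h2 : g • b = b) :
    g ∈ E := by
  classical
  obtain ⟨⟨a0, b0⟩, hm, hmax⟩ := Finset.exists_max_image F.offDiag
    (fun t => Nat.card ↥(stabilizer G t.1 ⊓ stabilizer G t.2))
    ⟨(a, b), Finset.mem_offDiag.mpr ⟨ha, hb, hab⟩⟩
  obtain ⟨ha0, hb0, hab0⟩ := Finset.mem_offDiag.mp hm
  simp only at ha0 hb0 hab0 hmax
  set W := stabilizer G a0 ⊓ stabilizer G b0 with hW
  let L := F.filter fun c => ∀ w ∈ W, w • c = c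
  have hL : ∀ c, c ∈ L ↔ c ∈ F ∧ ∀ w ∈ W, w • c = c := fun c => Finset.mem_filter
  have hLF : L ⊆ F := Finset.filter_subset _ _
  have many := h.s1_many hE hs ha0 hb0 hab0 L hL
  have a0L : a0 ∈ L := (hL _).mpr ⟨ha0, fun w hw => hw.1⟩
  have eqW : ∀ c ∈ L, ∀ d ∈ L, c ≠ d → stabilizer G c ⊓ stabilizer G d ≤ W := by
    intro c hc d hd hcd
    have le : W ≤ stabilizer G c ⊓ stabilizer G d := fun w hw =>
      ⟨((hL c).mp hc).2 w hw, ((hL d).mp hd).2 w hw⟩
    have := hmax (c, d) (Finset.mem_offDiag.mpr ⟨hLF hc, hLF hd, hcd⟩)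
    exact (Subgroup.eq_of_le_of_card_ge le this).ge
  have LF : L = F := by
    by_contra hne
    have key : ∀ i k : ℕ, ¬ p ∣ k →
        (L.image (fun c => x ^ i • c) ∩ L.image (fun c => x ^ (i + k) • c)).card ≤ 1 := by
      intro i k hk
      rw [Finset.card_le_one]
      intro φ hφ φ' hφ'
      by_contra hφφ
      obtain ⟨m1, m2⟩ := Finset.mem_inter.mp hφ
      obtain ⟨m1', m2'⟩ := Finset.mem_inter.mp hφ'
      obtain ⟨α, hα, e1⟩ := Finset.mem_image.mp m1
      obtain ⟨ψ, hψ, e2⟩ := Finset.mem_image.mp m2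
      obtain ⟨α', hα', e1'⟩ := Finset.mem_image.mp m1'
      obtain ⟨ψ', hψ', e2'⟩ := Finset.mem_image.mp m2'
      have f1 : α = x ^ k • ψ := by
        rw [← e2, pow_add, mul_smul] at e1
        exact (smul_left_cancel_iff _).mp e1
      have f2 : α' = x ^ k • ψ' := by
        rw [← e2', pow_add, mul_smul] at e1'
        exact (smul_left_cancel_iff _).mp e1'
      have nψ : ψ ≠ ψ' := by
        rintro rfl
        exact hφφ (e2.symm.trans e2')
      apply hne
      refine h.s1_full hs hLF a0L hk fun c hc => ?_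
      refine (hL _).mpr ⟨(h.s1_xF (pow_mem h.xP k) c).mpr (hLF hc), fun w hw => ?_⟩
      have hw' : (x ^ k)⁻¹ * w * x ^ k ∈ W := by
        apply eqW ψ hψ ψ' hψ' nψ
        constructor
        · show ((x ^ k)⁻¹ * w * x ^ k) • ψ = ψ
          rw [mul_smul, mul_smul, ← f1, ((hL α).mp hα).2 w hw, f1, inv_smul_smul]
        · show ((x ^ k)⁻¹ * w * x ^ k) • ψ' = ψ'
          rw [mul_smul, mul_smul, ← f2, ((hL α').mp hα').2 w hw, f2, inv_smul_smul]
      have := ((hL c).mp hc).2 _ hw'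
      rw [mul_smul, mul_smul, inv_smul_eq_iff] at this
      exact this
    have p5 := h.five.1
    have n2 : ¬ p ∣ 2 := fun hd => by
      have := Nat.le_of_dvd (by norm_num) hd
      omega
    have sub : ∀ i : ℕ, L.image (fun c => x ^ i • c) ⊆ F := by
      intro i d hd
      obtain ⟨c, hc, rfl⟩ := Finset.mem_image.mp hd
      exact (h.s1_xF (pow_mem h.xP i) c).mpr (hLF hc)
    have cd : ∀ i : ℕ, (L.image (fun c => x ^ i • c)).card = L.card := fun i =>
      Finset.card_image_of_injective _ (MulAction.injective _)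
    have := three _ _ _ F (sub 0) (sub 1) (sub 2) (key 0 1 h.hp.not_dvd_one) (key 0 2 n2)
      (key 1 1 h.hp.not_dvd_one)
    rw [cd, cd, cd, h.s1_cF hs] at this
    omega
  have WE : W ≤ E := fun w hw =>
    h.s1_pt hE hs ha0 (fun c hc => ((hL c).mp (LF ▸ hc)).2 w hw)
  have c1 := hmax (a, b) (Finset.mem_offDiag.mpr ⟨ha, hb, hab⟩)
  have c2 := Subgroup.card_le_of_le WE
  have := Subgroup.eq_of_le_of_card_ge (h.s1_le ha hb) (c1.trans c2)
  rw [this]
  exact ⟨h1, h2⟩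

end Cfsg.Agent.H1.El
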