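import Cfsg.Agent.H1.ElDef

set_option autoImplicit false

namespace Cfsg.Agent.H3.ElS

open MulAction

variable {G : Type*} [Group G] [Finite G] {Ω : Type*} [MulAction G Ω]

/-- a `p'`-group normalised by a `p`-group whose orbit covers its orbit fixes the point -/
theorem triv {p : ℕ} (hp : p.Prime) (U Q : Subgroup G) (hU : ¬ p ∣ Nat.card U)
    (hQ : IsPGroup p Q) (hn : ∀ y ∈ Q, ∀ u ∈ U, y * u * y⁻¹ ∈ U) (a : Ω)
    (ho : ∀ u ∈ U, ∃ y ∈ Q, u • a = y • a) : ∀ u ∈ U, u • a = a := by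
  have := Fact.mk hp
  let H : Subgroup G :=
    { carrier := {y | y ∈ Q ∧ ∃ u ∈ U, y • a = u • a}
      one_mem' := ⟨Q.one_mem, 1, U.one_mem, rfl⟩
      mul_mem' := by
        rintro y1 y2 ⟨h1, u1, hu1, e1⟩ ⟨h2, u2, hu2, e2⟩
        refine ⟨Q.mul_mem h1 h2, y1 * u2 * y1⁻¹ * u1, U.mul_mem (hn _ h1 _ hu2) hu1, ?_⟩
        rw [mul_smul, e2, mul_smul _ u1, ← e1, ← mul_smul, ← mul_smul]
        simp
      inv_mem' := by
        rintro y ⟨h1, u, hu, e⟩
        refine ⟨Q.inv_mem h1, y⁻¹ * u⁻¹ * y⁻¹⁻¹, hn _ (Q.inv_mem h1) _ (U.inv_mem hu), ?_⟩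
        rw [inv_inv, mul_smul, e, mul_smul, inv_smul_smul] }
  have hH : IsPGroup p H := hQ.to_le (fun y hy => hy.1)
  have eq : orbit U a = orbit H a := by
    ext c
    constructor
    · rintro ⟨⟨u, hu⟩, rfl⟩
      obtain ⟨y, hy, e⟩ := ho u hu
      exact ⟨⟨y, hy, u, hu, e.symm⟩, e.symm⟩
    · rintro ⟨⟨y, hy, u, hu, e⟩, rfl⟩
      exact ⟨⟨u, hu⟩, e.symm⟩
  have : Finite (orbit H a) := (Set.finite_range _ : (orbit H a).Finite)
  obtain ⟨n, hn'⟩ := hH.card_orbit a
  have hd : Nat.card (orbit U a) ∣ Nat.card U := by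
    rw [Nat.card_congr (orbitEquivQuotientStabilizer U a)]
    exact Subgroup.card_quotient_dvd_card _
  rw [eq, hn'] at hd
  have n0 : n = 0 := by
    by_contra h0
    exact hU ((dvd_pow_self p h0).trans hd)
  rw [n0, pow_zero, ← eq] at hn'
  have hs := (Nat.card_eq_one_iff_unique.mp hn').1
  intro u hu
  have := hs.elim ⟨u • a, ⟨⟨u, hu⟩, rfl⟩⟩ ⟨a, mem_orbit_self a⟩
  exact congrArg Subtype.val this

omit [Finite G] in
theorem dvd_fpf {p : ℕ} (hp : p.Prime) (z : G) (hz : z ^ p = 1) (A : Finset Ω)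
    (inv : ∀ a ∈ A, z • a ∈ A) (fpf : ∀ a ∈ A, z • a ≠ a) : p ∣ A.card := by
  classical
  have := Fact.mk hp
  let f : Function.End A := fun c => ⟨z • c.1, inv _ c.2⟩
  have hk : ∀ k : ℕ, ∀ c : A, ((f ^ k) c).1 = z ^ k • c.1 := by
    intro k
    induction k with
    | zero => intro c; simp; rfl
    | succ k ih =>
      intro c
      rw [pow_succ, pow_succ, mul_smul]
      exact ih (f c)
  have hf : f ^ p ^ 1 = 1 := by
    funext c
    apply Subtype.ext
    rw [pow_one, hk, hz, one_smul]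
    rfl
  have h := Equiv.Perm.card_fixedPoints_modEq hf
  have h0 : Fintype.card f.fixedPoints = 0 := by
    rw [Fintype.card_eq_zero_iff]
    exact ⟨fun c => fpf c.1.1 c.1.2 (congrArg Subtype.val c.2)⟩
  rw [h0, Fintype.card_coe] at h
  exact (Nat.modEq_zero_iff_dvd).mp h

/-- Burnside for a self-normalising abelian Sylow subgroup of order `p` -/
theorem burn {p : ℕ} (hp : p.Prime) (W E : Subgroup G) (le : E ≤ W) (hE : Nat.card E = p)
    (h2 : ¬ p ^ 2 ∣ Nat.card W) (comm : ∀ a ∈ E, ∀ b ∈ E, a * b = b * a)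
    (hN : ∀ n ∈ W, (∀ e ∈ E, n * e * n⁻¹ ∈ E) → n ∈ E) :
    ∃ U ≤ W, (∀ g ∈ W, ∀ u ∈ U, g * u * g⁻¹ ∈ U) ∧ ¬ p ∣ Nat.card U ∧
      ∀ g ∈ W, ∃ u ∈ U, ∃ e ∈ E, g = u * e := by
  have := Fact.mk hp
  have hc : Nat.card (E.subgroupOf W) = p := by
    rw [Nat.card_congr (Subgroup.subgroupOfEquivOfLe le).toEquiv, hE]
  have hpg : IsPGroup p (E.subgroupOf W) := IsPGroup.of_card (n := 1) (by rw [hc, pow_one])
  have hi : ¬ p ∣ (E.subgroupOf W).index := by
    intro hd
    apply h2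
    rw [← Subgroup.card_mul_index (E.subgroupOf W), hc, pow_two]
    exact Nat.mul_dvd_mul_left p hd
  let S : Sylow p W := hpg.toSylow hi
  have hS : (S : Subgroup W) = E.subgroupOf W := rfl
  have hP : Subgroup.normalizer ((S : Subgroup W) : Set W) ≤
      Subgroup.centralizer ((S : Subgroup W) : Set W) := by
    intro n hn
    have hnE : (n : G) ∈ E := by
      apply hN n n.2
      intro e he
      have := (Subgroup.mem_normalizer_iff.mp hn ⟨e, le he⟩).mp (by rw [hS]; exact he)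
      rw [hS] at this
      exact this
    rw [Subgroup.mem_centralizer_iff]
    intro y hy
    apply Subtype.ext
    exact comm _ (show (y : G) ∈ E from hy) _ hnE
  have hcomp := MonoidHom.ker_transferSylow_isComplement' S hP
  have hnd := MonoidHom.not_dvd_card_ker_transferSylow S hP
  have hnm : (MonoidHom.transferSylow S hP).ker.Normal := MonoidHom.normal_ker _
  generalize (MonoidHom.transferSylow S hP).ker = K at hcomp hnd hnm
  rw [hS] at hcomp
  refine ⟨K.map W.subtype, Subgroup.map_subtype_le _, ?_, ?_, ?_⟩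
  · rintro g hg _ ⟨u, hu, rfl⟩
    exact ⟨⟨g, hg⟩ * u * ⟨g, hg⟩⁻¹, hnm.conj_mem u hu _, rfl⟩
  · rwa [Subgroup.card_map_of_injective W.subtype_injective]
  · intro g hg
    obtain ⟨⟨u, e⟩, h⟩ := hcomp.2 ⟨g, hg⟩
    refine ⟨u.1, ⟨u.1, u.2, rfl⟩, e.1, e.2, ?_⟩
    exact (congrArg Subtype.val h).symm

/-- three sets meeting pairwise in at most one point -/
theorem three {α : Type*} [DecidableEq α] (A B C F : Finset α) (hA : A ⊆ F) (hB : B ⊆ F)
    (hC : C ⊆ F) (h1 : (A ∩ B).card ≤ 1) (h2 : (A ∩ C).card ≤ 1) (h3 : (B ∩ C).card ≤ 1) :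
    A.card + B.card + C.card ≤ F.card + 3 := by
  have e1 := Finset.card_union_add_card_inter A B
  have e2 := Finset.card_union_add_card_inter (A ∪ B) C
  have e3 : ((A ∪ B) ∩ C).card ≤ 2 := by
    rw [Finset.union_inter_distrib_right]
    exact (Finset.card_union_le _ _).trans (by omega)
  have e4 : (A ∪ B ∪ C).card ≤ F.card :=
    Finset.card_le_card (Finset.union_subset (Finset.union_subset hA hB) hC)
  omega

end Cfsg.Agent.H3.ElS
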