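import Cfsg.Agent.H3.WTC
import Cfsg.Agent.H3.CharInd

/-!
# An explicit model of `GL₂(3)` and its generalized characters
-/

set_option autoImplicit false

namespace Cfsg.Agent.H3

open Cfsg Cfsg.Agent.H4
open scoped ComplexConjugate

/-- The underlying type of a model of `GL₂(3)`. -/
def Gam : Type := Fin 48

namespace Gam

instance instDecEq : DecidableEq Gam := inferInstanceAs (DecidableEq (Fin 48))
instance instFin : Fintype Gam := inferInstanceAs (Fintype (Fin 48))

/-- The multiplication table. -/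
def mulT : ℕ := nat_lit 0x34c38f4500c51010022892c62074944d65579649a7a686dd71961a8a18de81faacaeeb6f86389f7a0a27a649a50020440c54d25155d624b28718840f44c38d61a65c6ddaeab2dbee69961d71b20718b2899a5929a2751349759508100510381f7a38a138d31140fb2baafbad10314008130e3503d17de8218e255759349471b7586999269689e91c62092cab6fbabaac1881ca24b65869b75c3d140d30e5955d25137a07e28630400831449e9a25926badbeab2ba689e69648e28607de75c6da6585d65544d24503ce34c2ca2481c61440c2040beeb6caea1c62092cab6fbabaac10314008130e3503d17de8218e255759349471b7586999269689e96dd71961a8a18de81faacaeeb6f34c38f4500c51010022892c62074944d65579649a7a6851349759508100510381f7a38a138d31140fb2baafbad69961d71b20718b2899a5929a27badbeab2b1881ca24b65869b75c3d140d30e5955d25137a07e28630400831449e9a259260020440c54d25155d624b28718840f44c38d61a65c6ddaeab2dbee86389f7a0a27a649a58e28607de75c6da6585d65544d24503ce34c2ca2481c61440c2040beeb6caeaa689e69640400831449e9a25926badbeab2b1881ca24b65869b75c3d140d30e5955d25137a07e286355759349471b75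86999269689e91c62092cab6fbabaac10314008130e3503d17de8218e238d31140fb2baafbad69961d71b20718b2899a5929a2751349759508100510381f7a38a1a27a649a50020440c54d25155d624b28718840f44c38d61a65c6ddaeab2dbee86389f7a0aacaeeb6f34c38f4500c51010022892c62074944d65579649a7a686dd71961a8a18de81f75c6da6585d65544d24503ce34c2ca2481c61440c2040beeb6caeaa689e69648e28607deaeab2dbee86389f7a0a27a649a50020440c54d25155d624b28718840f44c38d61a65c6dd3d140d30e5955d25137a07e28630400831449e9a25926badbeab2b1881ca24b65869b75c20718b2899a5929a2751349759508100510381f7a38a138d31140fb2baafbad69961d71b8a18de81faacaeeb6f34c38f4500c51010022892c62074944d65579649a7a686dd71961a9269689e91c62092cab6fbabaac10314008130e3503d17de8218e255759349471b7586995d65544d24503ce34c2ca2481c61440c2040beeb6caeaa689e69648e28607de75c6da6589649a7a686dd71961a8a18de81faacaeeb6f34c38f4500c51010022892c62074944d655724b28718840f44c38d61a65c6ddaeab2dbee86389f7a0a27a649a50020440c54d25155d608100510381f7a38a138d31140fb2baafbad69961d71b20718b2899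a5929a2751349759571b7586999269689e91c62092cab6fbabaac10314008130e3503d17de8218e25575934947a07e28630400831449e9a25926badbeab2b1881ca24b65869b75c3d140d30e5955d25134503ce34c2ca2481c61440c2040beeb6caeaa689e69648e28607de75c6da6585d65544d27de8218e255759349471b7586999269689e91c62092cab6fbabaac10314008130e3503d10c51010022892c62074944d65579649a7a686dd71961a8a18de81faacaeeb6f34c38f450b2baafbad69961d71b20718b2899a5929a2751349759508100510381f7a38a138d31140f5955d25137a07e28630400831449e9a25926badbeab2b1881ca24b65869b75c3d140d30e61a65c6ddaeab2dbee86389f7a0a27a649a50020440c54d25155d624b28718840f44c38d2ca2481c61440c2040beeb6caeaa689e69648e28607de75c6da6585d65544d24503ce34c65869b75c3d140d30e5955d25137a07e28630400831449e9a25926badbeab2b1881ca24bb6fbabaac10314008130e3503d17de8218e255759349471b7586999269689e91c62092ca9a5929a2751349759508100510381f7a38a138d31140fb2baafbad69961d71b20718b28940f44c38d61a65c6ddaeab2dbee86389f7a0a27a649a50020440c54d25155d624b2871884944d65579649a7a686dd719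61a8a18de81faacaeeb6f34c38f4500c51010022892c62071440c2040beeb6caeaa689e69648e28607de75c6da6585d65544d24503ce34c2ca2481c64d25155d624b28718840f44c38d61a65c6ddaeab2dbee86389f7a0a27a649a50020440c59e9a25926badbeab2b1881ca24b65869b75c3d140d30e5955d25137a07e286304008314481f7a38a138d31140fb2baafbad69961d71b20718b2899a5929a275134975950810051032892c62074944d65579649a7a686dd71961a8a18de81faacaeeb6f34c38f4500c510100230e3503d17de8218e255759349471b7586999269689e91c62092cab6fbabaac103140081beeb6caeaa689e69648e28607de75c6da6585d65544d24503ce34c2ca2481c61440c2040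

/-- The table of inverses. -/
def invT : ℕ := nat_lit 0x96356c4068139cabccb8e2697d275c6d969834bb54a1e22b3e25e45a68511ea1440c1080

/-- The table of conjugacy classes. -/
def tyT : ℕ := nat_lit 0xb97723faad53f3ff69d578dcf72b94efffb0

/-- The table of a representation. -/
def matT : ℕ := nat_lit 0x7977879886979989998a7877898877878787989988898978879889799989788778779798778797989899897989787887897977867887979997988a799798898989798887788787887786979997998a798a797786898987888887898987888887979989788a797787778698998788998989897877888787988978879777879889989979789989797878778797879898898797998a9889797779788697797887878797888998898988998a7977797786978697998a878789888889878789888889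

instance instMul : Mul Gam :=
  ⟨fun x y => Fin.ofNat 48 (Nat.land (Nat.shiftRight mulT (6 * (48 * x.val + y.val))) 63)⟩
instance instInv : Inv Gam :=
  ⟨fun x => Fin.ofNat 48 (Nat.land (Nat.shiftRight invT (6 * x.val)) 63)⟩
instance instOne : One Gam := ⟨(0 : Fin 48)⟩

/-- An entry of the representing matrix. -/
def me (g : Gam) (k : ℕ) : ℤ :=
  Int.subNatNat (Nat.land (Nat.shiftRight matT (4 * (8 * g.val + k))) 15) 8

/-- The representing matrix. -/
def mat (g : Gam) : Matrix (Fin 2) (Fin 2) (ℤ√(-2)) :=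
  !![⟨me g 0, me g 1⟩, ⟨me g 2, me g 3⟩; ⟨me g 4, me g 5⟩, ⟨me g 6, me g 7⟩]

theorem mat_mul : ∀ g k : Gam, mat (g * k) = mat g * mat k := by decide +kernel

theorem mat_inj : ∀ g k : Gam, mat g = mat k → g = k := by decide +kernel

instance instGroup : Group Gam :=
  Group.ofLeftAxioms (fun a b c => mat_inj _ _ (by simp only [mat_mul, mul_assoc]))
    (by decide +kernel) (by decide +kernel)

/-- An element of order eight. -/
def ga : Gam := (6 : Fin 48)
/-- A non-central involution. -/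
def gr : Gam := (3 : Fin 48)
/-- An element of order three. -/
def gh : Gam := (1 : Fin 48)
/-- The central involution. -/
def gz : Gam := (24 : Fin 48)

theorem card_eq : Nat.card Gam = 48 := by
  rw [Nat.card_eq_fintype_card]; rfl

theorem ga_four : ga ^ 4 = gz := by decide +kernel

theorem rels : ga ^ 8 = 1 ∧ gr * gr = 1 ∧ gr * ga * gr = ga ^ 3 ∧ gh ^ 3 = 1 ∧
    gr * gh * gr = gh⁻¹ ∧ gh * ga ^ 2 * gh⁻¹ = ga * gr := by decide +kernel

theorem exists_nf : ∀ g : Gam, ∃ i : Fin 8, ∃ j : Fin 2, ∃ k : Fin 3,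
    g = ga ^ i.val * gr ^ j.val * gh ^ k.val := by decide +kernel

/-- The conjugacy class of an element. -/
def ty (g : Gam) : Fin 8 := Fin.ofNat 8 (Nat.land (Nat.shiftRight tyT (3 * g.val)) 7)

/-- Representatives of the conjugacy classes. -/
def rep : Fin 8 → Gam := ![1, gz, ga ^ 2, ga, ga⁻¹, gz * gh, gh, gr]

theorem exists_conj_rep : ∀ g : Gam, ∃ k : Gam, g = k * rep (ty g) * k⁻¹ := by decide +kernel

theorem ty_rep : ∀ i, ty (rep i) = i := by decide +kernel

theorem trace_mat : ∀ g : Gam, (mat g).trace =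
    ![⟨2, 0⟩, ⟨-2, 0⟩, ⟨0, 0⟩, ⟨0, 1⟩, ⟨0, -1⟩, ⟨1, 0⟩, ⟨-1, 0⟩, ⟨0, 0⟩] (ty g) := by
  decide +kernel

/-- The sign character. -/
def sg : Fin 8 → ℤ := ![1, 1, 1, -1, -1, 1, 1, -1]

theorem sg_mul : ∀ g k : Gam, sg (ty (g * k)) = sg (ty g) * sg (ty k) := by decide +kernel

theorem card_ty : ∀ i, (Finset.univ.filter (fun g : Gam => ty g = i)).card =
    ![1, 1, 6, 6, 6, 8, 8, 12] i := by decide +kernel

theorem card_ty_pairs : ∀ i, ((Finset.univ.filter (fun g : Gam => ty g = 7) ×ˢ
    Finset.univ.filter (fun g : Gam => ty g = 7)).filter (fun p => ty (p.1 * p.2) = i)).card =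
    ![12, 12, 24, 0, 0, 48, 48, 0] i := by decide +kernel

theorem exists_pow_eq_gz : ∀ g : Gam, ty g ≠ 0 → ty g ≠ 6 → ty g ≠ 7 →
    ∃ i : Fin 5, g ^ i.val = gz := by decide +kernel

theorem ty_of_sq : ∀ g : Gam, g * g = 1 → g = 1 ∨ g = gz ∨ ty g = 7 := by decide +kernel

theorem pow_24 : ∀ g : Gam, g ^ 24 = 1 := by decide +kernel

theorem ty_section : ∀ o : Gam, o ^ 3 = 1 → ∀ u : Gam, u * o = o * u → u ^ 8 = 1 →
    u = 1 ∨ ty (u * o) = ty u ∨ (ty u = 1 ∧ ty (u * o) = 5) := by decide +kernel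

theorem ty_pow_ga : ∀ i : Fin 8, ty (ga ^ i.val) = ![0, 3, 2, 3, 1, 4, 2, 4] i := by
  decide +kernel

theorem invol_prod : ∀ u t : Gam, ty u = 7 → ty t = 7 →
    (u * t) ^ 2 = 1 ∨ (u * t) ^ 2 = gz ∨ (u * t) ^ 3 = 1 ∨ (u * t) ^ 3 = gz := by decide +kernel

theorem inverted_three : ∀ k : Gam, k ^ 3 = 1 → k ≠ 1 →
    (gr * k * gr⁻¹ = k⁻¹ ∨ gz * gr * k * (gz * gr)⁻¹ = k⁻¹) → k = gh ∨ k = gh⁻¹ ∨
      k = ga ^ 2 * gh * (ga ^ 2)⁻¹ ∨ k = (ga ^ 2 * gh * (ga ^ 2)⁻¹)⁻¹ := by decide +kernel

theorem comm_gh : ∀ g : Gam, g * gh = gh * g →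
    (g ^ 8 = 1 → g = 1 ∨ g = gz) ∧ (g ^ 3 = 1 → g = 1 ∨ g = gh ∨ g = gh⁻¹) := by decide +kernel

theorem ty_of_cube : ∀ g : Gam, g ^ 3 = 1 → g ≠ 1 → ty g = 6 := by decide +kernel

theorem eq_of_ty : ∀ g : Gam, (ty g = 0 → g = 1) ∧ (ty g = 1 → g = gz) ∧ (ty g = 7 → g * g = 1) := by
  decide +kernel

theorem gh_ne : gh ≠ 1 := by decide +kernel

theorem gz_ne : gz ≠ 1 := by decide +kernel

theorem closure_eq : Subgroup.closure {ga, gr, gh} = ⊤ := by
  rw [eq_top_iff]
  intro g _
  obtain ⟨i, j, k, rfl⟩ := exists_nf g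
  exact mul_mem (mul_mem (pow_mem (Subgroup.subset_closure (by simp)) _)
    (pow_mem (Subgroup.subset_closure (by simp)) _)) (pow_mem (Subgroup.subset_closure (by simp)) _)

theorem card_closure_le {M : Type*} [Group M] {a r k : M} (e0 : a ^ 8 = 1) (e1 : r * r = 1)
    (e2 : r * a * r = a ^ 3) (e3 : k ^ 3 = 1) (e4 : r * k * r = k⁻¹)
    (e5 : k * a ^ 2 * k⁻¹ = a * r) : Finite (Subgroup.closure ({a, r, k} : Set M)) ∧
      Nat.card (Subgroup.closure ({a, r, k} : Set M)) ≤ 48 := by
  obtain ⟨hf, hc⟩ := TC.finite_zpowers_of_pow (by norm_num) e0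
  have h1 := WTC.g48_card e0 e1 e2 e3 e4 e5 _ (Subgroup.mem_zpowers a)
  exact ⟨h1.1, h1.2.trans (by omega)⟩

theorem exists_iso {M : Type*} [Group M] [Finite M] {a r k : M} (e0 : a ^ 8 = 1) (e1 : r * r = 1)
    (e2 : r * a * r = a ^ 3) (e3 : k ^ 3 = 1) (e4 : r * k * r = k⁻¹)
    (e5 : k * a ^ 2 * k⁻¹ = a * r) (ht : Subgroup.closure {a, r, k} = ⊤)
    (hM : 48 ≤ Nat.card M) : ∃ π : M ≃* Gam, π a = ga ∧ π r = gr ∧ π k = gh := by
  obtain ⟨r0, r1, r2, r3, r4, r5⟩ := rels
  obtain ⟨h1, h2⟩ := card_closure_le (a := (ga, a)) (r := (gr, r)) (k := (gh, k))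
    (Prod.ext r0 e0) (Prod.ext r1 e1) (Prod.ext r2 e2) (Prod.ext r3 e3) (Prod.ext r4 e4)
    (Prod.ext r5 e5)
  obtain ⟨φ, hφ⟩ := TC.exists_hom_of_card_le (h2.trans hM) (by
    rw [MonoidHom.map_closure, ← ht]
    simp only [Set.image_insert_eq, Set.image_singleton, MonoidHom.coe_snd])
  have ha := hφ ga a (Subgroup.subset_closure (by simp))
  have hr := hφ gr r (Subgroup.subset_closure (by simp))
  have hk := hφ gh k (Subgroup.subset_closure (by simp))
  have hs : Function.Surjective φ := by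
    rw [← MonoidHom.range_eq_top, MonoidHom.range_eq_map, ← ht, MonoidHom.map_closure,
      ← closure_eq]
    simp only [Set.image_insert_eq, Set.image_singleton, ha, hr, hk]
  have h3 := (card_closure_le e0 e1 e2 e3 e4 e5).2
  rw [ht, Subgroup.card_top] at h3
  exact ⟨MulEquiv.ofBijective φ (hs.bijective_of_nat_card_le (card_eq ▸ h3)), ha, hr, hk⟩

theorem cube_of_isPReg {g : Gam} (h : (orderOf g).Coprime 2) : g ^ 3 = 1 :=
  orderOf_dvd_iff_pow_eq_one.1 ((h.pow_right 3).dvd_of_dvd_mul_left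
    (orderOf_dvd_of_pow_eq_one (pow_24 g)))

theorem pow_eight_of_pow {g : Gam} {k : ℕ} (h : g ^ 2 ^ k = 1) : g ^ 8 = 1 :=
  orderOf_dvd_iff_pow_eq_one.1 (((Nat.Coprime.pow_left k (by norm_num : Nat.Coprime 2 3)).coprime_dvd_left
    (orderOf_dvd_of_pow_eq_one h)).dvd_of_dvd_mul_right (orderOf_dvd_of_pow_eq_one (pow_24 g)))

theorem cube_of_pow {g : Gam} {k : ℕ} (h : g ^ 3 ^ k = 1) : g ^ 3 = 1 :=
  cube_of_isPReg ((Nat.Coprime.pow_left k (by norm_num : Nat.Coprime 3 2)).coprime_dvd_left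
    (orderOf_dvd_of_pow_eq_one h))

/-- A square root of `-2`. -/
noncomputable def sq2 : ℂ := (Real.sqrt 2 : ℝ) * Complex.I

theorem sq2_mul : sq2 * sq2 = -2 := by
  have h : ((Real.sqrt 2 : ℝ) : ℂ) * (Real.sqrt 2 : ℝ) = 2 := by
    rw [← Complex.ofReal_mul, Real.mul_self_sqrt (by norm_num)]; norm_num
  rw [sq2]
  linear_combination h * Complex.I ^ 2 + 2 * Complex.I_sq

theorem conj_sq2 : conj sq2 = -sq2 := by simp [sq2]

/-- The values of a faithful character of degree two. -/
noncomputable def tv : Fin 8 → ℂ := ![2, -2, 0, sq2, -sq2, 1, -1, 0]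

theorem isCharacter_tv : IsCharacter Gam (fun g => tv (ty g)) := by
  let ρ0 : Gam →* Matrix (Fin 2) (Fin 2) (ℤ√(-2)) :=
    { toFun := mat, map_one' := by decide +kernel, map_mul' := mat_mul }
  let φ : ℤ√(-2) →+* ℂ := Zsqrtd.lift ⟨sq2, by rw [sq2_mul]; simp⟩
  refine ⟨2, (Matrix.toLinAlgEquiv' (R := ℂ) (n := Fin 2)).toMonoidHom.comp
    ((φ.mapMatrix : _ →+* _).toMonoidHom.comp ρ0), ?_⟩
  ext g
  change LinearMap.trace ℂ _ (Matrix.toLin' ((mat g).map φ)) = _
  rw [Matrix.trace_toLin'_eq, ← AddMonoidHom.map_trace, trace_mat]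
  generalize ty g = i
  fin_cases i <;> simp [φ, tv]

theorem genChar_sg : IsGeneralizedCharacter Gam (fun g => (sg (ty g) : ℂ)) := by
  let l : Gam →* ℂ :=
    { toFun := fun g => (sg (ty g) : ℂ)
      map_one' := by rw [show ty 1 = 0 from ty_rep 0]; simp [sg]
      map_mul' := fun g k => by rw [sg_mul]; push_cast; rfl }
  exact genChar_of_irr (isIrrCharacter_hom l)

/-- A basis of the generalized characters supported on the elements having the central
involution as a power. -/
noncomputable def al : ℕ → Fin 8 → ℂ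
  | 0 => ![0, 0, 0, 2 * sq2, -2 * sq2, 0, 0, 0]
  | 1 => ![0, 4, 2, -sq2, sq2, -2, 0, 0]
  | 2 => ![0, 8, 0, 2, 2, 2, 0, 0]
  | 3 => ![0, 8, 0, -2, -2, 2, 0, 0]
  | _ => ![0, 8, 4, 0, 0, 2, 0, 0]

theorem genChar_al (i : ℕ) : IsGeneralizedCharacter Gam (fun g => al i (ty g)) := by
  have h1 : IsGeneralizedCharacter Gam 1 := genChar_of_char isCharacter_one
  have ht := genChar_of_char isCharacter_tv
  have he := genChar_sg
  have hψ := genChar_sub (genChar_mul ht ht) he
  have hψ' := genChar_mul he hψ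
  have hφ := genChar_sub (genChar_sub (genChar_sub (genChar_mul hψ hψ) h1) hψ) hψ'
  have h4 := genChar_mul hφ ht
  have hs := sq2_mul
  match i with
  | 0 =>
    convert genChar_sub ht (genChar_mul he ht) using 2 with g
    simp only [Pi.sub_apply, Pi.mul_apply]
    generalize ty g = i
    fin_cases i <;> simp [al, tv, sg] <;> ring
  | 1 =>
    convert genChar_sub hφ ht using 2 with g
    simp only [Pi.sub_apply, Pi.mul_apply, Pi.one_apply]
    generalize ty g = i
    fin_cases i <;> simp [al, tv, sg, hs] <;> norm_num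
  | 2 =>
    convert genChar_sub (genChar_add h1 hψ') h4 using 2 with g
    simp only [Pi.sub_apply, Pi.mul_apply, Pi.one_apply, Pi.add_apply]
    generalize ty g = i
    fin_cases i <;> simp [al, tv, sg, hs] <;> norm_num
  | 3 =>
    convert genChar_sub (genChar_add he hψ) h4 using 2 with g
    simp only [Pi.sub_apply, Pi.mul_apply, Pi.one_apply, Pi.add_apply]
    generalize ty g = i
    fin_cases i <;> simp [al, tv, sg, hs] <;> norm_num
  | n + 4 =>
    convert genChar_sub (genChar_add (genChar_add h1 he) hφ) h4 using 2 with g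
    simp only [Pi.sub_apply, Pi.mul_apply, Pi.one_apply, Pi.add_apply]
    generalize ty g = i
    fin_cases i <;> simp [al, tv, sg, hs] <;> norm_num

theorem al_eq_zero (i : ℕ) {k : Fin 8} (h : k = 0 ∨ k = 6 ∨ k = 7) : al i k = 0 := by
  rcases h with rfl | rfl | rfl <;> unfold al <;> split <;> rfl

theorem sum_ty (F : Fin 8 → ℂ) : ∑ g : Gam, F (ty g) =
    F 0 + F 1 + 6 * F 2 + 6 * F 3 + 6 * F 4 + 8 * F 5 + 8 * F 6 + 12 * F 7 := by
  rw [← Finset.sum_fiberwise (s := Finset.univ) (g := ty)]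
  have : ∀ i, ∑ g ∈ Finset.univ.filter (fun g : Gam => ty g = i), F (ty g) =
      (![1, 1, 6, 6, 6, 8, 8, 12] i : ℕ) * F i := fun i => by
    rw [Finset.sum_congr rfl (fun g hg => by rw [(Finset.mem_filter.1 hg).2]), Finset.sum_const,
      card_ty, nsmul_eq_mul]
  simp [this, Fin.sum_univ_eight]

theorem sum_ty_pairs (F : Fin 8 → ℂ) : ∑ u : Gam, ∑ v : Gam,
    (if ty u = 7 ∧ ty v = 7 then F (ty (u * v)) else 0) =
      12 * F 0 + 12 * F 1 + 24 * F 2 + 48 * F 5 + 48 * F 6 := by
  have h1 : ∑ u : Gam, ∑ v : Gam, (if ty u = 7 ∧ ty v = 7 then F (ty (u * v)) else 0) =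
      ∑ p ∈ Finset.univ.filter (fun g : Gam => ty g = 7) ×ˢ
        Finset.univ.filter (fun g : Gam => ty g = 7), F (ty (p.1 * p.2)) := by
    rw [Finset.sum_product, Finset.sum_filter]
    refine Finset.sum_congr rfl fun u _ => ?_
    rw [Finset.sum_filter]
    by_cases hu : ty u = 7 <;> simp [hu]
  rw [h1, ← Finset.sum_fiberwise (g := fun p : Gam × Gam => ty (p.1 * p.2))]
  have : ∀ i, ∑ p ∈ (Finset.univ.filter (fun g : Gam => ty g = 7) ×ˢ
      Finset.univ.filter (fun g : Gam => ty g = 7)).filter (fun p => ty (p.1 * p.2) = i),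
      F (ty (p.1 * p.2)) = (![12, 12, 24, 0, 0, 48, 48, 0] i : ℕ) * F i := fun i => by
    rw [Finset.sum_congr rfl (fun g hg => by rw [(Finset.mem_filter.1 hg).2]), Finset.sum_const,
      card_ty_pairs, nsmul_eq_mul]
  simp [this, Fin.sum_univ_eight]

end Gam

end Cfsg.Agent.H3
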