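import Cfsg.Agent.H3.L43LocE
import Cfsg.Agent.L0.L43Emb

/-!
# The model embeds and contains the centralizer of the central element
-/

set_option autoImplicit false

namespace Cfsg.Agent.H3.L43

open Subgroup Cfsg.Agent.L0.L43

variable {β : Bool}

/-- Transvections with centre the first basis vector. -/
def Tv (β : Bool) (i j k : ZMod 3) : M β :=
  ⟨⟨!![1, i, j, k; 0, 1, 0, 0; 0, 0, 1, 0; 0, 0, 0, 1], by rw [det4]; simp⟩,
    Or.inr ⟨rfl, rfl, rfl⟩⟩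

theorem mt_Tv (i j k : ZMod 3) :
    mt (Tv β i j k) = !![1, i, j, k; 0, 1, 0, 0; 0, 0, 1, 0; 0, 0, 0, 1] := rfl

theorem mt_mul (A B : M β) : mt (A * B) = mt A * mt B := rfl

theorem mt_inj {A B : M β} (h : mt A = mt B) : A = B := Subtype.ext (Subtype.ext h)

theorem Tv_eq (i j k : ZMod 3) : Tv β i j k = b0 ^ i.val * a0 ^ j.val * z0 ^ k.val := by
  refine mt_inj ?_
  rw [← dec_cd (_ * _), mt_Tv]
  simp only [cd_mul, cd_pow, cds]
  revert i j k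
  decide +kernel

theorem Tv_mul (i j k i' j' k' : ZMod 3) :
    Tv β i j k * Tv β i' j' k' = Tv β (i + i') (j + j') (k + k') := by
  refine mt_inj ?_
  simp [mt_mul, mt_Tv, add_comm]

theorem Tv_zero : Tv β 0 0 0 = 1 := mt_inj (by
  rw [mt_Tv]; show _ = (1 : Mat); decide +kernel)

theorem Tv_l (i j k : ZMod 3) (X : Mat) (a c : Fin 4) : (mt (Tv β i j k) * X) a c =
    X a c + if a = 0 then i * X 1 c + j * X 2 c + k * X 3 c else 0 := by
  rw [mt_Tv, Matrix.mul_apply, Fin.sum_univ_four]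
  fin_cases a <;> simp [add_assoc]

theorem Tv_r (i j k : ZMod 3) (X : Mat) (a c : Fin 4) : (X * mt (Tv β i j k)) a c =
    X a c + X a 0 * ![0, i, j, k] c := by
  rw [mt_Tv, Matrix.mul_apply, Fin.sum_univ_four]
  fin_cases c <;> simp <;> ring

theorem shape {X : Mat} {l : ZMod 3} (hl : l * l = 1) (h0 : X 0 0 = l) (h1 : X 1 0 = 0)
    (h2 : X 2 0 = 0) (h3 : X 3 0 = 0)
    (h : ∀ (i j k : ZMod 3), l * (i * X 1 1 + j * X 2 1 + k * X 3 1) - i = 0 ∧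
      l * (i * X 1 2 + j * X 2 2 + k * X 3 2) - j = 0 ∧
      l * (i * X 1 3 + j * X 2 3 + k * X 3 3) - k = 0) :
    X = l • mt (Tv β (l * X 0 1) (l * X 0 2) (l * X 0 3)) := by
  have k : ∀ x y : ZMod 3, l * x - y = 0 → x = l * y := fun x y e => by
    linear_combination l * e - x * hl
  obtain ⟨a1, a2, a3⟩ := h 1 0 0
  obtain ⟨b1, b2, b3⟩ := h 0 1 0
  obtain ⟨c1, c2, c3⟩ := h 0 0 1
  simp only [one_mul, zero_mul, add_zero, zero_add] at a1 a2 a3 b1 b2 b3 c1 c2 c3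
  rw [mt_Tv]
  ext a c
  fin_cases a <;> fin_cases c <;>
    simp [h0, h1, h2, h3, k _ _ a1, k _ _ a2, k _ _ a3, k _ _ b1, k _ _ b2, k _ _ b3, k _ _ c1,
      k _ _ c2, k _ _ c3, ← mul_assoc, hl]

variable {G : Type*} [Group G] {φ : M β →* G}

theorem kerP (hm : φ m0 = 1) (hT : ∀ i j k, φ (Tv β i j k) = 1 → i = 0 ∧ j = 0 ∧ k = 0)
    {A : M β} (hA : φ A = 1) (h1 : mt A 1 0 = 0) (h2 : mt A 2 0 = 0) (h3 : mt A 3 0 = 0) :
    A = 1 ∨ A = m0 := by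
  have hl : mt A 0 0 * mt A 0 0 = 1 := by
    have := A.1.2
    change (mt A).det = 1 at this
    rw [det4, h1, h2, h3] at this
    have k : ∀ x : ZMod 3, x = 0 ∨ x * x = 1 := by decide
    refine (k _).resolve_left fun h => ?_
    simp [h] at this
  have e := shape (β := β) hl rfl h1 h2 h3 fun i j k => by
    have e : Tv β i j k * A = A * Tv β (mt A 0 0 * (i * mt A 1 1 + j * mt A 2 1 + k * mt A 3 1))
        (mt A 0 0 * (i * mt A 1 2 + j * mt A 2 2 + k * mt A 3 2))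
        (mt A 0 0 * (i * mt A 1 3 + j * mt A 2 3 + k * mt A 3 3)) := by
      refine mt_inj ?_
      rw [mt_mul, mt_mul]
      generalize mt A = X at hl h1 h2 h3
      ext a c
      rw [Tv_l, Tv_r]
      fin_cases a <;> fin_cases c <;> simp [h1, h2, h3, ← mul_assoc, hl]
    refine hT _ _ _ ?_
    have := congrArg φ e
    rw [map_mul, map_mul, hA, mul_one, one_mul] at this
    simp only [sub_eq_add_neg]
    rw [← Tv_mul, map_mul, ← this, ← map_mul, Tv_mul]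
    simp [Tv_zero]
  generalize mt A 0 0 * mt A 0 1 = i, mt A 0 0 * mt A 0 2 = j, mt A 0 0 * mt A 0 3 = k at e
  have k0 : ∀ x : ZMod 3, x * x = 1 → x = 1 ∨ x = -1 := by decide
  rcases k0 _ hl with h | h <;> rw [h] at e
  · replace e := mt_inj (e.trans (one_smul _ _))
    obtain ⟨e1, e2, e3⟩ := hT _ _ _ (e ▸ hA)
    rw [e1, e2, e3, Tv_zero] at e
    exact Or.inl e
  · replace e : A = m0 * Tv β i j k := mt_inj (by rw [e, mt_mul, mt_m0]; simp)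
    obtain ⟨e1, e2, e3⟩ := hT _ _ _ (by rwa [e, map_mul, hm, one_mul] at hA)
    rw [e1, e2, e3, Tv_zero, mul_one] at e
    exact Or.inr e

theorem kerAll (hm : φ m0 = 1) (hT : ∀ i j k, φ (Tv β i j k) = 1 → i = 0 ∧ j = 0 ∧ k = 0)
    (A : M β) : φ A = 1 ↔ A = 1 ∨ A = m0 := by
  refine ⟨fun hA => ?_, by rintro (rfl | rfl); exacts [map_one φ, hm]⟩
  have key : ∀ i j : ZMod 3, i * mt A 1 0 + j * mt A 2 0 = 0 → ∀ a c : Fin 4, a ≠ 0 →
      mt A a 0 * ![0, i, j, 0] c = 0 := fun i j e a c ha => by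
    have c0 : ∀ a, mt (A⁻¹ * (Tv β i j 0 * A * Tv β (-i) (-j) 0)) a 0 = (1 : Mat) a 0 := fun a => by
      rw [show (1 : Mat) = mt (A⁻¹ * A) by rw [inv_mul_cancel]; rfl, mt_mul, mt_mul A⁻¹,
        Matrix.mul_apply, Matrix.mul_apply]
      refine Finset.sum_congr rfl fun x _ => ?_
      rw [mt_mul, Tv_r, mt_mul, Tv_l, e]
      simp
    rcases kerP hm hT (A := A⁻¹ * (Tv β i j 0 * A * Tv β (-i) (-j) 0)) (by
      simp only [map_mul, map_inv, hA, inv_one, one_mul, mul_one]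
      rw [← map_mul, Tv_mul]; simp [Tv_zero]) (c0 1) (c0 2) (c0 3) with h | h
    · rw [inv_mul_eq_one] at h
      have h' : Tv β i j 0 * A = A * Tv β i j 0 := by
        nth_rewrite 2 [h]
        rw [mul_assoc, Tv_mul]; simp [Tv_zero]
      have := congrArg (fun X => L0.L43.mt X a c) h'
      simp only [mt_mul, Tv_l, Tv_r, if_neg ha] at this
      exact (add_left_cancel this).symm
    · have := c0 0
      rw [h, mt_m0] at this
      exact absurd this (by decide)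
  have h1 : mt A 1 0 = 0 :=
    mul_self_eq_zero.mp (key (-mt A 2 0) (mt A 1 0) (by ring) 1 2 (by decide))
  have h2 := key 1 0 (by simp [h1])
  exact kerP hm hT hA h1 (by simpa using h2 2 1 (by decide)) (by simpa using h2 3 1 (by decide))

namespace Bs

variable {z : G} {Q : Subgroup G} {π : G → S} {a b c d y t s u q r : G}
  (B : Bs z Q π a b c d y t s)
include B

theorem relP (U : Bu z a b c d y t s u) (R : Bq z a b c d y t s q) :
    RelP z a b c d y u t s q 1 :=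
  ⟨B.z3, B.exp a B.aQ, B.exp b B.bQ, B.QC a B.aQ, B.QC b B.bQ, B.ab, B.exp c B.cQ, B.exp d B.dQ,
    B.QC c B.cQ, B.QC d B.dQ, B.ac, B.bd, B.cd, by rw [B.bc, mul_assoc], by rw [B.ad, mul_assoc],
    B.y3, B.zy.symm, cj_eq.mp B.ya, cj_eq.mp B.yc, cj_eq.mp B.yb, cj_eq.mp B.yd, U.u3, U.zu.symm,
    cj_eq.mp U.ub, cj_eq.mp U.ud, cj_eq.mp U.ua, cj_eq.mp U.uc, U.yu, B.t2, U.w2, B.s2, B.st,
    cj_eq.mp B.sz, cj_eq.mp B.sa, cj_eq.mp B.sb, cj_eq.mp B.sc, cj_eq.mp B.sd, cj_eq.mp B.sy,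
    cj_eq.mp U.su, R.q3, R.dq, R.w3, cj_eq.mp R.wz, R.qb, cj_eq.mp R.wc, cj_eq.mp R.tq, B.w23 R U,
    by simp, by simp, by simp, by simp, by simp, by simp, by simp, by simp⟩

theorem relH (U : Bu z a b c d y t s u) (R : Bq z a b c d y t s q)
    (R' : Bq z⁻¹ c d a b y⁻¹ t s r) : RelH z a b c d y u t s q 1 r :=
  ⟨B.relP U R, by simp, R'.q3, R'.dq, by rw [R'.w3, one_mul], cj_eq.mp R'.wz, R'.qb,
    cj_eq.mp R'.wc, cj_eq.mp R'.tq, by
      simpa only [mul_inv_rev, mul_assoc] using B.symm.w23 R' (U.symm B.t2), B.w13 R R'⟩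

theorem emb (U : Bu z a b c d y t s u) (h7 : ¬ 3 ^ 7 ∣ Nat.card G) (hz : φ z0 = z) (ha : φ a0 = a)
    (hb : φ b0 = b) (hc : φ c0 = c) (hd : φ d0 = d) (hy : φ y0 = y) (hu : φ u0 = u)
    (hm : φ m0 = 1) : Emb φ := by
  refine ⟨kerAll hm fun i j k h => B.inj ?_, fun x hx => B.gen U (H := φ.range) ⟨_, hz⟩ ⟨_, ha⟩ ⟨_, hb⟩
    ⟨_, hc⟩ ⟨_, hd⟩ ⟨_, hy⟩ ⟨_, hu⟩ (hz ▸ hx _ rfl), h7⟩
  simpa only [Tv_eq, map_mul, map_pow, hz, ha, hb] using h

end Bs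

theorem partI {G : Type*} [Group G] [Finite G]
    (S : Sylow 3 G) (Z : Subgroup G) (hZ : Z = (S : Subgroup G) ⊓ Subgroup.centralizer ((S : Subgroup G) : Set G))
    (C : Subgroup G) (hCZ : C = Subgroup.centralizer (Z : Set G))
    (Q : Subgroup G) (hQ : Q = (Cfsg.pCore 3 C).map C.subtype)
    (hQex : Cfsg.IsExtraspecial 3 Q) (hQcard : Nat.card Q = 3 ^ 5) (hQexp : ∀ a ∈ Q, a ^ 3 = 1)
    (hCQ : Subgroup.centralizer (Q : Set G) ≤ Q)
    (hZQ : ∃ x : G, Z.map (MulAut.conj x).toMonoidHom ≤ Q ∧ Z.map (MulAut.conj x).toMonoidHom ≠ Z)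
    (K : Subgroup G) (hK : K = ((Cfsg.pResidual 2 (C ⧸ Cfsg.pCore 3 C)).comap (QuotientGroup.mk' (Cfsg.pCore 3 C))).map C.subtype)
    (r : ℕ) (A : Fin (r + 1) → Subgroup G) (hA0 : A 0 = Z) (hAr : A (Fin.last r) = Q)
    (hmono : ∀ i : Fin r, A i.castSucc < A i.succ)
    (hinv : ∀ i : Fin (r + 1), ∀ k ∈ K, ∀ a ∈ A i, k * a * k⁻¹ ∈ A i)
    (hmax : ∀ i : Fin r, ∀ B : Subgroup G, A i.castSucc < B → B < A i.succ → ∃ k ∈ K, ∃ b ∈ B, k * b * k⁻¹ ∉ B)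
    (e : C ⧸ Cfsg.pCore 3 C ≃* Matrix.SpecialLinearGroup (Fin 2) (ZMod 3))
    (htwo : ∃ i j : Fin r, i ≠ j ∧ (∃ k ∈ K, ∃ a ∈ A i.succ, k * a * k⁻¹ * a⁻¹ ∉ A i.castSucc) ∧ (∃ k ∈ K, ∃ a ∈ A j.succ, k * a * k⁻¹ * a⁻¹ ∉ A j.castSucc) ∧
      ∀ l : Fin r, (∃ k ∈ K, ∃ a ∈ A l.succ, k * a * k⁻¹ * a⁻¹ ∉ A l.castSucc) → l = i ∨ l = j) :
    ∃ (b : Bool) (φ : M b →* G), Emb φ ∧ (b = false → ∀ g, g * φ z0 * g⁻¹ ≠ φ c0) := by
  obtain ⟨h7, z, π, L, g, h1, h2⟩ := exists_loc S Z hZ C hCZ Q hQ hQex hQcard hQexp hCQ hZQ K hK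
    r A hA0 hAr hmono hinv hmax e htwo
  obtain ⟨a, b, c, d, y', t, s, B', g, hg⟩ := L.exists_Bs h1 h2
  obtain ⟨q, i, R⟩ := B'.exists_q hg
  have B := B'.shift i
  generalize y' * z ^ i = y at R B
  obtain ⟨u, U⟩ := B.exists_u
  obtain ⟨φ, hz, ha, hb, hc, hd, hy, hu, -, -, -, hm⟩ :=
    (B.relP U R).exists_hom relP card_false.ge genP
  have E := B.emb U h7 hz ha hb hc hd hy hu hm
  by_cases h : ∀ g, g * φ z0 * g⁻¹ ≠ φ c0
  · exact ⟨false, φ, E, fun _ => h⟩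
  push Not at h
  obtain ⟨k, hk⟩ := h
  rw [hz, hc] at hk
  have hk' : cj (k * s) z⁻¹ = c := by rw [mul_cj, cj_inv, B.sz, inv_inv]; exact hk
  obtain ⟨r, j, R'⟩ := B.symm.exists_q hk'
  have hj : z⁻¹ ^ j = 1 := by
    have e1 : cj ((d * q * d)⁻¹ * (s * (b * r * b * g))) z = c * a⁻¹ ^ j := by
      rw [mul_cj, mul_cj, mul_cj, hg, R'.wc, cj_mul, cj_pow, cj_inv, cj_inv, B.sy, B.sz, inv_inv,
        inv_inv]
      refine inv_cj ?_
      rw [cj_mul, cj_pow, cj_inv, R.wc, B.w_a R, inv_inv]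
    rw [pow_eq_pow_mod j (by rw [inv_pow, B.exp a B.aQ, inv_one] : a⁻¹ ^ 3 = 1)] at e1
    rw [pow_eq_pow_mod j B.symm.z3]
    have := Nat.mod_lt j (show 0 < 3 by norm_num)
    generalize j % 3 = n at e1 this
    interval_cases n
    · exact pow_zero _
    · refine absurd ?_ (E.ng' ((d * q * d)⁻¹ * (s * (b * r * b * g))))
      rw [hz, g0, map_mul, map_inv, ha, hc, B.ac.inv_left.eq, ← pow_one a⁻¹]
      exact e1
    · refine absurd ?_ (E.nf ((d * q * d)⁻¹ * (s * (b * r * b * g))))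
      rw [hz, f0, map_mul, ha, hc, B.ac.eq, ← inv_inv a, cube_inv (x := a⁻¹)
        (by rw [inv_pow, B.exp a B.aQ, inv_one]), ← pow_two]
      exact e1
  rw [hj, mul_one] at R'
  obtain ⟨ψ, hz, ha, hb, hc, hd, hy, hu, -, -, -, hm, -⟩ :=
    (B.relH U R R').exists_hom relH card_true.ge genH
  exact ⟨true, ψ, B.emb U h7 hz ha hb hc hd hy hu hm, by simp⟩

end Cfsg.Agent.H3.L43
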