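import Cfsg.Agent.H3.ItoTI
import Cfsg.Agent.H7.BG.Core
import Cfsg.Agent.H9.O11Def

/-! Piece `DN` of S3403. -/

set_option autoImplicit false

namespace Cfsg.Agent.H9.O11

open Finset Subgroup Cfsg.Agent.H3 Cfsg.Agent.H3.Ito Cfsg.Agent.H3.Ito.SCP
open scoped ComplexConjugate

theorem dih' {X : Type*} [Group X] [Fintype X] {y : X} {q : ℕ} (h : SCP y q) {t : X} (hq : q ≠ 2)
    (ht : t * t = 1) (hty : t * y * t⁻¹ = y⁻¹)
    (hB : ∀ g ∈ normalizer (zpowers y : Set X), g ∈ zpowers y ∨ t * g ∈ zpowers y) :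
    ∃ (A B : IrrCharacter X) (d : ℕ) (a : ℤ), 0 < d ∧ A.1 1 = d ∧ B.1 1 = (d + 1 : ℕ) ∧
      (∀ g, ¬ InY (zpowers y) g → B.1 g = 1 + A.1 g) ∧ (Nat.card X : ℤ) * (d - a) ^ 2 =
        q * (d * (d + 1)) * Nat.card (centralizer ({t} : Set X)) ^ 2 := by
  classical
  have htB : t ∈ normalizer (zpowers y : Set X) := inv_mem_iff.1
    (h.mem_norm (mem_zpowers y) h.ne_one (by rw [inv_inv, hty]; exact inv_mem (mem_zpowers y)))
  have htY : ¬ InY (zpowers y) t := by
    rintro ⟨h1, x, hx⟩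
    have := pow_card_eq_one' (x := (⟨_, hx⟩ : zpowers y))
    rw [h.card_K] at this
    have h2 : x⁻¹ * t * x = 1 :=
      pow_eq_one_of_coprime ((Nat.coprime_primes Nat.prime_two h.prime).2 hq.symm)
        (by rw [sq]; calc _ = x⁻¹ * (t * t) * x := by group
                      _ = 1 := by rw [ht]; group) (congrArg Subtype.val this)
    exact h1 (by simpa [mul_assoc, inv_mul_eq_one] using h2)
  have ht1 : t ≠ 1 := fun h1 => by
    rw [h1, one_mul, inv_one, mul_one, eq_inv_iff_mul_eq_one, ← sq] at hty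
    exact hq ((Nat.prime_dvd_prime_iff_eq h.prime Nat.prime_two).1
      (h.ord ▸ orderOf_dvd_of_pow_eq_one hty))
  have htK : t ∉ zpowers y := fun h1 => htY ⟨ht1, 1, by simpa using h1⟩
  let o : IrrCharacter (zpowers y) := ⟨1, isIrrCharacter_one'⟩
  let o' : IrrCharacter X := ⟨1, isIrrCharacter_one'⟩
  have hg : ∀ l : IrrCharacter (zpowers y), IsGeneralizedCharacter X (indFun (zpowers y) (1 - l)) :=
    fun l => genChar_indFun _ (genChar_sub (genChar_of_irr o.2) (genChar_of_irr l.2))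
  have hone : ∀ l : IrrCharacter (zpowers y), l ≠ o →
      classInner (indFun (zpowers y) (1 - l)) 1 = 1 := fun l hl => by
    rw [show (1 : X → ℂ) = fun _ => 1 from rfl, classInner_indFun _ _ (isClassFunction_const 1),
      classInner_sub_left, show (fun _ : zpowers y => (1 : ℂ)) = 1 from rfl, classInner_one_one,
      classInner_irr_ne l.2 isIrrCharacter_one' fun h1 => hl (Subtype.ext h1), sub_zero]
  have hco : ∀ l : IrrCharacter (zpowers y), l ≠ o → ∃ n : IrrCharacter X → ℤ,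
      (∀ χ : IrrCharacter X, classInner (indFun (zpowers y) (1 - l)) χ = n χ) ∧ n o' = 1 ∧
        ∑ χ ∈ univ.erase o', n χ * n χ = 2 := fun l hl => by
    obtain ⟨n, hn⟩ := L0.exists_coeff (hg l)
    have h1 : n o' = 1 := by exact_mod_cast (hn o').symm.trans (hone l hl)
    have h2 := L0.classInner_eq_sum_coeff (genChar_isClassFunction (hg l)) hn hn
    rw [h.norm_three ht htK htB hB l.2 fun h1 => hl (Subtype.ext h1),
      ← add_sum_erase _ _ (mem_univ o'), h1] at h2
    exact ⟨n, hn, h1, by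
      have : ((3 : ℤ) : ℂ) = _ := h2
      have := Int.cast_injective this
      omega⟩
  obtain ⟨μ, hμ⟩ : ∃ l : IrrCharacter (zpowers y), l ≠ o :=
    Fintype.exists_ne_of_one_lt_card (h.card_irr ▸ h.prime.one_lt) o
  obtain ⟨n, hn, hn1, hn2⟩ := hco μ hμ
  obtain ⟨A, B, hA, hΦ⟩ : ∃ A B : IrrCharacter X, A ≠ o' ∧
      indFun (zpowers y) (1 - μ) = 1 + (A : X → ℂ) - B := by
    obtain ⟨A, B, hAB, hA, hB', hr⟩ := L0.exists_of_sum_sq_eq_two
      (n := fun χ => if χ = o' then 0 else n χ) (by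
        rw [← add_sum_erase _ _ (mem_univ o'), ← hn2]
        simp only [if_true, mul_zero, zero_add]
        exact sum_congr rfl fun χ hχ => by rw [if_neg (mem_erase.1 hχ).1])
    have hA1 : A ≠ o' := fun h1 => by simp [h1] at hA
    have hB1 : B ≠ o' := fun h1 => by simp [h1] at hB'
    simp only [if_neg hA1, if_neg hB1] at hA hB'
    have h4 : ∀ g, indFun (zpowers y) (1 - μ) g = 1 + n A * (A : X → ℂ) g + n B * (B : X → ℂ) g :=
      fun g => by
        rw [L0.apply_eq_sum_coeff (genChar_isClassFunction (hg μ)) hn,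
          ← sum_subset (subset_univ {o', A, B}), sum_insert (by simp [hA1.symm, hB1.symm]),
          sum_pair hAB, hn1, add_assoc]
        · simp [o']
        · intro χ _ hχ
          simp only [mem_insert, mem_singleton, not_or] at hχ
          have := hr χ hχ.2.1 hχ.2.2
          rw [if_neg hχ.1] at this
          simp [this]
    obtain ⟨a, ha, ha'⟩ := irr_one_pos A.2
    obtain ⟨b, hb, hb'⟩ := irr_one_pos B.2
    have h5 := h4 1
    rw [indFun_one, Pi.sub_apply, irr_one_eq_one_of_comm μ.2, ha', hb'] at h5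
    have h6 : (0 : ℤ) = 1 + n A * a + n B * b := by
      have : ((0 : ℤ) : ℂ) = ((1 + n A * a + n B * b : ℤ) : ℂ) := by simpa using h5
      exact_mod_cast this
    rcases hA with hA | hA <;> rcases hB' with hB' | hB' <;> rw [hA, hB'] at h6 h4
    · omega
    · exact ⟨A, B, hA1, funext fun g => by simp [h4]; ring⟩
    · exact ⟨B, A, hB1, funext fun g => by simp [h4]; ring⟩
    · omega
  obtain ⟨d, hd, hd'⟩ := irr_one_pos A.2
  -- the value at `t`
  obtain ⟨a, ha⟩ : ∃ a : ℤ, (A : X → ℂ) t = a := by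
    obtain ⟨k, hk⟩ := classInner_char_nat (isCharacter_res (zpowers t) (irr_isCharacter A.2))
      isCharacter_one
    have h2 : orderOf t = 2 := orderOf_eq_prime (by rw [sq, ht]) ht1
    have h3 : (univ : Finset (zpowers t)) = {1, ⟨t, mem_zpowers t⟩} :=
      (eq_univ_of_card _ (by
        rw [card_pair (by simpa [Subtype.ext_iff] using ht1.symm), ← Nat.card_eq_fintype_card,
          Nat.card_zpowers, h2])).symm
    rw [classInner, h3, sum_pair (by simpa [Subtype.ext_iff] using ht1.symm), Nat.card_zpowers, h2]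
      at hk
    refine ⟨2 * k - d, ?_⟩
    simp only [OneMemClass.coe_one, hd', Pi.one_apply, map_one, mul_one] at hk
    push_cast
    linear_combination 2 * hk
  have hθ : (1 - (μ : zpowers y → ℂ)) 1 = 0 := by simp [irr_one_eq_one_of_comm μ.2]
  have h1 := h.sum_pairs hq ht hty hB fun g hg => ind_eq_zero hθ hg
  have h2 : ∑ w, indFun (zpowers y) (1 - μ) w = Nat.card X := by
    have := card_mul_classInner (indFun (zpowers y) (1 - μ)) 1
    rw [hone μ hμ] at this
    simpa using this.symm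
  have hB1 : (B : X → ℂ) 1 = d + 1 := by
    have := congrFun hΦ 1
    rw [indFun_one, hθ, mul_zero] at this
    simp only [Pi.sub_apply, Pi.add_apply, Pi.one_apply, hd'] at this
    linear_combination this
  have hBt : (B : X → ℂ) t = a + 1 := by
    have := congrFun hΦ t
    rw [ind_eq_zero hθ htY] at this
    simp only [Pi.sub_apply, Pi.add_apply, Pi.one_apply, ha] at this
    linear_combination this
  refine ⟨A, B, d, a, hd, hd', by rw [hB1]; push_cast; rfl, fun g hg => ?_, ?_⟩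
  · have := congrFun hΦ g
    rw [ind_eq_zero hθ hg] at this
    simp only [Pi.sub_apply, Pi.add_apply, Pi.one_apply] at this
    linear_combination this
  have h3 : ∀ χ : IrrCharacter X, (χ : X → ℂ) 1 * ∑ a, ∑ b, (χ : X → ℂ) (a * t * a⁻¹ * (b * t * b⁻¹))
      = Nat.card X ^ 2 * (χ : X → ℂ) t ^ 2 := fun χ => by
    rw [sum_comm, mul_sum, sum_congr rfl fun b _ => sum_conj_mul_irr χ.2 t _]
    simp only [char_isClassFunction (irr_isCharacter χ.2) t, sum_const, card_univ, nsmul_eq_mul,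
      ← Nat.card_eq_fintype_card]
    ring
  have h4 := h3 A
  have h5 := h3 B
  rw [h2, hΦ] at h1
  simp only [Pi.sub_apply, Pi.add_apply, Pi.one_apply, sum_sub_distrib, sum_add_distrib, sum_const,
    card_univ, nsmul_eq_mul, ← Nat.card_eq_fintype_card] at h1
  rw [hd', ha] at h4
  rw [hB1, hBt] at h5
  have h6 : (Nat.card X : ℂ) ≠ 0 := card_ne_zero'
  have h7 : (Nat.card X : ℂ) * (Nat.card X * (d - a) ^ 2) =
      Nat.card X * (q * (d * (d + 1)) * Nat.card (centralizer ({t} : Set X)) ^ 2) := by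
    linear_combination (d * (d + 1) : ℂ) * h1 - (d + 1 : ℂ) * h4 + (d : ℂ) * h5
  exact_mod_cast mul_left_cancel₀ h6 h7


theorem dn_arith {q d : ℕ} {a : ℤ} (hq : 31 ≤ q) (hd : 0 < d) (h1 : q ∣ d ∨ q ∣ d + 1)
    (h2 : d * (d + 1) ∣ 5 * q * (11 * q + 1))
    (h3 : (9 * q * (d - a) ^ 2 : ℤ) = d * (d + 1) * (11 * q + 1)) : False := by
  obtain ⟨e, he⟩ : q ∣ d * (d + 1) := h1.elim (·.mul_right _) (·.mul_left _)
  have q0 : 0 < q := by omega
  have e0 : 0 < e := Nat.pos_of_mul_pos_left (he ▸ Nat.mul_pos hd d.succ_pos)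
  rw [he, mul_comm 5, mul_assoc] at h2
  obtain ⟨f, hf⟩ := Nat.dvd_of_mul_dvd_mul_left q0 h2
  have he' : (d * (d + 1) : ℤ) = q * e := by exact_mod_cast he
  have hf' : (5 * (11 * q + 1) : ℤ) = e * f := by exact_mod_cast hf
  have h4 : (9 * (d - a) ^ 2 : ℤ) = e * (11 * q + 1) :=
    mul_left_cancel₀ (show (q : ℤ) ≠ 0 by omega) (by rw [he'] at h3; linear_combination h3)
  have h5 : (15 * (d - a)) ^ 2 = (e : ℤ) ^ 2 * (5 * f) := by
    linear_combination 25 * h4 + 5 * e * hf'
  obtain ⟨s, hs⟩ := (Int.pow_dvd_pow_iff two_ne_zero).mp (Dvd.intro _ h5.symm)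
  have h6 : s ^ 2 = 5 * f := mul_left_cancel₀ (show (e : ℤ) ^ 2 ≠ 0 by positivity)
    (by rw [← h5, hs]; ring)
  obtain ⟨g, rfl⟩ := (Int.prime_iff_natAbs_prime.mpr (by norm_num) : Prime (5 : ℤ)).dvd_of_dvd_pow
    (Dvd.intro _ h6.symm)
  obtain ⟨G, hG⟩ : 5 ∣ f := Int.natCast_dvd_natCast.mp ⟨g ^ 2, by push_cast; linarith⟩
  have h7 : 11 * q + 1 = e * G := by rw [hG] at hf; linarith
  rcases h1 with ⟨c, rfl⟩ | ⟨c, hc⟩
  · have h8 : e = c * (q * c + 1) := Nat.eq_of_mul_eq_mul_left q0 (by rw [← he]; ring)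
    have h9 : 11 * q + 1 = c * (c * G) * q + c * G := by rw [h7, h8]; ring
    have c0 : 0 < c := Nat.pos_of_mul_pos_left hd
    have h10 : c * G ≤ c * (c * G) := Nat.le_mul_of_pos_left _ c0
    have h11 : c * G = 1 → c * (c * G) = 1 := fun e => by
      rw [e, Nat.eq_one_of_mul_eq_one_right e]
    generalize c * (c * G) = U at *
    generalize c * G = Y at *
    rcases lt_trichotomy U 11 with k | k | k
    · have := Nat.mul_le_mul_right q (show U ≤ 10 by omega)
      omega
    · subst k; omega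
    · have := Nat.mul_le_mul_right q (show 12 ≤ U by omega)
      omega
  · have c0 : 0 < c := Nat.pos_of_mul_pos_left (show 0 < q * c by omega)
    have h8 : e = c * d := Nat.eq_of_mul_eq_mul_left q0 (by rw [← he, hc]; ring)
    have h9 : 11 * q + 1 + c * G = c * (c * G) * q := by
      rw [h7, h8]
      calc _ = c * G * (d + 1) := by ring
        _ = _ := by rw [hc]; ring
    have h10 : c * G ≤ c * (c * G) := Nat.le_mul_of_pos_left _ c0
    generalize c * (c * G) = U at *
    generalize c * G = Y at *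
    rcases le_or_gt U 11 with k | k
    · have := Nat.mul_le_mul_right q k
      omega
    · obtain ⟨V, rfl⟩ := Nat.exists_eq_add_of_lt k
      have := Nat.mul_le_mul_left (V + 1) hq
      rw [show (11 + V + 1) * q = 11 * q + (V + 1) * q by ring] at h9
      omega

theorem dn {M : Type*} [Group M] [Finite M] {h w : M} {R : Subgroup M} {q : ℕ}
    (h5 : orderOf h = 5) (hc : ∀ g, g * h = h * g → g ∈ zpowers h) (w2 : w * w = 1)
    (wh : w * h * w⁻¹ = h⁻¹)
    (hN : ∀ g ∈ normalizer (zpowers h : Set M), g ∈ zpowers h ∨ w * g ∈ zpowers h)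
    (hR : Group.IsNilpotent R) (cR : Nat.card R = q) (cM : Nat.card M = 5 * q * (11 * q + 1))
    (cw : 3 * Nat.card (centralizer ({w} : Set M)) = 11 * q + 1) (q5 : q % 5 = 1) : q = 1 := by
  have := Fintype.ofFinite M
  obtain ⟨A, B, d, a, hd, hA, hB, hAB, e⟩ :=
    dih' (y := h) (q := 5) ⟨Nat.prime_five, h5, hc⟩ (by norm_num) w2 wh hN
  have w1 : w ≠ 1 := fun e => by
    rw [e, one_mul, inv_one, mul_one, eq_inv_iff_mul_eq_one, ← sq] at wh
    have := h5 ▸ orderOf_dvd_of_pow_eq_one wh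
    omega
  have h2 : 2 ∣ Nat.card (centralizer ({w} : Set M)) :=
    (orderOf_eq_prime (by rw [sq, w2]) w1 : orderOf w = 2) ▸
      H7.orderOf_dvd_card_of_mem (H7.mem_cent1_self w)
  by_contra q1
  have hq : 31 ≤ q := by
    clear e cM
    generalize Nat.card (centralizer ({w} : Set M)) = c at h2 cw
    obtain ⟨c, rfl⟩ := h2
    clear cR
    omega
  have e1 : (9 * q * (d - a) ^ 2 : ℤ) = d * (d + 1) * (11 * q + 1) := by
    have cw' : (3 * Nat.card (centralizer ({w} : Set M)) : ℤ) = 11 * q + 1 := by exact_mod_cast cw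
    rw [cM] at e
    push_cast at e
    refine mul_left_cancel₀ (show (5 * (11 * q + 1) : ℤ) ≠ 0 by positivity) ?_
    linear_combination 9 * e + 5 * d * (d + 1) *
      (3 * Nat.card (centralizer ({w} : Set M)) + (11 * q + 1)) * cw'
  have cop : d.Coprime (d + 1) := by simp
  have qn : q.Coprime (11 * q + 1) := by simp
  obtain ⟨f, hf⟩ : q ∣ d * (d + 1) := qn.dvd_of_dvd_mul_right (Int.natCast_dvd_natCast.mp
    ⟨9 * (d - a) ^ 2, by push_cast; linear_combination -e1⟩)
  refine dn_arith hq hd ?_ (cM ▸ cop.mul_dvd_of_dvd_of_dvd (irr_degree_dvd_card A.2 hA)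
    (irr_degree_dvd_card B.2 hB)) e1
  by_contra k
  push Not at k
  obtain ⟨p, hp, p1, p2⟩ := Nat.Prime.not_coprime_iff_dvd.mp fun e : q.Coprime d =>
    k.2 (e.dvd_of_dvd_mul_left ⟨f, hf⟩)
  obtain ⟨r, hr, r1, r2⟩ := Nat.Prime.not_coprime_iff_dvd.mp fun e : q.Coprime (d + 1) =>
    k.1 (e.dvd_of_dvd_mul_right ⟨f, hf⟩)
  have n5 : ∀ p : ℕ, p.Prime → p ∣ q → ¬ p ∣ 5 * (11 * q + 1) := fun p hp h1 h2 => by
    rcases hp.dvd_mul.mp h2 with e | e
    · rw [(Nat.prime_dvd_prime_iff_eq hp Nat.prime_five).mp e] at h1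
      omega
    · exact hp.one_lt.ne' (Nat.eq_one_of_dvd_coprimes qn h1 e)
  have pr : p ≠ r := fun e => hp.one_lt.ne' (Nat.eq_one_of_dvd_coprimes cop p2 (e ▸ r2))
  obtain ⟨u, hu, ou⟩ := H7.exists_orderOf_eq_prime hp (cR ▸ p1 : p ∣ Nat.card R)
  obtain ⟨v, hv, ov⟩ := H7.exists_orderOf_eq_prime hr (cR ▸ r1 : r ∣ Nat.card R)
  have co : (orderOf u).Coprime (orderOf v) := by rw [ou, ov]; exact (Nat.coprime_primes hp hr).mpr pr
  have uv : Commute u v := (H7.comm_of_mem_cent (H7.le_cent_of_nil_of_coprime hR (zpowers_le.mpr hu)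
    (zpowers_le.mpr hv) (by rwa [Nat.card_zpowers, Nat.card_zpowers]) (mem_zpowers u))
    (mem_zpowers v)).symm
  have o := uv.orderOf_mul_eq_mul_orderOf_of_coprime co
  rw [ou, ov] at o
  have q0 : 0 < q := lt_of_lt_of_le (by norm_num) hq
  have z1 := irr_eq_zero_of_defect_zero hp A.2 hA (g := u * v) (fun m hm e => by
    have : 5 * (11 * q + 1) * (d + 1) = f * m := Nat.eq_of_mul_eq_mul_left q0 (by
      rw [← mul_assoc q f, ← hf, mul_right_comm d, ← hm, cM]; ring)
    rcases hp.dvd_mul.mp (this ▸ e.mul_left f) with e | e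
    · exact n5 p hp p1 e
    · exact hp.one_lt.ne' (Nat.eq_one_of_dvd_coprimes cop p2 e)) (o ▸ Dvd.intro _ rfl)
  have z2 := irr_eq_zero_of_defect_zero hr B.2 hB (g := u * v) (fun m hm e => by
    have : 5 * (11 * q + 1) * d = f * m := Nat.eq_of_mul_eq_mul_left q0 (by
      rw [← mul_assoc q f, ← hf, mul_assoc d, ← hm, cM]; ring)
    rcases hr.dvd_mul.mp (this ▸ e.mul_left f) with e | e
    · exact n5 r hr r1 e
    · exact hr.one_lt.ne' (Nat.eq_one_of_dvd_coprimes cop e r2)) (o ▸ Dvd.intro_left _ rfl)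
  have := hAB (u * v) fun ⟨_, x, hx⟩ => by
    have h1 := H7.orderOf_dvd_card_of_mem hx
    rw [Nat.card_zpowers, h5, show x⁻¹ * (u * v) * x = x⁻¹ * (u * v) * x⁻¹⁻¹ by rw [inv_inv],
      ← MulAut.conj_apply, MulEquiv.orderOf_eq, o] at h1
    exact n5 p hp p1 (((Dvd.intro _ rfl).trans h1).mul_right _)
  rw [z1, z2] at this
  simp at this

end Cfsg.Agent.H9.O11
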