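import Cfsg.Agent.H3.O11L3a

/-! Piece `L3` of S3403, II: the cases. -/

set_option autoImplicit false

namespace Cfsg.Agent.H9.O11

open Subgroup MulAction Cfsg.Agent.H7 Cfsg.Agent.Fx4
open MulAut (conj)
open scoped Pointwise

variable {G : Type*} [Group G] {X Y : Subgroup G} {Ω : Type*} [MulAction G Ω]
  {A : Ω → Subgroup G} {α β γ δ : Ω} {g x y h u w k : G}

variable [Finite G] (H : LC A)
include H

namespace L3

theorem c672 (h1 : α ≠ β) (hu : u ∈ IK A α β) (hn : Nat.card Ω = 672) : False := by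
  have : Fact (Nat.Prime 61) := ⟨by norm_num⟩
  have hX := H.lr α β h1
  have hK := K_dvd H h1
  have hQ := Q_card H h1
  rw [hn] at hK hQ
  obtain ⟨a, oa, ea⟩ := H.geo.exists_gen α
  have ma : a ∈ A α := ea ▸ mem_zpowers a
  obtain ⟨b, hb, ob⟩ := exists_orderOf_eq_prime (p := 61) (A := C[A α]) (by norm_num)
    (hQ ▸ Dvd.dvd.mul_right (by norm_num) _)
  have cB : Nat.card (zpowers b) = 61 := by rw [Nat.card_zpowers, ob]
  have hB := zpowers_le.mpr hb
  have h2 : A α ≤ N[zpowers b] := le_norm_of_le_cent (le_cent_symm hB)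
  have h3 : Nat.card ↥(zpowers b ⊔ A α) = 671 := by
    rw [card_sup_of_inf_eq_bot h2 (inf_eq_bot_of_coprime (by rw [cB, H.geo.card]; norm_num)), cB,
      H.geo.card]
  have h4 := card_mul_relIndex (sup_le hB (H.geo.le_cent α))
  have h5 := card_mul_relIndex hB
  rw [hQ, h3] at h4
  rw [hQ, cB] at h5
  have h6 : ¬ 61 ∣ (zpowers b).relIndex C[A α] := fun e => by
    have : 61 ∣ 11 * 660 := (e.trans (dvd_of_eq (by omega))).trans (mul_dvd_mul_left 11 hK)
    omega
  have h7 := H4.Nse.relIndex_modEq (by norm_num) (.of_card (n := 1) cB) h6 hB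
  have h8 : N[zpowers b].relIndex C[A α] ∣ 660 :=
    ((relIndex_dvd_of_le_left _ (sup_le le_normalizer h2)).trans (dvd_of_eq (by omega))).trans hK
  have h9 : C[A α] ≤ N[zpowers b] := relIndex_eq_one.mp
    ((by decide +kernel : ∀ d ∈ Finset.range 661, 660 % d = 0 → d % 61 = 1 % 61 → d = 1) _
      (Finset.mem_range.mpr (Nat.lt_succ_of_le (Nat.le_of_dvd (by norm_num) h8)))
      (Nat.mod_eq_zero_of_dvd h8) h7)
  have nb : ∀ g : G, g • α = α → g * b * g⁻¹ ∈ zpowers b := fun g hg => by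
    have k1 : g * b * g⁻¹ ∈ C[A α] := by simpa [hg] using H.geo.cent_smul hb g
    obtain ⟨c, hc, e⟩ := H4.Nse.exists_conj_le (zpowers_le.mpr k1)
      (.of_card (n := 1) (by rw [Nat.card_zpowers, orderOf_cj, ob, pow_one])) h6
    exact (mem_normalizer_iff.mp (h9 hc) _).mpr (e _ (mem_zpowers _))
  have k61 : ∀ y ∈ zpowers b, y ∈ N[A α ⊔ A β] → y = 1 := fun y hy hN => by
    obtain ⟨c, hc, k, hk, e⟩ := H.geo.f2L hX le_sup_left hN (hB hy)
    refine orderOf_eq_one_iff.mp (Nat.eq_one_of_dvd_coprimes (show Nat.Coprime 61 7260 by norm_num)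
      (cB ▸ orderOf_dvd_card_of_mem hy) (orderOf_dvd_of_pow_eq_one ?_))
    rw [e, (commute_of_mem_cent hk (mem_sup_left hc)).mul_pow, orderOf_dvd_iff_pow_eq_one.mp
      ((orderOf_dvd_of_pow_eq_one (H.geo.pow11 hc)).trans (by norm_num)),
      orderOf_dvd_iff_pow_eq_one.mp ((orderOf_dvd_card_of_mem hk).trans (hK.trans (by norm_num))),
      one_mul]
  obtain ⟨h, hh, oh, e1, e2⟩ := H.geo.L_h hX le_sup_left le_sup_right h1
  obtain ⟨w, hw, ow, wα, wβ⟩ := H.geo.L_w hX le_sup_left le_sup_right h1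
  have uα := H.geo.fix_of_centX le_sup_left hu.2.2
  have ab := commute_of_mem_cent hb ma
  refine tg H.perf hn H.two h1 oa ob ab (H.geo.fix_of_mem ma) (H.geo.fix_of_cent hb)
    (fun i j e => ?_) nb (pow5 oh) e1 e2 (ea ▸ conj_mem_of_norm (H.geo.fix_iff.mp e1) ma)
    (fun e => H.geo.not_cent (ln H h1) le_sup_left hh (ne_one_of_ord oh) (by omega)
      (by rw [ea, cent_zpowers]; exact mem_cent1_iff.mpr e))
    uα (H.geo.fix_of_centX le_sup_right hu.2.2) ?_ wα wβ fun g g1 g2 => ?_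
  · have k1 := H.geo.norm_sup (H.geo.fix_of_cent
      (mul_mem (pow_mem (H.geo.le_cent α ma) i) (pow_mem hb j))) e
    have k2 := k61 _ (pow_mem (mem_zpowers b) j)
      ((mul_mem_cancel_left (le_normalizer (mem_sup_left (pow_mem ma i)))).mp k1)
    rw [k2, mul_one] at e ⊢
    by_contra k3
    exact h1 (H.geo.eq_of_fix (pow_mem ma i) k3 e).symm
  · have k1 : u * b * u⁻¹ * b ∈ zpowers b := mul_mem (nb u uα) (mem_zpowers b)
    have k2 : Commute u (u * b * u⁻¹ * b) := by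
      have ui := inv_eq_of_mul_eq_one_right hu.2.1
      have k3 := comm_of_mem_cent (show b ∈ C[zpowers b] by
        rw [cent_zpowers]; exact mem_cent1_self b) (nb u uα)
      rw [Commute, SemiconjBy]
      nth_rewrite 2 [k3]
      rw [ui, ← mul_assoc, ← mul_assoc, ← mul_assoc, hu.2.1, one_mul, mul_assoc, mul_assoc,
        mul_assoc, hu.2.1, mul_one]
    exact eq_inv_of_mul_eq_one_left (k61 _ k1 (H.norm_of_K h1 hu.2.2 hu.1 (by
      rw [mul_assoc, k2.eq, inv_mul_cancel_left]; exact hu.2.2)))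
  · obtain ⟨i, e⟩ := exists_pow_of_mem (H.geo.L_stab hX le_sup_left h1 hh oh e1 e2
      (mul_mem (conj_mem_of_norm' (H.geo.norm_sup g1 g2) hw) (inv_mem hw))
      (by rw [mul_smul, mul_smul, mul_smul, inv_smul_eq_iff.mpr wβ.symm, g2, wβ, inv_smul_eq_iff, g1])
      (by rw [mul_smul, mul_smul, mul_smul, inv_smul_eq_iff.mpr wα.symm, g1, wα, inv_smul_eq_iff, g2]))
    exact ⟨i, by rw [← e]; group⟩

theorem no7 (hn : Nat.card Ω = 1332) : ¬ 7 ∣ Nat.card G := fun e => by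
  have : Fact (Nat.Prime 7) := ⟨by norm_num⟩
  have := H.geo.finite
  obtain ⟨y, oy⟩ := exists_prime_orderOf_dvd_card' 7 e
  have y7 : y ^ 7 = 1 := oy ▸ pow_orderOf_eq_one y
  have h1 := n_mod H y7
  rw [hn, Nat.ModEq] at h1
  obtain ⟨γ, h2, δ, h3, h4⟩ := (Set.one_lt_ncard (s := {γ : Ω | y • γ = γ})).mp (by omega)
  obtain ⟨x, hx, k, hk, rfl⟩ := mem_XK.mp (H.geo.odd_mem (ln H h4) le_sup_left
    (H.geo.norm_sup h2 h3) (by rw [oy]; decide))
  have h5 := orderOf_dvd_of_pow_eq_one (XK_one H h4 hx hk y7).1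
  have h6 := (H.lr γ δ h4).ord x hx
  rw [Nat.dvd_prime (by norm_num)] at h5
  obtain rfl : x = 1 := orderOf_eq_one_iff.mp (h5.resolve_right fun e => by rw [e] at h6; simp at h6)
  rw [one_mul] at oy h1
  rw [fixK H h4 hk (ne_one_of_ord oy), pts H h4] at h1
  omega

theorem seven (h1 : α ≠ β) (hu : IK A α β = {u}) (hw : w ∈ A α ⊔ A β) (ow : orderOf w = 2)
    (w1 : w ∈ UU A) (w2 : w * u ∈ UU A) : 7 ∣ Nat.card G := by
  have hX := H.lr α β h1
  obtain ⟨u1, u2, uK⟩ : u ∈ IK A α β := hu ▸ rfl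
  have uX : u ∉ A α ⊔ A β := fun e => u1 (H.geo.eq_one_of_cent (ln H h1) le_sup_left e uK)
  have cu : Nat.card (zpowers u) = 2 := by rw [Nat.card_zpowers, ord_two u2 u1]
  have cs : ∀ V ≤ A α ⊔ A β, Nat.card ↥(V ⊔ zpowers u) = Nat.card V * 2 := fun V hV => by
    rw [card_sup_of_inf_eq_bot (zpowers_le.mpr (cent_le_norm _ (cent_anti hV uK))), cu]
    rw [inf_comm]
    exact (inf_eq_bot_or_le_of_card_prime _ (by rw [cu]; norm_num)).resolve_right
      fun e => uX (hV (e (mem_zpowers u)))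
  obtain ⟨V, -, hV, cV⟩ := H4.Nse.exists_between (n := 0) (m := 2) Nat.prime_two
    (bot_le : ⊥ ≤ A α ⊔ A β) card_bot (by norm_num) (by rw [hX.card]; norm_num)
  have cW := cs V hV
  have cM := cs _ le_rfl
  rw [cV] at cW
  rw [hX.card] at cM
  have mW : ∀ t ∈ V ⊔ zpowers u, t ≠ 1 → t ∈ UU A := fun t ht t1 => by
    obtain ⟨v, hv, z, hz, rfl⟩ :=
      (mem_sup_of_norm (zpowers_le.mpr (cent_le_norm _ (cent_anti hV uK)))).mp ht
    by_cases v1 : v = 1
    · rw [v1, one_mul] at t1 ⊢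
      rw [((mem_zpowers_invol u2).mp hz).resolve_left t1]
      exact ⟨u1, u2, α, β, h1, uK⟩
    have h2 := hX.ord v (hV hv)
    have h3 := cV ▸ orderOf_dvd_card_of_mem hv
    have h4 := orderOf_eq_one_iff.not.mpr v1
    simp only [List.mem_cons, List.not_mem_nil, or_false] at h2
    obtain ⟨c, hc, rfl⟩ := H.geo.L_conj_inv hX le_sup_left hw ow (hV hv)
      (by rcases h2 with e | e | e | e | e | e <;> rw [e] at h3 h4 ⊢ <;> omega)
    rcases (mem_zpowers_invol u2).mp hz with rfl | rfl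
    · rw [mul_one]; exact U_conj H c w1
    · convert U_conj H c w2 using 1
      rw [← conj_mul, comm_of_mem_cent uK hc, mul_inv_cancel_right]
  generalize hW : V ⊔ zpowers u = W at cW mW
  have uW : u ∈ W := hW ▸ mem_sup_right (mem_zpowers u)
  have WM : W ≤ (A α ⊔ A β) ⊔ zpowers u := hW ▸ sup_le_sup_right hV _
  have sq : ∀ t ∈ W, t * t = 1 := fun t ht => by
    by_cases t1 : t = 1
    · simp [t1]
    · exact (mW t ht t1).2.1
  have ab : ∀ s ∈ W, ∀ t ∈ W, s * t = t * s := fun s hs t ht => by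
    rw [← inv_eq_of_mul_eq_one_right (sq _ (mul_mem hs ht)), mul_inv_rev,
      inv_eq_of_mul_eq_one_right (sq s hs), inv_eq_of_mul_eq_one_right (sq t ht)]
  have e1 : (fun g => g * u * g⁻¹) '' (N[W] : Set G) = (W : Set G) \ {1} := by
    ext t
    refine ⟨?_, fun ⟨ht, t1⟩ => ?_⟩
    · rintro ⟨g, hg, rfl⟩
      exact ⟨conj_mem_of_norm hg uW, by simpa using u1⟩
    obtain ⟨-, t2, γ, δ, h2, h3⟩ := mW t ht t1
    obtain ⟨g, rfl, rfl⟩ := H.two γ δ α β h2 h1
    have e2 : g * t * g⁻¹ = u := by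
      rw [← Set.mem_singleton_iff, ← hu]
      exact ⟨by simpa using t1, by rw [conj_mul, t2]; simp, (K_conj H g).mp h3⟩
    obtain ⟨c, hc, e3⟩ := H4.Nse.exists_conj_le (p := 2) (T := W) (R := conj g • W)
      (H := (A (g • γ) ⊔ A (g • δ)) ⊔ zpowers u) (fun s' hs' => by
        obtain ⟨s, hs, rfl⟩ := mem_conj_smul_iff_exists.mp hs'
        by_cases s1 : s = 1
        · simp [s1]
        obtain ⟨x, hx, k, hk, e, -, k2⟩ := U_XK H h1 (U_conj H g (mW s hs s1))
          (H.norm_of_K h1 uK u1 (by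
            rw [← e2, mul_assoc, conj_mul, ab t ht s hs, ← conj_mul, inv_mul_cancel_left, e2]
            exact uK))
        rw [← e]
        refine mul_mem_sup hx ?_
        by_cases k1 : k = 1
        · simp [k1]
        · rw [Set.mem_singleton_iff.mp (hu ▸ ⟨k1, k2, hk⟩ : k ∈ ({u} : Set G))]
          exact mem_zpowers u)
      (.of_card (n := 3) (by rw [H7.card_conj_smul, cW]; rfl)) fun e => by
        have := card_mul_relIndex WM
        rw [cW, cM] at this
        omega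
    have e4 : c * u * c⁻¹ = u := by
      rw [mem_cent1_iff.mp (sup_le (le_cent1_iff.mpr uK) (zpowers_le.mpr (mem_cent1_self u)) hc),
        mul_inv_cancel_right]
    refine ⟨(c * g)⁻¹, inv_mem (mem_norm_of_conj fun s hs => ?_), ?_⟩
    · convert e3 _ (conj_mem_conj_smul.mpr hs) using 1
      group
    · simp only
      rw [← e4, ← e2]
      group
  have e2 : Nat.card N[W] = Nat.card ↥(C₁[u] ⊓ N[W]) * ((W : Set G) \ {1}).ncard := by
    rw [← e1]
    refine le_antisymm (card_le_cent_mul _ u fun g hg => ⟨g, hg, rfl⟩) ?_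
    rw [← card_inf_mul_relIndex C₁[u] N[W]]
    exact Nat.mul_le_mul_left _ (ncard_le_relIndex _ C₁[u] _ fun a _ b _ e => by
      calc a * u * a⁻¹ = b * (a⁻¹ * b)⁻¹ * (u * (a⁻¹ * b)) * b⁻¹ := by group
        _ = _ := by rw [← mem_cent1_iff.mp e]; group)
  rw [Set.ncard_sdiff_singleton_of_mem (one_mem W), ← Nat.card_coe_set_eq (W : Set G),
    SetLike.coe_sort_coe, cW] at e2
  exact (Dvd.intro_left _ e2.symm).trans (card_subgroup_dvd_card _)

theorem caseB (h1 : α ≠ β) (h11 : ¬ 11 ∣ Nat.card C[A α ⊔ A β]) : (IK A α β).ncard ≤ 1 := by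
  have := H.geo.finite
  have e1 := f_card H h1
  have e2 := n_gt H h1
  have e3 := Set.ncard_sdiff_add_ncard_of_subset (s := IK A α β)
    (t := {u | u ∈ UU A ∧ u • α = α})
    fun u hu => ⟨⟨hu.1, hu.2.1, α, β, h1, hu.2.2⟩, H.geo.fix_of_centX le_sup_left hu.2.2⟩
  have nN : ∀ u ∈ {u | u ∈ UU A ∧ u • α = α} \ IK A α β, u ∉ N[A α ⊔ A β] := fun u hu hn => by
    obtain ⟨b, hb, k, hk, rfl⟩ := H.geo.f2L (H.lr α β h1) le_sup_left hn (U_cent H hu.1.1 hu.1.2)
    have := (XK_one H h1 (mem_sup_left hb) hk (n := 2) (by rw [pow_two, hu.1.1.2.1])).1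
    rw [(pow_eq_one_iff_of_coprime (by norm_num)).mp ⟨this, H.geo.pow11 hb⟩, one_mul] at hu
    exact hu.2 ⟨hu.1.1.1, hu.1.1.2.1, hk⟩
  have e4 := Set.ncard_le_ncard_of_injOn (s := ({u | u ∈ UU A ∧ u • α = α} \ IK A α β) ×ˢ
    (A α : Set G)) (t := {γ | A γ ≤ A α ⊔ A β}ᶜ) (fun p => p.2 • p.1 • β) (fun p hp e => nN _ hp.1
      (mem_norm_of_conj_smul_le (by
        rw [H.geo.smul_sup, hp.1.1.2]
        refine sup_le le_sup_left ?_
        simpa using H.geo.smul_le' (inv_mem (mem_sup_left hp.2)) e)))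
    fun ⟨u, c⟩ ⟨hu, hc⟩ ⟨v, d⟩ ⟨hv, hd⟩ e => by
      have u1 : u ∈ C[A α] := U_cent H hu.1.1 hu.1.2
      have v1 : v ∈ C[A α] := U_cent H hv.1.1 hv.1.2
      have vi : v⁻¹ = v := inv_eq_of_mul_eq_one_right hv.1.1.2.1
      have ui : u⁻¹ = u := inv_eq_of_mul_eq_one_right hu.1.1.2.1
      have hb : d⁻¹ * c ∈ A α := mul_mem (inv_mem hd) hc
      have k1 : v * (d⁻¹ * c * u) ∈ C[A α] := mul_mem v1 (mul_mem (H.geo.le_cent α hb) u1)
      have k2 : (v * (d⁻¹ * c * u)) • β = β := by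
        rw [mul_smul, mul_smul, mul_smul, show c • u • β = d • v • β from e, inv_smul_smul,
          ← mul_smul, hv.1.1.2.1, one_smul]
      have k3 := H.geo.f2' (ln H h1) le_sup_left le_sup_right h1
        (H.geo.norm_sup (H.geo.fix_of_cent k1) k2) k1 k2
      have k4 : d⁻¹ * c = 1 := by
        generalize d⁻¹ * c = b at hb k3
        have c1 : Commute b v := commute_of_mem_cent v1 hb
        have c2 : Commute b u := commute_of_mem_cent u1 hb
        have k5 := orderOf_dvd_iff_pow_eq_one.mp (orderOf_dvd_card_of_mem k3)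
        generalize Nat.card C[A α ⊔ A β] = N at h11 k5
        rw [← mul_assoc, ← c1.eq, mul_assoc, (c1.mul_right c2).mul_pow] at k5
        have k6 : u * (v * u) ^ N * u⁻¹ = ((v * u) ^ N)⁻¹ := by
          rw [← conj_pow, ← inv_pow, mul_inv_rev, ← mul_assoc, mul_inv_cancel_right, ui, vi]
        rw [← inv_eq_of_mul_eq_one_right k5, ((c2.pow_left N).inv_left).symm.eq,
          mul_inv_cancel_right, inv_inv, inv_eq_iff_mul_eq_one, ← pow_add] at k6
        refine (pow_eq_one_iff_of_coprime ?_).mp ⟨k6, H.geo.pow11 hb⟩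
        rw [← two_mul]
        exact Nat.Coprime.mul_left (by norm_num)
          ((Nat.Prime.coprime_iff_not_dvd (by norm_num)).mpr h11).symm
      rw [k4, one_mul] at k3
      have k5 : v * u = 1 := by_contra fun k5 => nN u hu (H.norm_of_K h1 k3 k5 (by
        rw [show u⁻¹ * (v * u) * u = (v * u)⁻¹ by
          rw [mul_inv_rev, vi, mul_assoc, mul_assoc, hu.1.1.2.1, mul_one]]
        exact inv_mem k3))
      exact Prod.ext (by rw [← vi, eq_comm]; exact inv_eq_of_mul_eq_one_right k5)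
        (inv_mul_eq_one.mp k4).symm
  rw [Set.ncard_prod, Set.ncard_compl, pts H h1, ← Nat.card_coe_set_eq (A α : Set G),
    SetLike.coe_sort_coe, H.geo.card] at e4
  obtain ⟨n, hn⟩ := Nat.exists_eq_add_of_lt e2
  rw [hn] at e1 e4
  rw [← e3, show 12 + n + 1 - 1 = 12 + n by omega] at e1
  rw [show 12 + n + 1 - 12 = n + 1 by omega] at e4
  by_contra k
  nlinarith

/-- points fixed by an element of the coset -/
def TT (A : Ω → Subgroup G) (α : Ω) (k : G) : Set Ω := {γ | γ ≠ α ∧ ∃ c ∈ A α, (c * k) • γ = γ}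

theorem caseA (h1 : α ≠ β) (hk : k ∈ C[A α ⊔ A β]) (ok : orderOf k = 11) :
    (TT A α k).ncard ≤ 121 ∧ (TT A α k).ncard % 5 = 1 ∧ 11 ∣ (TT A α k).ncard ∧
      121 ∣ ({α}ᶜ \ TT A α k).ncard := by
  have := H.geo.finite
  have hX := H.lr α β h1
  have kQ : k ∈ C[A α] := cent_anti le_sup_left hk
  have kA : k ∉ A α := fun e => ne_one_of_ord ok
    (H.geo.eq_one_of_cent (ln H h1) le_sup_left (mem_sup_left e) hk)
  have inv : ∀ g : G, g • α = α → Commute g k → ∀ γ ∈ TT A α k, g • γ ∈ TT A α k :=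
    fun g hg e γ ⟨h2, c, hc, h3⟩ => ⟨fun f => h2 (smul_left_cancel g (f.trans hg.symm)),
      g * c * g⁻¹, conj_mem_of_norm (H.geo.fix_iff.mp hg) hc, by
        rw [← mul_smul, mul_assoc, mul_assoc, ← e.eq, inv_mul_cancel_left, mul_assoc, mul_smul,
          h3]⟩
  refine ⟨?_, ?_, (H.geo.card α).symm.dvd.trans (semireg (E := A α)
    (fun g hg => inv g (H.geo.fix_of_mem hg) (commute_of_mem_cent kQ hg))
    fun g hg s hs e => by_contra fun g1 => hs.1 (H.geo.eq_of_fix hg g1 e)), ?_⟩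
  · classical
    have := Fintype.ofFinite G
    have h2 : TT A α k = ⋃ c ∈ (A α : Set G).toFinset, {γ | (c * k) • γ = γ} \ {α} := by
      ext γ
      simp only [TT, Set.mem_ofPred_eq, Set.mem_iUnion, Set.mem_toFinset, SetLike.mem_coe,
        Set.mem_sdiff, Set.mem_singleton_iff]
      tauto
    rw [h2]
    refine (Finset.set_ncard_biUnion_le _ _).trans ((Finset.sum_le_card_nsmul _ _ 11
      fun c hc => ?_).trans ?_)
    · have hc := Set.mem_toFinset.mp hc
      have h3 := mul_mem (H.geo.le_cent α hc) kQ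
      have h4 := H.geo.fix_of_cent h3
      rcases ({γ | (c * k) • γ = γ} \ {α} : Set Ω).eq_empty_or_nonempty with e | ⟨γ, e1, e2⟩
      · simp [e]
      rw [Set.ncard_sdiff_singleton_of_mem (s := {γ | (c * k) • γ = γ}) h4, fixK H (Ne.symm e2) (H.geo.f2' (ln H (Ne.symm e2))
        le_sup_left le_sup_right (Ne.symm e2) (H.geo.norm_sup h4 e1) h3 e1)
        (fun e => kA (inv_eq_of_mul_eq_one_right e ▸ inv_mem hc)), pts H (Ne.symm e2)]
    · rw [← Set.ncard_eq_toFinset_card', ← Nat.card_coe_set_eq, SetLike.coe_sort_coe, H.geo.card]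
      rfl
  · obtain ⟨h, hh, oh, e1, e2⟩ := H.geo.L_h hX le_sup_left le_sup_right h1
    have := ncard_modEq (pow5 oh) (Set.toFinite _) (inv h e1 (commute_of_mem_cent hk hh))
    rwa [show {s | s ∈ TT A α k ∧ h • s = s} = {β} from Set.eq_singleton_iff_unique_mem.mpr
      ⟨⟨⟨h1.symm, 1, one_mem _, by rw [one_mul, H.geo.fix_of_centX le_sup_right hk]⟩, e2⟩,
        fun γ e => (H.hfix α β h1 h hh oh e1 e2 γ e.2).resolve_left e.1.1⟩,
      Set.ncard_singleton] at this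
  · have n1 : zpowers k ≤ N[A α] := zpowers_le.mpr (cent_le_norm _ kQ)
    have ck : Nat.card (zpowers k) = 11 := by rw [Nat.card_zpowers, ok]
    have c1 : Nat.card ↥(A α ⊔ zpowers k) = 121 := by
      rw [card_sup_of_inf_eq_bot n1, H.geo.card, ck]
      rw [inf_comm]
      exact (inf_eq_bot_or_le_of_card_prime _ (by rw [ck]; norm_num)).resolve_right
        fun e => kA (e (mem_zpowers k))
    have c2 : A α ⊔ zpowers k ≤ C[A α] := sup_le (H.geo.le_cent α) (zpowers_le.mpr kQ)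
    have c3 : A α ⊔ zpowers k ≤ C₁[k] :=
      sup_le (le_cent1_iff.mpr kQ) (zpowers_le.mpr (mem_cent1_self k))
    rw [← c1]
    refine semireg (fun g hg s hs => ⟨fun e => hs.1 ?_, fun e => hs.2 ?_⟩) fun g hg s hs e => ?_
    · exact smul_left_cancel g (e.trans (H.geo.fix_of_cent (c2 hg)).symm)
    · simpa using inv g⁻¹ (H.geo.fix_of_cent (c2 (inv_mem hg)))
        (mem_cent1_iff.mp (c3 (inv_mem hg))) _ e
    · obtain ⟨c, hc, z, hz, rfl⟩ := (mem_sup_of_norm n1).mp hg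
      by_cases z1 : z = 1
      · rw [z1, mul_one] at e ⊢
        exact by_contra fun c1 => hs.1 (H.geo.eq_of_fix hc c1 e)
      obtain ⟨m, rfl⟩ := exists_pow_of_mem
        ((zpowers_eq_of_card_prime (by rw [ck]; norm_num) hz z1).ge (mem_zpowers k))
      refine (hs.2 ⟨hs.1, c ^ m, pow_mem hc m, ?_⟩).elim
      rw [← (commute_of_mem_cent (zpowers_le.mpr kQ hz) hc).mul_pow]
      exact pow_mem (mem_stabilizer_iff.mpr e) m

theorem c122 (h1 : α ≠ β) (hk : k ∈ C[A α ⊔ A β]) (ok : orderOf k = 11)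
    (hn : Nat.card Ω = 122) : False := by
  have := H.geo.finite
  have key : ∀ α β, α ≠ β → k ∈ C[A α ⊔ A β] → ∀ γ, γ ≠ α → A (k • γ) ≤ A α ⊔ A γ :=
    fun α β h1 hk γ hγ => by
      obtain ⟨-, h3, -, h4⟩ := caseA H h1 hk ok
      have h5 := Set.ncard_sdiff_add_ncard_of_subset (s := TT A α k) (t := {α}ᶜ) fun γ e => e.1
      rw [Set.ncard_compl, Set.ncard_singleton, hn] at h5
      have h6 : ({α}ᶜ \ TT A α k).ncard = 0 := by omega
      obtain ⟨-, c, hc, e⟩ : γ ∈ TT A α k := by_contra fun e =>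
        ((Set.ncard_eq_zero (Set.toFinite _)).mp h6).subset ⟨hγ, e⟩
      rw [mul_smul, smul_eq_iff_eq_inv_smul] at e
      rw [e]
      exact H.geo.smul_le' (inv_mem (mem_sup_left hc)) le_sup_right
  obtain ⟨γ, hγ⟩ := H.out α β
  have h2 : γ ≠ α := fun e => hγ (e ▸ le_sup_left)
  have h3 : γ ≠ β := fun e => hγ (e ▸ le_sup_right)
  have h4 : k • γ ≠ γ := fun e => hγ (H.kfix α β h1 k hk (ne_one_of_ord ok) γ e)
  have h5 := (H.line_eq h2.symm h4 (key α β h1 hk γ h2) le_sup_right).symm.trans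
    (H.line_eq h3.symm h4 (key β α h1.symm (sup_comm (A α) _ ▸ hk) γ h3) le_sup_right)
  exact hγ ((H.line_eq h2.symm h1 le_sup_left (h5 ▸ le_sup_left)).symm ▸ le_sup_right)

omit H in
theorem arith {r t s : ℕ} (h2 : t ≤ 121) (h3 : t % 5 = 1) (h4 : 11 ∣ t) (h5 : 121 ∣ s)
    (h6 : s + t = 11 * (10 * (r + 1) + 1) + 1 - 1) (h7 : r ≤ 11) :
    r = 0 ∨ r = 5 ∨ r = 10 ∨ r = 11 := by
  obtain ⟨a, rfl⟩ := h4
  obtain ⟨b, rfl⟩ := h5
  have : a = 1 ∨ a = 6 ∨ a = 11 := by omega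
  rcases this with rfl | rfl | rfl <;> omega

end L3

open L3 in
theorem LC.even (h1 : α ≠ β) (ev : Even (Nat.card C[A α ⊔ A β])) : False := by
  have := H.geo.finite
  obtain ⟨u, hu, ou⟩ := exists_orderOf_eq_prime Nat.prime_two ev.two_dvd
  have uI : u ∈ IK A α β := ⟨ne_one_of_ord ou, sq_of_ord ou, hu⟩
  have i1 := (Set.ncard_pos (Set.toFinite _)).mpr ⟨u, uI⟩
  have n2 := n_mod H (p := 2) (by rw [pow_two, uI.2.1])
  rw [U_fix H ⟨uI.1, uI.2.1, α, β, h1, hu⟩, Nat.ModEq] at n2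
  have n3 := n11 H α
  have n4 := n5 H h1
  have n5 := n_gt H h1
  obtain ⟨r, hr⟩ : ∃ r, Nat.card Ω = 11 * (10 * (r + 1) + 1) + 1 := ⟨(Nat.card Ω - 122) / 110, by omega⟩
  have e1 := eqn H h1 hr
  obtain ⟨j, hj⟩ := five_dvd H h1
  obtain ⟨w, hw, ow, wα, wβ⟩ := H.geo.L_w (H.lr α β h1) le_sup_left le_sup_right h1
  obtain ⟨T, t1, t2, t3⟩ := S_sub H h1 hw ow wα wβ
  have t4 := Set.ncard_le_ncard t1
  rw [hj] at e1 t4
  have c12 : r = 11 → False := fun e => by
    rw [e] at hr e1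
    obtain ⟨v, hv⟩ := Set.ncard_eq_one.mp (show (IK A α β).ncard = 1 by omega)
    have t5 := Set.eq_of_subset_of_ncard_le t1 (by omega)
    exact no7 H hr (seven H h1 hv hw ow (by simpa using (t5.ge (t3 1 (Or.inl rfl))).1)
      (t5.ge (t3 v (Or.inr (hv ▸ rfl)))).1)
  have c6 : r = 5 → False := fun e => c672 H h1 uI (by rw [hr, e])
  by_cases h11 : 11 ∣ Nat.card C[A α ⊔ A β]
  · obtain ⟨k, hk, ok⟩ := exists_orderOf_eq_prime (by norm_num) h11
    have c1 : r = 0 → False := fun e => c122 H h1 hk ok (by rw [hr, e])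
    obtain ⟨h2, h3, h4, h5⟩ := caseA H h1 hk ok
    have h6 := Set.ncard_sdiff_add_ncard_of_subset (s := TT A α k) (t := {α}ᶜ) fun γ e => e.1
    rw [Set.ncard_compl, Set.ncard_singleton, hr] at h6
    have h7 : r ≤ 11 := by
      by_contra k
      nlinarith
    obtain rfl : r = 10 := by
      have := arith h2 h3 h4 h5 h6 h7
      tauto
    clear h2 h3 h4 h5 h6
    omega
  · have := caseB H h1 h11
    rw [show (IK A α β).ncard = 1 by omega] at e1 t2
    rw [mul_one] at e1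
    have : r = 5 ∨ r = 11 := by omega
    tauto

end Cfsg.Agent.H9.O11
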