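import Cfsg.Agent.H9.O11Case
import Cfsg.Agent.H3.O11Tg
import Cfsg.Agent.H3.Derangement2
import Cfsg.Agent.H4.Nse4
import Cfsg.Agent.H9.FxRank2

/-! Piece `L3` of S3403, I: counting involutions. -/

set_option autoImplicit false

namespace Cfsg.Agent.H9.O11.L3

open Subgroup MulAction Cfsg.Agent.H7 Cfsg.Agent.Fx4
open MulAut (conj)
open scoped Pointwise

variable {G : Type*} [Group G] {X Y : Subgroup G} {Ω : Type*} [MulAction G Ω]
  {A : Ω → Subgroup G} {α β γ δ : Ω} {g x y h u w k : G}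

/-- involutions centralizing a line -/
def UU (A : Ω → Subgroup G) : Set G :=
  {u | u ≠ 1 ∧ u * u = 1 ∧ ∃ γ δ, γ ≠ δ ∧ u ∈ C[A γ ⊔ A δ]}

/-- involutions centralizing a given line -/
def IK (A : Ω → Subgroup G) (α β : Ω) : Set G := {u | u ≠ 1 ∧ u * u = 1 ∧ u ∈ C[A α ⊔ A β]}

theorem semireg [Finite Ω] {E : Subgroup G} {S : Set Ω} (h1 : ∀ g ∈ E, ∀ s ∈ S, g • s ∈ S)
    (h2 : ∀ g ∈ E, ∀ s ∈ S, g • s = s → g = 1) : Nat.card E ∣ S.ncard :=
  H3.dvd_ncard_of_invariant (G := E) S (fun g => h1 g g.2) fun s hs => by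
    rw [show stabilizer E s = ⊥ from eq_bot_iff.mpr fun g hg =>
      Subtype.ext (h2 g g.2 s hs hg), index_bot]

theorem ncard_conj (g : G) {S T : Set G} (h : ∀ u, u ∈ S ↔ g * u * g⁻¹ ∈ T) : S.ncard = T.ncard :=
  Set.ncard_congr (fun u _ => g * u * g⁻¹) (fun u hu => (h u).mp hu)
    (fun a b _ _ e => by simpa using e)
    fun u hu => ⟨g⁻¹ * u * g, (h _).mpr (by convert hu using 1; group), by group⟩

variable [Finite G] (H : LC A)
include H

theorem ln (h1 : α ≠ β) : Ln (A α ⊔ A β) := H.geo.ln h1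

theorem fixK (h1 : α ≠ β) (hy : y ∈ C[A α ⊔ A β]) (y1 : y ≠ 1) :
    {γ : Ω | y • γ = γ} = {γ | A γ ≤ A α ⊔ A β} :=
  Set.ext fun γ => ⟨H.kfix α β h1 y hy y1 γ, fun e => H.geo.fix_of_centX e hy⟩

theorem pts (h1 : α ≠ β) : {γ | A γ ≤ A α ⊔ A β}.ncard = 12 :=
  (H.geo.card_pts_L (H.lr α β h1) le_sup_left).1

theorem K_conj (g : G) : y ∈ C[A α ⊔ A β] ↔ g * y * g⁻¹ ∈ C[A (g • α) ⊔ A (g • β)] := by
  rw [← H.geo.smul_sup, ← conj_smul_cent, conj_mem_conj_smul]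

theorem U_conj (g : G) (hu : u ∈ UU A) : g * u * g⁻¹ ∈ UU A := by
  obtain ⟨h1, h2, γ, δ, h3, h4⟩ := hu
  exact ⟨by simpa using h1, by rw [conj_mul, h2]; simp, g • γ, g • δ, fun e => h3 (smul_left_cancel g e),
    (K_conj H g).mp h4⟩

theorem U_conj' (g : G) : u ∈ UU A ↔ g * u * g⁻¹ ∈ UU A :=
  ⟨U_conj H g, fun e => by convert U_conj H g⁻¹ e using 1; group⟩

theorem U_fix (hu : u ∈ UU A) : {γ : Ω | u • γ = γ}.ncard = 12 := by
  obtain ⟨h1, -, γ, δ, h3, h4⟩ := hu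
  rw [fixK H h3 h4 h1, pts H h3]

omit [Finite G] in
theorem U_cent (hu : u ∈ UU A) (e : u • α = α) : u ∈ C[A α] := by
  obtain ⟨h1, -, γ, δ, h3, h4⟩ := hu
  exact cent_anti (H.kfix γ δ h3 u h4 h1 α e) h4

theorem U_K (h1 : α ≠ β) (hu : u ∈ UU A) (e : u • α = α) (f : u • β = β) : u ∈ C[A α ⊔ A β] :=
  H.geo.f2' (ln H h1) le_sup_left le_sup_right h1 (H.geo.norm_sup e f) (U_cent H hu e) f

theorem XK_one (h1 : α ≠ β) (hx : x ∈ A α ⊔ A β) (hk : k ∈ C[A α ⊔ A β]) {n : ℕ}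
    (e : (x * k) ^ n = 1) : x ^ n = 1 ∧ k ^ n = 1 := by
  rw [(commute_of_mem_cent hk hx).mul_pow] at e
  have := H.geo.eq_one_of_cent (ln H h1) le_sup_left (pow_mem hx n)
    (eq_inv_of_mul_eq_one_left e ▸ inv_mem (pow_mem hk n))
  exact ⟨this, by rwa [this, one_mul] at e⟩

theorem U_XK (h1 : α ≠ β) (hu : u ∈ UU A) (hn : u ∈ N[A α ⊔ A β]) :
    ∃ x ∈ A α ⊔ A β, ∃ k ∈ C[A α ⊔ A β], x * k = u ∧ x * x = 1 ∧ k * k = 1 := by
  have : u ∈ (A α ⊔ A β) ⊔ C[A α ⊔ A β] := by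
    by_cases e : ∀ γ, A γ ≤ A α ⊔ A β → u • γ ≠ γ
    · exact H.geo.L_outer (H.lr α β h1) le_sup_left hn hu.2.1 e
    · push Not at e
      obtain ⟨γ, e1, e2⟩ := e
      exact H.geo.mem_XK_of_cent (ln H h1) e1 hn (U_cent H hu e2)
  obtain ⟨x, hx, k, hk, rfl⟩ := mem_XK.mp this
  simpa only [pow_two] using
    (⟨x, hx, k, hk, rfl, XK_one H h1 hx hk (n := 2) (by rw [pow_two, hu.2.1])⟩ :
      ∃ x' ∈ A α ⊔ A β, ∃ k' ∈ C[A α ⊔ A β], x' * k' = x * k ∧ x' ^ 2 = 1 ∧ k' ^ 2 = 1)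

theorem IK_card (h1 : α ≠ β) (h2 : γ ≠ δ) : (IK A γ δ).ncard = (IK A α β).ncard := by
  obtain ⟨g, rfl, rfl⟩ := H.two α β γ δ h1 h2
  refine (ncard_conj g fun u => and_congr (by simp) (and_congr ?_ (K_conj H g))).symm
  rw [conj_mul, conj_eq_one_iff]

theorem S_card (h1 : β ≠ α) (h2 : γ ≠ α) :
    {u | u ∈ UU A ∧ u • α = γ}.ncard = {u | u ∈ UU A ∧ u • α = β}.ncard := by
  obtain ⟨g, e, rfl⟩ := H.trans2 h1 h2
  refine (ncard_conj g fun u => and_congr (U_conj' H g) ?_).symm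
  rw [mul_smul, mul_smul, inv_smul_eq_iff.mpr e.symm, smul_left_cancel_iff]

theorem f_card (h1 : α ≠ β) : {u | u ∈ UU A ∧ u • α = α}.ncard * 11 =
    (Nat.card Ω - 1) * (IK A α β).ncard := by
  classical
  have := H.geo.finite
  have := Fintype.ofFinite G
  have := Fintype.ofFinite Ω
  rw [Set.ncard_eq_toFinset_card', Nat.card_eq_fintype_card, ← Finset.card_univ,
    ← Finset.card_erase_of_mem (Finset.mem_univ α)]
  refine Finset.card_mul_eq_card_mul (fun u γ => u • γ = γ) (fun u hu => ?_) fun γ hγ => ?_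
  · obtain ⟨h2, h3⟩ := Set.mem_toFinset.mp hu
    have h4 := Set.ncard_sdiff_singleton_of_mem (s := {γ : Ω | u • γ = γ}) h3
    rw [U_fix H h2] at h4
    rw [← Set.ncard_coe_finset]
    convert h4 using 2
    ext γ
    simp [Finset.bipartiteAbove, and_comm]
  · have h2 := (Finset.mem_erase.mp hγ).1
    rw [← IK_card H h1 h2.symm, ← Set.ncard_coe_finset]
    congr 1
    ext u
    simp only [Finset.bipartiteBelow, Finset.coe_filter, Set.mem_toFinset, Set.mem_ofPred_eq]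
    exact ⟨fun e => ⟨e.1.1.1, e.1.1.2.1, U_K H h2.symm e.1.1 e.1.2 e.2⟩, fun e =>
      ⟨⟨⟨e.1, e.2.1, α, γ, h2.symm, e.2.2⟩, H.geo.fix_of_centX le_sup_left e.2.2⟩,
        H.geo.fix_of_centX le_sup_right e.2.2⟩⟩

theorem n_gt (h1 : α ≠ β) : 12 < Nat.card Ω := by
  have := H.geo.finite
  obtain ⟨γ, hγ⟩ := H.out α β
  rw [← pts H h1, ← Set.ncard_univ]
  exact Set.ncard_lt_ncard (Set.ssubset_univ_iff.mpr fun e => hγ (e.ge (Set.mem_univ γ)))

theorem n11 (α : Ω) : Nat.card Ω % 11 = 1 := by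
  rw [← Set.ncard_univ]
  exact H.geo.ncard_mod (Set.mem_univ α) fun _ _ _ _ => Set.mem_univ _

theorem n_mod {p : ℕ} [Fact p.Prime] (hx : x ^ p = 1) :
    Nat.card Ω ≡ {γ : Ω | x • γ = γ}.ncard [MOD p] := by
  have := H.geo.finite
  simpa using ncard_modEq hx (S := (Set.univ : Set Ω)) (Set.toFinite _) fun _ _ => Set.mem_univ _

theorem n5 (h1 : α ≠ β) : Nat.card Ω % 5 = 2 := by
  obtain ⟨h, hh, oh, e1, e2⟩ := H.geo.L_h (H.lr α β h1) le_sup_left le_sup_right h1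
  have := n_mod H (pow5 oh)
  rwa [show {γ : Ω | h • γ = γ} = {α, β} from Set.ext fun γ => ⟨H.hfix α β h1 h hh oh e1 e2 γ,
    by rintro (rfl | rfl) <;> assumption⟩, Set.ncard_pair h1] at this

theorem eqn (h1 : α ≠ β) {m : ℕ} (hm : Nat.card Ω = 11 * (m + 1) + 1) :
    m * (IK A α β).ncard = 12 * {u | u ∈ UU A ∧ u • α = β}.ncard := by
  have := H.geo.finite
  have e1 := count_fix H.geo.trans (U := UU A) (fun g u => U_conj H g) (fun u => U_fix H) α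
  have e2 := count_move (U := UU A) α fun γ hγ => S_card H h1.symm hγ
  have e3 := f_card H h1
  rw [hm, Nat.add_sub_cancel] at e2 e3
  rw [hm, e2] at e1
  generalize {u | u ∈ UU A ∧ u • α = α}.ncard = f at *
  obtain rfl : f = (m + 1) * (IK A α β).ncard := by nlinarith
  refine Nat.eq_of_mul_eq_mul_left (show 0 < 11 * (m + 1) by omega) ?_
  nlinarith

theorem S_dec (h1 : α ≠ β) (hu : u ∈ UU A) (e : u • α = β) : ∃ x ∈ A α ⊔ A β,
    ∃ k ∈ C[A α ⊔ A β], x * k = u ∧ orderOf x = 2 ∧ k * k = 1 ∧ x • α = β ∧ x • β = α := by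
  have f : u • β = α := by rw [← e, ← mul_smul, hu.2.1, one_smul]
  obtain ⟨x, hx, k, hk, rfl, h2, h3⟩ := U_XK H h1 hu (H.geo.norm_sup' e f)
  rw [mul_smul, H.geo.fix_of_centX le_sup_left hk] at e
  rw [mul_smul, H.geo.fix_of_centX le_sup_right hk] at f
  exact ⟨x, hx, k, hk, rfl, ord_two h2 fun e' => h1 (by rwa [e', one_smul] at e), h3, e, f⟩

theorem five_dvd (h1 : α ≠ β) : 5 ∣ {u | u ∈ UU A ∧ u • α = β}.ncard := by
  obtain ⟨h, hh, oh, e1, e2⟩ := H.geo.L_h (H.lr α β h1) le_sup_left le_sup_right h1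
  have := H4.Nse.ncard_modEq_conj Nat.prime_five (pow5 oh) (S := {u | u ∈ UU A ∧ u • α = β})
    fun u hu => ⟨U_conj H h hu.1, by
      rw [mul_smul, mul_smul, inv_smul_eq_iff.mpr e1.symm, hu.2, e2]⟩
  rw [Set.eq_empty_of_forall_notMem (s := {x | x ∈ {u | u ∈ UU A ∧ u • α = β} ∧ Commute h x})
    fun u hu => ?_, Set.ncard_empty] at this
  · exact (Nat.modEq_zero_iff_dvd).mp this
  obtain ⟨x, hx, k, hk, rfl, ox, -, f1, f2⟩ := S_dec H h1 hu.1.1 hu.1.2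
  have h2 := H.geo.L_swap (H.lr α β h1) le_sup_left h1 hh oh e1 e2 hx ox f1 f2
  have h3 : Commute h x := by
    simpa using hu.2.mul_right (commute_of_mem_cent hk hh).inv_right
  rw [← h3.eq, mul_inv_cancel_right, eq_inv_iff_mul_eq_one, ← pow_two] at h2
  have := oh ▸ orderOf_dvd_of_pow_eq_one h2
  omega

theorem S_sub (h1 : α ≠ β) (hw : w ∈ A α ⊔ A β) (ow : orderOf w = 2) (wα : w • α = β)
    (wβ : w • β = α) : ∃ T : Set G, {u | u ∈ UU A ∧ u • α = β} ⊆ T ∧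
      T.ncard ≤ 5 * ((IK A α β).ncard + 1) ∧ ∀ k ∈ insert 1 (IK A α β), w * k ∈ T := by
  obtain ⟨h, hh, oh, e1, e2⟩ := H.geo.L_h (H.lr α β h1) le_sup_left le_sup_right h1
  refine ⟨(fun p : G × G => w * p.1 * p.2) '' ((zpowers h : Set G) ×ˢ insert 1 (IK A α β)),
    fun u hu => ?_, (Set.ncard_image_le).trans ?_, fun k hk => ⟨(1, k), ⟨one_mem _, hk⟩, by simp⟩⟩
  · obtain ⟨x, hx, k, hk, rfl, ox, k2, f1, f2⟩ := S_dec H h1 hu.1 hu.2
    refine ⟨(w * x, k), ⟨H.geo.L_stab (H.lr α β h1) le_sup_left h1 hh oh e1 e2 (mul_mem hw hx)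
      (by rw [mul_smul, f1, wβ]) (by rw [mul_smul, f2, wα]), ?_⟩, ?_⟩
    · by_cases k1 : k = 1
      · exact Or.inl k1
      · exact Or.inr ⟨k1, k2, hk⟩
    · simp only [← mul_assoc, sq_of_ord ow, one_mul]
  · rw [Set.ncard_prod, ← Nat.card_coe_set_eq, SetLike.coe_sort_coe, Nat.card_zpowers, oh]
    exact Nat.mul_le_mul_left _ (Set.ncard_insert_le _ _)

theorem K_dvd (h1 : α ≠ β) : Nat.card C[A α ⊔ A β] ∣ Nat.card Ω - 12 := by
  have := H.geo.finite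
  rw [← pts H h1, ← Set.ncard_compl]
  refine semireg (fun g hg s hs e => hs ?_) fun g hg s hs e => by_contra fun g1 =>
    hs (H.kfix α β h1 g hg g1 s e)
  simpa using H.geo.smul_le (inv_mem (cent_le_norm _ hg)) e

theorem Q_card (h1 : α ≠ β) :
    Nat.card C[A α] = (Nat.card Ω - 1) * Nat.card C[A α ⊔ A β] := by
  have := H.geo.finite
  rw [← ncard_orbit C[A α] β, ← Set.ncard_singleton α, ← Set.ncard_compl]
  congr 2
  · ext γ
    refine ⟨fun ⟨x, hx, e⟩ f => h1 (smul_left_cancel x ((H.geo.fix_of_cent hx).trans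
      (e.trans f).symm)), fun h2 => ?_⟩
    obtain ⟨c, hc, e⟩ := H.qtr α β γ h1.symm h2
    have e1 := H.geo.fix_of_cent hc
    obtain ⟨d, hd, e2⟩ := H.geo.L_trans (H.lr α γ (Ne.symm h2)) le_sup_left
      (e ▸ H.geo.smul_le_smul.2 le_sup_right) le_sup_right
      (fun k => h1.symm (smul_left_cancel c (k.trans e1.symm))) h2
    exact ⟨d * c, mul_mem (H.geo.le_cent α hd) hc, by rw [mul_smul, e2]⟩
  · congr 1
    ext x
    exact ⟨fun e => H.geo.f2' (ln H h1) le_sup_left le_sup_right h1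
      (H.geo.norm_sup (H.geo.fix_of_cent e.1) e.2) e.1 e.2,
      fun e => ⟨cent_anti le_sup_left e, H.geo.fix_of_centX le_sup_right e⟩⟩

end Cfsg.Agent.H9.O11.L3
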