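import Cfsg.Agent.H3.O8Fus

/-!
# The configuration exists
-/

set_option autoImplicit false
set_option maxRecDepth 100000
set_option synthInstance.maxSize 100000

namespace Cfsg.Agent.H3.O8

open Subgroup Cfsg.Agent.H3.L43 Cfsg.Agent.H9 Cfsg.Agent.H1.T3
open scoped Pointwise

variable {G : Type*} [Group G]

/-- The element acts on `J` as an isometry. -/
def Iso (ξ : V → G) (g : G) : Prop := ∀ v, ∃ u, cj g (ξ v) = ξ u ∧ F u = F v

theorem Iso.mul {ξ : V → G} {g h : G} (h1 : Iso ξ g) (h2 : Iso ξ h) : Iso ξ (g * h) := fun v => by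
  obtain ⟨u, e, e'⟩ := h2 v
  obtain ⟨w, f, f'⟩ := h1 u
  exact ⟨w, by rw [mul_cj, e, f], f'.trans e'⟩

theorem Act.iso {ξ : V → G} {g : G} {f : V → V} (h : Act ξ g f) (e : ∀ v, F (f v) = F v) :
    Iso ξ g := fun v => ⟨f v, h v, e v⟩

theorem F_act (a : SP) (v : V) : F (a.act v) = F v := by
  have k : ∀ v : V, F v = ∑ i, v i * v i := fun v => by rw [F, Fin.sum_univ_four]
  rw [k, k, ← Equiv.sum_comp a.p⁻¹ fun i => v i * v i]
  refine Finset.sum_congr rfl fun i _ => ?_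
  simp only [SP.act]
  cases a.e i <;> simp

namespace Jm

variable {bo : Bool} {z : G} {Q : Subgroup G} {π : G → S} {χ : G → ZMod 2} {t : G} {ξ : V → G}
  {s b q : G} {μ : SP → G} (c : Jm bo z Q π χ t ξ s b q μ)
include c

theorem iso_nf {g : G} (h : g ∈ c.nf) : Iso ξ g := by
  obtain ⟨v, a, ha, rfl⟩ := h
  exact ((c.act_xi v).iso fun _ => rfl).mul ((c.ma a ha).iso (F_act a))

theorem iso_of {g h : G} (h1 : Iso ξ (h * g)) (h2 : Iso ξ h) (hg : ∀ v, ∃ u, cj g (ξ v) = ξ u) :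
    Iso ξ g := fun v => by
  obtain ⟨u, e⟩ := hg v
  obtain ⟨w, f, f'⟩ := h2 u
  obtain ⟨w', k, k'⟩ := h1 v
  rw [mul_cj, e, f] at k
  exact ⟨u, e, by rw [← f', c.inj _ _ k, k']⟩

omit c in
theorem nJ_mul {g h : G} (h2 : Iso ξ h) (hg : ∀ v, ∃ u, cj g (ξ v) = ξ u) (v : V) :
    ∃ u, cj (h * g) (ξ v) = ξ u := by
  obtain ⟨u, e⟩ := hg v
  obtain ⟨w, f, -⟩ := h2 u
  exact ⟨w, by rw [mul_cj, e, f]⟩

theorem ztype {g : G} {u : V} (h : cj g z = ξ u) : ∃ a : SP, a.ev ∧ a.act u = vz := by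
  have key : ∀ u : V, u = 0 ∨ (∃ a : SP, a.ev ∧ a.act u = vz) ∨ (∃ a : SP, a.ev ∧ a.act u = vv) ∨
      (∃ a : SP, a.ev ∧ a.act u = ee 3) ∨ ∃ a : SP, a.ev ∧ gb (a.act u) = ee 3 := by
    decide +kernel
  have k : ∀ g, cj g z ≠ ξ (ee 3) := fun g e => c.exclP (g := g) (e ▸ c.pQ') (e ▸ c.tp)
  rcases key u with e | e | ⟨a, ha, e⟩ | ⟨a, ha, e⟩ | ⟨a, ha, e⟩
  · rw [e, c.zero] at h
    exact absurd (cj_inj (h.trans (cj_one g).symm)) c.z1
  · exact e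
  · have : cj (μ a * g) z = ξ vv := by rw [mul_cj, h, c.ma a (ok_ev ha), e]
    exact absurd (this ▸ c.tX) (c.exclX (this ▸ c.XQ) (this ▸ c.XZ))
  · exact absurd (by rw [mul_cj, h, c.ma a (ok_ev ha), e]) (k (μ a * g))
  · exact absurd (by rw [mul_cj, mul_cj, h, c.ma a (ok_ev ha), c.Ab, e]) (k (b * μ a * g))

theorem nJ_iso {g : G} (hg : ∀ v, ∃ u, cj g (ξ v) = ξ u) : Iso ξ g := by
  have k1 : ∀ g, (∀ v, ∃ u, cj g (ξ v) = ξ u) → Commute z g → Iso ξ g := fun g hg hz => by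
    obtain ⟨u, e⟩ := hg (ee 3)
    obtain ⟨k, ek⟩ := c.cjt2 (Or.inl (cj_fix.mpr hz.symm)) c.pQ'
    rw [c.tp, cj_inv, e, c.At, ← c.neg, ← c.hz, ← c.smul, ← c.add] at ek
    have key : ∀ (u : V) (k : ZMod 3), -u = k • vz + (sg 3).act u → (∃ k : ZMod 3, u = k • vz) ∨
        ∃ m < 3, gb^[m] u = ee 3 ∨ gb^[m] ((sg 3).act u) = ee 3 := by decide +kernel
    have ib : ∀ m, Iso ξ (b ^ m) := fun m => by
      induction m with
      | zero => rw [pow_zero]; exact c.iso_nf (one_mem _)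
      | succ m ih => rw [pow_succ]; exact ih.mul (c.Ab.iso (by decide +kernel))
    have zb := c.QC b c.hb
    rcases key u k (c.inj _ _ ek) with h | ⟨m, -, h | h⟩
    · have := cj_zp (g := g⁻¹) (by rw [cj_fix.mpr hz.inv_right.symm]; exact mem_zpowers z)
        (c.mZ.mpr h)
      rw [inv_cj e] at this
      exact absurd this c.pZ
    · exact c.iso_of (c.iso_nf (c.cz4 ((zb.pow_right m).mul_right hz) (cj_fix.mp (by
        rw [mul_cj, e, c.Ab.pow, h])).symm)) (ib m) hg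
    · exact c.iso_of (c.iso_nf (c.cz4 (((zb.pow_right m).mul_right c.zt).mul_right hz)
        (cj_fix.mp (by rw [mul_cj, mul_cj, e, c.At, c.Ab.pow, h])).symm))
        ((ib m).mul (c.At.iso (F_act _))) hg
  obtain ⟨u, e⟩ := hg vz
  rw [c.hz] at e
  obtain ⟨a, ha, ea⟩ := c.ztype e
  have ia := c.iso_nf (c.mu_nf (ok_ev ha))
  exact c.iso_of (k1 _ (nJ_mul ia hg) (cj_fix.mp (by
    rw [mul_cj, e, c.ma a (ok_ev ha), ea, c.hz])).symm) ia hg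

theorem pJ : IsPGroup 3 c.JJ := pg3 (k := 1) (by rintro _ ⟨v, rfl⟩; exact c.cube v)

theorem fJ [Finite G] {g : G} {u v : V} (h : cj g (ξ u) = ξ v) : F u = F v := by
  obtain ⟨n, hn, e⟩ := fuse_of_wc (S := c.SS) (J := c.JJ) (c.sylS le_top)
    (by rintro _ ⟨v, rfl⟩; exact c.xS v) (by rintro _ ⟨v, rfl⟩ _ ⟨u, rfl⟩; exact c.xc _ _)
    (fun g hg => mem_normalizer_fintype (by
      rintro _ ⟨v, rfl⟩
      exact c.wc (fun v => hg (H9.mem_conj_smul_iff.mpr ⟨v, by rw [cj]; group⟩)) v))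
    (s := {ξ u}) (g := g) (by rintro _ rfl; exact ⟨u, rfl⟩) (by rintro _ rfl; exact ⟨v, h⟩)
  obtain ⟨w, e1, e2⟩ := c.nJ_iso (g := n) (fun v => (hn (ξ v)).mp ⟨v, rfl⟩) u
  rw [← e2, c.inj _ _ (e1.symm.trans ((e _ rfl).trans h))]

theorem notJ [Finite G] {u g : G} (hu : u ∈ Q) (h : ¬ Commute u (ξ vv)) (v : V) :
    cj g u ≠ ξ v := fun e => by
  obtain ⟨h, -, -, e'⟩ := c.claimC le_top hu h (mem_top g) c.pJ le_top (by
    rintro _ ⟨w, rfl⟩; exact e ▸ c.xc _ _)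
  exact c.noJ h fun v => e' _ ⟨v, rfl⟩

theorem Lm_act {g : G} {f : V → V} (h : Act ξ g f) {k : ZMod 3} (e : f vv = k • vz + vv) :
    Lm z (ξ vv) g k := by rw [Lm, h, e, c.add, c.smul, c.hz]

theorem Lm_ne {u : G} {k : ZMod 3} (e : Lm z (ξ vv) u k) (hk : k ≠ 0) : ¬ Commute u (ξ vv) :=
  fun h => hk (c.Lm_inj e (by rw [Lm, cj_fix.mpr h, ZMod.val_zero, pow_zero, one_mul]))

omit c in
theorem Lm_zero {u : G} (h : Commute u (ξ vv)) : Lm z (ξ vv) u 0 := by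
  rw [Lm, cj_fix.mpr h, ZMod.val_zero, pow_zero, one_mul]

theorem Aτ' : Act ξ (μ O8.st) O8.st.act := c.ma _ (ok_ev (by decide +kernel))

theorem tauJ [Finite G] (g : G) (u v : V) : cj g (ξ u * μ O8.st) ≠ ξ v := fun e => by
  have h1 : (ξ u * μ O8.st) ^ 3 = 1 := cj_inj (by rw [cj_pow, e, c.cube, cj_one])
  rw [c.cube_nf c.Aτ', c.exp _ c.τQ', mul_one, ← c.zero] at h1
  have k : ∀ u, u + O8.st.act u + O8.st.act (O8.st.act u) = 0 → sm u = 0 := by decide +kernel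
  exact c.notJ (mul_mem ((c.mQ u).mpr (k u (c.inj _ _ h1))) c.τQ')
    (c.Lm_ne (c.Lm_act ((c.act_xi u).mul c.Aτ') (k := -1) (by decide +kernel)) (by decide)) v e

theorem q3 : q ^ 3 = 1 := by
  rw [c.uniq (c.Aq.pow 3) (c.act_xi 0) (by decide +kernel) (c.sq.pow_right 3)
    (c.zero ▸ Commute.one_right s), c.zero]

theorem ord3 {u : G} (hu : u ∈ c.SS) (u3 : u ^ 3 = 1) : (∃ v, u = ξ v) ∨
    ∃ n, (∀ H, Idx2 H ⊤ → n ∈ H) ∧ cj n u ∈ Q ∧ ∀ k, Lm z (ξ vv) u k → Lm z (ξ vv) (cj n u) k := by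
  obtain ⟨v, m, n, rfl⟩ := c.Snf hu
  have k1 : ∀ v, ∀ m : ZMod 3, ∃ n, (∀ H, Idx2 H ⊤ → n ∈ H) ∧ cj n (ξ v * b ^ m.val) ∈ Q ∧
      ∀ k, Lm z (ξ vv) (ξ v * b ^ m.val) k → Lm z (ξ vv) (cj n (ξ v * b ^ m.val)) k := fun v m => by
    have k2 : ∀ n f, Act ξ n f → Commute s n → (∀ v, f (gb v) = gb (f v)) → sm (f v) = 0 →
        cj n (ξ v * b ^ m.val) ∈ Q ∧
        ∀ k, Lm z (ξ vv) (ξ v * b ^ m.val) k → Lm z (ξ vv) (cj n (ξ v * b ^ m.val)) k :=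
      fun n f A sn e sv => by
        have h1 : Commute n b := c.uniq (A.mul c.Ab) (c.Ab.mul A) e (sn.mul_right c.sb)
          (c.sb.mul_right sn)
        rw [cj_mul, A, cj_fix.mpr (h1.pow_right _)]
        refine ⟨mul_mem ((c.mQ _).mpr sv) (pow_mem c.hb _), fun k h => ?_⟩
        have h2 : ∀ w, cj (ξ w * b ^ m.val) (ξ vv) = ξ (gb^[m.val] vv) :=
          fun w => (c.act_xi w).mul (c.Ab.pow _) vv
        rw [Lm, h2] at h ⊢
        exact h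
    have key : ∀ v, sm (id v) = 0 ∨ sm (gq v) = 0 ∨ sm ((gq ∘ gq) v) = 0 ∨ sm (sρ.act v) = 0 := by
      decide +kernel
    have hq : ∀ H, Idx2 H ⊤ → q ∈ H := fun H hH => hH.cube (mem_top _) c.q3
    rcases key v with e | e | e | e
    · exact ⟨1, fun H _ => one_mem H, k2 1 id (fun v => one_cj _) (Commute.one_right s)
        (fun _ => rfl) e⟩
    · exact ⟨q, hq, k2 _ _ c.Aq c.sq (by decide +kernel) e⟩
    · exact ⟨q * q, fun H h => mul_mem (hq H h) (hq H h), k2 _ _ (c.Aq.mul c.Aq)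
        (c.sq.mul_right c.sq) (by decide +kernel) e⟩
    · have hd : ∀ H, Idx2 H ⊤ → cj t b ∈ H := fun H hH => hH.cube (mem_top _) (c.exp _ c.hd)
      exact ⟨cj t b * q * cj t b, fun H h => mul_mem (mul_mem (hd H h) (hq H h)) (hd H h),
        k2 _ _ (((c.Ad.mul c.Aq).mul c.Ad).congr (f' := sρ.act) (by decide +kernel))
        ((c.sd.mul_right c.sq).mul_right c.sd) (by decide +kernel) e⟩
  by_cases hn : n = 0
  · by_cases hm : m = 0
    · exact Or.inl ⟨v, by simp [hn, hm]⟩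
    · simpa [hn] using Or.inr (k1 v m)
  by_cases hm : m = 0
  · obtain ⟨g, h1, h2, h3⟩ := k1 ((sg 3).act v) n
    have e : cj t (ξ v * (b ^ m.val * cj t b ^ n.val)) = ξ ((sg 3).act v) * b ^ n.val := by
      rw [hm, ZMod.val_zero, pow_zero, one_mul, cj_mul, c.At, cj_pow, c.tt]
    refine Or.inr ⟨g * t, fun H h => mul_mem (h1 H h) (c.K_le h c.zt c.xt), by rwa [mul_cj, e],
      fun k h => ?_⟩
    rw [mul_cj, e]
    exact h3 k (e ▸ c.Lm_K c.zt c.xt (c.Sz hu) h)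
  · have hw := mul_mem (pow_mem c.hb m.val) (pow_mem c.hd n.val)
    rw [c.cube_nf (c.Abd m n), c.exp _ hw, mul_one, ← c.zero] at u3
    have key : ∀ m n : ZMod 3, m ≠ 0 → n ≠ 0 → ∀ v, v + (gb^[m.val] ∘ gd^[n.val]) v +
        (gb^[m.val] ∘ gd^[n.val]) ((gb^[m.val] ∘ gd^[n.val]) v) = 0 → sm v = 0 := by decide +kernel
    exact Or.inr ⟨1, fun H _ => one_mem H, by
      rw [one_cj]; exact mul_mem ((c.mQ v).mpr (key m n hm hn v (c.inj _ _ u3))) hw,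
      fun k h => by rwa [one_cj]⟩

theorem claimZ [Finite G] {L : Subgroup G} (hL : Q ≤ L) {u g : G} (hu : u ∈ Q)
    (h : ¬ Commute u (ξ vv)) (hg : g ∈ L) (hu' : cj g u ∈ Q) :
    ∃ h ∈ L, cj h u = cj g u ∧ cj h z ∈ zpowers z := by
  obtain ⟨h, hh, e, e'⟩ := c.claimC (A := Q ⊓ centralizer {cj g u}) hL hu h hg
    (pg3 (k := 1) fun x hx => c.exp x hx.1) (inf_le_left.trans hL)
    fun x hx => (mem_cent.mp hx.2).symm
  refine ⟨h⁻¹, inv_mem hh, e, ?_⟩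
  rcases zp_cases c.z3 c.z1 (c.z_of hu' fun x hx h => e' x ⟨hx, mem_cent.mpr h.symm⟩) with k | k
  · rw [inv_cj_fix k]; exact mem_zpowers z
  · rw [inv_cj_neg k]; exact inv_mem (mem_zpowers z)

theorem cw [Finite G] (hb : bo = true) (g : G) : ¬ Commute (cj g (μ O8.st)) (μ sw) := fun h => by
  have hw : ok bo sw := Or.inl hb
  have k0 : ∀ u ∈ c.SS, Commute u (μ sw) → Commute u (ξ vv) := fun u hu e => by
    obtain ⟨k, hk⟩ := c.LmK (c.Sz hu) (c.Sx hu)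
    have h1 := c.Lm_w hb hk
    rw [cj_fix.mpr e.symm] at h1
    have k1 : ∀ k : ZMod 3, k = -k → k = 0 := by decide
    rw [k1 k (c.Lm_inj hk h1), Lm, ZMod.val_zero, pow_zero, one_mul] at hk
    exact cj_fix.mp hk
  have Aβ : Act ξ (b * (cj t b)⁻¹) (gb ∘ gd ∘ gd) :=
    c.Ab.mul (c.Ad.inv (by decide +kernel))
  have hβ : b * (cj t b)⁻¹ ∈ (c.SS ⊓ centralizer {μ sw} : Subgroup G) :=
    ⟨c.QS (mul_mem c.hb (inv_mem c.hd)), mem_cent.mpr (c.uniq (Aβ.mul (c.ma _ hw))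
      ((c.ma _ hw).mul Aβ) (by decide +kernel) ((c.sb.mul_right c.sd.inv_right).mul_right (c.ms _ hw))
      ((c.ms _ hw).mul_right (c.sb.mul_right c.sd.inv_right)))⟩
  have hx : ∀ v, sw.act v = v → ξ v ∈ (c.SS ⊓ centralizer {μ sw} : Subgroup G) := fun v e =>
    ⟨c.xS v, mem_cent.mpr (c.mfix hw e)⟩
  have syl : IsSylowIn 3 (c.SS ⊓ centralizer {μ sw} : Subgroup G) (centralizer {μ sw}) := by
    refine L0.L43.syl_of_self inf_le_right (c.pS.to_inf_left) fun g hg ⟨k, e⟩ hn => ⟨?_, hg⟩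
    have hn' := inv_mem (mem_normalizer_fintype hn)
    have h1 : ∀ v ∈ (c.SS ⊓ centralizer {μ sw} : Subgroup G), Commute (cj g z) v := fun v hv => by
      have := cj_comm (g := g) (c.Sz ((hn' v).mp hv).1)
      rwa [show g⁻¹ * v * g⁻¹⁻¹ = cj g⁻¹ v from rfl, cj_inv_cj] at this
    have h2 := hn z (c.hz ▸ hx vz (by decide +kernel))
    obtain ⟨v, ev⟩ := c.cenJ _ (c.Sz h2.1) (h1 _ (hx (ee 3) (by decide +kernel))).symm
      (k0 _ h2.1 (mem_cent.mp h2.2)).symm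
    have key : ∀ v, (gb ∘ gd ∘ gd) v = v → sw.act v = v → ∃ k : ZMod 3, v = k • vz := by
      decide +kernel
    have h3 : cj g z ∈ zpowers z := by
      rw [cj, ev]
      exact c.mZ.mpr (key v (c.inj _ _ (by rw [← Aβ, ← ev]; exact cj_fix.mpr (h1 _ hβ).symm))
        (c.inj _ _ (by rw [← c.ma _ hw, ← ev]; exact cj_fix.mpr (mem_cent.mp h2.2).symm)))
    exact c.toSS (L0.L43.comm_of_pel e (zp_cases c.z3 c.z1 h3)).symm e (v := ee 2)
      (by decide +kernel) (hn _ (hx _ (by decide +kernel))).1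
  have τ3 : cj g (μ O8.st) ^ 3 = 1 := by rw [← cj_pow, c.exp _ c.τQ', cj_one]
  obtain ⟨l, -, hl⟩ := L0.L43.conj_into syl (mem_cent.mpr h) (k := 1) τ3
  change cj l _ ∈ _ at hl
  have hτ := c.Lm_act c.Aτ' (k := -1) (by decide +kernel)
  rcases c.ord3 hl.1 (by rw [← cj_pow, τ3, cj_one]) with ⟨v, e⟩ | ⟨n, -, h1, h2⟩
  · exact c.notJ c.τQ' (c.Lm_ne hτ (by decide)) v (by rw [← e, mul_cj])
  · have h3 := h2 0 (Lm_zero (k0 _ hl.1 (mem_cent.mp hl.2)))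
    rw [← mul_cj, ← mul_cj] at h1 h3
    obtain ⟨h, -, e1, e2⟩ := c.claimZ le_top c.τQ' (c.Lm_ne hτ (by decide)) (mem_top _) h1
    rcases c.Lm_N e2 (c.QC _ c.τQ') hτ with e | e <;> rw [e1] at e <;>
      exact absurd (c.Lm_inj e h3) (by decide)

theorem fusion [Finite G] {H : Subgroup G} (hH : Idx2 H ⊤) (hw : bo = true → μ sw ∉ H) {u g : G}
    (hu : u ∈ c.SS) (hg : g ∈ H) (hu' : cj g u ∈ c.SS) {k : ZMod 3} (e : Lm z (ξ vv) u k) :
    Lm z (ξ vv) (cj g u) k := by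
  have hQ : Q ≤ H := fun x hx => c.K_le hH (c.QC x hx) (c.xQ hx)
  by_cases u3 : u ^ 3 = 1
  swap
  · refine c.Lm_H hH hw hg ?_ (c.Sz hu) e
    have h1 := c.Scube hu'
    rw [← cj_pow] at h1
    rcases (mem_zpowers_three c.z3).mp (c.Scube hu) with h | h | h
    · exact absurd h u3
    · rwa [h] at h1
    · rwa [h, cj_inv, inv_mem_iff] at h1
  have main : ∀ u g k, u ∈ c.SS → u ^ 3 = 1 → g ∈ H → cj g u ∈ c.SS → Lm z (ξ vv) u k → k ≠ 0 →
      Lm z (ξ vv) (cj g u) k := fun u g k hu u3 hg hu' e hk => by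
    obtain ⟨n, n1, n2, n3⟩ := (c.ord3 hu u3).resolve_left (by
      rintro ⟨v, rfl⟩
      exact c.Lm_ne e hk (c.xc _ _))
    have h1 := c.Lm_ne (n3 k e) hk
    rcases c.ord3 hu' (by rw [← cj_pow, u3, cj_one]) with ⟨v, ev⟩ | ⟨m, m1, m2, m3⟩
    · exact absurd (by rw [mul_cj, inv_cj_cj, ev]) (c.notJ (g := g * n⁻¹) n2 h1 v)
    · have h2 : cj (m * g * n⁻¹) (cj n u) = cj m (cj g u) := by rw [mul_cj, inv_cj_cj, mul_cj]
      obtain ⟨h, hh, e1, e2⟩ := c.claimZ hQ n2 h1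
        (mul_mem (mul_mem (m1 H hH) hg) (inv_mem (n1 H hH))) (h2 ▸ m2)
      have h3 := c.Lm_H hH hw hh e2 (c.QC _ n2) (n3 k e)
      rw [e1, h2] at h3
      obtain ⟨k', e'⟩ := c.LmK (c.Sz hu') (c.Sx hu')
      rwa [c.Lm_inj h3 (m3 k' e')]
  by_cases hk : k = 0
  · obtain ⟨k', e'⟩ := c.LmK (c.Sz hu') (c.Sx hu')
    by_cases hk' : k' = 0
    · rwa [hk, ← hk']
    · have := main _ g⁻¹ k' hu' (by rw [← cj_pow, u3, cj_one]) (inv_mem hg)
        (by rwa [inv_cj_cj]) e' hk'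
      rw [inv_cj_cj] at this
      rwa [c.Lm_inj e this]
  · exact main u g k hu u3 hg hu' e hk

theorem lam [Finite G] {H : Subgroup G} (hH : Idx2 H ⊤) (hw : bo = true → μ sw ∉ H) :
    ∃ N ≤ H, N.relIndex H = 3 ∧ (∀ v, ξ v ∈ N) ∧ μ O8.st ∉ N ∧ H ≤ normalizer (N : Set G) ∧
      ∀ g ∈ H, g * g = 1 → g ∈ N := by
  have hS : c.SS ≤ H := fun x hx => c.K_le hH (c.Sz hx) (c.Sx hx)
  obtain ⟨N, h1, h2, h3, h4, h5, h6⟩ := L0.L43.transfer3 (T0 := c.SS ⊓ centralizer {ξ vv})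
    (c.sylS hS) fun x hx g hg hx' => mem_inf.mpr ⟨mul_mem hx' (inv_mem hx), mem_cent.mpr (cj_fix.mp (by
      obtain ⟨k, e⟩ := c.LmK (c.Sz hx) (c.Sx hx)
      have e' := c.fusion hH hw hx hg hx' e
      rw [mul_cj, inv_cj (g := x) (x := (z ^ k.val)⁻¹ * ξ vv) (by
        rw [cj_mul, cj_inv, cj_fix.mpr ((c.Sz hx).pow_left _).symm, e, inv_mul_cancel_left]),
        cj_mul, cj_inv, cj_fix.mpr ((c.Sz hx').pow_left _).symm]
      exact inv_mul_eq_of_eq_mul e'))⟩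
  let N' : Subgroup G :=
    { carrier := {g | ∃ x ∈ (c.SS ⊓ centralizer {ξ vv} : Subgroup G), x⁻¹ * g ∈ N}
      one_mem' := ⟨1, one_mem _, by simp⟩
      mul_mem' := by
        rintro g h ⟨x, hx, e⟩ ⟨y, hy, e'⟩
        refine ⟨x * y, mul_mem hx hy, ?_⟩
        rw [show (x * y)⁻¹ * (g * h) = y⁻¹ * (x⁻¹ * g) * y⁻¹⁻¹ * (y⁻¹ * h) by group]
        exact mul_mem ((h2 (inv_mem (hS hy.1)) _).mp e) e'
      inv_mem' := by
        rintro g ⟨x, hx, e⟩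
        refine ⟨x⁻¹, inv_mem hx, ?_⟩
        rw [show x⁻¹⁻¹ * g⁻¹ = x * (x⁻¹ * g)⁻¹ * x⁻¹ by group]
        exact (h2 (hS hx.1) _).mp (inv_mem e) }
  have k1 : N ≤ N' := fun g hg => ⟨1, one_mem _, by simpa using hg⟩
  have k2 : ∀ x ∈ c.SS, Commute x (ξ vv) → x ∈ N' := fun x hx e =>
    ⟨x, ⟨hx, mem_cent.mpr e⟩, by simp⟩
  have k3 : N' ≤ H := fun g ⟨x, hx, e⟩ => (mul_mem_cancel_left (inv_mem (hS hx.1))).mp (h1 e)
  have k4 : H ≤ normalizer (N' : Set G) := fun g hg => mem_normalizer_fintype fun x hx => by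
    rw [← inv_mul_cancel_right (g * x * g⁻¹) x, mul_assoc _ x⁻¹ x, ← mul_assoc _ x⁻¹]
    exact mul_mem (k1 (h5 g hg x (k3 hx))) hx
  have hτ := c.Lm_act c.Aτ' (k := -1) (by decide +kernel)
  have τS := c.QS c.τQ'
  have k5 : μ O8.st ∉ N' := fun ⟨x, hx, e⟩ => c.Lm_ne hτ (by decide) (mem_cent.mp
    ((mul_mem_cancel_left (inv_mem hx)).mp (h3 _ (mul_mem (inv_mem hx.1) τS) e)).2)
  refine ⟨N', k3, ?_, fun v => k2 _ (c.xS v) (c.xc _ _), k5, k4, fun g hg e => k1 (h6 g hg e)⟩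
  have := normal_subgroupOf_of_le_normalizer k4
  let f := QuotientGroup.mk' (N'.subgroupOf H)
  have h7 : zpowers (f ⟨_, hS τS⟩) = ⊤ := eq_top_iff.mpr fun y _ => by
    obtain ⟨g, rfl⟩ := QuotientGroup.mk'_surjective _ y
    obtain ⟨x, hx, e⟩ := h4 g g.2
    obtain ⟨k, ek⟩ := c.LmK (c.Sz hx) (c.Sx hx)
    have h8 : μ O8.st ^ k.val * x ∈ N' := k2 _ (mul_mem (pow_mem τS _) hx) (cj_fix.mp (by
      rw [mul_cj, ek, cj_mul, cj_fix.mpr ((c.Sz (pow_mem τS _)).pow_left _).symm,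
        cj_pow_of hτ (cj_fix.mpr ((c.Sz τS).pow_left _).symm), ← mul_assoc, ← pow_mul, ← pow_add,
        pow_eq_pow_mod _ c.z3]
      have : ∀ k : ZMod 3, (k.val + (-1 : ZMod 3).val * k.val) % 3 = 0 := by decide
      rw [this, pow_zero, one_mul]))
    refine (mul_mem_cancel_left (pow_mem (mem_zpowers _) k.val)).mp ?_
    rw [← map_pow, ← map_mul, show f (⟨_, hS τS⟩ ^ k.val * g) = 1 from
      (QuotientGroup.eq_one_iff _).mpr (by
        have := mul_mem h8 (k1 e)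
        rwa [mul_assoc, mul_inv_cancel_left] at this)]
    exact one_mem _
  rw [relIndex, index, ← card_top, ← h7]
  exact card_zp (by rw [← map_pow, show (⟨_, hS τS⟩ : H) ^ 3 = 1 from Subtype.ext (c.exp _ c.τQ'),
    map_one]) fun e => k5 ((QuotientGroup.eq_one_iff (⟨_, hS τS⟩ : H)).mp e)

theorem sig [Finite G] {O : Subgroup G} (hO : (Nat.card O).Coprime 3)
    (h : ∀ v, ξ v ∈ normalizer (O : Set G)) : O = ⊥ := by
  have k1 : ∀ g ∈ O, g ^ 3 = 1 → g = 1 := fun g hg e =>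
    orderOf_eq_one_iff.mp (Nat.eq_one_of_dvd_coprimes hO (orderOf_dvd_natCard O hg)
      (orderOf_dvd_of_pow_eq_one e))
  let A : Subgroup G :=
    { carrier := {g | ∃ k l : ZMod 3, g = ξ (k • vz + l • ![0, -1, 1, 1])}
      one_mem' := ⟨0, 0, by simp [c.zero]⟩
      mul_mem' := by
        rintro _ _ ⟨k, l, rfl⟩ ⟨m, n, rfl⟩
        exact ⟨k + m, l + n, by rw [← c.add, add_smul, add_smul]; congr 1; abel⟩
      inv_mem' := by
        rintro _ ⟨k, l, rfl⟩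
        exact ⟨-k, -l, by rw [← c.neg, neg_smul, neg_smul]; congr 1; abel⟩ }
  have a3 : ∀ x ∈ A, x ^ 3 = 1 := by rintro _ ⟨k, l, rfl⟩; exact c.cube _
  have ne : ∀ u v, u ≠ v → ξ u ≠ ξ v := fun u v h e => h (c.inj _ _ e)
  refine eq_bot_iff.mpr (le_of_cent1 (A := A) (pg3 (k := 1) a3)
    (by rintro _ ⟨k, l, rfl⟩ _ ⟨m, n, rfl⟩; exact c.xc _ _)
    (L0.L43.not_isCyclic_of_two a3 (p := ξ vz) (q := ξ ![0, -1, 1, 1]) ⟨1, 0, by simp⟩ ⟨0, 1, by simp⟩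
      (c.zero ▸ ne _ _ (by decide +kernel)) (c.zero ▸ ne _ _ (by decide +kernel))
      (ne _ _ (by decide +kernel)) (c.neg vz ▸ ne _ _ (by decide +kernel)))
    (by rintro _ ⟨k, l, rfl⟩; exact h _) hO ?_)
  rintro _ ⟨k, l, rfl⟩ h1 g hg e
  have key : ∀ k l : ZMod 3, k • vz + l • ![0, -1, 1, 1] = 0 ∨
      ∃ a : SP, a.ev ∧ a.act (k • vz + l • ![0, -1, 1, 1]) = vz := by decide +kernel
  obtain ⟨a, ha, ea⟩ := (key k l).resolve_left fun e => h1 (by rw [e, c.zero])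
  have hz : Commute z (cj (μ a) g) := by
    have := cj_comm (g := μ a) (show Commute _ g from e.symm)
    rwa [c.ma a (ok_ev ha), ea, c.hz] at this
  have k2 : ∀ v, sm v = 0 → Commute (ξ v) (cj (μ a) g) := fun v sv => by
    have h2 := (c.mQ v).mpr sv
    have h3 := c.exp _ (mul_mem (c.norm hz h2) (inv_mem h2))
    have h4 : ξ v = cj (μ a) (ξ (a⁻¹.act v)) := by
      rw [c.ma a (ok_ev ha), ← act_mul, mul_inv_cancel, act_one]
    rw [h4, ← cj_cj, ← cj_inv, ← cj_mul, ← cj_pow] at h3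
    have h5 := k1 _ (by
      rw [show cj g (ξ (a⁻¹.act v)) * (ξ (a⁻¹.act v))⁻¹ =
        g * (ξ (a⁻¹.act v) * g⁻¹ * (ξ (a⁻¹.act v))⁻¹) by rw [cj]; group]
      exact mul_mem hg ((h _ _).mp (inv_mem hg))) (cj_inj (h3.trans (cj_one _).symm))
    rw [h4]
    exact cj_comm (cj_fix.mp (mul_inv_eq_one.mp h5)).symm
  obtain ⟨v, ev⟩ := c.cenJ _ hz (k2 _ (by decide +kernel)) (k2 _ (by decide +kernel))
  exact mem_bot.mpr (k1 g hg (cj_inj (by rw [cj_pow, ev, c.cube, cj_one])))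

theorem toCfg [Finite G] : ∃ i, Cfg bo ξ μ i := by
  have hr : ok bo sr := ok_p rfl
  obtain ⟨i, hi, i2, ij, ir⟩ := c.exists_i (c.zx (ee 0)) (cj_fix.mp c.tx0) (c.cube _) c.x0Q
    (r := μ sr) (by rw [← c.hz, c.ma _ hr, ← c.neg]; congr 1; decide +kernel)
    (c.mt ▸ c.mcomm (ok_p rfl) hr (by decide +kernel))
    (by rw [c.ma _ hr, ← c.neg]; congr 1; decide +kernel)
  refine ⟨i, c.add, fun v e => c.inj _ _ (e.trans c.zero.symm), fun a a' => c.mmul,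
    fun a v h => c.ma a h v, fun g h => c.cJ fun v => (h v).symm, c.mt ▸ c.ee_sq hi i2, ij,
    fun v h3 h => ?_, fun a => c.iS hi, ir, fun g h1 h2 => c.cz4 (c.hz ▸ h1.symm) h2.symm,
    fun g h1 h2 => ?_, fun g u v => c.fJ, fun O => c.sig, c.tauJ, c.cw, fun H => c.lam⟩
  · refine c.q8 i hi.z hi.x hi.t hi.e4 _ ((c.mQ v).mpr h) ?_
    have k : ∀ v : V, v 3 = 0 → (sg 3).act v = v := by decide +kernel
    rw [c.At, k v h3]
  · obtain ⟨e, he, v, a, ha, h⟩ := c.czt hi i2 (c.hz ▸ h1.symm) (c.mt ▸ h2.symm)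
    exact ⟨e, he, v, a, ha, by rw [mul_assoc, ← h, mul_inv_cancel_left]⟩

end Jm

theorem Tt.exists_cfg [Finite G] {z : G} {Q : Subgroup G} {π : G → S} {χ : G → ZMod 2} {t : G}
    (T : Tt z Q π χ t) {g : G} (h1 : cj g z ∈ Q) (h2 : cj g z ∉ zpowers z) :
    ∃ (b : Bool) (ξ : V → G) (μ : SP → G) (i : G), Cfg b ξ μ i := by
  obtain ⟨a, c, y, b, q, B⟩ := T.exists_Bs h1 h2
  obtain ⟨s, b, q, J⟩ := B.toJ0.toJc
  obtain ⟨bo, μ, M⟩ := J.toJm
  exact ⟨bo, _, μ, M.toCfg⟩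

end Cfsg.Agent.H3.O8
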