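import Cfsg.Agent.H3.O8Mu
import Cfsg.Agent.L0.L43Ctl

/-!
# Fusion in the Sylow three-subgroup
-/

set_option autoImplicit false
set_option maxRecDepth 100000
set_option synthInstance.maxSize 100000

namespace Cfsg.Agent.H3.O8

open Subgroup Cfsg.Agent.H3.L43 Cfsg.Agent.H9 Cfsg.Agent.H1.T3
open scoped Pointwise

variable {G : Type*} [Group G]

theorem conj_into' [Finite G] {p : ℕ} [Fact p.Prime] {P L A : Subgroup G} (hP : IsSylowIn p P L)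
    (hA : IsPGroup p A) (h : A ≤ L) : ∃ l ∈ L, ∀ x ∈ A, cj l x ∈ P := by
  obtain ⟨R, hR, h⟩ := exists_isSylowIn_ge h hA
  obtain ⟨l, hl, e⟩ := hR.exists_conj hP
  refine ⟨l, hl, fun x hx => ?_⟩
  rw [← e, mem_conj_smul_iff]
  simpa [cj, mul_assoc] using h hx

theorem pg3 {A : Subgroup G} {k : ℕ} (h : ∀ x ∈ A, x ^ 3 ^ k = 1) : IsPGroup 3 A :=
  fun x => ⟨k, Subtype.ext (h x x.2)⟩

theorem zp_cases {z g : G} (z3 : z ^ 3 = 1) (z1 : z ≠ 1) (h : cj g z ∈ zpowers z) :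
    cj g z = z ∨ cj g z = z⁻¹ :=
  ((mem_zpowers_three z3).mp h).resolve_left fun e => z1 (cj_inj (e.trans (cj_one g).symm))

theorem idx2_odd {H : Subgroup G} (h : Idx2 H ⊤) {y : G} (e : y ^ 3 ^ 2 = 1) : y ∈ H := by
  have := pow_mem (h.sq (mem_top y)) 5
  rwa [← pow_two, ← pow_mul, show 2 * 5 = 3 ^ 2 + 1 from rfl, pow_succ, e, one_mul] at this

theorem S_pow3 (X : S) {k : ℕ} (h : X ^ 3 ^ k = 1) : X ^ 3 = 1 := by
  have k1 : ∀ X : S, X ^ 3 = 1 ∨ (X ^ 3) ^ 4 = 1 ∧ X ^ 3 ≠ 1 := by decide +kernel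
  rcases k1 X with e | ⟨e, e'⟩
  · exact e
  · refine orderOf_eq_one_iff.mp (Nat.eq_one_of_dvd_coprimes (a := 4) (b := 3 ^ k)
      (Nat.Coprime.pow_right k (by norm_num)) (orderOf_dvd_of_pow_eq_one e)
      (orderOf_dvd_of_pow_eq_one ?_))
    rw [← pow_mul, mul_comm, pow_mul, h, one_pow]

/-- The element `u` moves `X` by the `k`-th power of `z`. -/
def Lm (z X u : G) (k : ZMod 3) : Prop := cj u X = z ^ k.val * X

namespace Jm

variable {bo : Bool} {z : G} {Q : Subgroup G} {π : G → S} {χ : G → ZMod 2} {t : G} {ξ : V → G}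
  {s b q : G} {μ : SP → G} (c : Jm bo z Q π χ t ξ s b q μ)
include c

/-- The elementary abelian group. -/
def JJ : Subgroup G where
  carrier := {g | ∃ v, g = ξ v}
  one_mem' := ⟨0, c.zero.symm⟩
  mul_mem' := by rintro _ _ ⟨u, rfl⟩ ⟨v, rfl⟩; exact ⟨_, (c.add u v).symm⟩
  inv_mem' := by rintro _ ⟨u, rfl⟩; exact ⟨_, (c.neg u).symm⟩

theorem zS {g : G} {n : ℕ} (h : g * ξ (ee 0) ^ n ∈ Q) : Commute z g := by
  simpa using (c.QC _ h).mul_right ((c.zx (ee 0)).pow_right n).inv_right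

/-- The Sylow subgroup. -/
def SS : Subgroup G where
  carrier := {g | ∃ n : ℕ, g * ξ (ee 0) ^ n ∈ Q}
  one_mem' := ⟨0, by simp⟩
  mul_mem' := by
    rintro g h ⟨n, h1⟩ ⟨m, h2⟩
    refine ⟨m + n, ?_⟩
    rw [show g * h * ξ (ee 0) ^ (m + n) = cj g (h * ξ (ee 0) ^ m) * (g * ξ (ee 0) ^ n) by
      rw [pow_add, cj]; group]
    exact mul_mem (c.norm (c.zS h1) h2) h1
  inv_mem' := by
    rintro g ⟨n, h⟩
    refine ⟨2 * n, ?_⟩
    rw [pow_mul, pow_two, ← cube_inv (c.cube _), show g⁻¹ * (ξ (ee 0))⁻¹ ^ n =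
      cj g⁻¹ (g * ξ (ee 0) ^ n)⁻¹ by rw [cj, inv_pow]; group]
    exact c.norm (c.zS h).inv_right (inv_mem h)

theorem Sz {g : G} (h : g ∈ c.SS) : Commute z g := c.zS h.choose_spec

theorem QS {g : G} (h : g ∈ Q) : g ∈ c.SS := ⟨0, by simpa using h⟩

theorem xS (v : V) : ξ v ∈ c.SS := ⟨(-sm v).val, by
  rw [← c.smul, ← c.add, c.mQ]
  revert v; decide +kernel⟩

theorem Sx {g : G} (h : g ∈ c.SS) : χ g = 0 := by
  obtain ⟨n, h⟩ := h
  have := c.xQ h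
  rw [c.mulx _ _ (c.zS h) ((c.zx _).pow_right n), c.xpow (c.zx _), c.x3 (c.zx _) (c.cube _)] at this
  simpa using this

theorem bd : Commute b (cj t b) :=
  c.uniq (c.Ab.mul c.Ad) (c.Ad.mul c.Ab) (by decide +kernel) (c.sb.mul_right c.sd)
    (c.sd.mul_right c.sb)

theorem hd : cj t b ∈ Q := c.norm c.zt c.hb

theorem Abd (m n : ZMod 3) : Act ξ (b ^ m.val * cj t b ^ n.val) (gb^[m.val] ∘ gd^[n.val]) :=
  (c.Ab.pow _).mul (c.Ad.pow _)

theorem Snf {g : G} (h : g ∈ c.SS) :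
    ∃ v, ∃ m n : ZMod 3, g = ξ v * (b ^ m.val * cj t b ^ n.val) := by
  obtain ⟨k, h⟩ := h
  have key : ∀ α β : ZMod 3, ∃ m n α' β' : ZMod 3, α' = α ∧ β' = β ∧
      (gb^[m.val] ∘ gd^[n.val]) (ee 3) = α' • vz + ee 3 ∧
      (gb^[m.val] ∘ gd^[n.val]) vv = β' • vz + vv := by decide +kernel
  have h1 := c.norm ((c.zx (ee 0)).pow_right k) h
  obtain ⟨m, n, α, β, e1, e2, e3, e4⟩ := key (bt z (cj (ξ (ee 0) ^ k) (g * ξ (ee 0) ^ k)) (ξ (ee 3)))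
    (bt z (cj (ξ (ee 0) ^ k) (g * ξ (ee 0) ^ k)) (ξ vv))
  have h2 := mul_mem (pow_mem c.hb m.val) (pow_mem c.hd n.val)
  obtain ⟨v, -, e⟩ := c.lagJ (mul_mem h1 (inv_mem h2))
    (by rw [c.mull h1 (inv_mem h2) c.pQ', c.invl h2 c.pQ', c.bt_act (c.Abd m n) e3, e1,
      add_neg_cancel])
    (by rw [c.mull h1 (inv_mem h2) c.XQ, c.invl h2 c.XQ, c.bt_act (c.Abd m n) e4, e2,
      add_neg_cancel])
  refine ⟨-((k : ZMod 3) • ee 0) + v, m, n, ?_⟩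
  rw [c.add, c.neg, c.smul, ← e, ZMod.val_natCast, ← pow_eq_pow_mod _ (c.cube _), cj]
  group

theorem cube_nf {g : G} {f : V → V} (h : Act ξ g f) (v : V) :
    (ξ v * g) ^ 3 = ξ (v + f v + f (f v)) * g ^ 3 := by
  rw [c.add, c.add, ← h, ← h, ← h]
  simp only [cj, pow_three']; group

theorem Scube {g : G} (h : g ∈ c.SS) : g ^ 3 ∈ zpowers z := by
  obtain ⟨v, m, n, rfl⟩ := c.Snf h
  rw [c.cube_nf (c.Abd m n), c.exp _ (mul_mem (pow_mem c.hb _) (pow_mem c.hd _)), mul_one, c.mZ]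
  clear h
  revert v m n; decide +kernel

theorem pS : IsPGroup 3 c.SS := pg3 (k := 2) fun x hx => by
  rw [pow_two, pow_mul]; exact c.exp _ (c.ZQ (c.Scube hx))

theorem toSS {g : G} (hg : Commute z g) {k : ℕ} (e : g ^ 3 ^ k = 1) {v : V} (hv : sm v = 1)
    (h : cj g (ξ v) ∈ c.SS) : g ∈ c.SS := by
  have zx := c.zx (ee 0)
  obtain ⟨n, h⟩ := h
  have h1 := c.pQ h
  have h2 : π (ξ v) = π (ξ (ee 0)) := by
    have k : ∀ v, sm v = 1 → sm (v - ee 0) = 0 := by decide +kernel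
    have : ξ (v - ee 0) ∈ Q := (c.mQ _).mpr (k v hv)
    rw [← sub_add_cancel v (ee 0), c.add, c.mul _ _ (c.zx _) zx, c.pQ this, one_mul]
  rw [c.mul _ _ (Ccj hg (c.zx v)) (zx.pow_right n), c.pcj hg (c.zx v), h2, c.ppow zx,
    pow_eq_pow_mod n (c.p3 zx (c.cube _))] at h1
  have key : ∀ Y : S, Y ≠ 1 → Y ^ 3 = 1 → ∀ X : S, X ^ 3 = 1 → ∀ n < 3, X * Y * X⁻¹ * Y ^ n = 1 →
      ∃ m < 3, X * Y ^ m = 1 := by decide +kernel
  obtain ⟨m, -, e'⟩ := key _ (fun e => c.x0Q (c.toQ zx e (c.x3 zx (c.cube _)))) (c.p3 zx (c.cube _))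
    _ (S_pow3 _ (by rw [← c.ppow hg, e, c.p1])) _ (Nat.mod_lt n (by norm_num)) h1
  exact ⟨m, c.toQ (hg.mul_right (zx.pow_right m)) (by rw [c.mul _ _ hg (zx.pow_right m), c.ppow zx, e'])
    (by rw [c.mulx _ _ hg (zx.pow_right m), c.xodd hg e, c.xpow zx, c.x3 zx (c.cube _)]; simp)⟩

theorem sylS [Finite G] {L : Subgroup G} (h : c.SS ≤ L) : IsSylowIn 3 c.SS L := by
  have : Fact (Nat.Prime 3) := ⟨by norm_num⟩
  refine L0.L43.syl_of_self h c.pS fun g _ ⟨k, e⟩ hg => ?_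
  have hn := inv_mem (mem_normalizer_fintype hg)
  have h1 : ∀ v ∈ Q, Commute (cj g z) v := fun v hv => by
    have := cj_comm (g := g) (c.Sz ((hn v).mp (c.QS hv)))
    rwa [show g⁻¹ * v * g⁻¹⁻¹ = cj g⁻¹ v from rfl, cj_inv_cj] at this
  exact c.toSS (L0.L43.comm_of_pel e (zp_cases c.z3 c.z1 (c.nondeg _ (c.cQ _ h1) h1))).symm e
    (v := ee 0) (by decide +kernel) (hg _ (c.xS _))

theorem decK {g : G} (hg : Commute z g) (xg : χ g = 0) :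
    ∃ e, Ee z χ t e ∧ ∃ n : ℕ, e⁻¹ * g * ξ (ee 0) ^ n ∈ Q := by
  have zx := c.zx (ee 0)
  have key : ∀ Y : S, Y ≠ 1 → Y ^ 3 = 1 → ∀ X : S, ∃ I : S, I ^ 4 = 1 ∧ ∃ n < 3,
      I⁻¹ * X * Y ^ n = 1 := by decide +kernel
  obtain ⟨I, I4, n, -, e⟩ := key _ (fun e => c.x0Q (c.toQ zx e (c.x3 zx (c.cube _))))
    (c.p3 zx (c.cube _)) (π g)
  obtain ⟨f, hf, rfl⟩ := c.ee_exists I4
  exact ⟨f, hf, n, c.toQ ((hf.z.inv_right.mul_right hg).mul_right (zx.pow_right n))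
    (by rw [c.mul _ _ (hf.z.inv_right.mul_right hg) (zx.pow_right n), c.mul _ _ hf.z.inv_right hg,
      c.pinv hf.z, c.ppow zx, e])
    (by rw [c.mulx _ _ (hf.z.inv_right.mul_right hg) (zx.pow_right n),
      c.mulx _ _ hf.z.inv_right hg, c.xinv hf.z, hf.x, xg, c.xpow zx, c.x3 zx (c.cube _)]; simp)⟩

theorem LmK {g : G} (hg : Commute z g) (xg : χ g = 0) : ∃ k, Lm z (ξ vv) g k := by
  obtain ⟨e, he, n, h⟩ := c.decK hg xg
  refine ⟨bt z (e⁻¹ * g * ξ (ee 0) ^ n) (ξ vv), ?_⟩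
  have h1 := congrArg (cj e) (c.cjZ h c.XQ)
  rwa [mul_cj, cj_fix.mpr ((c.xc _ _).pow_left n), mul_cj, cj_inv_cj, cj_mul,
    cj_fix.mpr (he.z.pow_left _).symm, cj_fix.mpr (c.q8 e he.z he.x he.t he.e4 _ c.XQ c.tX)] at h1

theorem Lm_inj {u : G} {k l : ZMod 3} (h : Lm z (ξ vv) u k) (h' : Lm z (ξ vv) u l) : k = l :=
  ez_inj c.z3 c.z1 (mul_right_cancel (h.symm.trans h'))

theorem Lm_K {h u : G} {k : ZMod 3} (hh : Commute z h) (xh : χ h = 0) (hu : Commute z u)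
    (e : Lm z (ξ vv) u k) : Lm z (ξ vv) (cj h u) k := by
  obtain ⟨j, ej⟩ := c.LmK hh xh
  refine mul_left_cancel (a := z ^ j.val) ?_
  rw [← cj_fix.mpr ((Ccj hh hu).pow_left j.val).symm, ← cj_mul, ← ej, ← cj_cj, e, cj_mul, cj_pow,
    cj_fix.mpr hh.symm, ej, cj_fix.mpr ((Ccj hh hu).pow_left j.val).symm, ← mul_assoc, ← mul_assoc,
    ← pow_add, ← pow_add, add_comm]

theorem Lm_neg {h u : G} {k : ZMod 3} (hX : cj h (ξ vv) = (ξ vv)⁻¹) (e : Lm z (ξ vv) u k) :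
    cj (cj h u) (ξ vv) = (cj h z ^ k.val)⁻¹ * ξ vv := by
  have := congrArg (fun x => (cj h x)⁻¹) e
  simp only [cj_cj h u, hX, cj_inv, inv_inv, cj_mul, cj_pow, mul_inv_rev] at this
  rw [this]
  have h1 := cj_comm (g := h) (c.zx vv)
  rw [hX] at h1
  exact (Commute.inv_right_iff.mp (h1.pow_left _)).inv_left.eq.symm

theorem Lm_s {u : G} {k : ZMod 3} (e : Lm z (ξ vv) u k) : Lm z (ξ vv) (cj s u) k := by
  rw [Lm, c.Lm_neg (by rw [c.As, c.neg]) e, c.sz, inv_pow, inv_inv]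

theorem Lm_w (hb : bo = true) {u : G} {k : ZMod 3} (e : Lm z (ξ vv) u k) :
    Lm z (ξ vv) (cj (μ sw) u) (-k) := by
  rw [Lm, c.Lm_neg (by rw [c.ma _ (Or.inl hb), ← c.neg]; congr 1; decide +kernel) e,
    cj_fix.mpr (c.zw hb).symm]
  congr 1
  rw [inv_eq_iff_mul_eq_one, ← ez_add c.z3, add_neg_cancel, ZMod.val_zero, pow_zero]

theorem K_le {H : Subgroup G} (hH : Idx2 H ⊤) {g : G} (hg : Commute z g) (xg : χ g = 0) : g ∈ H := by
  obtain ⟨y1, y2, y3, -, -, -, e1, e2, e3, rfl⟩ := c.three_elts hg xg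
  exact mul_mem (mul_mem (idx2_odd hH e1) (idx2_odd hH e2)) (idx2_odd hH e3)

theorem s_mem {H : Subgroup G} (hH : Idx2 H ⊤) : s ∈ H := by
  have h := ok_ev (b := bo) (a := sρ) (by decide +kernel)
  rw [c.uniq c.As ((c.ma _ h).mul (c.ma _ h)) (by decide +kernel) (Commute.refl s)
    ((c.ms _ h).mul_right (c.ms _ h))]
  exact hH.sq (mem_top _)

theorem Lm_C {h u : G} {k : ZMod 3} (hh : Commute z h) (hu : Commute z u) (e : Lm z (ξ vv) u k) :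
    Lm z (ξ vv) (cj h u) k ∨ bo = true ∧ χ (h * μ sw) = 0 ∧ Lm z (ξ vv) (cj h u) (-k) := by
  rcases c.split hh with x | ⟨hb, x⟩
  · exact Or.inl (c.Lm_K hh x hu e)
  · have := c.Lm_K (hh.mul_right (c.zw hb)) x (Ccj (c.zw hb) hu) (c.Lm_w hb e)
    rw [← mul_cj, mul_assoc, c.w2 hb, mul_one] at this
    exact Or.inr ⟨hb, x, this⟩

theorem s_red {h : G} (hh : cj h z = z⁻¹) : Commute z (h * s) :=
  (cj_fix.mp (by rw [mul_cj, c.sz, cj_inv, hh, inv_inv])).symm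

theorem zs {u : G} (hu : Commute z u) : Commute z (cj s u) := by
  have := cj_comm (g := s) hu
  rwa [c.sz, Commute.inv_left_iff] at this

theorem Lm_N {h u : G} {k : ZMod 3} (hh : cj h z ∈ zpowers z) (hu : Commute z u)
    (e : Lm z (ξ vv) u k) : Lm z (ξ vv) (cj h u) k ∨ Lm z (ξ vv) (cj h u) (-k) := by
  rcases zp_cases c.z3 c.z1 hh with h1 | h1
  · exact (c.Lm_C (cj_fix.mp h1).symm hu e).imp_right fun h => h.2.2
  · have := c.Lm_C (c.s_red h1) (c.zs hu) (c.Lm_s e)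
    rw [← mul_cj, mul_assoc, c.s2, mul_one] at this
    exact this.imp_right fun h => h.2.2

theorem Lm_H {H : Subgroup G} (hH : Idx2 H ⊤) (hw : bo = true → μ sw ∉ H) {h u : G} {k : ZMod 3}
    (hm : h ∈ H) (hh : cj h z ∈ zpowers z) (hu : Commute z u) (e : Lm z (ξ vv) u k) :
    Lm z (ξ vv) (cj h u) k := by
  have key : ∀ h ∈ H, ∀ u, Commute z h → Commute z u → Lm z (ξ vv) u k → Lm z (ξ vv) (cj h u) k :=
    fun h hm u hh hu e => (c.Lm_C hh hu e).resolve_right fun ⟨hb, x, _⟩ =>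
      hw hb ((mul_mem_cancel_left hm).mp (c.K_le hH (hh.mul_right (c.zw hb)) x))
  rcases zp_cases c.z3 c.z1 hh with h1 | h1
  · exact key h hm u (cj_fix.mp h1).symm hu e
  · have := key _ (mul_mem hm (c.s_mem hH)) _ (c.s_red h1) (c.zs hu) (c.Lm_s e)
    rwa [← mul_cj, mul_assoc, c.s2, mul_one] at this

theorem xτ (n : ℕ) : cj (ξ (ee 0) ^ n) (μ O8.st) = ξ vv ^ n * μ O8.st := by
  refine cj_pow_of ?_ (cj_fix.mpr (c.xc _ _)) n
  rw [cj, mul_assoc, ← c.neg, cj_eq.mp (c.ma _ (ok_ev (by decide +kernel)) _), ← mul_assoc, ← c.add]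
  congr 2; decide +kernel

theorem tτ : cj t (μ O8.st) = μ O8.st :=
  cj_fix.mpr (c.mt ▸ c.mcomm (ok_p rfl) (ok_ev (by decide +kernel)) (by decide +kernel))

theorem z_of {h u : G} (hu : u ∈ Q) (e : ∀ x ∈ Q, Commute u x → cj h x ∈ Q) :
    cj h z ∈ zpowers z := by
  obtain ⟨m, hm, m', hm', c1, c2, e'⟩ : ∃ m ∈ Q, ∃ m' ∈ Q, Commute u m ∧ Commute u m' ∧
      bt z m m' = 1 := by
    by_cases h : u ∈ zpowers z
    · obtain ⟨m, hm, m', hm', -, -, e'⟩ := c.pair c.XQ c.XZ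
      exact ⟨m, hm, m', hm', zp_comm (c.QC _ hm) h, zp_comm (c.QC _ hm') h, e'⟩
    · exact c.pair hu h
  have := c.comm _ (e m hm c1) _ (e m' hm' c2)
  rwa [← cj_inv, ← cj_inv, ← cj_mul, ← cj_mul, ← cj_mul, c.com_eq hm hm', e', ZMod.val_one,
    pow_one] at this

theorem sylR [Finite G] {L : Subgroup G} (hL : Q ≤ L) {u : G} (hu : u ∈ Q)
    (h : ¬ Commute u (ξ vv)) :
    IsSylowIn 3 (Q ⊓ centralizer {u} : Subgroup G) (L ⊓ centralizer {u}) := by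
  have : Fact (Nat.Prime 3) := ⟨by norm_num⟩
  refine L0.L43.syl_of_self (inf_le_inf_right _ hL) (pg3 (k := 1) fun x hx => c.exp x hx.1)
    fun g hg ⟨k, e⟩ hn => ⟨?_, hg.2⟩
  have gu : Commute g u := mem_cent.mp hg.2
  have hz : Commute z g := (L0.L43.comm_of_pel e (zp_cases c.z3 c.z1 (c.z_of hu fun x hx h =>
    (hn x ⟨hx, mem_cent.mpr h.symm⟩).1))).symm
  obtain ⟨f, hf, n, h1⟩ := c.decK hz (c.xodd hz e)
  have h2 : bt z u (μ O8.st) = n * bt z u (ξ vv) + bt z u (μ O8.st) := by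
    rw [← c.powr hu c.XQ, ← c.mulr hu (pow_mem c.XQ _) c.τQ', ← c.xτ,
      ← bt_cj g z u (cj (ξ (ee 0) ^ n) (μ O8.st)), cj_fix.mpr hz.symm, cj_fix.mpr gu, ← mul_cj,
      show g * ξ (ee 0) ^ n = cj f (f⁻¹ * g * ξ (ee 0) ^ n) * f by rw [cj]; group, mul_cj,
      cj_fix.mpr (c.q8 f hf.z hf.x hf.t hf.e4 _ c.τQ' c.tτ), c.bt_cjQ (c.norm hf.z h1) c.τQ' hu]
  have h3 : (n : ZMod 3) = 0 :=
    (mul_eq_zero.mp (right_eq_add.mp h2)).resolve_right fun e => h (bt_zero.mp e)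
  rw [pow_eq_pow_mod n (c.cube _), ← ZMod.val_natCast, h3, ZMod.val_zero, pow_zero, mul_one] at h1
  have h4 := c.pQ h1
  rw [c.mul _ _ hf.z.inv_right hz, c.pinv hf.z, inv_mul_eq_one] at h4
  have h5 : π g ^ 4 = 1 := by rw [← h4, ← c.ppow hf.z, hf.e4, c.p1]
  rw [pow_succ, S_pow3 _ (k := k) (by rw [← c.ppow hz, e, c.p1]), one_mul] at h5
  exact c.toQ hz h5 (c.xodd hz e)

theorem claimC [Finite G] {L A : Subgroup G} (hL : Q ≤ L) {u g : G} (hu : u ∈ Q)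
    (h : ¬ Commute u (ξ vv)) (hg : g ∈ L) (hA : IsPGroup 3 A) (hAL : A ≤ L)
    (hc : ∀ x ∈ A, Commute (cj g u) x) : ∃ h ∈ L, cj h⁻¹ u = cj g u ∧ ∀ x ∈ A, cj h x ∈ Q := by
  have : Fact (Nat.Prime 3) := ⟨by norm_num⟩
  obtain ⟨l, hl, e⟩ := conj_into' (c.sylR hL hu h) (hA.map (MulAut.conj g⁻¹).toMonoidHom) (by
    rintro _ ⟨x, hx, rfl⟩
    refine mem_inf.mpr ⟨L.mul_mem (L.mul_mem (L.inv_mem hg) (hAL hx)) (L.inv_mem (L.inv_mem hg)),
      mem_cent.mpr ?_⟩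
    have := cj_comm (g := g⁻¹) (hc x hx)
    rw [inv_cj_cj] at this
    exact this.symm)
  refine ⟨l * g⁻¹, mul_mem hl.1 (inv_mem hg), ?_, fun x hx => ?_⟩
  · rw [mul_inv_rev, inv_inv, mul_cj, inv_cj_fix (cj_fix.mpr (mem_cent.mp hl.2))]
  · rw [mul_cj]; exact (e _ ⟨x, hx, rfl⟩).1

theorem noJ (h : G) : ¬ ∀ v, cj h (ξ v) ∈ Q := fun hQ => by
  have key : ∀ a d : G, ¬ ∀ v, ∃ k l m : ZMod 3, cj h (ξ v) = z ^ k.val * a ^ l.val * d ^ m.val :=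
    fun a d e => by
      choose k l m e using e
      have := Fintype.card_le_of_injective (fun v => (k v, l v, m v)) fun u v e' => by
        simp only [Prod.mk.injEq] at e'
        exact c.inj _ _ (cj_inj (by rw [e u, e v, e'.1, e'.2.1, e'.2.2]))
      simp at this
  by_cases h1 : ∀ v, cj h (ξ v) ∈ zpowers z
  · exact key 1 1 fun v => let ⟨k, e⟩ := (zp c.z3).mp (h1 v); ⟨k, 0, 0, by simpa using e⟩
  push Not at h1
  obtain ⟨u, hu⟩ := h1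
  have cm : ∀ u v, bt z (cj h (ξ u)) (cj h (ξ v)) = 0 := fun u v => bt_zero.mpr (cj_comm (c.xc u v))
  by_cases h2 : ∃ v, ∃ w ∈ Q, bt z (cj h (ξ u)) w = 0 ∧ bt z (cj h (ξ v)) w ≠ 0
  · obtain ⟨v, w, hw, e1, e2⟩ := h2
    exact key _ _ fun x => c.lag (hQ u) (hQ v) hw hu (cm _ _) e1 e2 (hQ x) (cm _ _) (cm _ _)
  push Not at h2
  obtain ⟨d, hd, ed⟩ := c.exists_one (hQ u) hu
  refine key (cj h (ξ u)) 1 fun v => ?_
  have h3 := mul_mem (hQ v) (inv_mem (pow_mem (hQ u) (bt z (cj h (ξ v)) d).val))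
  obtain ⟨k, e⟩ := (zp c.z3).mp (c.nondeg _ h3 fun w hw => (bt_zero (z := z)).mp (by
    have h4 := h2 v _ (mul_mem hw (inv_mem (pow_mem hd (bt z (cj h (ξ u)) w).val))) (by
      rw [c.bt_div (hQ u) hw (pow_mem hd _), c.powr (hQ u) hd, ed]; simp)
    rw [c.bt_div (hQ v) hw (pow_mem hd _), c.powr (hQ v) hd, sub_eq_zero] at h4
    rw [c.mull (hQ v) (inv_mem (pow_mem (hQ u) _)) hw, c.invl (pow_mem (hQ u) _) hw,
      c.powl (hQ u) hw, h4]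
    simp only [ZMod.natCast_val, ZMod.cast_id', id_eq]
    ring))
  exact ⟨k, bt z (cj h (ξ v)) d, 0, by rw [← e]; simp⟩

theorem cenQ {g y : G} (hg : g ∈ Q) (hy : y ∈ c.SS) (yQ : y ∉ Q) (h : Commute g y) :
    ∃ v, sm v = 0 ∧ g = ξ v := by
  obtain ⟨u, m, n, rfl⟩ := c.Snf hy
  have hw := mul_mem (pow_mem c.hb m.val) (pow_mem c.hd n.val)
  have su : sm u ≠ 0 := fun e => yQ (mul_mem ((c.mQ u).mpr e) hw)
  have key : ∀ w ∈ Q, ∀ f, Act ξ w f → bt z g (ξ u * (ξ (f u))⁻¹) = 0 := fun w h' f A => by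
    have h1 := bt_cj (ξ u * (b ^ m.val * cj t b ^ n.val)) z g w
    rw [cj_fix.mpr (c.Sz hy).symm, cj_fix.mpr h.symm, mul_cj, c.cjZ hw h', cj_mul,
      cj_fix.mpr ((c.zx u).pow_left _).symm, c.mulr hg (pow_mem c.zQ _) (c.norm (c.zx u) h'),
      c.btZ' (pow_mem (mem_zpowers z) _) hg, zero_add] at h1
    rw [← A, show ξ u * (cj w (ξ u))⁻¹ = cj (ξ u) w * w⁻¹ by simp only [cj]; group,
      c.bt_div hg (c.norm (c.zx u) h') h', h1, sub_self]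
  have k1 := key b c.hb gb c.Ab
  have k2 := key _ c.hd gd c.Ad
  rw [← c.sub] at k1 k2
  have k3 : ∀ w, (∃ k l m : ZMod 3, w = k • vz + l • (u - gb u) + m • (u - gd u)) →
      bt z g (ξ w) = 0 := by
    rintro _ ⟨k, l, m, rfl⟩
    rw [bt_zero, c.add, c.add, c.smul, c.smul, c.smul, c.hz]
    exact (((c.QC g hg).symm.pow_right _).mul_right ((bt_zero.mp k1).pow_right _)).mul_right
      ((bt_zero.mp k2).pow_right _)
  have k4 : ∀ u, sm u ≠ 0 → (∃ k l m : ZMod 3, ee 3 = k • vz + l • (u - gb u) + m • (u - gd u)) ∧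
      ∃ k l m : ZMod 3, vv = k • vz + l • (u - gb u) + m • (u - gd u) := by decide +kernel
  exact c.lagJ hg (k3 _ (k4 u su).1) (k3 _ (k4 u su).2)

theorem wc {h : G} (hS : ∀ v, cj h (ξ v) ∈ c.SS) (v : V) : ∃ u, cj h (ξ v) = ξ u := by
  obtain ⟨v0, h0⟩ := not_forall.mp (c.noJ h)
  have k1 : ∀ v, ∃ k : ZMod 3, ∃ u, sm u = 0 ∧ cj h (ξ (v + k • v0)) = ξ u := fun v => by
    obtain ⟨u, m, n, e⟩ := c.Snf (hS v)
    obtain ⟨u0, m0, n0, e0⟩ := c.Snf (hS v0)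
    have hw := mul_mem (pow_mem c.hb m.val) (pow_mem c.hd n.val)
    have hw0 := mul_mem (pow_mem c.hb m0.val) (pow_mem c.hd n0.val)
    have s0 : sm u0 ≠ 0 := fun e => h0 (e0 ▸ mul_mem ((c.mQ u0).mpr e) hw0)
    have k2 : ∀ u u0, sm u0 ≠ 0 → sm (u + u0) = 0 ∨ sm (u + u0 + u0) = 0 ∨ sm u = 0 := by
      decide +kernel
    have k3 : ∀ g u w, w ∈ Q → g = ξ u * w → ∃ w ∈ Q, g * cj h (ξ v0) = ξ (u + u0) * w :=
      fun g u w hw e => ⟨cj (ξ u0)⁻¹ w * (b ^ m0.val * cj t b ^ n0.val),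
        mul_mem (c.norm (c.zx _).inv_right hw) hw0, by
          rw [e, e0, c.add, show cj (ξ u0)⁻¹ w = (ξ u0)⁻¹ * w * ξ u0 by rw [cj, inv_inv]]
          simp only [mul_assoc, mul_inv_cancel_left]⟩
    obtain ⟨w1, hw1, e1⟩ := k3 _ _ _ hw e
    obtain ⟨w2, hw2, e2⟩ := k3 _ _ _ hw1 e1
    have k4 : ∀ k : ZMod 3, cj h (ξ (v + k • v0)) ∈ Q →
        ∃ k : ZMod 3, ∃ u, sm u = 0 ∧ cj h (ξ (v + k • v0)) = ξ u := fun k hk =>
      ⟨k, c.cenQ hk (hS v0) h0 (cj_comm (c.xc _ _))⟩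
    rcases k2 u u0 s0 with e' | e' | e'
    · exact k4 1 (by rw [one_smul, c.add, cj_mul, e1]; exact mul_mem ((c.mQ _).mpr e') hw1)
    · exact k4 2 (by
        rw [two_smul, ← add_assoc, c.add, c.add, cj_mul, cj_mul, e2]
        exact mul_mem ((c.mQ _).mpr e') hw2)
    · exact k4 0 (by rw [zero_smul, add_zero, e]; exact mul_mem ((c.mQ _).mpr e') hw)
  choose k u su e using k1
  have k5 : ∀ u u' : V, sm u = 0 → sm u' = 0 → u 0 = u' 0 → u 1 = u' 1 → u 3 = u' 3 → u = u' := by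
    decide +kernel
  have hs : Function.Surjective fun v => (![u v 0, u v 1, k v, u v 3] : V) :=
    Finite.injective_iff_surjective.mp fun v v' e' => by
      have e1 := k5 _ _ (su v) (su v') (congrFun e' 0) (congrFun e' 1) (congrFun e' 3)
      have e2 : k v = k v' := congrFun e' 2
      have := c.inj _ _ (cj_inj ((e v).trans (e1 ▸ (e v').symm)))
      rwa [e2, add_left_inj] at this
  have k6 : ∀ w, sm w = 0 → Commute (ξ w) (cj h (ξ v)) := fun w sw => by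
    obtain ⟨v', e'⟩ := hs ![w 0, w 1, 0, w 3]
    rw [← k5 _ _ (su v') sw (congrFun e' 0) (congrFun e' 1) (congrFun e' 3), ← e v']
    exact cj_comm (c.xc _ _)
  exact c.cenJ _ (c.Sz (hS v)) (k6 _ (by decide +kernel)) (k6 _ (by decide +kernel))

end Jm

end Cfsg.Agent.H3.O8
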