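import Cfsg.Agent.H3.O8Cfg
import Cfsg.Agent.H2.O8Gen
import Cfsg.Agent.H4.O8xW1
import Cfsg.Agent.H1.S9Sig

/-!
# Groups with an abelian Sylow three-subgroup and sign fusion
-/

set_option autoImplicit false
set_option maxRecDepth 100000
set_option synthInstance.maxSize 100000

namespace Cfsg.Agent.H3.O8

open Subgroup Cfsg.Agent.H3.L43 Cfsg.Agent.H9 Cfsg.Agent.H1.T3
open scoped Pointwise

variable {G : Type*} [Group G]

theorem syl_mono {p : ℕ} {P L L' : Subgroup G} (h : IsSylowIn p P L) (h1 : P ≤ L') (h2 : L' ≤ L) :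
    IsSylowIn p P L' :=
  ⟨h1, h.isPGroup, fun e => h.not_dvd (e.trans (Dvd.intro _ (relIndex_mul_relIndex P L' L h1 h2)))⟩

/-- Fusion in an abelian Sylow subgroup. -/
theorem fuseP [Finite G] {P L : Subgroup G} (hP : IsSylowIn 3 P L)
    (hab : ∀ x ∈ P, ∀ y ∈ P, Commute x y) {x g : G} (hx : x ∈ P) (hg : g ∈ L) (h : cj g x ∈ P) :
    ∃ n ∈ L, (∀ y ∈ P, cj n y ∈ P) ∧ cj n x = cj g x := by
  obtain ⟨l, hl, e⟩ := conj_into' (A := P.map (MulAut.conj g).toMonoidHom)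
    (syl_mono hP (L' := L ⊓ centralizer {cj g x}) (fun y hy => ⟨hP.le hy, mem_cent.mpr (hab y hy _ h)⟩)
      inf_le_left) (hP.isPGroup.map _) (by
      rintro _ ⟨y, hy, rfl⟩
      exact mem_inf.mpr ⟨L.mul_mem (L.mul_mem hg (hP.le hy)) (L.inv_mem hg),
        mem_cent.mpr (cj_comm (hab y hy x hx))⟩)
  exact ⟨l * g, mul_mem hl.1 hg, fun y hy => by rw [mul_cj]; exact e _ ⟨y, hy, rfl⟩,
    by rw [mul_cj, cj_fix.mpr (mem_cent.mp hl.2)]⟩

theorem pow_mod {O : Subgroup G} {o x : G} (ho : o ∈ O) (hx : ∀ e ∈ O, cj x e ∈ O) (n : ℕ) :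
    (o * x) ^ n * (x ^ n)⁻¹ ∈ O := by
  induction n with
  | zero => simp
  | succ n ih =>
    rw [show (o * x) ^ (n + 1) * (x ^ (n + 1))⁻¹ = o * cj x ((o * x) ^ n * (x ^ n)⁻¹) by
      rw [pow_succ', pow_succ', cj]; group]
    exact mul_mem ho (hx _ ih)

theorem one_of_cop [Finite G] {O : Subgroup G} (hO : (Nat.card O).Coprime 3) {g : G} (hg : g ∈ O)
    (e : g ^ 3 = 1) : g = 1 :=
  orderOf_eq_one_iff.mp (Nat.eq_one_of_dvd_coprimes hO (orderOf_dvd_natCard O hg)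
    (orderOf_dvd_of_pow_eq_one e))

theorem one_of_57 {g : G} {n : ℕ} (h : g ^ n = 1) (h5 : n.Coprime 5) (h7 : n.Coprime 7)
    (e : g ^ 5 = 1 ∨ g ^ 7 = 1) : g = 1 :=
  orderOf_eq_one_iff.mp (e.elim (fun e => Nat.eq_one_of_dvd_coprimes h5
    (orderOf_dvd_of_pow_eq_one h) (orderOf_dvd_of_pow_eq_one e)) fun e =>
    Nat.eq_one_of_dvd_coprimes h7 (orderOf_dvd_of_pow_eq_one h) (orderOf_dvd_of_pow_eq_one e))

theorem one_of_23 {g : G} {m k : ℕ} (h : g ^ 2 ^ m = 1) (e : g ^ 3 ^ k = 1) : g = 1 :=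
  orderOf_eq_one_iff.mp (Nat.eq_one_of_dvd_coprimes (Nat.Coprime.pow m k (by norm_num))
    (orderOf_dvd_of_pow_eq_one h) (orderOf_dvd_of_pow_eq_one e))

theorem fpf3 [Finite G] {O : Subgroup G} (hO : (Nat.card O).Coprime 3) {x t : G} (x3 : x ^ 3 = 1)
    (hx : ∀ e ∈ O, cj x e ∈ O) (ht : ∀ e ∈ O, Commute e t)
    (h : ∀ e ∈ O, Commute e x → e = 1 ∨ e = t) {y : G} (hy : y ∈ O) :
    y * cj x y * cj x (cj x y) = 1 ∨ y * cj x y * cj x (cj x y) = t := by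
  have e1 : y * cj x y * cj x (cj x y) = (y * x) ^ 3 := by
    rw [← mul_one (y * _ * _), ← x3]
    simp only [cj, pow_three']; group
  have h3 : (y * x) ^ 3 ∈ O := by simpa [x3] using pow_mod hy hx 3
  have hn : ¬ 3 ∣ Nat.card O := fun h => absurd (Nat.Coprime.eq_one_of_dvd hO.symm h) (by norm_num)
  obtain ⟨m, hm⟩ : ∃ m, Nat.card O * Nat.card O = 3 * m + 1 := by
    refine ⟨Nat.card O * Nat.card O / 3, ?_⟩
    have := Nat.div_add_mod (Nat.card O * Nat.card O) 3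
    have h1 : Nat.card O % 3 = 1 ∨ Nat.card O % 3 = 2 := by omega
    rcases h1 with h1 | h1 <;> rw [Nat.mul_mod, h1] at this <;> omega
  obtain ⟨f, hf, e⟩ := H4.O8.conj_of_coset hn hx x3 (y := (y * x) ^ (Nat.card O * Nat.card O))
    (by rw [← pow_mul, mul_comm, pow_mul, pow_mul, show ((y * x) ^ 3) ^ Nat.card O = 1 from
      congrArg Subtype.val (pow_card_eq_one' (x := (⟨_, h3⟩ : O))), one_pow]) (by
      have := pow_mod hy hx (Nat.card O * Nat.card O)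
      rwa [hm, pow_succ x, pow_mul x, x3, one_pow, one_mul, ← hm] at this)
  rw [e1]
  have k := h _ (mul_mem (mul_mem hf h3) (inv_mem hf)) (by
    have := cj_comm (g := f) (Commute.pow_pow_self (y * x) 3 (Nat.card O * Nat.card O))
    rwa [e] at this)
  exact k.imp (fun k => cj_inj (k.trans (cj_one f).symm)) fun k =>
    cj_inj (k.trans (cj_fix.mpr (ht f hf)).symm)

theorem nc [Finite G] {L P : Subgroup G} (hP : IsPGroup 3 P) (hL : P ≤ L) {ρ x y : G}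
    (hx : x ∈ P) (c : Commute x ρ) (fx : ∀ g ∈ L, cj g x ∈ P → cj g x = x ∨ cj g x = x⁻¹)
    (cx : ∀ h ∈ L, (∃ n, h ^ 3 ^ n = 1) → Commute h x → h ∈ P) (hy : y ∈ L) (y3 : y ^ 3 = 1)
    (y1 : y ≠ 1) (fy : ∀ g ∈ L, cj g y ∈ P → cj g y = y ∨ cj g y = y⁻¹) (e : cj ρ y = y⁻¹) :
    ∀ g ∈ L, ¬ Commute (cj g y) ρ := fun g hg h => by
  have syl : IsSylowIn 3 (P ⊓ centralizer {ρ} : Subgroup G) (L ⊓ centralizer {ρ}) :=
    L0.L43.syl_of_self (inf_le_inf_right _ hL) hP.to_inf_left fun h hh ⟨n, e⟩ hn =>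
      ⟨cx h hh.1 ⟨n, e⟩ (L0.L43.comm_of_pel e (fx h hh.1 (hn x ⟨hx, mem_cent.mpr c⟩).1)), hh.2⟩
  obtain ⟨l, hl, h1⟩ := L0.L43.conj_into syl (x := cj g y) (k := 1)
    ⟨L.mul_mem (L.mul_mem hg hy) (L.inv_mem hg), mem_cent.mpr h⟩ (by rw [← cj_pow, pow_one, y3, cj_one])
  change cj l _ ∈ _ at h1
  rw [← mul_cj] at h1
  have h2 : Commute (cj (l * g) y) ρ := mem_cent.mp h1.2
  refine y1 (eq_one_of_inv y3 ?_)
  rcases fy _ (mul_mem hl.1 hg) h1.1 with k | k <;> rw [k] at h2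
  · rw [← e, cj_fix.mpr h2.symm]
  · rw [← e, cj_fix.mpr (Commute.inv_left_iff.mp h2).symm]

theorem gen2 [Finite G] {L P : Subgroup G} (hP : IsSylowIn 3 P L)
    (hab : ∀ x ∈ P, ∀ y ∈ P, Commute x y) {t R : G} (tL : t ∈ L) (t2 : t * t = 1)
    (tc : ∀ g ∈ L, Commute g t) {ι : Type} [Fintype ι] [DecidableEq ι] (x r : ι → G)
    (lam : ι → G → ZMod 3) (A : ι → Prop) {k0 k1 : ι} (hk : k0 ≠ k1) (a0 : A k0) (a1 : A k1)
    (hx : ∀ k, x k ∈ P ∧ x k ^ 3 = 1 ∧ x k ≠ 1)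
    (hl : ∀ k, ∀ x ∈ P, ∀ y ∈ P, lam k (x * y) = lam k x + lam k y)
    (fus : ∀ j, ∀ y ∈ P, ∀ g ∈ L, cj g y ∈ P →
      lam j (cj g y) = lam j y ∨ A j ∧ lam j (cj g y) = -lam j y)
    (sep : ∀ k, ∀ y ∈ P, (∀ j, j ≠ k → lam j y = 0) → y ∈ zpowers (x k))
    (lx : ∀ j k, lam j (x k) = 0 ↔ j ≠ k)
    (hr : ∀ k, A k → r k ∈ L ∧ r k * r k = 1 ∧ cj (r k) (x k) = (x k)⁻¹ ∧
      ∀ j, j ≠ k → Commute (x j) (r k))
    (cl : ∀ l, A l → ∀ h ∈ L, (∃ n, h ^ 3 ^ n = 1) → Commute h (x l) → h ∈ P)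
    (inv : ∀ u ∈ L, u * u = 1 → ∀ y ∈ P, cj u y = y⁻¹ → ∀ j, A j → lam j y ≠ 0 → ∃ g ∈ L,
      cj (cj g u) (x j) = (x j)⁻¹ ∧
        ((∃ l, A l ∧ Commute (x l) (cj g u)) ∨ cj g u = R ∨ cj g u = R * t))
    (hC : ∀ k, A k → ∀ g ∈ L, Commute g (x k) → (∀ y ∈ P, cj g y ∈ P) ∧
      ((∀ y ∈ P, cj g y * y⁻¹ ∈ zpowers (x k)) → g ∈ P ∨ g * t ∈ P))
    (h57 : ∀ y ∈ closure {x k0, x k1}, y ≠ 1 → ∀ g ∈ L, Commute g y → (g ^ 5 = 1 ∨ g ^ 7 = 1) →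
      g = 1) :
    ∃ k, A k ∧ ∃ O ≤ L, L ≤ normalizer (O : Set G) ∧ (Nat.card O).Coprime 3 ∧
      ∀ g ∈ L, ∃ o ∈ O, cj (o * g) (x k) = x k ∨ cj (o * g) (x k) = (x k)⁻¹ := by
  have l1 : ∀ k, lam k 1 = 0 := fun k => by
    have := hl k 1 (one_mem _) 1 (one_mem _)
    rwa [mul_one, left_eq_add] at this
  have li : ∀ k, ∀ y ∈ P, lam k y⁻¹ = -lam k y := fun k y hy =>
    eq_neg_of_add_eq_zero_left (by rw [← hl k _ (inv_mem hy) _ hy, inv_mul_cancel, l1])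
  have fx : ∀ k, ∀ g ∈ L, cj g (x k) ∈ P → cj g (x k) = x k ∨ cj g (x k) = (x k)⁻¹ :=
    fun k g hg h => zp_cases (hx k).2.1 (hx k).2.2 (sep k _ h fun j hj => by
      rcases fus j _ (hx k).1 g hg h with e | ⟨-, e⟩ <;> rw [e, (lx j k).mpr hj]
      rfl)
  have key : ∀ k j l, A k → j ≠ k → A l → ∀ g ∈ L, Commute (x l) (cj g (r k)) →
      cj (cj g (r k)) (x j) ≠ (x j)⁻¹ := fun k j l hk hj hl g hg c e =>
    nc hP.isPGroup hP.le (hx l).1 c (fx l) (cl l hl) (hP.le (hx j).1) (hx j).2.1 (hx j).2.2 (fx j)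
      e g hg (cj_comm ((hr k hk).2.2.2 j hj))
  have main : ∀ k k', k ≠ k' → A k → closure {x k, x k'} = closure {x k0, x k1} →
      (∀ g ∈ L, cj g (r k) ≠ R ∧ cj g (r k) ≠ R * t) →
      ∃ k, A k ∧ ∃ O ≤ L, L ≤ normalizer (O : Set G) ∧ (Nat.card O).Coprime 3 ∧
      ∀ g ∈ L, ∃ o ∈ O, cj (o * g) (x k) = x k ∨ cj (o * g) (x k) = (x k)⁻¹ :=
    fun k k' hkk ak e nb => by
      obtain ⟨r1, r2, r3, -⟩ := hr k ak
      refine ⟨k, ak, H2.O8.gen hP hab tL t2 tc (hx k).1 (hx k).2.1 (hx k).2.2 r1 r2 r3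
        (ι := {j // j ≠ k}) (fun j => lam j.1) (fun j => hl j.1) (fun j y hy g hg h => ?_)
        (fun j g hg y hy h => ?_) (fun y hy h => sep k y hy fun j hj => h ⟨j, hj⟩) (hC k ak)
        (hx k').1 (hx k').2.1 (fun h => ?_) (e ▸ h57)⟩
      · rcases fus j.1 y hy g hg h with e | ⟨-, e⟩ <;> rw [e]
        exact neg_eq_zero
      · by_contra h0
        have hu : cj g (r k) ∈ L := L.mul_mem (L.mul_mem hg r1) (L.inv_mem hg)
        by_cases aj : A j.1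
        · obtain ⟨g', hg', e1, e2⟩ := inv _ hu (by rw [← cj_mul, r2, cj_one]) y hy h j.1 aj h0
          rw [← mul_cj g' g] at e1 e2
          rcases e2 with ⟨l, al, c⟩ | e2 | e2
          · exact key k j.1 l ak j.2 al _ (mul_mem hg' hg) c e1
          · exact (nb _ (mul_mem hg' hg)).1 e2
          · exact (nb _ (mul_mem hg' hg)).2 e2
        · have := (fus j.1 y hy _ hu (h ▸ inv_mem hy)).resolve_right fun h => aj h.1
          rw [h, li _ y hy] at this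
          have k : ∀ k : ZMod 3, -k = k → k = 0 := by decide
          exact h0 (k _ this)
      · refine (lx k' k').mp ?_ rfl
        rcases (mem_zpowers_three (hx k).2.1).mp h with e | e | e <;> rw [e]
        · exact l1 _
        · exact (lx _ _).mpr hkk.symm
        · rw [li _ _ (hx k).1, (lx _ _).mpr hkk.symm, neg_zero]
  by_cases b0 : ∀ g ∈ L, cj g (r k0) ≠ R ∧ cj g (r k0) ≠ R * t
  · exact main k0 k1 hk a0 rfl b0
  refine main k1 k0 hk.symm a1 (by rw [Set.pair_comm]) fun g hg => ?_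
  by_contra b1
  obtain ⟨r1, -, r3, r4⟩ := hr k1 a1
  obtain ⟨g', hg', e⟩ : ∃ g ∈ L, cj g (r k0) = r k1 ∨ cj g (r k0) = r k1 * t := by
    push Not at b0
    obtain ⟨g0, hg0, e0⟩ := b0
    have ct : ∀ y, cj g⁻¹ (y * t) = cj g⁻¹ y * t := fun y => by
      rw [cj_mul, cj_fix.mpr (tc _ (inv_mem hg))]
    refine ⟨g⁻¹ * g0, mul_mem (inv_mem hg) hg0, ?_⟩
    rw [mul_cj]
    by_cases e1 : cj g0 (r k0) = R
    · by_cases e2 : cj g (r k1) = R
      · exact Or.inl (by rw [e1, inv_cj e2])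
      · have e3 : cj g (r k1) = R * t := by_contra fun h => b1 ⟨e2, h⟩
        exact Or.inr (by rw [e1, ← inv_cj e3, ct, mul_assoc, t2, mul_one])
    · by_cases e2 : cj g (r k1) = R
      · exact Or.inr (by rw [e0 e1, ct, inv_cj e2])
      · have e3 : cj g (r k1) = R * t := by_contra fun h => b1 ⟨e2, h⟩
        exact Or.inl (by rw [e0 e1, inv_cj e3])
  have c0 := tc _ (hP.le (hx k0).1)
  have c1 := tc _ (hP.le (hx k1).1)
  refine key k0 k1 k0 a0 hk.symm a0 g' hg' ?_ ?_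
  · rcases e with e | e <;> rw [e]
    exacts [r4 k0 hk, (r4 k0 hk).mul_right c0]
  · rcases e with e | e <;> rw [e]
    · exact r3
    · rw [mul_cj, cj_fix.mpr c1.symm, r3]

end Cfsg.Agent.H3.O8
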