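import Cfsg.Agent.H3.O8R1
import Cfsg.Agent.H6.O8xW3

/-!
# The first quaternion group and the normalizer of the torus in the centralizer of the involution
-/

set_option autoImplicit false
set_option maxRecDepth 100000
set_option synthInstance.maxSize 100000

namespace Cfsg.Agent.H3.O8

open Subgroup Cfsg.Agent.H3.L43 Cfsg.Agent.H9 Cfsg.Agent.H1.T3 Cfsg.Agent.H5.O8

variable {G : Type*} [Group G] {b : Bool} {ξ : V → G} {μ : SP → G} {i : G} (c : Cfg b ξ μ i)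
include c

theorem E1_ex {e : G} (he : e ∈ E1 ξ i) : ∃ d y, e = tp μ d * q ξ i y := by
  induction he using closure_induction with
  | mem x hx =>
    rcases hx with rfl | rfl
    exacts [⟨false, 1, (one_mul _).symm⟩, ⟨false, 2, (one_mul _).symm⟩]
  | one => exact ⟨false, 0, (one_mul _).symm⟩
  | mul x y _ _ hx hy =>
    obtain ⟨d, x, rfl⟩ := hx
    obtain ⟨d', y, rfl⟩ := hy
    exact ⟨_, _, by rw [mul_assoc, ← mul_assoc (q ξ i x), (tp_comm (q_t c x) d').eq, mul_assoc,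
      q_mul c, ← mul_assoc, ← mul_assoc, tp_mul c, tp_mul c]⟩
  | inv x _ hx =>
    obtain ⟨d, x, rfl⟩ := hx
    refine ⟨xor (be x x) d, x, inv_eq_of_mul_eq_one_left ?_⟩
    rw [mul_assoc, ← mul_assoc (q ξ i x), (tp_comm (q_t c x) d).eq, mul_assoc, q_mul c, xr_self,
      ← mul_assoc, ← mul_assoc, tp_mul c, tp_mul c]
    cases d <;> cases be x x <;> exact one_mul _

theorem tE1 : μ (sg 3) ∈ E1 ξ i := c.i2 ▸ mul_mem (q_mem 1) (q_mem 1)

theorem tp_E1 (d : Bool) : tp μ d ∈ E1 ξ i := by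
  cases d
  exacts [one_mem _, tE1 c]

theorem E1_t {e : G} (he : e ∈ E1 ξ i) : Commute e (μ (sg 3)) := by
  obtain ⟨d, y, rfl⟩ := E1_ex c he
  exact (tp_comm (Commute.refl _) d).symm.mul_left (q_t c y)

theorem E1_four {e : G} (he : e ∈ E1 ξ i) : e ^ 4 = 1 := by
  obtain ⟨d, x, rfl⟩ := E1_ex c he
  have k : tp μ d * q ξ i x * (tp μ d * q ξ i x) = tp μ (be x x) := by
    rw [mul_assoc, ← mul_assoc (q ξ i x), (tp_comm (q_t c x) d).eq, mul_assoc, q_mul c, xr_self,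
      ← mul_assoc, ← mul_assoc, tp_mul c, tp_mul c, Bool.xor_self, Bool.false_xor]
    exact mul_one _
  rw [show 4 = 2 * 2 from rfl, pow_mul, pow_two, pow_two, k, tp_mul c, Bool.xor_self]
  rfl

theorem E1_xi {v : V} (hv : v 3 = 0) {e : G} (he : e ∈ E1 ξ i) : cj (ξ v) e ∈ E1 ξ i := by
  obtain ⟨d, x, rfl⟩ := E1_ex c he
  rw [cj_mul, cj_tp c (xi_t c hv), xi_q c hv]
  exact mul_mem (tp_E1 c d) (q_mem _)

theorem E1_fix {v : V} (hv : v 3 = 0) (h : v 0 + v 1 + v 2 = 0) {e : G} (he : e ∈ E1 ξ i) :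
    Commute e (ξ v) := by
  obtain ⟨d, x, rfl⟩ := E1_ex c he
  have k : ∀ y, rot 0 y = y := by decide
  refine (cj_fix.mp ?_).symm
  rw [cj_mul, cj_tp c (xi_t c hv), xi_q c hv, h, k]

theorem E1_mu {a : SP} (h : ok b a) (h3 : a.p 3 = 3) (hz : a.act vz = vz ∨ a.act vz = -vz)
    {e : G} (he : e ∈ E1 ξ i) : cj (μ a) e ∈ E1 ξ i := by
  obtain ⟨d, x, rfl⟩ := E1_ex c he
  have k : ∀ a : SP, a.p 3 = 3 → a.act vz = vz ∨ a.act vz = -vz → a = pp a ∨ a = sg 3 * pp a ∨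
      a = sr * pp a ∨ a = sg 3 * (sr * pp a) := by decide +kernel
  have hp : ok b (pp a) := h
  have h1 : cj (μ (sr * pp a)) (q ξ i x) ∈ E1 ξ i := by
    rw [c.mul _ _ (ok_p rfl) hp, mul_cj, pp_q c h h3, r_q c]
    exact mul_mem (tp_E1 c _) (q_mem _)
  have h2 : ∀ a, ok b a → cj (μ a) (q ξ i x) ∈ E1 ξ i → cj (μ (sg 3 * a)) (q ξ i x) ∈ E1 ξ i :=
    fun a h e => by rwa [c.mul _ _ (ok_p rfl) h, mul_cj, cj_fix.mpr (E1_t c e).symm]
  have h0 : cj (μ (pp a)) (q ξ i x) ∈ E1 ξ i := by rw [pp_q c h h3]; exact q_mem _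
  rw [cj_mul, cj_tp c (mu_t c h h3)]
  refine mul_mem (tp_E1 c d) ?_
  rcases k a h3 hz with e | e | e | e <;> rw [e]
  exacts [h0, h2 _ hp h0, h1, h2 _ (ok_mul (ok_p rfl) hp) h1]

theorem xi_E1 {v : V} (h : ξ v ∈ E1 ξ i) : v = 0 :=
  c.inj v (one_of_23 (m := 2) (k := 1) (E1_four c h) (c.cube v))

theorem E1_x0 {e : G} (he : e ∈ E1 ξ i) (h : Commute e (ξ (ee 0))) : e = 1 ∨ e = μ (sg 3) := by
  obtain ⟨d, x, rfl⟩ := E1_ex c he
  have e := cj_fix.mpr h.symm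
  rw [cj_mul, cj_tp c (xi_t c rfl), x0_q c, mul_right_inj] at e
  have e1 := q_mul c (rot 1 x) x
  rw [e, q_mul c, xr_self] at e1
  have e2 := q_mul c x (rot 1 x)
  rw [e, q_mul c, xr_self] at e2
  have k : ∀ x, x = 0 ∨ (xr x (rot 1 x) = xr (rot 1 x) x ∧ be x (rot 1 x) ≠ be (rot 1 x) x) := by
    decide
  rcases k x with rfl | ⟨k1, k2⟩
  · cases d
    exacts [Or.inl (one_mul _), Or.inr (mul_one _)]
  · rw [e1, k1] at e2
    exact absurd (tp_inj c (mul_right_cancel e2)).symm k2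

/-- The normalizer of the torus in the centralizer of the involution. -/
theorem nJ0 (g : G) (ht : Commute g (μ (sg 3)))
    (h : ∀ v : V, v 3 = 0 → ∃ u, cj g (ξ v) = ξ u) : ∃ v a, ok b a ∧ g = ξ v * μ a := by
  have h3 : ∀ v : V, v 3 = 0 → ∀ u, cj g (ξ v) = ξ u → u 3 = 0 := fun v hv u e =>
    (c.nf_t ok_one (v := u) (by
      have := cj_comm (g := g) (xi_t c hv)
      rwa [e, cj_fix.mpr ht, ← mul_one (ξ u), ← c.one] at this)).1
  obtain ⟨u, hu⟩ := h vz rfl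
  have k : ∀ u : V, u 3 = 0 → u ≠ 0 → F vz = F u → ∃ s : SP, s.p = 1 ∧ s.act u = vz := by
    decide +kernel
  obtain ⟨s, sp, hs⟩ := k u (h3 _ rfl u hu) (by
    rintro rfl
    exact c.ne_one (v := vz) (by decide) (cj_inj (hu.trans (c.zero.trans (cj_one g).symm))))
    (c.fJ g _ _ hu)
  have st := mu_t c (ok_p sp) (a := s) (by rw [sp]; rfl)
  obtain ⟨e, he, v, a, ha, e1⟩ := c.czt (μ s * g)
    (cj_fix.mp (by rw [mul_cj, hu, c.act _ _ (ok_p sp), hs])) (st.mul_left ht)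
  have e2 : ξ v * μ a = e⁻¹ * (μ s * g) := by rw [e1]; group
  obtain ⟨v3, a3⟩ := c.nf_t ha (e2 ▸ (E1_t c he).inv_left.mul_left (st.mul_left ht))
  have k2 : ∀ a : SP, a.p 3 = 3 → ∃ w : V, w 3 = 0 ∧ a.act w = ee 0 := by decide +kernel
  obtain ⟨w, w3, hw⟩ := k2 a a3
  obtain ⟨u', hu'⟩ := h w w3
  have e3 : cj e (ξ (ee 0)) = ξ (s.act u') := by
    rw [← c.act _ _ (ok_p sp), ← hu', ← mul_cj, e1, mul_assoc, mul_cj, c.act' ha, hw]
  have e4 : ξ (s.act u' - ee 0) ∈ E1 ξ i := by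
    rw [c.sub, ← e3, show cj e (ξ (ee 0)) * (ξ (ee 0))⁻¹ = e * (cj (ξ (ee 0)) e)⁻¹ by
      simp only [cj]; group]
    exact mul_mem he (inv_mem (E1_xi c rfl he))
  rw [sub_eq_zero.mp (xi_E1 c e4)] at e3
  have e5 : g = μ s⁻¹ * e * (ξ v * μ a) := by rw [c.inv (ok_p sp), e2]; group
  have hs' : ok b s⁻¹ := ok_inv (ok_p sp)
  rcases E1_x0 c he (cj_fix.mp e3) with rfl | rfl
  · exact ⟨_, _, ok_mul hs' ha, by
      rw [e5, mul_one, ← one_mul (μ s⁻¹), ← c.zero, c.nf_mul hs' ha]⟩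
  · exact ⟨_, _, ok_mul (ok_mul hs' (ok_p rfl)) ha, by
      rw [e5, ← c.mul _ _ hs' (ok_p rfl), ← one_mul (μ (s⁻¹ * _)), ← c.zero,
        c.nf_mul (ok_mul hs' (ok_p rfl)) ha]⟩

end Cfsg.Agent.H3.O8
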