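import Cfsg.Agent.H3.O8R2

/-!
# The two commuting quaternion groups
-/

set_option autoImplicit false
set_option maxRecDepth 100000
set_option synthInstance.maxSize 100000

namespace Cfsg.Agent.H3.O8

open Subgroup Cfsg.Agent.H3.L43 Cfsg.Agent.H9 Cfsg.Agent.H1.T3 Cfsg.Agent.H5.O8
  Cfsg.Agent.H6.O8x

variable {G : Type*} [Group G]

theorem q8_comm {k i j t ζ : G} (t2 : t * t = 1) (t1 : t ≠ 1) (i2 : i * i = t) (j2 : j * j = t)
    (k2 : i * j * (i * j) = t) (hζ : ζ = 1 ∨ ζ = t)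
    (h1 : i⁻¹ * k = k * i * ζ) (h2 : j⁻¹ * k = k * j * ζ) (h3 : (i * j)⁻¹ * k = k * (i * j) * ζ) :
    Commute k i := by
  rcases hζ with rfl | rfl
  · rw [mul_one] at h1 h2 h3
    have e1 : cj k i = i⁻¹ := cj_eq.mpr h1.symm
    have e2 : cj k j = j⁻¹ := cj_eq.mpr h2.symm
    have e3 : cj k (i * j) = (i * j)⁻¹ := cj_eq.mpr h3.symm
    rw [cj_mul, e1, e2] at e3
    have e4 : j * i = i * j := inv_injective (by rw [mul_inv_rev, e3])
    exact absurd (by rw [← k2, mul_assoc, ← mul_assoc j, e4, mul_assoc, j2, ← mul_assoc, i2, t2]) t1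
  · have e : i * ζ = i⁻¹ := eq_inv_of_mul_eq_one_right (by rw [← mul_assoc, i2, t2])
    rw [mul_assoc, e] at h1
    exact Commute.inv_right_iff.mp h1.symm

theorem q8_twist {p k i j t : G} (t2 : t * t = 1) (j2 : j * j = t) (k2 : i * j * (i * j) = t)
    (f1 : p * (i * j * k * j) = 1 ∨ p * (i * j * k * j) = t)
    (f2 : p * (j * k * (i * j)) = 1 ∨ p * (j * k * (i * j)) = t) :
    ∃ ζ, (ζ = 1 ∨ ζ = t) ∧ i⁻¹ * k = k * i * ζ := by
  have e1 : i * j = j * i⁻¹ := by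
    rw [eq_mul_inv_iff_mul_eq, ← mul_left_inj j, j2, ← k2, mul_assoc]
  obtain ⟨ζ, h, e⟩ : ∃ ζ, (ζ = 1 ∨ ζ = t) ∧ p * (i * j * k * j) = p * (j * k * (i * j)) * ζ := by
    rcases f1 with f1 | f1 <;> rcases f2 with f2 | f2 <;> rw [f1, f2]
    exacts [⟨1, Or.inl rfl, (mul_one _).symm⟩, ⟨t, Or.inr rfl, t2.symm⟩,
      ⟨t, Or.inr rfl, (one_mul _).symm⟩, ⟨1, Or.inl rfl, (mul_one _).symm⟩]
  have e2 : j * ζ = ζ * j := by
    rcases h with rfl | rfl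
    exacts [by simp, by rw [← j2, mul_assoc]]
  refine ⟨ζ, h, mul_left_cancel (a := j) (mul_right_cancel (b := j) ?_)⟩
  rw [← mul_assoc j, ← e1, mul_left_cancel (e.trans (mul_assoc _ _ _))]
  simp only [mul_assoc, e2]

theorem card_SP : Nat.card SP = 384 := by
  rw [Nat.card_congr (show SP ≃ (Fin 4 → Bool) × Equiv.Perm (Fin 4) from
    ⟨fun a => ⟨a.e, a.p⟩, fun x => ⟨x.1, x.2⟩, fun _ => rfl, fun _ => rfl⟩)]
  simp [Fintype.card_perm, Nat.factorial]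

variable {b : Bool} {ξ : V → G} {μ : SP → G} {i : G} (c : Cfg b ξ μ i)
include c

theorem nf_ord {a : SP} (h : ok b a) (v : V) : (ξ v * μ a) ^ 1152 = 1 := by
  obtain ⟨u, e⟩ := nf_pow c h v (Nat.card SP)
  rw [pow_card_eq_one', card_SP, c.one, mul_one] at e
  rw [show 1152 = 384 * 3 from rfl, pow_mul, e, c.cube]

theorem nf3 {a : SP} (h : ok b a) (a2 : a * a = 1) {v : V} (e : ∃ n, (ξ v * μ a) ^ 3 ^ n = 1) :
    a = 1 := by
  obtain ⟨n, e⟩ := e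
  obtain ⟨u, e1⟩ := nf_pow c h v (3 ^ n)
  exact one_of_23 (m := 1) (by rw [pow_one, pow_two, a2]) (c.nf_inj (ok_pow h _) ok_one (v := 0)
    (by rw [← e1, e, c.one, c.zero, one_mul])).2

theorem gen_sub [Finite G] (S : V → Prop) (h0 : S 0) (h1 : ∀ u v, S u → S v → S (u + v))
    (h2 : ∀ u, S u → S (-u)) {x y : V} (hx : S x) (hy : S y)
    (hxy : ∀ u : V, (x = 0 ∨ x = u ∨ x = -u) → ¬ (y = 0 ∨ y = u ∨ y = -u)) {O X : Subgroup G}
    (hO : (Nat.card O).Coprime 3) (hn : ∀ v, S v → ξ v ∈ normalizer (O : Set G))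
    (h : ∀ v, S v → v ≠ 0 → ∀ g ∈ O, Commute g (ξ v) → g ∈ X) : O ≤ X := by
  refine le_of_cent1 (sub_pg c S h0 h1 h2) ?_ (fun hc => ?_) ?_ hO ?_
  · rintro _ ⟨u, -, rfl⟩ _ ⟨v, -, rfl⟩
    exact c.comm u v
  · obtain ⟨⟨_, u, hu, rfl⟩, hg⟩ := hc.exists_generator
    have k : ∀ v, S v → v = 0 ∨ v = u ∨ v = -u := fun v hv => by
      obtain ⟨n, e⟩ := hg ⟨_, v, hv, rfl⟩
      simpa only [← c.neg, ← c.zero, (show Function.Injective ξ from
        fun _ _ => c.injective).eq_iff] using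
        (H1.T3.mem_zpowers_three (c.cube u)).mp ⟨n, congrArg Subtype.val e⟩
    exact hxy u (k x hx) (k y hy)
  · rintro _ ⟨u, hu, rfl⟩
    exact hn u hu
  · rintro _ ⟨u, hu, rfl⟩ u1 g hg e
    exact h u hu (fun e => u1 (e ▸ c.zero)) g hg e

theorem onf [Finite G] {O : Subgroup G} (hO : (Nat.card O).Coprime 3)
    (Ot : ∀ g ∈ O, Commute g (μ (sg 3))) (hn : ∀ v : V, v 3 = 0 → ∀ g ∈ O, cj (ξ v) g ∈ O)
    {v : V} {a : SP} (ha : ok b a) (h : ξ v * μ a ∈ O) :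
    ξ v * μ a = 1 ∨ ξ v * μ a = μ (sg 3) := by
  have k0 : ∀ u, ξ u ∈ O → u = 0 := fun u hu => c.inj u (one_of_cop hO hu (c.cube u))
  have k1 : ∀ u : V, u 3 = 0 → u - a.act u = 0 := fun u hu => k0 _ (by
    have := mul_mem (hn u hu _ h) (inv_mem h)
    rwa [show cj (ξ u) (ξ v * μ a) * (ξ v * μ a)⁻¹ = ξ u * (cj (ξ v * μ a) (ξ u))⁻¹ by
      simp only [cj]; group, c.act' ha, ← c.sub] at this)
  have v3 := (c.nf_t ha (Ot _ h)).1
  rcases H4.O8.fix_J0 a (k1 _ rfl) (k1 _ rfl) (k1 _ rfl) with rfl | rfl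
  · rw [c.one, mul_one] at h ⊢
    exact Or.inl (by rw [k0 v h, c.zero])
  · have := mul_mem h h
    rw [mul_assoc, ← mul_assoc (μ _), ← (xi_t c v3).eq, mul_assoc, c.t2, mul_one, ← c.add] at this
    have k : ∀ v : V, v + v = 0 → v = 0 := by decide +kernel
    exact Or.inr (by rw [k v (k0 _ this), c.zero, one_mul])

theorem bcore [Finite G] {L O : Subgroup G} (Lt : ∀ g ∈ L, Commute g (μ (sg 3)))
    (Lv : ∀ g ∈ L, Commute g (ξ vv)) (hJ : ∀ v : V, v 3 = 0 → ξ v ∈ L) (h2 : μ (sg 2) ∈ L)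
    (hi : i ∈ L) (hF : ∀ g ∈ L, Commute g (ξ (ee 2)) ∨ Commute g (ξ (ee 0)) →
      ∃ v a, ok b a ∧ g = ξ v * μ a)
    (hOL : O ≤ L) (hn : L ≤ normalizer (O : Set G)) (hO : (Nat.card O).Coprime 3)
    (hg : ∀ g ∈ L, ∃ o ∈ O, ∃ v a, ok b a ∧ o * g = ξ v * μ a) :
    HE ξ μ i ∧ ∀ g ∈ L, ∃ e ∈ EE ξ μ i, ∃ v a, ok b a ∧ g = e * ξ v * μ a := by
  have nO : ∀ g ∈ L, ∀ o ∈ O, cj g o ∈ O := fun g hg o ho => conj_mem_of_mem_normalizer (hn hg) ho
  have Ot : ∀ g ∈ O, Commute g (μ (sg 3)) := fun g hg => Lt g (hOL hg)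
  have nJ : ∀ v : V, v 3 = 0 → ∀ g ∈ O, cj (ξ v) g ∈ O := fun v hv => nO _ (hJ v hv)
  have o2 : ok b (sg 2) := ok_p rfl
  have iO : i ∈ O := by
    obtain ⟨o, ho, v, a, ha, e⟩ := hg i hi
    have a3 := (c.nf_t ha (e ▸ (Ot o ho).mul_left (Lt i hi))).2
    have k : ∀ a : SP, a.p 3 = 3 → (ee 0 - a.act (ee 0)) 3 = 0 := by decide +kernel
    have m : cj (ξ (ee 0)) i * i⁻¹ ∈ E1 ξ i := mul_mem (q_mem 2) (inv_mem (q_mem 1))
    have e1 : cj (ξ (ee 0)) i * i⁻¹ =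
        cj (ξ (ee 0)) o⁻¹ * cj (ξ (ee 0 - a.act (ee 0))) o * ξ (ee 0 - a.act (ee 0)) := by
      rw [c.sub, ← c.act' ha v, ← e]
      simp only [cj]; group
    have m1 := mul_mem (nJ (ee 0) rfl _ (inv_mem ho)) (nJ _ (k a a3) _ ho)
    have m2 := pow_mod m1 (nJ _ (k a a3)) 4
    rw [← e1, E1_four c m, one_mul, inv_mem_iff, pow_succ, c.cube, one_mul] at m2
    have m3 := nJ (ee 0) rfl _ (mul_mem m1 m2)
    rwa [← e1, cj_mul, c.ij, cj_inv, mul_inv_cancel_right] at m3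
  have EO : E1 ξ i ≤ O := (closure_le _).mpr (by
    rintro _ (rfl | rfl)
    exacts [iO, nJ _ rfl _ iO])
  have c0 : ∀ g ∈ O, Commute g (ξ (ee 2)) ∨ Commute g (ξ (ee 0)) → g = 1 ∨ g = μ (sg 3) :=
    fun g hg h => by
      obtain ⟨v, a, ha, rfl⟩ := hF g (hOL hg) h
      exact onf c hO Ot nJ ha hg
  have cu : ∀ v : V, ee 0 = v + vv + vv → ∀ g ∈ O, Commute g (ξ v) →
      g = 1 ∨ g = μ (sg 3) := fun v hv g hg h => c0 g hg (Or.inr (by
    have := Lv g (hOL hg)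
    rw [hv, c.add, c.add]
    exact (h.mul_right this).mul_right this))
  have hA : ∀ (v : V) y y', v 3 = 0 ∧ rot (v 0 + v 1 + v 2) y = y' →
      cj (ξ v) (q ξ i y) = q ξ i y' := fun v y y' h => h.2 ▸ xi_q c h.1 y
  have hB : ∀ (v : V) y y', v 3 = 0 ∧ rot (v 0 + v 1 - v 2) y = y' →
      cj (ξ v) (cj (μ (sg 2)) (q ξ i y)) = cj (μ (sg 2)) (q ξ i y') := fun v y y' ⟨hv, h⟩ => by
    have k : ∀ v : V, v 3 = 0 → (sg 2).act ((sg 2).act v) = v ∧ (sg 2).act v 3 = 0 ∧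
      (sg 2).act v 0 + (sg 2).act v 1 + (sg 2).act v 2 = v 0 + v 1 - v 2 := by decide +kernel
    rw [← h, ← (k v hv).2.2, ← xi_q c (k v hv).2.1, cj_cj (μ _), c.act _ _ o2, (k v hv).1]
  have t2t : cj (μ (sg 2)) (μ (sg 3)) = μ (sg 3) := cj_fix.mpr (mu_t c o2 rfl)
  have hE : HE ξ μ i := by
    have yO := mul_mem (EO (q_mem 1)) (nO _ h2 _ (EO (q_mem 1)))
    have f1 := fpf3 hO (c.cube (ee 2)) (nJ _ rfl) Ot (fun e he h => c0 e he (Or.inl h)) yO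
    have f2 := fpf3 hO (c.cube ![-1, -1, 0, 0]) (nJ _ rfl) Ot (cu _ (by decide +kernel)) yO
    rw [cj_mul, hA _ 1 2 (by decide +kernel), hB _ 1 3 (by decide +kernel), cj_mul,
      hA _ 2 3 (by decide +kernel), hB _ 3 2 (by decide +kernel)] at f1
    rw [cj_mul, hA _ 1 2 (by decide +kernel), hB _ 1 2 (by decide +kernel), cj_mul,
      hA _ 2 3 (by decide +kernel), hB _ 2 3 (by decide +kernel)] at f2
    have e3 : cj (μ (sg 2)) (q ξ i 3) = cj (μ (sg 2)) (q ξ i 1) * cj (μ (sg 2)) (q ξ i 2) :=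
      cj_mul _ _ _
    have b1 : cj (μ (sg 2)) (q ξ i 1) * cj (μ (sg 2)) (q ξ i 1) = μ (sg 3) := by
      rw [← cj_mul, ← t2t]; exact congrArg _ c.i2
    have b2 : cj (μ (sg 2)) (q ξ i 2) * cj (μ (sg 2)) (q ξ i 2) = μ (sg 3) := by
      rw [← cj_mul, ← t2t]; exact congrArg _ (j2 c)
    have b3 : cj (μ (sg 2)) (q ξ i 3) * cj (μ (sg 2)) (q ξ i 3) = μ (sg 3) := by
      rw [← cj_mul, ← t2t]; exact congrArg _ (k2 c)
    obtain ⟨ζ, hζ, h1⟩ := q8_twist (k := q ξ i 3)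
      (p := q ξ i 1 * cj (μ (sg 2)) (q ξ i 1) * q ξ i 2) c.t2 b2 (e3 ▸ b3)
      (by simpa only [← e3, mul_assoc] using f1) (by simpa only [← e3, mul_assoc] using f2)
    have zζ : cj (ξ vz) ζ = ζ := by
      rcases hζ with rfl | rfl
      exacts [cj_one _, cj_fix.mpr (xi_t c rfl)]
    have h2 := congrArg (cj (ξ vz)) h1
    simp only [cj_mul, cj_inv, zζ, hA vz 3 3 (by decide +kernel), hB vz 1 2 (by decide +kernel)]
      at h2
    have h3 := congrArg (cj (ξ vz)) h2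
    simp only [cj_mul, cj_inv, zζ, hA vz 3 3 (by decide +kernel), hB vz 2 3 (by decide +kernel)]
      at h3
    have c31 := q8_comm c.t2 c.t1 b1 b2 (e3 ▸ b3) hζ h1 h2 (e3 ▸ h3)
    have c32 := cj_comm (g := ξ vz) c31
    rw [hA vz 3 3 (by decide +kernel), hB vz 1 2 (by decide +kernel)] at c32
    have k : ∀ y y', rot 1 y = y' → ∀ x, Commute (q ξ i y) (cj (μ (sg 2)) (q ξ i x)) →
        Commute (q ξ i y') (cj (μ (sg 2)) (q ξ i x)) := fun y y' h x e => by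
      have k : ∀ x, rot (1 + 1 - -1) x = x := by decide +kernel
      have k' : (1 + 1 + -1 : ZMod 3) = 1 := by decide +kernel
      have := cj_comm (g := ξ ![1, 1, -1, 0]) e
      rwa [hA _ y y' ⟨rfl, (congrArg (rot · y) k').trans h⟩, hB _ x x ⟨rfl, k x⟩] at this
    have c11 := k 3 1 rfl _ c31
    have c12 := k 3 1 rfl _ c32
    intro e he e' he'
    induction he using closure_induction with
    | mem x hx =>
      induction he' using closure_induction with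
      | mem y hy =>
        rcases hx with rfl | rfl <;> rcases hy with rfl | rfl
        exacts [c11, c12, k 1 2 rfl _ c11, k 1 2 rfl _ c12]
      | one => rw [cj_one]; exact Commute.one_right _
      | mul _ _ _ _ h h' => rw [cj_mul]; exact h.mul_right h'
      | inv _ _ h => rw [cj_inv]; exact h.inv_right
    | one => exact Commute.one_left _
    | mul _ _ _ _ h h' => exact h.mul_left h'
    | inv _ _ h => exact h.inv_left
  refine ⟨hE, fun g hg' => ?_⟩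
  have OE : O ≤ EE ξ μ i := by
    have z0 : ∀ g ∈ O, Commute g (ξ vz) → g ∈ EE ξ μ i := fun g hg h => by
      obtain ⟨e, he, v, a, ha, rfl⟩ := c.czt g h (Ot g hg)
      rw [mul_assoc] at hg ⊢
      refine mul_mem (E1_le c hE he) ?_
      rcases onf c hO Ot nJ ha ((mul_mem_cancel_left (EO he)).mp hg) with e | e <;> rw [e]
      exacts [one_mem _, t_mem c hE]
    have z1 : ∀ g ∈ O, Commute g (ξ ((sg 2).act vz)) → g ∈ EE ξ μ i := fun g hg h => by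
      have := nM c hE o2 rfl (z0 _ (nO _ (inv_mem h2) g hg) (by
        have := cj_comm (g := (μ (sg 2))⁻¹) h
        rwa [← c.act _ _ o2, inv_cj_cj] at this))
      rwa [cj_inv_cj] at this
    have tt : ∀ g, g = 1 ∨ g = μ (sg 3) → g ∈ EE ξ μ i := by
      rintro _ (rfl | rfl)
      exacts [one_mem _, t_mem c hE]
    refine gen_sub c (fun v => v 3 = 0 ∧ v 0 = v 1) ⟨rfl, rfl⟩
      (fun u v hu hv => by simp [hu.1, hu.2, hv.1, hv.2]) (fun u hu => by simp [hu.1, hu.2])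
      (x := ee 2) (y := ![1, 1, 0, 0]) ⟨rfl, rfl⟩ ⟨rfl, rfl⟩ (by decide +kernel) hO
      (fun v hv => hn (hJ v hv.1)) fun v hv v0 g hg h => ?_
    have k : ∀ v : V, v 3 = 0 ∧ v 0 = v 1 → v ≠ 0 → ∃ u, (u = v ∨ u = -v) ∧ (u = ee 2 ∨
      ee 0 = u + vv + vv ∨ u = vz ∨ u = (sg 2).act vz) := by decide +kernel
    obtain ⟨u, hu, e⟩ := k v hv v0
    have h' : Commute g (ξ u) := by
      rcases hu with rfl | rfl
      exacts [h, c.neg v ▸ h.inv_right]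
    rcases e with rfl | e | rfl | rfl
    exacts [tt g (c0 g hg (Or.inl h')), tt g (cu u e g hg h'), z0 g hg h', z1 g hg h']
  obtain ⟨o, ho, v, a, ha, e⟩ := hg g hg'
  exact ⟨o⁻¹, inv_mem (OE ho), v, a, ha, by rw [mul_assoc, ← e, inv_mul_cancel_left]⟩

end Cfsg.Agent.H3.O8
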