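import Cfsg.Agent.H3.O8R3

/-!
# The centralizer of the involution and an element of weight two
-/

set_option autoImplicit false
set_option maxRecDepth 100000
set_option synthInstance.maxSize 100000

namespace Cfsg.Agent.H3.O8

open Subgroup Cfsg.Agent.H3.L43 Cfsg.Agent.H9 Cfsg.Agent.H1.T3 Cfsg.Agent.H5.O8
  Cfsg.Agent.H6.O8x

variable {G : Type*} [Group G] {b : Bool} {ξ : V → G} {μ : SP → G} {i : G}

/-- The part of the torus centralizing the involution. -/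
def JZ (c : Cfg b ξ μ i) : Subgroup G :=
  sub c (fun v => v 3 = 0) rfl (fun u v hu hv => by simp [hu, hv]) fun u hu => by simp [hu]

/-- Coordinates. -/
noncomputable def co (ξ : V → G) (g : G) : V := Function.invFun ξ g

/-- The setting of a subgroup centralizing the involution and an element of weight two. -/
structure BS (b : Bool) (ξ : V → G) (μ : SP → G) (i : G) (L : Subgroup G) : Prop where
  t : ∀ g ∈ L, Commute g (μ (sg 3))
  v : ∀ g ∈ L, Commute g (ξ vv)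
  J : ∀ v : V, v 3 = 0 → ξ v ∈ L
  m2 : μ (sg 2) ∈ L
  i : i ∈ L
  F : ∀ g ∈ L, Commute g (ξ (ee 2)) ∨ Commute g (ξ (ee 0)) → ∃ v a, ok b a ∧ g = ξ v * μ a

/-- The basis adapted to the element of weight two. -/
def xv : Fin 3 → V := ![vv, ![1, 1, 0, 0], ee 2]
/-- The dual basis up to signs. -/
def lb (k : Fin 3) (v : V) : ZMod 3 := ![v 0 - v 1, v 0 + v 1, v 2] k
/-- The reflections. -/
def rv : Fin 3 → SP := ![1, sw * sg 0 * sg 1, sg 2]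

variable (c : Cfg b ξ μ i)
include c

theorem co_xi (v : V) : co ξ (ξ v) = v := Function.leftInverse_invFun (fun _ _ => c.injective) v

theorem J0_ab : ∀ x ∈ JZ c, ∀ y ∈ JZ c, Commute x y := by
  rintro _ ⟨u, -, rfl⟩ _ ⟨v, -, rfl⟩
  exact c.comm u v

theorem J0_n {g : G} (ht : Commute g (μ (sg 3))) (h : ∀ y ∈ JZ c, cj g y ∈ JZ c) :
    ∃ v a, ok b a ∧ g = ξ v * μ a :=
  nJ0 c g ht fun v hv => (h _ ⟨v, hv, rfl⟩).imp fun _ h => h.2

theorem nf_J0 {a : SP} (ha : ok b a) (a3 : a.p 3 = 3) (w : V) :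
    ∀ y ∈ JZ c, cj (ξ w * μ a) y ∈ JZ c := by
  rintro _ ⟨v, hv, rfl⟩
  have k : ∀ a : SP, a.p 3 = 3 → ∀ v : V, v 3 = 0 → a.act v 3 = 0 := by decide +kernel
  exact ⟨_, k a a3 v hv, c.act' ha _ _⟩

theorem sylJ0 [Finite G] {L : Subgroup G} (Lt : ∀ g ∈ L, Commute g (μ (sg 3)))
    (hJ : ∀ v : V, v 3 = 0 → ξ v ∈ L) (h : ∀ v a, ok b a → ξ v * μ a ∈ L → a * a = 1) :
    IsSylowIn 3 (JZ c) L := by
  refine L0.L43.syl_of_self (by rintro _ ⟨v, hv, rfl⟩; exact hJ v hv) (sub_pg _ _ _ _ _)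
    fun g hg e hn => ?_
  obtain ⟨v, a, ha, rfl⟩ := J0_n c (Lt g hg) hn
  obtain rfl := nf3 c ha (h v a ha hg) e
  exact ⟨v, (c.nf_t ha (Lt _ hg)).1, by rw [c.one, mul_one]⟩

theorem fusJ0 [Finite G] {L : Subgroup G} (Lt : ∀ g ∈ L, Commute g (μ (sg 3)))
    (hP : IsSylowIn 3 (JZ c) L) {v : V} (hv : v 3 = 0) {g : G} (hg : g ∈ L)
    (h : cj g (ξ v) ∈ JZ c) : ∃ w a, ok b a ∧ ξ w * μ a ∈ L ∧ cj g (ξ v) = ξ (a.act v) := by
  obtain ⟨n, hn, h1, h2⟩ := fuseP hP (J0_ab c) ⟨v, hv, rfl⟩ hg h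
  obtain ⟨w, a, ha, rfl⟩ := J0_n c (Lt n hn) h1
  exact ⟨w, a, ha, hn, by rw [← h2, c.act' ha]⟩

theorem zt_nf {g : G} (hz : Commute g (ξ vz)) (ht : Commute g (μ (sg 3))) :
    ∃ e ∈ E1 ξ i, ∃ v a, ok b a ∧ v 3 = 0 ∧ a.p 3 = 3 ∧ a.act vz = vz ∧ g = e * (ξ v * μ a) := by
  obtain ⟨e, he, v, a, ha, rfl⟩ := c.czt g hz ht
  rw [mul_assoc] at hz ht ⊢
  have h1 := c.nf_t ha (by simpa using (E1_t c he).inv_left.mul_left ht)
  exact ⟨e, he, v, a, ha, h1.1, h1.2, c.fix_of_comm ha (u := v)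
    (by simpa using (E1_fix c (v := vz) rfl rfl he).inv_left.mul_left hz), rfl⟩

theorem zt_ord {g : G} (hz : Commute g (ξ vz)) (ht : Commute g (μ (sg 3))) :
    g ^ (1152 * 4) = 1 := by
  obtain ⟨e, he, v, a, ha, v3, a3, az, rfl⟩ := zt_nf c hz ht
  have := pow_mod he (x := ξ v * μ a) (fun e he => by
    rw [mul_cj]; exact E1_xi c v3 (E1_mu c ha a3 (Or.inl az) he)) 1152
  rw [nf_ord c ha, inv_one, mul_one] at this
  rw [pow_mul, E1_four c this]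

/-- An involution in normal form is conjugate to a signed permutation. -/
theorem inv_nf {a : SP} (ha : ok b a) {v : V} (h : ξ v * μ a * (ξ v * μ a) = 1) :
    cj (ξ v) (ξ v * μ a) = μ a := by
  rw [c.nf_mul ha ha] at h
  have h1 := (c.nf_inj (ok_mul ha ha) ok_one (v := 0) (by rw [h, c.one, c.zero, one_mul])).1
  rw [cj_eq, c.mx ha, ← mul_assoc, ← c.add, eq_neg_of_add_eq_zero_right h1]
  have k : ∀ v : V, v + v = -v := by decide +kernel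
  rw [k]

theorem invR (o : ok b sw) {e : G} (he : e ∈ E1 ξ i)
    (h : e * μ (sw * sr) * (e * μ (sw * sr)) = 1) : ∃ f ∈ E1 ξ i,
    cj f (e * μ (sw * sr)) = μ (sw * sr) ∨ cj f (e * μ (sw * sr)) = μ (sw * sr) * μ (sg 3) := by
  obtain ⟨d, y, rfl⟩ := E1_ex c he
  have oR : ok b (sw * sr) := ok_mul o (ok_p rfl)
  have Rt := mu_t c oR rfl
  have e1 : ∀ y, cj (μ (sw * sr)) (q ξ i y) = tp μ (decide (y ≠ 0)) * q ξ i (s23 y) := fun y => by
    rw [c.mul _ _ o (ok_p rfl), mul_cj, r_q c, cj_mul, cj_tp c (mu_t c o rfl)]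
    exact congrArg _ (pp_q c o rfl _)
  have e2 : tp μ d * q ξ i y * cj (μ (sw * sr)) (tp μ d * q ξ i y) = 1 := by
    rw [← h, ← mul_one (_ * cj _ _), ← c.msq oR (by decide +kernel)]
    simp only [cj]; group
  rw [cj_mul, cj_tp c Rt, e1, ← mul_assoc (tp μ d) (tp μ _), tp_mul c, mul_assoc,
    ← mul_assoc (q ξ i y), (tp_comm (q_t c y) _).eq, mul_assoc, q_mul c, ← mul_assoc, ← mul_assoc,
    tp_mul c, tp_mul c] at e2
  have k : ∀ y, y = 0 ∨ y = 1 ∨ xr y (s23 y) = 1 := by decide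
  have k1 : ∀ d, tp μ d * μ (sw * sr) = μ (sw * sr) ∨
      tp μ d * μ (sw * sr) = μ (sw * sr) * μ (sg 3) := fun d => by
    cases d
    exacts [Or.inl (one_mul _), Or.inr Rt.eq.symm]
  rcases k y with rfl | rfl | e
  · exact ⟨1, one_mem _, by rw [one_cj]; exact (mul_one (tp μ d)).symm ▸ k1 d⟩
  · refine ⟨_, q_mem 2, ?_⟩
    have : cj (q ξ i 2) (q ξ i 1 * μ (sw * sr)) = μ (sw * sr) := by
      rw [cj_eq, cj_eq.mp (e1 2), ← mul_assoc]
      exact congrArg (· * _) (ji c)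
    rw [mul_assoc, cj_mul, cj_tp c (q_t c 2), this]
    exact k1 d
  · rw [e] at e2
    have e3 : i = tp μ _ := (inv_eq_of_mul_eq_one_right e2).symm.trans
      (inv_eq_of_mul_eq_one_right ((tp_mul c _ _).trans (by rw [Bool.xor_self]; rfl)))
    have e4 := c.i2
    rw [e3, tp_mul c, Bool.xor_self] at e4
    exact absurd e4.symm c.t1

namespace BS

variable {L : Subgroup G} (B : BS b ξ μ i L)
include B

theorem pa {v : V} {a : SP} (ha : ok b a) (h : ξ v * μ a ∈ L) :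
    v 3 = 0 ∧ a.p 3 = 3 ∧ a.act vv = vv :=
  ⟨(c.nf_t ha (B.t _ h)).1, (c.nf_t ha (B.t _ h)).2, c.fix_of_comm ha (B.v _ h)⟩

theorem m3 : μ (sg 3) ∈ L := c.i2 ▸ mul_mem B.i B.i

theorem syl [Finite G] : IsSylowIn 3 (JZ c) L := by
  have k : ∀ a : SP, a.p 3 = 3 ∧ a.act vv = vv → a * a = 1 := by decide +kernel
  exact sylJ0 c B.t B.J fun v a ha h => k a (B.pa c ha h).2

theorem cases {v : V} (h : v 3 = 0 ∧ v 0 = v 1) (v0 : v ≠ 0) :
    (∀ g ∈ L, Commute g (ξ v) → ∃ v a, ok b a ∧ g = ξ v * μ a) ∨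
      ∃ s ∈ L, ∃ a, s = μ a ∧ (a = 1 ∨ a = sg 2) ∧ (a.act v = vz ∨ a.act v = -vz) := by
  have k : ∀ v : V, v 3 = 0 ∧ v 0 = v 1 → v ≠ 0 → (∃ u, (u = v ∨ u = -v) ∧ (u = ee 2 ∨
    ee 0 = u + vv + vv)) ∨ (v = vz ∨ v = -vz) ∨ ((sg 2).act v = vz ∨ (sg 2).act v = -vz) := by
    decide +kernel
  rcases k v h v0 with ⟨u, hu, e⟩ | e | e
  · refine Or.inl fun g hg h => B.F g hg ?_
    have h' : Commute g (ξ u) := by
      rcases hu with rfl | rfl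
      exacts [h, c.neg v ▸ h.inv_right]
    refine e.imp (fun e => by rwa [← e]) fun e => ?_
    rw [e, c.add, c.add]
    exact (h'.mul_right (B.v g hg)).mul_right (B.v g hg)
  · exact Or.inr ⟨_, c.one.symm ▸ one_mem _, 1, rfl, Or.inl rfl, e⟩
  · exact Or.inr ⟨_, B.m2, _, rfl, Or.inr rfl, e⟩

theorem h57 : ∀ y ∈ closure {ξ (xv 1), ξ (xv 2)}, y ≠ 1 → ∀ g ∈ L, Commute g y →
    (g ^ 5 = 1 ∨ g ^ 7 = 1) → g = 1 := fun y hy y1 g hg h => by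
  obtain ⟨v, hv, rfl⟩ := (closure_le (sub c (fun v => v 3 = 0 ∧ v 0 = v 1) ⟨rfl, rfl⟩
    (fun u v hu hv => by simp [hu.1, hu.2, hv.1, hv.2]) (fun u hu => by simp [hu.1, hu.2]))).mpr
    (by rintro _ (rfl | rfl) <;> exact ⟨_, ⟨rfl, rfl⟩, rfl⟩) hy
  refine fun e => one_of_57 (n := 1152 * 4) ?_ (by norm_num) (by norm_num) e
  clear e
  rcases B.cases c hv (fun e => y1 (e ▸ c.zero)) with k | ⟨_, hs, a, rfl, ha, e⟩
  · obtain ⟨v, a, ha, rfl⟩ := k g hg h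
    rw [pow_mul, nf_ord c ha, one_pow]
  · have oa : ok b a := by rcases ha with rfl | rfl <;> exact ok_p rfl
    have h1 := cj_comm (g := μ a) h
    rw [c.act _ _ oa] at h1
    refine cj_inj (g := μ a) ?_
    rw [cj_pow, cj_one]
    refine zt_ord c ?_ (B.t _ (L.mul_mem (L.mul_mem hs hg) (L.inv_mem hs)))
    rcases e with e | e <;> rw [e] at h1
    exacts [h1, Commute.inv_right_iff.mp (c.neg vz ▸ h1)]

theorem hC (k : Fin 3) (hk : k ≠ 0) (g : G) (hg : g ∈ L) (h : Commute g (ξ (xv k))) :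
    (∃ v a, ok b a ∧ g = ξ v * μ a) ∧ (∀ y ∈ JZ c, cj g y ∈ JZ c) ∧
      ((∀ y ∈ JZ c, cj g y * y⁻¹ ∈ zpowers (ξ (xv k))) → g ∈ JZ c ∨ g * μ (sg 3) ∈ JZ c) := by
  obtain ⟨v, a, ha, rfl⟩ : ∃ v a, ok b a ∧ g = ξ v * μ a := by
    refine B.F g hg ?_
    have k1 : ∀ k : Fin 3, k ≠ 0 → xv k = ee 2 ∨ ee 0 = xv k + xv k + vv + vv := by decide +kernel
    refine (k1 k hk).imp (fun e => by rwa [← e]) fun e => ?_
    rw [e, c.add, c.add, c.add]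
    exact ((h.mul_right h).mul_right (B.v g hg)).mul_right (B.v g hg)
  obtain ⟨v3, a3, av⟩ := B.pa c ha hg
  refine ⟨⟨v, a, ha, rfl⟩, nf_J0 c ha a3 v, fun h1 => ?_⟩
  have k1 : ∀ k : Fin 3, k ≠ 0 → ∀ a : SP, a.p 3 = 3 → a.act vv = vv → a.act (xv k) = xv k →
      (∀ j, a.act (xv j) - xv j = 0 ∨ a.act (xv j) - xv j = xv k ∨ a.act (xv j) - xv j = -xv k) →
      a = 1 ∨ a = sg 3 := by decide +kernel
  have k2 : ∀ j, xv j 3 = 0 := by decide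
  rcases k1 k hk a a3 av (c.fix_of_comm ha h) fun j => by
    have := (H1.T3.mem_zpowers_three (c.cube _)).mp (h1 _ ⟨_, k2 j, rfl⟩)
    rw [c.act' ha, ← c.sub, ← c.neg, ← c.zero] at this
    exact this.imp c.injective (Or.imp c.injective c.injective) with rfl | rfl
  · exact Or.inl ⟨v, v3, by rw [c.one, mul_one]⟩
  · exact Or.inr ⟨v, v3, by rw [mul_assoc, c.t2, mul_one]⟩

theorem fin [Finite G] {k : Fin 3} (hk : k ≠ 0) (ok1 : ok b (rv k)) (hr : μ (rv k) ∈ L)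
    (h : ∃ O ≤ L, L ≤ normalizer (O : Set G) ∧ (Nat.card O).Coprime 3 ∧
      ∀ g ∈ L, ∃ o ∈ O, cj (o * g) (ξ (xv k)) = ξ (xv k) ∨ cj (o * g) (ξ (xv k)) = (ξ (xv k))⁻¹) :
    HE ξ μ i ∧ ∀ g ∈ L, ∃ e ∈ EE ξ μ i, ∃ v a, ok b a ∧ g = e * ξ v * μ a := by
  obtain ⟨O, h1, h2, h3, h4⟩ := h
  refine bcore c B.t B.v B.J B.m2 B.i B.F h1 h2 h3 fun g hg => ?_
  obtain ⟨o, ho, e⟩ := h4 g hg
  have m := mul_mem (h1 ho) hg
  refine ⟨o, ho, e.elim (fun e => (B.hC c k hk _ m (cj_fix.mp e)).1) fun e => ?_⟩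
  have k1 : ∀ k : Fin 3, k ≠ 0 → (rv k).act (xv k) = -xv k := by decide +kernel
  obtain ⟨v, a, ha, e1⟩ := (B.hC c k hk _ (mul_mem m hr) (cj_fix.mp (by
    rw [mul_cj, c.act _ _ ok1, k1 k hk, c.neg, cj_inv, e, inv_inv]))).1
  exact ⟨v, a * (rv k)⁻¹, ok_mul ha (ok_inv ok1), by
    rw [c.mul _ _ ha (ok_inv ok1), c.inv ok1, ← mul_assoc, ← e1, mul_inv_cancel_right]⟩

theorem mainN [Finite G] (hp : ∀ v a, ok b a → ξ v * μ a ∈ L → a.p = 1) :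
    HE ξ μ i ∧ ∀ g ∈ L, ∃ e ∈ EE ξ μ i, ∃ v a, ok b a ∧ g = e * ξ v * μ a := by
  have fus : ∀ k : Fin 2, ∀ x ∈ JZ c, ∀ g ∈ L, cj g x ∈ JZ c →
      co ξ (cj g x) (![0, 1] k) = co ξ x (![0, 1] k) := by
    rintro k _ ⟨v, hv, rfl⟩ g hg h
    obtain ⟨w, a, ha, m, e⟩ := fusJ0 c B.t (B.syl c) hv hg h
    have k1 : ∀ a : SP, a.p = 1 → a.act vv = vv → ∀ (v : V) (k : Fin 2),
      a.act v (![0, 1] k) = v (![0, 1] k) := by decide +kernel
    rw [e, co_xi c, co_xi c, k1 a (hp w a ha m) (B.pa c ha m).2.2]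
  refine B.fin c (k := 2) (by decide) (ok_p rfl) B.m2 (H2.O8.gen (B.syl c) (J0_ab c) (B.m3 c)
    c.t2 B.t (a := ξ (xv 2)) ⟨_, rfl, rfl⟩ (c.cube _) (c.ne_one (by decide)) B.m2
    (c.msq (ok_p rfl) (by decide +kernel))
    (by rw [c.act _ _ (ok_p rfl), ← c.neg]; exact congrArg ξ (by decide +kernel))
    (fun k g => co ξ g (![0, 1] k)) ?_ (fun k x hx g hg h => by rw [fus k x hx g hg h]) ?_ ?_
    (fun g hg h => (B.hC c 2 (by decide) g hg h).2) (d := ξ (xv 1)) ⟨_, rfl, rfl⟩ (c.cube _) ?_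
    (Set.pair_comm _ _ ▸ B.h57 c))
  · rintro k _ ⟨u, -, rfl⟩ _ ⟨v, -, rfl⟩
    rw [← c.add, co_xi c, co_xi c, co_xi c, Pi.add_apply]
  · rintro k g hg _ ⟨v, hv, rfl⟩ h
    have := fus k _ ⟨v, hv, rfl⟩ _ (L.mul_mem (L.mul_mem hg B.m2) (L.inv_mem hg))
      (h ▸ inv_mem ⟨v, hv, rfl⟩)
    change co ξ (cj (cj _ _) _) _ = _ at this
    rw [h, ← c.neg, co_xi c, co_xi c] at this
    have k : ∀ k : ZMod 3, -k = k → k = 0 := by decide
    rw [co_xi c]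
    exact k _ this
  · rintro _ ⟨v, hv, rfl⟩ h
    have k : ∀ v : V, v 3 = 0 → v 0 = 0 → v 1 = 0 → v = 0 ∨ v = xv 2 ∨ v = -xv 2 := by
      decide +kernel
    rw [H1.T3.mem_zpowers_three (c.cube _), ← c.neg, ← c.zero]
    simp only [co_xi c] at h
    exact (k v hv (h 0) (h 1)).imp (congrArg ξ) (Or.imp (congrArg ξ) (congrArg ξ))
  · rw [H1.T3.mem_zpowers_three (c.cube _), ← c.neg, ← c.zero]
    rintro (h | h | h) <;> exact absurd (c.injective h) (by decide +kernel)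

omit c in
theorem E1L : E1 ξ i ≤ L := (closure_le _).mpr (by
  rintro _ (rfl | rfl)
  exacts [B.i, L.mul_mem (L.mul_mem (B.J _ rfl) B.i) (L.inv_mem (B.J _ rfl))])

theorem invz (o : ∀ a, ok b a) (mR : μ (sw * sr) ∈ L) {u : G} (hu : u ∈ L) (u2 : u * u = 1)
    (e : cj u (ξ vz) = (ξ vz)⁻¹) :
    ∃ g ∈ L, cj g u = μ (sw * sr) ∨ cj g u = μ (sw * sr) * μ (sg 3) := by
  have R2 := c.msq (o (sw * sr)) (by decide +kernel)
  obtain ⟨e, he, w, a, ha, w3, a3, az, e1⟩ := zt_nf c (g := u * μ (sw * sr)) (cj_fix.mp (by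
    rw [mul_cj, c.act _ _ (o _), show (sw * sr).act vz = -vz by decide +kernel, c.neg, cj_inv, e,
      inv_inv])) (B.t _ (mul_mem hu mR))
  have m : ξ w * μ a ∈ L := (mul_mem_cancel_left (B.E1L he)).mp (e1 ▸ mul_mem hu mR)
  have k : ∀ a : SP, a.p 3 = 3 ∧ a.act vv = vv → a.act vz = vz → a = 1 ∨ a = sg 3 := by
    decide +kernel
  obtain ⟨e', he', e2⟩ : ∃ e' ∈ E1 ξ i, u = e' * (ξ w * μ (sw * sr)) := by
    have e2 : u = e * (ξ w * μ a) * μ (sw * sr) := by rw [← e1, mul_assoc, R2, mul_one]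
    rcases k a (B.pa c ha m).2 az with rfl | rfl
    · exact ⟨e, he, by rw [e2, c.one, mul_one, mul_assoc]⟩
    · exact ⟨_, mul_mem he (tE1 c), by rw [e2, (xi_t c w3).eq]; simp only [mul_assoc]⟩
  have n := pow_mod he' (x := ξ w * μ (sw * sr)) (fun e he => by
    rw [mul_cj]; exact E1_xi c w3 (E1_mu c (o _) rfl (Or.inr (by decide +kernel)) he)) 2
  rw [← e2, pow_two, u2, one_mul, inv_mem_iff, pow_two] at n
  have n1 : ξ w * μ (sw * sr) * (ξ w * μ (sw * sr)) = 1 := by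
    rw [c.nf_mul (o _) (o _), c.mul _ _ (o _) (o _), R2, mul_one] at n ⊢
    rw [xi_E1 c n, c.zero]
  have e3 : cj (ξ w) u = cj (ξ w) e' * μ (sw * sr) := by rw [e2, cj_mul, inv_nf c (o _) n1]
  obtain ⟨f, hf, e4⟩ := invR c (o _) (E1_xi c w3 he') (by rw [← e3, ← cj_mul, u2, cj_one])
  exact ⟨_, mul_mem (B.E1L hf) (B.J w w3), by rwa [mul_cj, e3]⟩

theorem mainW [Finite G] (o : ∀ a, ok b a) (mw : μ (rv 1) ∈ L) :
    HE ξ μ i ∧ ∀ g ∈ L, ∃ e ∈ EE ξ μ i, ∃ v a, ok b a ∧ g = e * ξ v * μ a := by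
  have mr : ∀ k : Fin 3, k ≠ 0 → μ (rv k) ∈ L := fun k hk => by
    fin_cases k
    exacts [absurd rfl hk, mw, B.m2]
  have mR : μ (sw * sr) ∈ L := by
    rw [show sw * sr = rv 1 * sg 2 by decide +kernel, c.mul _ _ (o _) (o _)]
    exact mul_mem mw B.m2
  have k3 : ∀ j, xv j 3 = 0 := by decide
  obtain ⟨k, hk, h⟩ := gen2 (B.syl c) (J0_ab c) (R := μ (sw * sr)) (B.m3 c) c.t2 B.t
    (fun k => ξ (xv k)) (fun k => μ (rv k)) (fun k g => lb k (co ξ g)) (· ≠ 0) (k0 := 1) (k1 := 2)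
    (by decide) (by decide) (by decide)
    (fun k => ⟨⟨_, k3 k, rfl⟩, c.cube _, c.ne_one (by revert k; decide)⟩) (by
      rintro k _ ⟨u, -, rfl⟩ _ ⟨v, -, rfl⟩
      have k1 : ∀ k u v, lb k (u + v) = lb k u + lb k v := by decide +kernel
      rw [← c.add, co_xi c, co_xi c, co_xi c, k1]) (by
      rintro j _ ⟨v, hv, rfl⟩ g hg h
      obtain ⟨w, a, ha, m, e⟩ := fusJ0 c B.t (B.syl c) hv hg h
      have k1 : ∀ a : SP, a.p 3 = 3 ∧ a.act vv = vv → ∀ (v : V) (j : Fin 3),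
        lb j (a.act v) = lb j v ∨ j ≠ 0 ∧ lb j (a.act v) = -lb j v := by decide +kernel
      rw [e, co_xi c, co_xi c]
      exact k1 a (B.pa c ha m).2 v j) (by
      rintro k _ ⟨v, hv, rfl⟩ h
      have k1 : ∀ k, ∀ v : V, v 3 = 0 → (∀ j, j ≠ k → lb j v = 0) →
        v = 0 ∨ v = xv k ∨ v = -xv k := by decide +kernel
      rw [H1.T3.mem_zpowers_three (c.cube _), ← c.neg, ← c.zero]
      simp only [co_xi c] at h
      exact (k1 k v hv h).imp (congrArg ξ) (Or.imp (congrArg ξ) (congrArg ξ)))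
    (fun j k => by rw [co_xi c]; revert j k; decide +kernel) (fun k hk => by
      have k1 : ∀ k : Fin 3, k ≠ 0 → rv k * rv k = 1 ∧ (rv k).act (xv k) = -xv k ∧
        ∀ j, j ≠ k → (rv k).act (xv j) = xv j := by decide +kernel
      exact ⟨mr k hk, c.msq (o _) (k1 k hk).1, by rw [c.act _ _ (o _), (k1 k hk).2.1, c.neg],
        fun j hj => (c.mxcomm (o _) ((k1 k hk).2.2 j hj)).symm⟩) (fun l hl h hh e hc => by
      obtain ⟨v, a, ha, rfl⟩ := (B.hC c l hl h hh hc).1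
      have k : ∀ a : SP, a.p 3 = 3 ∧ a.act vv = vv → a * a = 1 := by decide +kernel
      obtain rfl := nf3 c ha (k a (B.pa c ha hh).2) e
      exact ⟨v, (B.pa c ha hh).1, by rw [c.one, mul_one]⟩) (by
      rintro u hu u2 _ ⟨v, hv, rfl⟩ e j hj h0
      rw [co_xi c] at h0
      obtain ⟨w, a, ha, m, e1⟩ := fusJ0 c B.t (B.syl c) hv hu (e ▸ inv_mem ⟨v, hv, rfl⟩)
      have k1 : ∀ a : SP, a.p 3 = 3 ∧ a.act vv = vv → ∀ v : V, v 3 = 0 → -v = a.act v →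
        v 0 = v 1 ∧ (sw * sr).act v = -v := by decide +kernel
      obtain ⟨v01, Rv⟩ := k1 a (B.pa c ha m).2 v hv (c.injective (by rw [c.neg, ← e, e1]))
      have k0 : ∀ j, lb j 0 = 0 := by decide +kernel
      rcases B.cases c ⟨hv, v01⟩ (fun e => h0 (e ▸ k0 j)) with k | ⟨_, hs, a, rfl, ha, e2⟩
      · obtain ⟨w, a, -, e2⟩ := k _ (mul_mem hu mR) (cj_fix.mp (by
          rw [mul_cj, c.act _ _ (o _), Rv, c.neg, cj_inv, e, inv_inv]))
        have e3 : u = ξ w * μ (a * (sw * sr)⁻¹) := by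
          rw [c.mul _ _ (o _) (o _), c.inv (o _), ← mul_assoc, ← e2, mul_inv_cancel_right]
        generalize a * (sw * sr)⁻¹ = a at e3
        subst e3
        have k2 : ∀ a : SP, a.p 3 = 3 ∧ a.act vv = vv → (∀ v : V, a.act v = -v → ∀ j, j ≠ 0 →
          lb j v ≠ 0 → a.act (xv j) = -xv j) ∧ ((∃ l, l ≠ 0 ∧ a.act (xv l) = xv l) ∨
          a = sw * sr ∨ a = sw * sr * sg 3) := by decide +kernel
        obtain ⟨w3, pa⟩ := B.pa c (o _) hu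
        refine ⟨_, B.J w w3, ?_⟩
        rw [inv_nf c (o _) u2, c.act _ _ (o _), (k2 a pa).1 v (c.injective
          (by rw [c.neg, ← e, c.act' (o _)])) j hj h0, c.neg, ← c.mul _ _ (o _) (o _)]
        exact ⟨rfl, (k2 a pa).2.imp (fun ⟨l, h1, h2⟩ => ⟨l, h1, (c.mxcomm (o _) h2).symm⟩)
          (Or.imp (congrArg μ) (congrArg μ))⟩
      · have e3 := congrArg (cj (μ a)) e
        rw [cj_cj, cj_inv, c.act _ _ (o _)] at e3
        obtain ⟨g, hg, e4⟩ := B.invz c o mR (u := cj (μ a) u)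
          (L.mul_mem (L.mul_mem hs hu) (L.inv_mem hs)) (by rw [← cj_mul, u2, cj_one]) (by
            rcases e2 with e2 | e2 <;> rw [e2] at e3
            · exact e3
            · rwa [c.neg, cj_inv, inv_inj] at e3)
        refine ⟨_, mul_mem hg hs, ?_, Or.inr (by rwa [mul_cj])⟩
        have k2 : ∀ j, j ≠ 0 → (sw * sr).act (xv j) = -xv j := by decide +kernel
        rw [mul_cj g]
        rcases e4 with e4 | e4 <;> rw [e4]
        · rw [c.act _ _ (o _), k2 j hj, c.neg]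
        · rw [mul_cj, cj_fix.mpr (xi_t c (k3 j)).symm, c.act _ _ (o _), k2 j hj, c.neg])
    (fun k hk g hg h => (B.hC c k hk g hg h).2) (B.h57 c)
  exact B.fin c hk (o _) (mr k hk) h

theorem main [Finite G] :
    HE ξ μ i ∧ ∀ g ∈ L, ∃ e ∈ EE ξ μ i, ∃ v a, ok b a ∧ g = e * ξ v * μ a := by
  by_cases hp : ∀ v a, ok b a → ξ v * μ a ∈ L → a.p = 1
  · exact B.mainN c hp
  push Not at hp
  obtain ⟨v, a, ha, m, p1⟩ := hp
  have k : ∀ a : SP, a.p 3 = 3 ∧ a.act vv = vv → a.p ≠ 1 → ¬ a.ev ∧ (rv 1 = a ∨ rv 1 = a * sg 2 ∨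
    rv 1 = a * sg 3 ∨ rv 1 = a * sg 2 * sg 3) := by decide +kernel
  obtain ⟨v3, pa⟩ := B.pa c ha m
  have o : ∀ a, ok b a := fun _ => Or.inl (ha.resolve_right (k a pa p1).1)
  have m1 := (mul_mem_cancel_left (B.J v v3)).mp m
  refine B.mainW c o ?_
  rcases (k a pa p1).2 with e | e | e | e <;> rw [e] <;> try simp only [c.mul _ _ (o _) (o _)]
  exacts [m1, mul_mem m1 B.m2, mul_mem m1 (B.m3 c), mul_mem (mul_mem m1 B.m2) (B.m3 c)]

end BS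

/-- The centralizer in the whole group. -/
theorem bW [Finite G] (F : ∀ g, Commute g (ξ (ee 3)) → ∃ v a, ok b a ∧ g = ξ v * μ a) :
    HE ξ μ i ∧ ∀ g, Commute g (μ (sg 3)) → Commute g (ξ vv) →
      ∃ e ∈ EE ξ μ i, ∃ v a, ok b a ∧ g = e * ξ v * μ a := by
  have k : ∀ k, ∃ a : SP, a.ev ∧ a.act (ee k) = ee 3 := by decide +kernel
  have F' : ∀ k g, Commute g (ξ (ee k)) → ∃ v a, ok b a ∧ g = ξ v * μ a := fun j g h => by
    obtain ⟨s, hs, e⟩ := k j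
    have os : ok b s := ok_ev hs
    obtain ⟨v, a, ha, e1⟩ := F (cj (μ s) g) (by rw [← e, ← c.act _ _ os]; exact cj_comm h)
    exact ⟨_, _, ok_mul (ok_mul (ok_inv os) ha) (ok_inv (ok_inv os)), by
      rw [← inv_cj e1, cj_mul, ← c.inv os, c.act _ _ (ok_inv os), c.mcj (ok_inv os) ha]⟩
  have B : BS b ξ μ i (centralizer {μ (sg 3)} ⊓ centralizer {ξ vv}) :=
    ⟨fun g hg => mem_cent.mp hg.1, fun g hg => mem_cent.mp hg.2,
      fun v hv => ⟨mem_cent.mpr (xi_t c hv), mem_cent.mpr (c.comm _ _)⟩,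
      ⟨mem_cent.mpr (mu_t c (ok_p rfl) rfl), mem_cent.mpr (c.mxcomm (ok_p rfl) (by decide +kernel))⟩,
      ⟨mem_cent.mpr (i_t c), mem_cent.mpr (c.iJ _ rfl rfl)⟩,
      fun g _ h => h.elim (F' _ g) (F' _ g)⟩
  exact ⟨(B.main c).1, fun g h1 h2 => (B.main c).2 g ⟨mem_cent.mpr h1, mem_cent.mpr h2⟩⟩

theorem EE_le {N : Subgroup G} (A : Amb b ξ μ i N) : EE ξ μ i ≤ N := (closure_le _).mpr (by
  rintro _ ⟨a, ha, e, he, rfl⟩
  have m := (A.mu a (ok_p ha)).mpr ⟨by simp [SP.ev, ha], by simp [ha]⟩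
  refine N.mul_mem (N.mul_mem m ((closure_le N).mpr ?_ he)) (N.inv_mem m)
  rintro _ (rfl | rfl)
  exacts [A.i, N.mul_mem (N.mul_mem (A.J _) A.i) (N.inv_mem (A.J _))])

/-- The centralizer in the ambient subgroup. -/
theorem bN [Finite G] {N : Subgroup G} (A : Amb b ξ μ i N)
    (F : ∀ k, ∀ g ∈ N, Commute g (ξ (ee k)) → ∃ v a, a.p = 1 ∧ g = ξ v * μ a) :
    HE ξ μ i ∧ ∀ g ∈ N, Commute g (μ (sg 3)) → Commute g (ξ vv) →
      ∃ e ∈ EE ξ μ i, ∃ v a, a.p = 1 ∧ g = e * ξ v * μ a := by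
  have F' : ∀ k, ∀ g ∈ N, Commute g (ξ (ee k)) → ∃ v a, ok b a ∧ g = ξ v * μ a := fun k g hg h =>
    (F k g hg h).imp fun _ h => h.imp fun _ h => ⟨ok_p h.1, h.2⟩
  have B : BS b ξ μ i (N ⊓ (centralizer {μ (sg 3)} ⊓ centralizer {ξ vv})) :=
    ⟨fun g hg => mem_cent.mp hg.2.1, fun g hg => mem_cent.mp hg.2.2,
      fun v hv => ⟨A.J v, mem_cent.mpr (xi_t c hv), mem_cent.mpr (c.comm _ _)⟩,
      ⟨(A.mu _ (ok_p rfl)).mpr (by decide +kernel), mem_cent.mpr (mu_t c (ok_p rfl) rfl),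
        mem_cent.mpr (c.mxcomm (ok_p rfl) (by decide +kernel))⟩,
      ⟨A.i, mem_cent.mpr (i_t c), mem_cent.mpr (c.iJ _ rfl rfl)⟩,
      fun g hg h => h.elim (F' _ g hg.1) (F' _ g hg.1)⟩
  obtain ⟨hE, h⟩ := B.main c
  refine ⟨hE, fun g hg h1 h2 => ?_⟩
  obtain ⟨e, he, v, a, ha, rfl⟩ := h g ⟨hg, mem_cent.mpr h1, mem_cent.mpr h2⟩
  have k : ∀ a : SP, a.v4 → a.p 3 = 3 → a.p = 1 := by decide +kernel
  refine ⟨e, he, v, a, k a ((A.mu a ha).mp ((mul_mem_cancel_left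
    (mul_mem (EE_le c A he) (A.J v))).mp hg)) (c.nf_t ha (v := v) ?_).2, rfl⟩
  simpa [mul_assoc] using (comm_t c hE he).inv_left.mul_left h1

end Cfsg.Agent.H3.O8
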