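import Cfsg.Agent.H3.O8R4

/-!
# The centralizer of a basis element in the ambient subgroup
-/

set_option autoImplicit false
set_option maxRecDepth 100000
set_option synthInstance.maxSize 100000

namespace Cfsg.Agent.H3.O8

open Subgroup Cfsg.Agent.H3.L43 Cfsg.Agent.H9 Cfsg.Agent.H1.T3 Cfsg.Agent.H5.O8
  Cfsg.Agent.H6.O8x

theorem act_p1 {a : SP} (h : a.p = 1) (v : V) (j : Fin 4) :
    a.act v j = if a.e j then -v j else v j := by simp [SP.act, h]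

theorem e_ee : ∀ a : SP, a.p = 1 → ∀ j, (a.act (ee j) = ee j ↔ a.e j = false) ∧
    (a.e j = true → a.act (ee j) = -ee j) := by decide +kernel

theorem sq_p1 : ∀ a : SP, a.p = 1 → a * a = 1 ∧ a.v4 := by decide +kernel

variable {G : Type*} [Group G] {b : Bool} {ξ : V → G} {μ : SP → G} {i : G}

/-- The torus. -/
def JA (c : Cfg b ξ μ i) : Subgroup G :=
  sub c (fun _ => True) trivial (fun _ _ _ _ => trivial) fun _ _ => trivial

/-- The torus extended by the sign changes. -/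
def M1 (ξ : V → G) (μ : SP → G) (g : G) : Prop := ∃ v a, a.p = 1 ∧ g = ξ v * μ a

variable (c : Cfg b ξ μ i)
include c

theorem M1.of_mul {g : G} {s : SP} (hs : s.p = 1) (h : M1 ξ μ (g * μ s)) : M1 ξ μ g := by
  obtain ⟨v, a, ha, e⟩ := h
  exact ⟨v, a * s⁻¹, by rw [SP.mul_p, SP.inv_p, ha, hs, inv_one, mul_one], by
    rw [c.mul _ _ (ok_p ha) (ok_inv (ok_p hs)), c.inv (ok_p hs), ← mul_assoc, ← e,
      mul_inv_cancel_right]⟩

theorem M1.cj {g : G} {s : SP} (hs : ok b s) (h : M1 ξ μ g) : M1 ξ μ (cj (μ s) g) := by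
  obtain ⟨v, a, ha, rfl⟩ := h
  exact ⟨_, s * a * s⁻¹, by rw [SP.mul_p, SP.mul_p, SP.inv_p, ha, mul_one, mul_inv_cancel], by
    rw [cj_mul, c.act _ _ hs, c.mcj hs (ok_p ha)]⟩

theorem JA_ab : ∀ x ∈ JA c, ∀ y ∈ JA c, Commute x y := by
  rintro _ ⟨u, -, rfl⟩ _ ⟨v, -, rfl⟩
  exact c.comm u v

variable {N : Subgroup G} (A : Amb b ξ μ i N)
include A

theorem Amb.norm {a : SP} (h : a.ev) {g : G} (hg : g ∈ N) : cj (μ a) g ∈ N := by
  have k : ∀ a : SP, a.ev → ∃ s : SP, s.v4 ∧ (a = s ∨ a = s * st ∨ a = s * st * st) := by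
    decide +kernel
  obtain ⟨s, hs, e⟩ := k a h
  have o : ok b st := ok_ev (by decide +kernel)
  have h1 : ∀ g ∈ N, cj (μ st) g ∈ N := fun g => conj_mem_of_mem_normalizer A.tau
  have h2 : ∀ g ∈ N, cj (μ s) g ∈ N := fun g hg =>
    have m := (A.mu s (ok_ev hs.1)).mpr hs
    N.mul_mem (N.mul_mem m hg) (N.inv_mem m)
  rcases e with rfl | rfl | rfl
  · exact h2 g hg
  · rw [c.mul _ _ (ok_ev hs.1) o, mul_cj]; exact h2 _ (h1 g hg)
  · rw [c.mul _ _ (ok_mul (ok_ev hs.1) o) o, c.mul _ _ (ok_ev hs.1) o, mul_cj, mul_cj]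
    exact h2 _ (h1 _ (h1 g hg))

theorem Amb.tr {x y x' y' : V} (h : ∀ g ∈ N, Commute g (ξ x) → Commute g (ξ y) → M1 ξ μ g)
    (e : ∃ s : SP, s.ev ∧ s.act x' = x ∧ s.act y' = y) :
    ∀ g ∈ N, Commute g (ξ x') → Commute g (ξ y') → M1 ξ μ g := fun g hg h1 h2 => by
  obtain ⟨s, hs, rfl, rfl⟩ := e
  have := (h _ (A.norm c hs hg) (c.act _ _ (ok_ev hs) ▸ cj_comm h1)
    (c.act _ _ (ok_ev hs) ▸ cj_comm h2)).cj c (ok_inv (ok_ev hs))
  rwa [c.inv (ok_ev hs), inv_cj_cj] at this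

theorem Amb.m1 {g : G} (hg : g ∈ N) (h3 : Commute g (ξ (ee 3)))
    (h : ∃ v a, ok b a ∧ g = ξ v * μ a) : M1 ξ μ g := by
  obtain ⟨v, a, ha, rfl⟩ := h
  have k : ∀ a : SP, a.v4 → a.act (ee 3) = ee 3 → a.p = 1 := by decide +kernel
  exact ⟨v, a, k a ((A.mu a ha).mp ((mul_mem_cancel_left (A.J v)).mp hg)) (c.fix_of_comm ha h3), rfl⟩

variable [Finite G]

theorem Amb.syl {L : Subgroup G} (hL : L ≤ N) (h3 : ∀ g ∈ L, Commute g (ξ (ee 3)))
    (hJ : ∀ v, ξ v ∈ L) : IsSylowIn 3 (JA c) L := by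
  refine L0.L43.syl_of_self (by rintro _ ⟨v, -, rfl⟩; exact hJ v) (sub_pg _ _ _ _ _)
    fun g hg e hn => ?_
  obtain ⟨v, a, ha, rfl⟩ := A.m1 c (hL hg) (h3 g hg) (H4.O8.nJ4 c
    (fun v => (hn _ ⟨v, trivial, rfl⟩).imp fun _ h => h.2) (h3 g hg))
  obtain rfl := nf3 c (ok_p ha) (sq_p1 a ha).1 e
  exact ⟨v, trivial, by rw [c.one, mul_one]⟩

theorem Amb.fus {L : Subgroup G} (hL : L ≤ N) (h3 : ∀ g ∈ L, Commute g (ξ (ee 3)))
    (hJ : ∀ v, ξ v ∈ L) {v : V} {g : G} (hg : g ∈ L) (h : cj g (ξ v) ∈ JA c) :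
    ∃ w a, a.p = 1 ∧ ξ w * μ a ∈ L ∧ cj g (ξ v) = ξ (a.act v) := by
  obtain ⟨n, hn, h1, h2⟩ := fuseP (A.syl c hL h3 hJ) (JA_ab c) ⟨v, trivial, rfl⟩ hg h
  obtain ⟨w, a, ha, rfl⟩ := A.m1 c (hL hn) (h3 n hn) (H4.O8.nJ4 c
    (fun v => (h1 _ ⟨v, trivial, rfl⟩).imp fun _ h => h.2) (h3 n hn))
  exact ⟨w, a, ha, hn, by rw [← h2, c.act' (ok_p ha)]⟩

omit [Finite G] in
theorem Amb.w3 : ∀ g ∈ N, Commute g (ξ (ee 3)) → Commute g (ξ vz) → M1 ξ μ g :=
  fun g hg h3 hz => A.m1 c hg h3 (c.cz4 g hz h3)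

theorem Amb.w2 : ∀ g ∈ N, Commute g (ξ (ee 3)) → Commute g (ξ (xv 1)) → M1 ξ μ g := by
  intro g hg h3 hu
  let L := N ⊓ (centralizer {ξ (ee 3)} ⊓ centralizer {ξ (xv 1)})
  have hJ : ∀ v, ξ v ∈ L := fun v => ⟨A.J v, mem_cent.mpr (c.comm _ _), mem_cent.mpr (c.comm _ _)⟩
  have L3 : ∀ g ∈ L, Commute g (ξ (ee 3)) := fun g hg => mem_cent.mp hg.2.1
  have hC : ∀ g ∈ L, Commute g (ξ (ee 2)) → M1 ξ μ g := fun g hg h => A.w3 c g hg.1 (L3 g hg) (by
    rw [show vz = xv 1 + ee 2 by decide +kernel, c.add]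
    exact Commute.mul_right (mem_cent.mp hg.2.2) h)
  have m : g ∈ L := ⟨hg, mem_cent.mpr h3, mem_cent.mpr hu⟩
  have := sig3 (A.syl c inf_le_left L3 hJ) (a := ξ (ee 2)) ⟨_, trivial, rfl⟩ (c.cube _)
    (c.ne_one (by decide)) (by
      rintro _ ⟨v, -, rfl⟩ l hl h
      obtain ⟨w, a, ha, m, e⟩ := A.fus c inf_le_left L3 hJ hl h
      have k : ∀ a : SP, a.p = 1 → a.act (ee 3) = ee 3 → a.act (xv 1) = xv 1 → ∀ v : V,
        a.act v - v = 0 ∨ a.act v - v = ee 2 ∨ a.act v - v = -ee 2 := by decide +kernel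
      change cj l _ * _ ∈ _
      rw [e, ← c.sub, H1.T3.mem_zpowers_three (c.cube _), ← c.neg, ← c.zero]
      exact (k a ha (c.fix_of_comm (ok_p ha) (L3 _ m)) (c.fix_of_comm (ok_p ha)
        (mem_cent.mp m.2.2)) v).imp (congrArg ξ) (Or.imp (congrArg ξ) (congrArg ξ)))
    (fun g hg h => by
      obtain ⟨v, a, ha, rfl⟩ := hC g hg h
      have k : ∀ a : SP, a.p = 1 → a.act (ee 3) = ee 3 → a.act (xv 1) = xv 1 →
        a.act (ee 2) = ee 2 → a = 1 := by decide +kernel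
      obtain rfl := k a ha (c.fix_of_comm (ok_p ha) (L3 _ hg)) (c.fix_of_comm (ok_p ha)
        (mem_cent.mp hg.2.2)) (c.fix_of_comm (ok_p ha) h)
      exact ⟨v, trivial, by rw [c.one, mul_one]⟩)
    (fun O h1 h2 => c.sig O h1 fun v => h2 ⟨v, trivial, rfl⟩) g m
  rcases this with e | e
  · exact hC g m (cj_fix.mp e)
  · change cj _ _ = _ at e
    have o : ok b (sg 2) := ok_p rfl
    refine M1.of_mul c (s := sg 2) rfl (hC _ (mul_mem m ⟨(A.mu _ o).mpr (sq_p1 _ rfl).2,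
      mem_cent.mpr (c.mxcomm o (by decide +kernel)), mem_cent.mpr (c.mxcomm o (by decide +kernel))⟩)
      (cj_fix.mp ?_))
    rw [mul_cj, c.act _ _ o, (e_ee _ rfl _).2 rfl, c.neg, cj_inv, e, inv_inv]

theorem Amb.step (act : Fin 4 → Bool) (a0 : act 0 = true) (a1 : act 1 = true) (a3 : act 3 = false)
    (H : ∀ v : V, v ≠ 0 → (∀ k, act k = false → v k = 0) → ∀ g ∈ N,
      (∀ k, act k = false → Commute g (ξ (ee k))) → Commute g (ξ v) → M1 ξ μ g) :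
    ∀ g ∈ N, (∀ k, act k = false → Commute g (ξ (ee k))) → M1 ξ μ g := by
  let L := N ⊓ centralizer {x | ∃ k, act k = false ∧ x = ξ (ee k)}
  have mL : ∀ g, g ∈ L ↔ g ∈ N ∧ ∀ k, act k = false → Commute g (ξ (ee k)) := fun g =>
    and_congr_right fun _ => ⟨fun h k hk => (h _ ⟨k, hk, rfl⟩).symm, by
      rintro h _ ⟨k, hk, rfl⟩; exact (h k hk).symm⟩
  have hJ : ∀ v, ξ v ∈ L := fun v => (mL _).mpr ⟨A.J v, fun _ _ => c.comm _ _⟩
  have L3 : ∀ g ∈ L, Commute g (ξ (ee 3)) := fun g hg => ((mL g).mp hg).2 3 a3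
  have hm : ∀ a : SP, a.p = 1 → (∀ k, act k = false → a.e k = false) → μ a ∈ L := fun a ha h =>
    (mL _).mpr ⟨(A.mu _ (ok_p ha)).mpr (sq_p1 a ha).2, fun k hk =>
      c.mxcomm (ok_p ha) ((e_ee a ha k).1.mpr (h k hk))⟩
  have he : ∀ v (a : SP), a.p = 1 → ξ v * μ a ∈ L → ∀ k, act k = false → a.e k = false :=
    fun v a ha m k hk => (e_ee a ha k).1.mp (c.fix_of_comm (ok_p ha) (((mL _).mp m).2 k hk))
  have H' : ∀ v : V, v ≠ 0 → (∀ k, act k = false → v k = 0) → ∀ g ∈ L, Commute g (ξ v) →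
      M1 ξ μ g := fun v h0 h g hg => H v h0 h g hg.1 ((mL g).mp hg).2
  have e0 : ∀ k, ee k ≠ 0 := by decide
  have lx : ∀ j k, ee k j = 0 ↔ j ≠ k := by decide +kernel
  have Hk : ∀ k, act k = true → ∀ g ∈ L, Commute g (ξ (ee k)) → M1 ξ μ g := fun k hk =>
    H' _ (e0 k) fun j hj => (lx j k).mpr (by rintro rfl; simp [hk] at hj)
  have mr : ∀ k, act k = true → μ (sg k) ∈ L := fun k hk => hm _ rfl fun j hj =>
    decide_eq_false (by rintro rfl; simp [hk] at hj)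
  obtain ⟨k, hk, O, h1, h2, h3, h4⟩ := gen2 (A.syl c inf_le_left L3 hJ) (JA_ab c) (t := 1)
    (R := μ ⟨act, 1⟩) (one_mem _) (one_mul _) (fun _ _ => Commute.one_right _)
    (fun k => ξ (ee k)) (fun k => μ (sg k)) (fun k g => co ξ g k) (act · = true) (k0 := 0) (k1 := 1)
    (by decide) a0 a1 (fun k => ⟨⟨_, trivial, rfl⟩, c.cube _, c.ne_one (e0 k)⟩) (by
      rintro k _ ⟨u, -, rfl⟩ _ ⟨v, -, rfl⟩
      rw [← c.add, co_xi c, co_xi c, co_xi c, Pi.add_apply]) (by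
      rintro j _ ⟨v, -, rfl⟩ g hg h
      obtain ⟨w, a, ha, m, e⟩ := A.fus c inf_le_left L3 hJ hg h
      rw [e, co_xi c, co_xi c, act_p1 ha]
      cases h : a.e j
      · exact Or.inl rfl
      · exact Or.inr ⟨by_contra fun k => by simp [he w a ha m j (by simpa using k)] at h, rfl⟩) (by
      rintro k _ ⟨v, -, rfl⟩ h
      have k1 : ∀ k, ∀ v : V, (∀ j, j ≠ k → v j = 0) → v = 0 ∨ v = ee k ∨ v = -ee k := by
        decide +kernel
      rw [H1.T3.mem_zpowers_three (c.cube _), ← c.neg, ← c.zero]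
      simp only [co_xi c] at h
      exact (k1 k v h).imp (congrArg ξ) (Or.imp (congrArg ξ) (congrArg ξ)))
    (fun j k => by rw [co_xi c]; exact lx j k) (fun k hk => ⟨mr k hk,
      c.msq (ok_p rfl) (sq_p1 _ rfl).1, by
        rw [c.act _ _ (ok_p rfl), (e_ee _ rfl k).2 (decide_eq_true rfl), c.neg],
      fun j hj => (c.mxcomm (ok_p rfl) ((e_ee _ rfl j).1.mpr (decide_eq_false hj))).symm⟩)
    (fun l hl h hh e hc => by
      obtain ⟨v, a, ha, rfl⟩ := Hk l hl h hh hc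
      obtain rfl := nf3 c (ok_p ha) (sq_p1 a ha).1 e
      exact ⟨v, trivial, by rw [c.one, mul_one]⟩) (by
      rintro u hu u2 _ ⟨v, -, rfl⟩ e j - h0
      rw [co_xi c] at h0
      have kz : ∀ k : ZMod 3, k = -k → k = 0 := by decide
      obtain ⟨w, a, ha, m, e1⟩ := A.fus c inf_le_left L3 hJ hu (v := v)
        ⟨-v, trivial, by rw [e, c.neg]⟩
      have e2 : a.act v = -v := c.injective (by rw [c.neg, ← e, e1])
      have v0 : ∀ k, act k = false → v k = 0 := fun k hk => kz _ (by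
        have := congrFun e2 k
        rwa [act_p1 ha, he w a ha m k hk] at this)
      have Rv : (⟨act, 1⟩ : SP).act v = -v := funext fun k => by
        rw [act_p1 rfl]
        cases h : act k
        · simp [v0 k h]
        · simp [h]
      obtain ⟨w, a, ha, rfl⟩ := M1.of_mul c (s := ⟨act, 1⟩) rfl (H' v (fun e => h0 (e ▸ rfl)) v0 _
        (mul_mem hu (hm _ rfl fun _ h => h)) (cj_fix.mp (by
          rw [mul_cj, c.act _ _ (ok_p rfl), Rv, c.neg, cj_inv, e, inv_inv])))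
      have e3 := congrFun (c.injective (u := a.act v) (v := -v)
        (by rw [c.neg, ← e, c.act' (ok_p ha)])) j
      rw [act_p1 ha] at e3
      refine ⟨_, hJ w, ?_⟩
      rw [inv_nf c (ok_p ha) u2, c.act _ _ (ok_p ha), (e_ee a ha j).2 (by_contra fun k => h0 (kz _
        (by rwa [if_neg k] at e3))), c.neg]
      refine ⟨rfl, ?_⟩
      by_cases h : ∃ l, act l = true ∧ a.e l = false
      · exact Or.inl (h.imp fun l h => ⟨h.1, (c.mxcomm (ok_p ha) ((e_ee a ha l).1.mpr h.2)).symm⟩)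
      · refine Or.inr (Or.inl (congrArg μ (SP.ext (funext fun l => ?_) ha)))
        change a.e l = act l
        cases h1 : act l
        · exact he w a ha hu l h1
        · exact by_contra fun k => h ⟨l, h1, by simpa using k⟩)
    (fun k hk g hg h => by
      obtain ⟨v, a, ha, rfl⟩ := Hk k hk g hg h
      refine ⟨by rintro _ ⟨u, -, rfl⟩; exact ⟨_, trivial, c.act' (ok_p ha) _ _⟩, fun h1 => ?_⟩
      have k1 : ∀ (k : Fin 4) (a : SP), a.p = 1 → a.act (ee k) = ee k → (∀ j, a.act (ee j) - ee j = 0 ∨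
        a.act (ee j) - ee j = ee k ∨ a.act (ee j) - ee j = -ee k) → a = 1 := by decide +kernel
      obtain rfl := k1 k a ha (c.fix_of_comm (ok_p ha) h) fun j => by
        have := (H1.T3.mem_zpowers_three (c.cube _)).mp (h1 _ ⟨ee j, trivial, rfl⟩)
        rw [c.act' (ok_p ha), ← c.sub, ← c.neg, ← c.zero] at this
        exact this.imp c.injective (Or.imp c.injective c.injective)
      exact Or.inl ⟨v, trivial, by rw [c.one, mul_one]⟩)
    (fun y hy y1 g hg h e => by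
      obtain ⟨v, hv, rfl⟩ := (closure_le (sub c (fun v => ∀ k, act k = false → v k = 0)
        (fun _ _ => rfl) (fun u v hu hv k hk => by simp [hu k hk, hv k hk])
        (fun u hu k hk => by simp [hu k hk]))).mpr (by
          rintro _ (rfl | rfl) <;> exact ⟨_, fun j hj => (lx j _).mpr (by
            rintro rfl; simp_all), rfl⟩) hy
      obtain ⟨w, a, ha, rfl⟩ := H' v (fun e => y1 (e ▸ c.zero)) hv g hg h
      exact one_of_57 (nf_ord c (ok_p ha) w) (by norm_num) (by norm_num) e)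
  intro g hg h
  have m := (mL g).mpr ⟨hg, h⟩
  obtain ⟨o, ho, e⟩ := h4 g m
  obtain rfl := c.sig O h3 fun v => h2 (hJ v)
  rw [mem_bot.mp ho, one_mul] at e
  rcases e with e | e
  · exact Hk k hk g m (cj_fix.mp e)
  · refine M1.of_mul c (s := sg k) rfl (Hk k hk _ (mul_mem m (mr k hk)) (cj_fix.mp ?_))
    rw [mul_cj, c.act _ _ (ok_p rfl), (e_ee _ rfl _).2 (decide_eq_true rfl), c.neg, cj_inv, e,
      inv_inv]

theorem F1N (k : Fin 4) : ∀ g ∈ N, Commute g (ξ (ee k)) → M1 ξ μ g := by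
  have w23 : ∀ v : V, v 3 = 0 → F v ≠ 1 → v ≠ 0 → ∀ g ∈ N, Commute g (ξ (ee 3)) → Commute g (ξ v) →
      M1 ξ μ g := fun v h3 h1 h0 => by
    have k : ∀ v : V, v 3 = 0 → F v ≠ 1 → v ≠ 0 → (∃ s : SP, s.ev ∧ s.act (ee 3) = ee 3 ∧
      s.act v = xv 1) ∨ ∃ s : SP, s.ev ∧ s.act (ee 3) = ee 3 ∧ s.act v = vz := by decide +kernel
    exact (k v h3 h1 h0).elim (A.tr c (A.w2 c)) (A.tr c (A.w3 c))
  have w1 : ∀ g ∈ N, Commute g (ξ (ee 3)) → Commute g (ξ (ee 2)) → M1 ξ μ g := fun g hg h3 h2 => by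
    refine A.step c ![true, true, false, false] rfl rfl rfl (fun v h0 h g hg h1 hv => ?_) g hg
      fun k hk => by fin_cases k <;> simp_all
    have k : ∀ v : V, v ≠ 0 → v 2 = 0 → v 3 = 0 → (v + ee 2) 3 = 0 ∧ F (v + ee 2) ≠ 1 ∧
      v + ee 2 ≠ 0 := by decide +kernel
    obtain ⟨k1, k2, k3⟩ := k v h0 (h 2 rfl) (h 3 rfl)
    exact w23 _ k1 k2 k3 g hg (h1 3 rfl) (c.add _ _ ▸ hv.mul_right (h1 2 rfl))
  have w0 : ∀ g ∈ N, Commute g (ξ (ee 3)) → Commute g (ξ (ee 3)) → M1 ξ μ g := fun g hg h3 _ => by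
    refine A.step c ![true, true, true, false] rfl rfl rfl (fun v h0 h g hg h1 hv => ?_) g hg
      fun k hk => by fin_cases k <;> simp_all
    by_cases e : F v = 1
    · have k : ∀ v : V, v 3 = 0 → F v = 1 → ∃ s : SP, s.ev ∧ s.act (ee 3) = ee 3 ∧
        s.act v = ee 2 := by decide +kernel
      exact A.tr c w1 (k v (h 3 rfl) e) g hg (h1 3 rfl) hv
    · exact w23 v (h 3 rfl) e h0 g hg (h1 3 rfl) hv
  have k1 : ∀ k, ∃ s : SP, s.ev ∧ s.act (ee k) = ee 3 ∧ s.act (ee k) = ee 3 := by decide +kernel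
  exact fun g hg h => A.tr c w0 (k1 k) g hg h h

end Cfsg.Agent.H3.O8
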