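import Cfsg.Agent.H3.O8R5
import Cfsg.Agent.H5.O8xEA2

/-!
# The centralizer of the involution in the ambient subgroup
-/

set_option autoImplicit false
set_option maxRecDepth 100000
set_option synthInstance.maxSize 100000

namespace Cfsg.Agent.H3.O8

open Subgroup Cfsg.Agent.H3.L43 Cfsg.Agent.H9 Cfsg.Agent.H1.T3 Cfsg.Agent.H5.O8
  Cfsg.Agent.H6.O8x

theorem act_three : ∀ a : SP, a.p 3 = 3 → ∀ v : V, v 3 = 0 → a.act v 3 = 0 := by decide +kernel

theorem p_three {a : SP} (h : a.p = 1) : a.p 3 = 3 := by rw [h]; rfl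

variable {G : Type*} [Group G] {b : Bool} {ξ : V → G} {μ : SP → G} {i : G}

theorem nf_EE (c : Cfg b ξ μ i) (hE : HE ξ μ i) {v : V} (hv : v 3 = 0) {a : SP} (ha : ok b a)
    (h3 : a.p 3 = 3) {e : G} (he : e ∈ EE ξ μ i) : cj (ξ v * μ a) e ∈ EE ξ μ i := by
  rw [mul_cj]; exact nJ c hE hv (nM c hE ha h3 he)

/-- The expected centralizer of the involution. -/
def M0 (c : Cfg b ξ μ i) (hE : HE ξ μ i) : Subgroup G where
  carrier := {g | ∃ e ∈ EE ξ μ i, ∃ v a, v 3 = 0 ∧ a.p = 1 ∧ g = e * (ξ v * μ a)}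
  one_mem' := ⟨1, one_mem _, 0, 1, rfl, rfl, by rw [c.zero, c.one, one_mul, one_mul]⟩
  mul_mem' := by
    rintro _ _ ⟨e, he, v, a, hv, ha, rfl⟩ ⟨e', he', v', a', hv', ha', rfl⟩
    refine ⟨_, mul_mem he (nf_EE c hE hv (ok_p ha) (p_three ha) he'), v + a.act v', a * a',
      by rw [Pi.add_apply, hv, act_three a (p_three ha) v' hv', add_zero],
      by rw [SP.mul_p, ha, ha', mul_one], ?_⟩
    rw [← c.nf_mul (ok_p ha) (ok_p ha')]
    simp only [cj]; group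
  inv_mem' := by
    rintro _ ⟨e, he, v, a, hv, ha, rfl⟩
    have h1 : a⁻¹.p = 1 := by rw [SP.inv_p, ha, inv_one]
    have h2 := act_three _ (p_three h1) (-v) (by rw [Pi.neg_apply, hv, neg_zero])
    refine ⟨_, nf_EE c hE h2 (ok_p h1) (p_three h1) (inv_mem he), _, _, h2, h1, ?_⟩
    rw [← c.mx (ok_p h1), c.inv (ok_p ha), c.neg]
    simp only [cj]; group

variable (c : Cfg b ξ μ i) (hE : HE ξ μ i)
include c hE

theorem M0_cj {s : SP} (hs : ok b s) (h3 : s.p 3 = 3) {g : G} (h : g ∈ M0 c hE) :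
    cj (μ s) g ∈ M0 c hE := by
  obtain ⟨e, he, v, a, hv, ha, rfl⟩ := h
  exact ⟨_, nM c hE hs h3 he, _, s * a * s⁻¹, act_three s h3 v hv, by
    rw [SP.mul_p, SP.mul_p, SP.inv_p, ha, mul_one, mul_inv_cancel], by
    rw [cj_mul, cj_mul, c.act _ _ hs, c.mcj hs (ok_p ha)]⟩

theorem M0_mu {a : SP} (ha : a.p = 1) : μ a ∈ M0 c hE :=
  ⟨1, one_mem _, 0, a, rfl, ha, by rw [c.zero, one_mul, one_mul]⟩

theorem M0_ord {g : G} (h : g ∈ M0 c hE) : g ^ (1152 * 4) = 1 := by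
  obtain ⟨e, he, v, a, hv, ha, rfl⟩ := h
  have := pow_mod he (fun e he => nf_EE c hE hv (ok_p ha) (p_three ha) he) 1152
  rw [nf_ord c (ok_p ha), inv_one, mul_one] at this
  rw [pow_mul, pow_four c hE this]

theorem M0_of {g : G} (ht : Commute g (μ (sg 3)))
    (h : ∃ e ∈ EE ξ μ i, ∃ v a, a.p = 1 ∧ g = e * ξ v * μ a) : g ∈ M0 c hE := by
  obtain ⟨e, he, v, a, ha, rfl⟩ := h
  exact ⟨e, he, v, a, (c.nf_t (ok_p ha) (by
    simpa [mul_assoc] using (comm_t c hE he).inv_left.mul_left ht)).1, ha, mul_assoc _ _ _⟩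

variable [Finite G] {N : Subgroup G} (A : Amb b ξ μ i N)
include A

theorem M0_cen {v : V} (hv : v 3 = 0) (v0 : v ≠ 0) {g : G} (hg : g ∈ N)
    (ht : Commute g (μ (sg 3))) (h : Commute g (ξ v)) : g ∈ M0 c hE := by
  have k : ∀ v : V, v 3 = 0 → v ≠ 0 → ∃ s : SP, s.ev ∧ s.p 3 = 3 ∧ s⁻¹.p 3 = 3 ∧
    (s.act v = ee 0 ∨ s.act v = vv ∨ s.act v = vz) := by decide +kernel
  obtain ⟨s, hs, s3, s3', e⟩ := k v hv v0
  have o : ok b s := ok_ev hs
  have h1 := A.norm c hs hg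
  have h2 := cj_comm (g := μ s) ht
  rw [cj_fix.mpr (mu_t c o s3)] at h2
  have h3 := cj_comm (g := μ s) h
  rw [c.act _ _ o] at h3
  rw [← inv_cj_cj (μ s) g, ← c.inv o]
  refine M0_cj c hE (ok_inv o) s3' ?_
  generalize cj (μ s) g = g at h1 h2 h3
  rcases e with e | e | e <;> rw [e] at h3
  · obtain ⟨v, a, ha, e⟩ := F1N c A 0 g h1 h3
    exact M0_of c hE h2 ⟨1, one_mem _, v, a, ha, by rw [one_mul, e]⟩
  · exact M0_of c hE h2 ((bN c A (F1N c A)).2 g h1 h2 h3)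
  · obtain ⟨e, he, v, a, ha, v3, a3, -, rfl⟩ := zt_nf c h3 h2
    have k : ∀ a : SP, a.v4 → a.p 3 = 3 → a.p = 1 := by decide +kernel
    exact ⟨e, E1_le c hE he, v, a, v3, k a ((A.mu a ha).mp ((mul_mem_cancel_left (A.J v)).mp
      ((mul_mem_cancel_left (EE_le c A (E1_le c hE he))).mp h1))) a3, rfl⟩

theorem CN : ∀ g ∈ N, Commute g (μ (sg 3)) → g ∈ M0 c hE := by
  let L := N ⊓ centralizer {μ (sg 3)}
  have Lt : ∀ g ∈ L, Commute g (μ (sg 3)) := fun g hg => mem_cent.mp hg.2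
  have hJ : ∀ v : V, v 3 = 0 → ξ v ∈ L := fun v hv => ⟨A.J v, mem_cent.mpr (xi_t c hv)⟩
  have hm : ∀ a : SP, a.p = 1 → μ a ∈ L := fun a ha =>
    ⟨(A.mu _ (ok_p ha)).mpr (sq_p1 a ha).2, mem_cent.mpr (mu_t c (ok_p ha) (p_three ha))⟩
  have hp : ∀ v a, ok b a → ξ v * μ a ∈ L → a.p = 1 := fun v a ha h => by
    have k : ∀ a : SP, a.v4 → a.p 3 = 3 → a.p = 1 := by decide +kernel
    exact k a ((A.mu a ha).mp ((mul_mem_cancel_left (A.J v)).mp h.1)) (c.nf_t ha (Lt _ h)).2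
  have syl := sylJ0 c Lt hJ fun v a ha h => (sq_p1 a (hp v a ha h)).1
  have H : ∀ v : V, v 3 = 0 → v ≠ 0 → ∀ g ∈ L, Commute g (ξ v) → g ∈ M0 c hE :=
    fun v hv v0 g hg => M0_cen c hE A hv v0 hg.1 (Lt g hg)
  have e0 : ∀ k : Fin 3, ee k.castSucc 3 = 0 ∧ ee k.castSucc ≠ 0 := by decide
  have Hk : ∀ k : Fin 3, ∀ g ∈ L, Commute g (ξ (ee k.castSucc)) → ∃ v a, v 3 = 0 ∧ a.p = 1 ∧
      g = ξ v * μ a := fun k g hg h => by
    obtain ⟨v, a, ha, rfl⟩ := F1N c A _ g hg.1 h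
    exact ⟨v, a, (c.nf_t (ok_p ha) (Lt _ hg)).1, ha, rfl⟩
  obtain ⟨k, -, O, h1, h2, h3, h4⟩ := gen2 syl (J0_ab c) (R := μ sr) (hm _ rfl) c.t2 Lt
    (fun k : Fin 3 => ξ (ee k.castSucc)) (fun k => μ (sg k.castSucc))
    (fun k g => co ξ g k.castSucc) (fun _ => True) (k0 := 0) (k1 := 1) (by decide) trivial trivial
    (fun k => ⟨⟨_, (e0 k).1, rfl⟩, c.cube _, c.ne_one (e0 k).2⟩) (by
      rintro k _ ⟨u, -, rfl⟩ _ ⟨v, -, rfl⟩
      rw [← c.add, co_xi c, co_xi c, co_xi c, Pi.add_apply]) (by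
      rintro j _ ⟨v, hv, rfl⟩ g hg h
      obtain ⟨w, a, ha, m, e⟩ := fusJ0 c Lt syl hv hg h
      rw [e, co_xi c, co_xi c, act_p1 (hp w a ha m)]
      cases a.e j.castSucc
      exacts [Or.inl rfl, Or.inr ⟨trivial, rfl⟩]) (by
      rintro k _ ⟨v, hv, rfl⟩ h
      have k1 : ∀ k : Fin 3, ∀ v : V, v 3 = 0 → (∀ j : Fin 3, j ≠ k → v j.castSucc = 0) →
        v = 0 ∨ v = ee k.castSucc ∨ v = -ee k.castSucc := by decide +kernel
      rw [H1.T3.mem_zpowers_three (c.cube _), ← c.neg, ← c.zero]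
      simp only [co_xi c] at h
      exact (k1 k v hv h).imp (congrArg ξ) (Or.imp (congrArg ξ) (congrArg ξ)))
    (fun j k => by rw [co_xi c]; revert j k; decide +kernel) (fun k _ => ⟨hm _ rfl,
      c.msq (ok_p rfl) (sq_p1 _ rfl).1, by
        rw [c.act _ _ (ok_p rfl), (e_ee _ rfl _).2 (decide_eq_true rfl), c.neg],
      fun j hj => (c.mxcomm (ok_p rfl) ((e_ee _ rfl _).1.mpr
        (decide_eq_false fun h => hj (Fin.castSucc_injective _ h)))).symm⟩)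
    (fun l _ h hh e hc => by
      obtain ⟨v, a, hv, ha, rfl⟩ := Hk l h hh hc
      obtain rfl := nf3 c (ok_p ha) (sq_p1 a ha).1 e
      exact ⟨v, hv, by rw [c.one, mul_one]⟩) (by
      rintro u hu u2 _ ⟨v, hv, rfl⟩ e j - h0
      rw [co_xi c] at h0
      have k0 : ∀ v : V, v 3 = 0 → sr.act v = -v := by decide +kernel
      obtain ⟨f, hf, w, a, w3, ha, rfl⟩ := (mul_mem_cancel_right (M0_mu c hE (a := sr) rfl)).mp
        (H v hv (fun e => h0 (e ▸ rfl)) _ (mul_mem hu (hm _ rfl)) (cj_fix.mp (by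
          rw [mul_cj, c.act _ _ (ok_p rfl), k0 v hv, c.neg, cj_inv, e, inv_inv])))
      rw [mul_cj, c.act' (ok_p ha), ← c.neg] at e
      have e1 : -v - a.act v = 0 := xi_mem c hE (by
        rw [c.sub, ← e, show cj f (ξ (a.act v)) * (ξ (a.act v))⁻¹ = f * (cj (ξ (a.act v)) f)⁻¹ by
          simp only [cj]; group]
        exact mul_mem hf (inv_mem (nJ c hE (act_three a (p_three ha) v hv) hf)))
      have e2 := congrFun (sub_eq_zero.mp e1) j.castSucc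
      have kz : ∀ k : ZMod 3, -k = k → k = 0 := by decide
      have e3 : a.e j.castSucc = true := by_contra fun k => h0 (kz _ (by
        rwa [act_p1 ha, if_neg k] at e2))
      have j3 : j.castSucc ≠ 3 := (Fin.castSucc_lt_last j).ne
      obtain ⟨f', hf', u', u3, a', ha', e4, e5⟩ := inv_conj c hE hf w3 ha ⟨_, j3, e3⟩
        (by rw [pow_two, mul_assoc f, u2])
      refine ⟨f' * ξ u', mul_mem ⟨EE_le c A hf', mem_cent.mpr (comm_t c hE hf')⟩ (hJ _ u3), ?_⟩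
      rw [← mul_assoc f, e5, c.act _ _ (ok_p ha'), (e_ee _ ha' _).2 ((e4 _ j3).trans e3), c.neg,
        ← c.mul _ _ (ok_p rfl) (ok_p rfl)]
      have k1 : ∀ a : SP, a.p = 1 → (∃ l : Fin 3, a.act (ee l.castSucc) = ee l.castSucc) ∨ a = sr ∨
        a = sr * sg 3 := by decide +kernel
      exact ⟨rfl, (k1 a' ha').imp (fun ⟨l, h⟩ => ⟨l, trivial, (c.mxcomm (ok_p ha') h).symm⟩)
        (Or.imp (congrArg μ) (congrArg μ))⟩)
    (fun k _ g hg h => by
      obtain ⟨v, a, hv, ha, rfl⟩ := Hk k g hg h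
      refine ⟨nf_J0 c (ok_p ha) (p_three ha) v, fun h1 => ?_⟩
      have k1 : ∀ (k : Fin 3) (a : SP), a.p = 1 → a.act (ee k.castSucc) = ee k.castSucc →
        (∀ j : Fin 3, a.act (ee j.castSucc) - ee j.castSucc = 0 ∨
          a.act (ee j.castSucc) - ee j.castSucc = ee k.castSucc ∨
          a.act (ee j.castSucc) - ee j.castSucc = -ee k.castSucc) → a = 1 ∨ a = sg 3 := by
        decide +kernel
      rcases k1 k a ha (c.fix_of_comm (ok_p ha) h) fun j => by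
        have := (H1.T3.mem_zpowers_three (c.cube _)).mp (h1 _ ⟨_, (e0 j).1, rfl⟩)
        rw [c.act' (ok_p ha), ← c.sub, ← c.neg, ← c.zero] at this
        exact this.imp c.injective (Or.imp c.injective c.injective) with rfl | rfl
      · exact Or.inl ⟨v, hv, by rw [c.one, mul_one]⟩
      · exact Or.inr ⟨v, hv, by rw [mul_assoc, c.t2, mul_one]⟩)
    (fun y hy y1 g hg h e => by
      obtain ⟨v, hv, rfl⟩ := (closure_le (JZ c)).mpr (by
        rintro _ (rfl | rfl) <;> exact ⟨_, rfl, rfl⟩) hy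
      exact one_of_57 (M0_ord c hE (H v hv (fun e => y1 (e ▸ c.zero)) g hg h)) (by norm_num)
        (by norm_num) e)
  have OM : O ≤ M0 c hE := gen_sub c (fun v => v 3 = 0) rfl (fun u v hu hv => by simp [hu, hv])
    (fun u hu => by simp [hu]) (x := ee 0) (y := ee 1) rfl rfl H4.O8.not_cyc h3
    (fun v hv => h2 (hJ v hv)) fun v hv v0 g hg => H v hv v0 g (h1 hg)
  intro g hg h
  have m : g ∈ L := ⟨hg, mem_cent.mpr h⟩
  obtain ⟨o, ho, e⟩ := h4 g m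
  have m1 := mul_mem (h1 ho) m
  refine (mul_mem_cancel_left (OM ho)).mp ?_
  rcases e with e | e
  · exact H _ (e0 k).1 (e0 k).2 _ m1 (cj_fix.mp e)
  · refine (mul_mem_cancel_right (M0_mu c hE (a := sg k.castSucc) rfl)).mp
      (H _ (e0 k).1 (e0 k).2 _ (mul_mem m1 (hm _ rfl)) (cj_fix.mp ?_))
    rw [mul_cj, c.act _ _ (ok_p rfl), (e_ee _ rfl _).2 (decide_eq_true rfl), c.neg, cj_inv, e,
      inv_inv]

omit hE in
theorem amb_iso : Nonempty (N ≃* Cfsg.Omega (ZMod 2) (Cfsg.quadFormPlus 4 (ZMod 2))) := by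
  have hE := (bN c A (F1N c A)).1
  refine endN c hE A fun g hg h => ?_
  obtain ⟨e, he, v, a, -, ha, rfl⟩ := CN c hE A g hg h
  exact ⟨e, he, v, a, ha, (mul_assoc _ _ _).symm⟩

end Cfsg.Agent.H3.O8
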