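import Cfsg.Agent.H3.O8R6
import Cfsg.Agent.H5.O8xW
import Cfsg.Agent.H1.T3More

/-!
# The normal subgroup
-/

set_option autoImplicit false
set_option maxRecDepth 100000
set_option synthInstance.maxSize 100000

namespace Cfsg.Agent.H3.O8

open Subgroup Cfsg.Agent.H3.L43 Cfsg.Agent.H9 Cfsg.Agent.H1.T3 Cfsg.Agent.H5.O8

variable {G : Type*} [Group G] {b : Bool} {ξ : V → G} {μ : SP → G} {i : G} (c : Cfg b ξ μ i)
include c

theorem sign_mem {K : Subgroup G} (h : ∀ k, μ (sg k) ∈ K) {a : SP} (ha : a.p = 1) : μ a ∈ K := by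
  have k : ∀ a : SP, a.p = 1 → a = (if a.e 0 then sg 0 else 1) * (if a.e 1 then sg 1 else 1) *
    ((if a.e 2 then sg 2 else 1) * (if a.e 3 then sg 3 else 1)) := by decide +kernel
  have o : ∀ k, ok b (if a.e k then sg k else 1) := fun k => by split_ifs <;> exact ok_p rfl
  have m : ∀ k, μ (if a.e k then sg k else 1) ∈ K := fun k => by
    split_ifs
    exacts [h k, c.one ▸ one_mem _]
  rw [k a ha, c.mul _ _ (ok_mul (o _) (o _)) (ok_mul (o _) (o _)), c.mul _ _ (o _) (o _),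
    c.mul _ _ (o _) (o _)]
  exact mul_mem (mul_mem (m _) (m _)) (mul_mem (m _) (m _))

theorem fin_of [Finite G] {H : Subgroup G} (hH : Idx2 H ⊤) (hw : b = true → μ sw ∉ H)
    (hi : H.index = 1 ∨ H.index = 2) :
    ∃ N : Subgroup G, N.Normal ∧
      Nonempty (N ≃* Cfsg.Omega (ZMod 2) (Cfsg.quadFormPlus 4 (ZMod 2))) ∧
      Subgroup.centralizer (N : Set G) = ⊥ ∧ (N.index = 3 ∨ N.index = 6) := by
  obtain ⟨N0, h1, h2, -, h4, h5, h6⟩ := c.lam H hH hw
  let N := closure {g | g ∈ H ∧ g * g = 1}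
  have NN : N ≤ N0 := (closure_le _).mpr fun g hg => h6 g hg.1 hg.2
  have inN : ∀ g ∈ H, g * g = 1 → g ∈ N := fun g h1 h2 => subset_closure ⟨h1, h2⟩
  have hN : N.Normal := ⟨fun n hn g => by
    change cj g n ∈ N
    induction hn using closure_induction with
    | mem x hx => exact inN _ ((hH.conj trivial trivial).mpr hx.1) (by rw [← cj_mul, hx.2, cj_one])
    | one => rw [cj_one]; exact one_mem _
    | mul _ _ _ _ h h' => rw [cj_mul]; exact mul_mem h h'
    | inv _ _ h => rw [cj_inv]; exact inv_mem h⟩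
  have ot : ok b st := ok_ev (by decide +kernel)
  have tH : μ st ∈ H := hH.cube trivial (by rw [← c.pow ot, ← c.one]; congr 1; decide +kernel)
  have sH : ∀ a : SP, a.p = 1 → μ a ∈ H := fun a => sign_mem c fun k => by
    have k1 : ∀ k, ∃ s : SP, s.ev ∧ sg k = s * sg 3 * s⁻¹ := by decide +kernel
    obtain ⟨s, hs, e⟩ := k1 k
    rw [e, ← c.mcj (ok_ev hs) (ok_p rfl), ← c.i2]
    exact (hH.conj trivial trivial).mpr (hH.sq trivial)
  have sN : ∀ a : SP, a.p = 1 → μ a ∈ N := fun a ha =>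
    inN _ (sH a ha) (c.msq (ok_p ha) (sq_p1 a ha).1)
  have vN : ∀ a : SP, a.v4 → μ a ∈ N := fun a ha => by
    have k : ∀ a : SP, a.v4 → a = ⟨a.e, 1⟩ * pp a ∧ pp a * pp a = 1 ∧ (pp a * st) ^ 3 = 1 := by
      decide +kernel
    have o : ok b (pp a) := ok_ev ha.1
    rw [(k a ha).1, c.mul _ _ (ok_p rfl) o]
    refine mul_mem (sN _ rfl) (inN _ ((mul_mem_cancel_right tH).mp (hH.cube trivial ?_))
      (c.msq o (k a ha).2.1))
    rw [← c.mul _ _ o ot, ← c.pow (ok_mul o ot), (k a ha).2.2, c.one]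
  have kev : ∀ a : SP, a.ev → ∃ s : SP, s.v4 ∧ (a = s ∨ a = s * st ∨ a = s * (st * st)) := by
    decide +kernel
  have eH : ∀ a : SP, a.ev → μ a ∈ H := fun a ha => by
    obtain ⟨s, hs, e⟩ := kev a ha
    have m := h1 (NN (vN s hs))
    rcases e with rfl | rfl | rfl
    · exact m
    · rw [c.mul _ _ (ok_ev hs.1) ot]; exact mul_mem m tH
    · rw [c.mul _ _ (ok_ev hs.1) (ok_mul ot ot), c.mul _ _ ot ot]; exact mul_mem m (mul_mem tH tH)
  have ng : ∀ v : V, (⟨fun _ => true, 1⟩ : SP).act v = -v := fun _ => rfl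
  have jN : ∀ v, ξ v ∈ N := fun v => (mul_mem_cancel_right (sN ⟨fun _ => true, 1⟩ rfl)).mp
    (inN _ (mul_mem (hH.cube trivial (c.cube v)) (sH _ rfl)) (by
      rw [c.nf_mul (ok_p rfl) (ok_p rfl), ng, add_neg_cancel, c.zero, (sq_p1 _ rfl).1, c.one,
        one_mul]))
  have iN : i ∈ N := by
    have e1 := hH.conj (a := cj (ξ (ee 0)) i) (g := ξ (ee 0)) trivial trivial
    change cj _ _ ∈ _ ↔ _ at e1
    rw [c.ij, hH.mul _ trivial _ trivial] at e1
    refine (mul_mem_cancel_right (sN sr rfl)).mp (inN _ (mul_mem (by tauto) (sH _ rfl)) ?_)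
    rw [mul_assoc, ← mul_assoc (μ sr), cj_eq.mp c.ir, mul_assoc, c.msq (ok_p rfl) (sq_p1 _ rfl).1,
      mul_one, mul_inv_cancel]
  have amb : ∀ K, N ≤ K → K ≤ N0 → μ st ∈ normalizer (K : Set G) → Amb b ξ μ i K :=
    fun K k1 k2 k3 => ⟨fun v => k1 (jN v), fun a ha => ⟨fun h => by
      have ev : a.ev := by
        by_contra h0
        have k : ∀ a : SP, ¬ a.ev → (a⁻¹ * sw).ev := by decide +kernel
        obtain rfl := ha.resolve_right h0
        have := eH _ (k a h0)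
        rw [c.mul _ _ (ok_true _) (ok_true _), c.inv ha] at this
        exact hw rfl ((mul_mem_cancel_left (inv_mem (h1 (k2 h)))).mp this)
      obtain ⟨s, hs, e⟩ := kev a ev
      have m := NN (vN s hs)
      rcases e with rfl | rfl | rfl
      · exact hs
      · rw [c.mul _ _ (ok_ev hs.1) ot] at h
        exact absurd ((mul_mem_cancel_left m).mp (k2 h)) h4
      · rw [c.mul _ _ (ok_ev hs.1) (ok_mul ot ot), show st * st = st⁻¹ by decide +kernel,
          c.inv ot] at h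
        exact absurd (inv_mem_iff.mp ((mul_mem_cancel_left m).mp (k2 h))) h4,
      fun h => k1 (vN a h)⟩, k1 iN, k3⟩
  obtain ⟨f⟩ := amb_iso c (amb N le_rfl NN (by rw [normalizer_eq_top]; trivial))
  obtain ⟨f0⟩ := amb_iso c (amb N0 NN le_rfl (h5 tH))
  have e : N = N0 := eq_of_le_of_card_ge NN (Nat.card_congr (f0.trans f.symm).toEquiv).le
  refine ⟨N, hN, ⟨f⟩, (eq_bot_iff_forall _).mpr fun g hg => ?_, ?_⟩
  · obtain ⟨v, rfl⟩ := c.cJ g fun v => (hg _ (jN v)).symm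
    have := cj_fix.mpr (hg _ (sN ⟨fun _ => true, 1⟩ rfl))
    rw [c.act _ _ (ok_p rfl), ng] at this
    have k : ∀ v : V, -v = v → v = 0 := by decide +kernel
    rw [k v (c.injective this), c.zero]
  · rw [e, ← relIndex_mul_index h1, h2]
    omega

theorem fin_cfg [Finite G] : ∃ N : Subgroup G, N.Normal ∧
    Nonempty (N ≃* Cfsg.Omega (ZMod 2) (Cfsg.quadFormPlus 4 (ZMod 2))) ∧
    Subgroup.centralizer (N : Set G) = ⊥ ∧ (N.index = 3 ∨ N.index = 6) := by
  cases b
  · exact fin_of c (H := ⊤) ⟨le_rfl, fun _ _ _ _ => by simp⟩ (by simp) (Or.inl index_top)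
  · obtain ⟨hE, hb⟩ := bW c fun g h =>
      (H4.O8.F1true c g h).imp fun _ h => h.imp fun _ h => ⟨ok_true _, h⟩
    obtain ⟨H, h1, h2⟩ := idx2 c hE (H4.O8.F1true c) fun g h h' => by
      obtain ⟨e, he, v, a, -, e1⟩ := hb g h h'
      exact ⟨e, he, v, a, e1⟩
    exact fin_of c h1 (fun _ => h2) (Or.inr (by rw [← relIndex_top_right, h1.relIndex trivial h2]))

end Cfsg.Agent.H3.O8
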