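import Cfsg.Agent.H3.PnPhi

set_option autoImplicit false
set_option linter.unusedSectionVars false

namespace Cfsg.Agent.L0.Pn

open Finset

variable {G : Type} [Group G] [Finite G] {Ω : Type} [Fintype Ω] [DecidableEq Ω] [MulAction G Ω]
  {K H : Subgroup G} {O : Finset Ω}

theorem gl_card (P Q : Ω → Prop) [DecidablePred P] [DecidablePred Q] (S : Finset Ω) (h : G)
    (hS : ∀ x, h • x ∈ S ↔ x ∈ S) (hPQ : ∀ x, Q (h • x) ↔ P x) :
    (S.filter Q).card = (S.filter P).card :=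
  (card_bijective (h • ·) (MulAction.bijective h) fun i => by
    simp only [mem_filter, hS, hPQ]).symm

theorem Inv.iff (hO : Inv H O) {h : G} (hh : h ∈ H) (x : Ω) : h • x ∈ O ↔ x ∈ O :=
  ⟨fun e => by simpa using hO _ (H.inv_mem hh) _ e, hO h hh x⟩

/-- an orbital with a doubly transitive suborbit -/
structure GlO (K H : Subgroup G) (O : Finset Ω) (a : Ω) (R : Ω → Ω → Prop) [DecidableRel R]
    (k k' : ℕ) : Prop where
  inv : ∀ h ∈ H, ∀ x y, R x y → R (h • x) (h • y)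
  supp : ∀ x y, R x y → x ∈ O ∧ y ∈ O
  tr : ∀ x y x' y', R x y → R x' y' → ∃ h ∈ H, h • x = x' ∧ h • y = y'
  out : (O.filter fun y => R a y).card = k
  inn : (O.filter fun y => R y a).card = k
  outF : ((fx K O).filter fun y => R a y).card = k'
  two : ∀ y y' z z', R a y → R a y' → R a z → R a z' → y ≠ y' → z ≠ z' →
    ∃ h ∈ H, h • a = a ∧ h • y = z ∧ h • y' = z'

theorem gl_witt (hK : Pro K) (hKH : K ≤ H) (hO : Orb H O) {a x : Ω} (ha : a ∈ fx K O)
    (hx : x ∈ fx K O) : ∃ m ∈ H, m • a = x ∧ ∀ y, m • y ∈ fx K O ↔ y ∈ fx K O := by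
  rw [mem_fx] at ha hx
  obtain ⟨g, hg, e⟩ := hO.tr a ha.1 x hx.1
  obtain ⟨m, hm, e1, e2⟩ := witt (D := {a}) hK hKH hg (by simpa using ha.2) (by simpa [e] using hx.2)
  exact ⟨m, hm, by rw [e2 a (mem_singleton_self a), e], fun y => by
    rw [mem_fx, mem_fx, e1, hO.inv.iff hm]⟩

namespace GlO

variable {a : Ω} {R : Ω → Ω → Prop} [DecidableRel R] {k k' : ℕ}

theorem iff (c : GlO K H O a R k k') {h : G} (hh : h ∈ H) (x y : Ω) : R (h • x) (h • y) ↔ R x y :=
  ⟨fun e => by simpa using c.inv _ (H.inv_mem hh) _ _ e, c.inv h hh x y⟩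

theorem out' (c : GlO K H O a R k k') (hO : Orb H O) (ha : a ∈ O) {x : Ω} (hx : x ∈ O) :
    (O.filter fun y => R x y).card = k := by
  obtain ⟨g, hg, rfl⟩ := hO.tr a ha x hx
  rw [← c.out]
  exact gl_card _ _ O g (hO.inv.iff hg) (c.iff hg a)

theorem inn' (c : GlO K H O a R k k') (hO : Orb H O) (ha : a ∈ O) {x : Ω} (hx : x ∈ O) :
    (O.filter fun y => R y x).card = k := by
  obtain ⟨g, hg, rfl⟩ := hO.tr a ha x hx
  rw [← c.inn]
  exact gl_card _ _ O g (hO.inv.iff hg) fun y => c.iff hg y a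

theorem lam (c : GlO K H O a R k k') (hO : Orb H O) (ha : a ∈ O) {w y y' v z z' : Ω} (h1 : R w y)
    (h2 : R w y') (h3 : R v z) (h4 : R v z') (n1 : y ≠ y') (n2 : z ≠ z') :
    ∃ h ∈ H, h • y = z ∧ h • y' = z' := by
  obtain ⟨g, hg, e⟩ := hO.tr w (c.supp _ _ h1).1 a ha
  obtain ⟨g', hg', e'⟩ := hO.tr v (c.supp _ _ h3).1 a ha
  obtain ⟨t, ht, -, e1, e2⟩ := c.two (g • y) (g • y') (g' • z) (g' • z') (e ▸ c.inv g hg _ _ h1)
    (e ▸ c.inv g hg _ _ h2) (e' ▸ c.inv g' hg' _ _ h3) (e' ▸ c.inv g' hg' _ _ h4)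
    (fun h => n1 (smul_left_cancel g h)) (fun h => n2 (smul_left_cancel g' h))
  exact ⟨g'⁻¹ * t * g, H.mul_mem (H.mul_mem (H.inv_mem hg') ht) hg,
    by rw [mul_smul, mul_smul, e1, inv_smul_smul], by rw [mul_smul, mul_smul, e2, inv_smul_smul]⟩

theorem mu (c : GlO K H O a R k k') (hO : Orb H O) (ha : a ∈ O) {w y y' v z z' : Ω} (h1 : R w y)
    (h2 : R w y') (h3 : R v z) (h4 : R v z') (n1 : y ≠ y') (n2 : z ≠ z') :
    (O.filter fun x => R x z ∧ R x z').card = (O.filter fun x => R x y ∧ R x y').card := by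
  obtain ⟨g, hg, rfl, rfl⟩ := c.lam hO ha h1 h2 h3 h4 n1 n2
  exact gl_card _ _ O g (hO.inv.iff hg) fun x => by rw [c.iff hg, c.iff hg]

theorem ex (c : GlO K H O a R k k') (hO : Orb H O) (ha : a ∈ O) (hk : 2 ≤ k) :
    ∃ w y, R w a ∧ R w y ∧ a ≠ y := by
  obtain ⟨w, hw⟩ : (O.filter fun y => R y a).Nonempty := card_pos.1 (by rw [c.inn]; omega)
  rw [mem_filter] at hw
  obtain ⟨y, hy, hne⟩ := exists_mem_ne (by rw [c.out' hO ha hw.1]; omega :
    1 < (O.filter fun y => R w y).card) a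
  exact ⟨w, y, hw.2, (mem_filter.1 hy).2, hne.symm⟩

theorem main (c : GlO K H O a R k k') (hK : Pro K) (hKH : K ≤ H) (hO : Orb H O) (ha : a ∈ fx K O)
    (hk : k = 2 * k' + 1) (hk' : 1 ≤ k')
    (h4 : ∀ x ∈ O, x ≠ a → del K (orb (fixS H {a}) x) ≤ 4)
    (hμ : ∀ x x' w y y', x ≠ x' → y ≠ y' → R w y → R w y' →
      (O.filter fun z => R x z ∧ R x' z).card ≤ (O.filter fun z => R z y ∧ R z y').card) :
    ∃ c ∈ O, c ≠ a ∧ 2 ≤ (orb (fixS H {a}) c).card ∧ k ≤ (orb (fixS H {a}) c).card + 1 ∧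
      Blk H (insert a (orb (fixS H {a}) c)) := by
  classical
  have haO := (mem_fx.1 ha).1
  obtain ⟨w, b, w1, w2, hab⟩ := c.ex hO haO (by omega)
  set L : Ω → Ω → Prop := fun y z => y ≠ z ∧ ∃ v, R v y ∧ R v z with hL
  have Linv : ∀ h ∈ H, ∀ y z, L (h • y) (h • z) ↔ L y z := fun h hh y z =>
    ⟨fun ⟨n, v, v1, v2⟩ => ⟨fun e => n (e ▸ rfl), h⁻¹ • v, by
        simpa using c.inv _ (H.inv_mem hh) _ _ v1, by simpa using c.inv _ (H.inv_mem hh) _ _ v2⟩,
      fun ⟨n, v, v1, v2⟩ => ⟨fun e => n (smul_left_cancel h e), h • v, c.inv h hh _ _ v1,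
        c.inv h hh _ _ v2⟩⟩
  have horb : ∀ y, y ∈ orb (fixS H {a}) b ↔ L a y := fun y => by
    rw [mem_orb]
    constructor
    · rintro ⟨h, hh, rfl⟩
      have := (Linv h hh.1 a b).2 ⟨hab, w, w1, w2⟩
      rwa [hh.2 a (mem_singleton_self a)] at this
    · rintro ⟨n, v, v1, v2⟩
      obtain ⟨h, hh, e1, e2⟩ := c.lam hO haO w1 w2 v1 v2 hab n
      exact ⟨h, ⟨hh, by simpa using e1⟩, e2⟩
  set μ := (O.filter fun x => R x a ∧ R x b).card with hμ0
  have cnt : ∀ y z, y ≠ z → (O.filter fun x => R x y ∧ R x z).card = if L y z then μ else 0 :=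
    fun y z n => by
      split_ifs with h
      · obtain ⟨-, v, v1, v2⟩ := h
        exact c.mu hO haO w1 w2 v1 v2 hab n
      · exact card_eq_zero.2 (filter_eq_empty_iff.2 fun x _ hx => h ⟨n, x, hx⟩)
  have csum : ∀ (S : Finset Ω) y, ∑ z ∈ S.erase y, (O.filter fun x => R x y ∧ R x z).card =
      (S.filter fun z => L y z).card * μ := fun S y => by
    rw [sum_congr rfl fun z hz => cnt y z (ne_of_mem_erase hz).symm, ← sum_filter, sum_const,
      smul_eq_mul]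
    congr 2
    ext z
    simp only [mem_filter, mem_erase]
    exact ⟨fun h => ⟨h.1.2, h.2⟩, fun h => ⟨⟨h.2.1.symm, h.1⟩, h.2⟩⟩
  set l := (orb (fixS H {a}) b).card with hl
  set l' := (fx K (orb (fixS H {a}) b)).card with hl'
  have e1 : (O.filter fun z => L a z) = orb (fixS H {a}) b := by
    ext z
    rw [mem_filter, horb]
    exact ⟨fun h => h.2, fun h => ⟨(c.supp _ _ h.2.choose_spec.2).2, h⟩⟩
  have e2 : ((fx K O).filter fun z => L a z) = fx K (orb (fixS H {a}) b) := by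
    ext z
    rw [mem_filter, mem_fx, mem_fx, horb]
    exact ⟨fun h => ⟨h.2, h.1.2⟩, fun h => ⟨⟨(c.supp _ _ h.1.2.choose_spec.2).2, h.2⟩, h.1⟩⟩
  have s1 : l * μ + k = k * k := by
    have := csum O a
    rw [e1] at this
    have t1 : (O.filter fun x => R x a ∧ R x a).card = k := by rw [← c.inn]; simp only [and_self]
    rw [← this, ← t1, add_comm, add_sum_erase O (fun z => (O.filter fun x => R x a ∧ R x z).card) haO,
      ← phi_swap (fun x z => R x a ∧ R x z) O O, t1, ← c.inn, card_filter, sum_mul]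
    refine sum_congr rfl fun x hx => ?_
    by_cases h : R x a
    · simp only [h, true_and, if_true, one_mul]
      rw [c.out' hO haO hx, ← card_filter, c.inn]
    · simp [h]
  have m1 : μ ≤ k := by
    rw [← c.inn]
    exact card_le_card fun x hx => by
      rw [mem_filter] at hx ⊢
      exact ⟨hx.1, hx.2.1⟩
  have hd : (l : ℤ) - 2 * l' ≤ 4 := h4 b (c.supp _ _ w2).2 hab.symm
  have hphi := phi R (fx K O) (fx_subset K O) ⟨a, ha⟩ (k := k) (k' := k') (W := l' * μ) (M := μ)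
    (fun y hy => c.inn' hO haO (fx_subset K O hy))
    (fun x hx => by
      obtain ⟨m, hm, rfl, e⟩ := gl_witt hK hKH hO ha hx
      rw [← c.outF]
      exact gl_card _ _ _ m e (c.iff hm a))
    (fun x hx => by
      rw [mem_sdiff, mem_fx] at hx
      obtain ⟨g, hg, n⟩ : ∃ g ∈ K, g • x ≠ x := by
        by_contra h
        push Not at h
        exact hx.2 ⟨hx.1, h⟩
      refine le_trans (card_le_card fun y hy => ?_) (hμ x (g • x) w a b n.symm hab w1 w2)
      rw [mem_filter, mem_fx] at hy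
      have := c.inv g (hKH hg) _ _ hy.2
      rw [hy.1.2 g hg] at this
      exact mem_filter.2 ⟨hy.1.1, hy.2, this⟩)
    (fun y hy => by
      obtain ⟨m, hm, rfl, e⟩ := gl_witt hK hKH hO ha hy
      rw [csum, hl', ← e2]
      congr 1
      exact gl_card _ _ _ m e (Linv m hm a))
  have m2 : k < 2 * μ := by
    by_contra h
    have h : μ ≤ k' := by omega
    subst hk
    zify at s1 h hk'
    push_cast at hphi
    have p0 : (0 : ℤ) ≤ μ := by positivity
    nlinarith [mul_le_mul_of_nonneg_right hd p0]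
  have m3 : k ≤ l + 1 := by
    by_contra h
    have h : l + 2 ≤ k := by omega
    nlinarith
  have Ltr : ∀ y y1 y2, L y y1 → L y y2 → y1 = y2 ∨ L y1 y2 := fun y y1 y2 a1 a2 => by
    by_contra h
    push Not at h
    have hy : y ∈ O := (c.supp _ _ a1.2.choose_spec.1).2
    have c1 := cnt y y1 a1.1
    have c2 := cnt y y2 a2.1
    rw [if_pos a1] at c1
    rw [if_pos a2] at c2
    have := card_le_card (show (O.filter fun x => R x y ∧ R x y1) ∪ (O.filter fun x => R x y ∧ R x y2) ⊆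
      O.filter fun x => R x y from fun x hx => by
        simp only [mem_union, mem_filter] at hx ⊢
        tauto)
    rw [card_union_of_disjoint (disjoint_left.2 fun x h1 h2 => h.2 ⟨h.1, x, (mem_filter.1 h1).2.2,
      (mem_filter.1 h2).2.2⟩), c1, c2, c.inn' hO haO hy] at this
    omega
  have Lsy : ∀ y z, L y z → L z y := fun y z ⟨n, v, v1, v2⟩ => ⟨n.symm, v, v2, v1⟩
  have Etr : ∀ y y1 y2, (y1 = y ∨ L y y1) → (y2 = y ∨ L y y2) → y2 = y1 ∨ L y1 y2 := by
    rintro y y1 y2 (rfl | a1) (rfl | a2)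
    · exact .inl rfl
    · exact .inr a2
    · exact .inr (Lsy _ _ a1)
    · exact (Ltr _ _ _ a1 a2).imp_left Eq.symm
  refine ⟨b, (c.supp _ _ w2).2, hab.symm, by omega, m3, fun h hh x hx hx' y hy => ?_⟩
  simp only [mem_insert, horb] at hx hx' hy ⊢
  have t1 : h • y = h • x ∨ L (h • x) (h • y) :=
    (Etr _ _ _ hx hy).imp (congrArg _) (Linv h hh x y).2
  exact Etr (h • x) a (h • y) (hx'.imp Eq.symm (Lsy _ _)) t1

end GlO

theorem gl_two {L : Subgroup G} {U : Finset Ω} (h : TrK L U 2) {y y' z z' : Ω} (h1 : y ∈ U) (h2 : y' ∈ U)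
    (h3 : z ∈ U) (h4 : z' ∈ U) (n1 : y ≠ y') (n2 : z ≠ z') : ∃ h ∈ L, h • y = z ∧ h • y' = z' := by
  obtain ⟨g, hg, e⟩ := h {y, y'} (fun x => if x = y then z else z')
    (by simp [insert_subset_iff, h1, h2]) card_le_two
    (by
      intro u hu v hv e
      simp only [coe_insert, coe_singleton, Set.mem_insert_iff, Set.mem_singleton_iff] at hu hv
      rcases hu with rfl | rfl <;> rcases hv with rfl | rfl <;> simp_all [eq_comm])
    (fun d _ => by split_ifs <;> assumption)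
  exact ⟨g, hg, by simpa using e y (by simp), by simpa [n1.symm] using e y' (by simp)⟩

/-- GL -/
theorem glem (hK : Pro K) (hKH : K ≤ H) (hO : Orb H O) {a b : Ω} (ha : a ∈ fx K O) (hb : b ∈ O)
    (hba : b ≠ a) (h1 : del K (orb (fixS H {a}) b) = 1)
    (hE : ∀ x ∈ O, x ≠ a → del K (orb (fixS H {a}) x) = 1 → TrK (fixS H {a}) (orb (fixS H {a}) x) 2)
    (h4 : ∀ x ∈ O, x ≠ a → del K (orb (fixS H {a}) x) ≤ 4) :
    3 ≤ (orb (fixS H {a}) b).card ∧ ∃ c ∈ O, c ≠ a ∧ 2 ≤ (orb (fixS H {a}) c).card ∧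
      (orb (fixS H {a}) b).card ≤ (orb (fixS H {a}) c).card + 1 ∧
      Blk H (insert a (orb (fixS H {a}) c)) := by
  classical
  have haO := (mem_fx.1 ha).1
  set k := (orb (fixS H {a}) b).card with hk
  set k' := (fx K (orb (fixS H {a}) b)).card with hk'
  have e0 : k = 2 * k' + 1 := by unfold del at h1; omega
  have e1 : 1 ≤ k' := by
    by_contra h
    have hKa : K ≤ fixS H {a} := le_fixS hKH (by simpa using (mem_fx.1 ha).2)
    have : b ∈ fx K (orb (fixS H {a}) b) := mem_fx.2 ⟨self_mem_orb _ _, fun g hg =>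
      card_le_one.1 (by omega : k ≤ 1) _ (mem_orb.2 ⟨g, hKa hg, rfl⟩) _ (self_mem_orb _ _)⟩
    have := card_pos.2 ⟨b, this⟩
    omega
  refine ⟨by omega, ?_⟩
  set R : Ω → Ω → Prop := fun x y => ∃ h ∈ H, h • a = x ∧ h • b = y with hR
  have inv : ∀ h ∈ H, ∀ x y, R x y → R (h • x) (h • y) := by
    rintro h hh _ _ ⟨g, hg, rfl, rfl⟩
    exact ⟨h * g, H.mul_mem hh hg, mul_smul _ _ _, mul_smul _ _ _⟩
  have iff : ∀ h ∈ H, ∀ x y, R (h • x) (h • y) ↔ R x y := fun h hh x y =>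
    ⟨fun e => by simpa using inv _ (H.inv_mem hh) _ _ e, inv h hh x y⟩
  have supp : ∀ x y, R x y → x ∈ O ∧ y ∈ O := by
    rintro _ _ ⟨g, hg, rfl, rfl⟩
    exact ⟨hO.inv g hg a haO, hO.inv g hg b hb⟩
  have tr : ∀ x y x' y', R x y → R x' y' → ∃ h ∈ H, h • x = x' ∧ h • y = y' := by
    rintro _ _ _ _ ⟨g, hg, rfl, rfl⟩ ⟨h, hh, rfl, rfl⟩
    exact ⟨h * g⁻¹, H.mul_mem hh (H.inv_mem hg), by rw [mul_smul, inv_smul_smul],
      by rw [mul_smul, inv_smul_smul]⟩
  have o1 : ∀ y, y ∈ orb (fixS H {a}) b ↔ R a y := fun y => by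
    simp only [mem_orb, mem_fixS, mem_singleton, forall_eq, hR, and_assoc]
  obtain ⟨m, hm, em⟩ := hO.tr a haO b hb
  have r1 : R (m⁻¹ • a) a := ⟨m⁻¹, H.inv_mem hm, rfl, by rw [← em, inv_smul_smul]⟩
  have o2 : ∀ y, y ∈ orb (fixS H {a}) (m⁻¹ • a) ↔ R y a := fun y => by
    rw [mem_orb]
    constructor
    · rintro ⟨h, hh, rfl⟩
      have := inv h hh.1 _ _ r1
      rwa [hh.2 a (mem_singleton_self a)] at this
    · intro h
      obtain ⟨g, hg, e1, e2⟩ := tr _ _ _ _ r1 h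
      exact ⟨g, ⟨hg, by simpa using e2⟩, e1⟩
  have out : (O.filter fun y => R a y).card = k := by
    rw [hk]; congr 1; ext y
    rw [mem_filter, o1]
    exact ⟨fun h => h.2, fun h => ⟨(supp _ _ h).2, h⟩⟩
  have outF : ((fx K O).filter fun y => R a y).card = k' := by
    rw [hk']; congr 1; ext y
    rw [mem_filter, mem_fx, mem_fx, o1]
    exact ⟨fun h => ⟨h.2, h.1.2⟩, fun h => ⟨⟨(supp _ _ h.1).2, h.2⟩, h.1⟩⟩
  have inn : (O.filter fun y => R y a).card = k := by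
    have := phi_swap R O O
    rw [sum_const_nat (m := k), sum_const_nat (m := (O.filter fun y => R y a).card)] at this
    · exact (Nat.eq_of_mul_eq_mul_left (card_pos.2 ⟨a, haO⟩) this).symm
    · intro x hx
      obtain ⟨g, hg, rfl⟩ := hO.tr a haO x hx
      exact gl_card _ _ O g (hO.inv.iff hg) fun y => iff g hg y a
    · intro x hx
      obtain ⟨g, hg, rfl⟩ := hO.tr a haO x hx
      rw [← out]
      exact gl_card _ _ O g (hO.inv.iff hg) (iff g hg a)
  have innF : ((fx K O).filter fun y => R y a).card = k' := by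
    have := phi_swap R (fx K O) (fx K O)
    rw [sum_const_nat (m := k'), sum_const_nat (m := ((fx K O).filter fun y => R y a).card)] at this
    · exact (Nat.eq_of_mul_eq_mul_left (card_pos.2 ⟨a, ha⟩) this).symm
    · intro x hx
      obtain ⟨g, hg, rfl, e⟩ := gl_witt hK hKH hO ha hx
      exact gl_card _ _ _ g e fun y => iff g hg y a
    · intro x hx
      obtain ⟨g, hg, rfl, e⟩ := gl_witt hK hKH hO ha hx
      rw [← outF]
      exact gl_card _ _ _ g e (iff g hg a)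
  have d2 : del K (orb (fixS H {a}) (m⁻¹ • a)) = 1 := by
    have a1 : orb (fixS H {a}) (m⁻¹ • a) = O.filter fun y => R y a := by
      ext y
      rw [mem_filter, o2]
      exact ⟨fun h => ⟨(supp _ _ h).1, h⟩, fun h => h.2⟩
    have a2 : fx K (orb (fixS H {a}) (m⁻¹ • a)) = (fx K O).filter fun y => R y a := by
      ext y
      rw [mem_filter, mem_fx, mem_fx, o2]
      exact ⟨fun h => ⟨⟨(supp _ _ h.1).1, h.2⟩, h.1⟩, fun h => ⟨h.2, h.1.2⟩⟩
    unfold del
    rw [a2, a1, inn, innF]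
    omega
  have t1 := hE b hb hba h1
  have t2 := hE _ (supp _ _ r1).1 (fun e => hba (by rw [← em]; exact (inv_smul_eq_iff.1 e).symm)) d2
  have c1 : GlO K H O a R k k' := ⟨inv, supp, tr, out, inn, outF, fun y y' z z' a1 a2 a3 a4 n1 n2 => by
    obtain ⟨h, hh, e⟩ := gl_two t1 ((o1 _).2 a1) ((o1 _).2 a2) ((o1 _).2 a3) ((o1 _).2 a4) n1 n2
    exact ⟨h, hh.1, hh.2 a (mem_singleton_self a), e⟩⟩
  have c2 : GlO K H O a (fun x y => R y x) k k' := ⟨fun h hh x y => inv h hh y x,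
    fun x y h => (supp _ _ h).symm, fun x y x' y' h h' => (tr _ _ _ _ h h').imp fun g hg =>
      ⟨hg.1, hg.2.symm⟩, inn, out, innF, fun y y' z z' a1 a2 a3 a4 n1 n2 => by
    obtain ⟨h, hh, e⟩ := gl_two t2 ((o2 _).2 a1) ((o2 _).2 a2) ((o2 _).2 a3) ((o2 _).2 a4) n1 n2
    exact ⟨h, hh.1, hh.2 a (mem_singleton_self a), e⟩⟩
  obtain ⟨w, y0, w1, w2, n1⟩ := c1.ex hO haO (by omega)
  obtain ⟨v, x0, v1, v2, n2⟩ := c2.ex hO haO (by omega)
  rcases le_total (O.filter fun z => R a z ∧ R x0 z).card (O.filter fun z => R z a ∧ R z y0).card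
    with h | h
  · refine c1.main hK hKH hO ha e0 e1 h4 fun x x' u y y' a1 a2 a3 a4 => ?_
    rw [c1.mu hO haO w1 w2 a3 a4 n1 a2]
    rcases (O.filter fun z => R x z ∧ R x' z).eq_empty_or_nonempty with e | ⟨z, hz⟩
    · simp [e]
    · rw [mem_filter] at hz
      exact (c2.mu hO haO v1 v2 hz.2.1 hz.2.2 n2 a1).trans_le h
  · refine c2.main hK hKH hO ha e0 e1 h4 fun x x' u y y' a1 a2 a3 a4 => ?_
    rw [c2.mu hO haO v1 v2 a3 a4 n2 a2]
    rcases (O.filter fun z => R z x ∧ R z x').eq_empty_or_nonempty with e | ⟨z, hz⟩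
    · simp [e]
    · rw [mem_filter] at hz
      exact (c1.mu hO haO w1 w2 hz.2.1 hz.2.2 n1 a1).trans_le h

end Cfsg.Agent.L0.Pn
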