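import Cfsg.Agent.L0.PnA

set_option autoImplicit false
set_option linter.unusedSectionVars false

namespace Cfsg.Agent.L0.Pn

open Finset

variable {Ω : Type} [Fintype Ω] [DecidableEq Ω] {O : Finset Ω}

/-- double counting of a relation between two finite sets -/
theorem phi_swap (R : Ω → Ω → Prop) [DecidableRel R] (A B : Finset Ω) :
    ∑ x ∈ A, (B.filter fun y => R x y).card = ∑ y ∈ B, (A.filter fun x => R x y).card := by
  simp only [card_filter]
  exact sum_comm

theorem phi_pair (R : Ω → Ω → Prop) [DecidableRel R] (F : Finset Ω) (x : Ω) :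
    ∑ y ∈ F, ∑ z ∈ F.erase y, (if R x y ∧ R x z then (1 : ℤ) else 0) =
      ((F.filter fun y => R x y).card : ℤ) * (((F.filter fun y => R x y).card : ℤ) - 1) := by
  have e : ((F.filter fun y => R x y).card : ℤ) = ∑ y ∈ F, if R x y then (1 : ℤ) else 0 := by
    rw [card_filter]; push_cast; rfl
  conv_rhs => rw [e, sum_mul, ← e]
  refine sum_congr rfl fun y hy => ?_
  by_cases h : R x y
  · simp only [h, true_and, if_true, one_mul]
    rw [e, ← add_sum_erase F _ hy, if_pos h]; ring
  · simp [h]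

/-- PHI (double counting) -/
theorem phi (R : Ω → Ω → Prop) [DecidableRel R] (F : Finset Ω) (hF : F ⊆ O) (hne : F.Nonempty)
    {k k' W M : ℕ} (hk : ∀ y ∈ F, (O.filter fun x => R x y).card = k)
    (hk' : ∀ x ∈ F, (F.filter fun y => R x y).card = k')
    (hM : ∀ x ∈ O \ F, (F.filter fun y => R x y).card ≤ M)
    (hW : ∀ y ∈ F, ∑ z ∈ F.erase y, (O.filter fun x => R x y ∧ R x z).card = W) :
    (W : ℤ) - k' * (k' - 1) ≤ (M - 1) * (k - k') := by
  set φ : Ω → ℤ := fun x => ((F.filter fun y => R x y).card : ℤ) with hφ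
  have s1 : ∑ x ∈ O, φ x = F.card * k := by
    have := phi_swap R O F
    rw [sum_const_nat hk] at this
    simp only [hφ]
    exact_mod_cast this
  have s2 : ∑ x ∈ O, φ x * (φ x - 1) = F.card * W := by
    have h1 : ∑ y ∈ F, ∑ z ∈ F.erase y, (O.filter fun x => R x y ∧ R x z).card = F.card * W :=
      sum_const_nat hW
    have h2 : ((F.card * W : ℕ) : ℤ) =
        ∑ y ∈ F, ∑ z ∈ F.erase y, ∑ x ∈ O, (if R x y ∧ R x z then (1 : ℤ) else 0) := by
      rw [← h1]; simp only [card_filter]; push_cast; rfl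
    rw [← Nat.cast_mul, h2, ← sum_congr rfl fun x _ => phi_pair R F x, sum_comm]
    exact sum_congr rfl fun y _ => sum_comm
  have t1 : ∑ x ∈ F, φ x = F.card * k' := by
    rw [sum_congr rfl fun x hx => (show φ x = k' by simp only [hφ, hk' x hx])]; simp
  have t2 : ∑ x ∈ F, φ x * (φ x - 1) = F.card * (k' * (k' - 1)) := by
    rw [sum_congr rfl fun x hx => (show φ x * (φ x - 1) = k' * (k' - 1) by simp only [hφ, hk' x hx])]
    simp
  rw [← sum_sdiff hF, t1] at s1
  rw [← sum_sdiff hF, t2] at s2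
  have h3 : ∑ x ∈ O \ F, φ x * (φ x - 1) ≤ (M - 1) * ∑ x ∈ O \ F, φ x := by
    rw [mul_sum]
    refine sum_le_sum fun x hx => ?_
    have a1 : φ x ≤ M := by simp only [hφ]; exact_mod_cast hM x hx
    have a2 : 0 ≤ φ x := by simp only [hφ]; positivity
    nlinarith
  have h4 : (0 : ℤ) < F.card := by exact_mod_cast card_pos.2 hne
  have h5 : ∑ x ∈ O \ F, φ x = F.card * (k - k') := by linarith
  rw [h5] at h3
  refine le_of_mul_le_mul_left ?_ h4
  nlinarith

end Cfsg.Agent.L0.Pn
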