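import Cfsg.Agent.L0.U3Def
import Cfsg.Agent.L0.SE1
import Cfsg.Agent.H9.O11Case
import Cfsg.Agent.H9.FxRank2
import Cfsg.Agent.H4.Nse

/-! S3645: the special elements are partitioned by the Sylow subgroups. -/

set_option autoImplicit false
set_option linter.unusedSectionVars false

namespace Cfsg.Agent.L0.U3

open Subgroup MulAction Cfsg.Agent.H7 Cfsg.Agent.Fx4
open MulAut (conj)
open scoped Pointwise

variable {G : Type*} [Group G] {q c p r : ℕ} {h : UB G q c p} {Q R S : Subgroup G} {g u z : G}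

theorem UB.a_conj (h : UB G q c p) (g x : G) : h.a (g * x * g⁻¹) = h.a x := by
  have := H3.char_isClassFunction (H3.irr_isCharacter h.α.2) x g
  rw [h.ha, h.ha] at this
  exact_mod_cast this

/-- the special elements of a subgroup -/
def UB.Bl (h : UB G q c p) (R : Subgroup G) : Set G := {u | u ∈ R ∧ u ≠ 1 ∧ h.a u = -q}

/-- the special elements -/
def UB.ZZ (h : UB G q c p) : Set G := {u | u ∈ h.U ∧ h.a u = -q}

theorem UB.U_conj (h : UB G q c p) (g : G) (hu : u ∈ h.U) : g * u * g⁻¹ ∈ h.U := by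
  rw [h.memU] at hu ⊢
  exact ⟨by simpa using hu.1, by rw [conj_pow, hu.2]; simp⟩

theorem UB.Z_conj (h : UB G q c p) (g : G) (hu : u ∈ h.ZZ) : g * u * g⁻¹ ∈ h.ZZ :=
  ⟨h.U_conj g hu.1, (h.a_conj g u).trans hu.2⟩

theorem UB.bl_conj (h : UB G q c p) (g : G) : g * u * g⁻¹ ∈ h.Bl (conj g • R) ↔ u ∈ h.Bl R := by
  simp only [UB.Bl, Set.mem_ofPred_eq, conj_mem_conj_smul, h.a_conj, ne_eq, conj_eq_one_iff]

theorem UB.bl_of_conj (h : UB G q c p) (hu : u ∈ h.Bl R) (hg : g * u * g⁻¹ ∈ S) :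
    g * u * g⁻¹ ∈ h.Bl S := ⟨hg, by simpa using hu.2.1, (h.a_conj g u).trans hu.2.2⟩

theorem Par.facts (hP : Par q c p r) : r.Prime ∧ (∃ k, q ^ 3 = r ^ k) ∧ ¬ r ∣ c * p ∧
    ¬ r ∣ q - 1 ∧ 7 ≤ q ∧ (∀ d, d ∣ q ^ 3 → d < q ^ 2 → d * (q + 1) ≤ 288) ∧
    c + q = q ^ 3 - 1 + q * q := by
  have k : ∀ q ∈ [7, 8, 9], ∀ d < 81, q ^ 3 % d = 0 → d < q ^ 2 → d * (q + 1) ≤ 288 := by decide
  rcases hP with ⟨rfl, rfl, rfl, rfl⟩ | ⟨rfl, rfl, rfl, rfl⟩ | ⟨rfl, rfl, rfl, rfl⟩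
  · exact ⟨by norm_num, ⟨3, rfl⟩, by norm_num, by norm_num, by norm_num,
      fun d h1 h2 => k 7 (by simp) d (by omega) (Nat.mod_eq_zero_of_dvd h1) h2, rfl⟩
  · exact ⟨by norm_num, ⟨9, rfl⟩, by norm_num, by norm_num, by norm_num,
      fun d h1 h2 => k 8 (by simp) d (by omega) (Nat.mod_eq_zero_of_dvd h1) h2, rfl⟩
  · exact ⟨by norm_num, ⟨6, rfl⟩, by norm_num, by norm_num, by norm_num,
      fun d h1 h2 => k 9 (by simp) d (by omega) (Nat.mod_eq_zero_of_dvd h1) h2, rfl⟩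

variable [Finite G]

theorem card_mul_le' {A A' B : Subgroup G} (h : A ≤ B) (h' : A' ≤ B) :
    Nat.card A * Nat.card A' ≤ Nat.card (A ⊓ A' : Subgroup G) * Nat.card B := by
  rw [← card_mul_relIndex h, ← card_inf_mul_relIndex A A', mul_left_comm]
  exact Nat.mul_le_mul_left _ (Nat.mul_le_mul_left _
    (relIndex_le_of_le_right h' (relIndex_pos' _ _).ne'))

theorem card_le_cls (z : G) {T : Set G} (h : ∀ g : G, g * z * g⁻¹ ∈ T) :
    Nat.card G ≤ Nat.card C₁[z] * T.ncard := by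
  simpa using card_le_cent_mul ⊤ z fun g _ => h g

theorem UB.le_norm (h : UB G q c p) : N[R] ≤ normalizer (h.Bl R) := fun _ hg =>
  mem_normalizer_fintype fun _ hu => h.bl_of_conj hu (conj_mem_of_norm hg hu.1)

/-- the setting -/
structure TC (h : UB G q c p) (r : ℕ) (Q : Subgroup G) : Prop where
  par : Par q c p r
  za : h.ZA
  card : Nat.card Q = q ^ 3

namespace TC

variable (T : TC h r Q)
include T

theorem pr : r.Prime := T.par.facts.1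

theorem q7 : 7 ≤ q := T.par.facts.2.2.2.2.1

theorem pg (hR : Nat.card R ∣ q ^ 3) : IsPGroup r R := by
  obtain ⟨hp, ⟨k, hk⟩, -⟩ := T.par.facts
  obtain ⟨i, -, e⟩ := (Nat.dvd_prime_pow hp).mp (hk ▸ hR)
  exact .of_card e

theorem cop {n : ℕ} (hn : ¬ r ∣ n) : n.Coprime (q ^ 3) := by
  obtain ⟨hp, ⟨k, hk⟩, -⟩ := T.par.facts
  exact hk ▸ (hp.coprime_iff_not_dvd.mpr hn).symm.pow_right k

theorem conj_le (hR : R ≤ S) (hQ : Q ≤ S) (hp : IsPGroup r R) :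
    ∃ m ∈ S, ∀ y ∈ R, m * y * m⁻¹ ∈ Q := by
  have := Fact.mk T.pr
  refine H4.Nse.exists_conj_le hR hp fun e => T.par.facts.2.2.1 ((e.trans
    (relIndex_dvd_index_of_le hQ)).trans (dvd_of_eq ?_))
  have := Q.card_mul_index
  rw [T.card, h.card, mul_assoc] at this
  exact Nat.eq_of_mul_eq_mul_left (T.card ▸ Nat.card_pos) this

theorem dvd (hp : IsPGroup r R) : Nat.card R ∣ q ^ 3 := by
  obtain ⟨m, -, e⟩ := T.conj_le le_top le_top hp
  rw [← T.card, ← H7.card_conj_smul m]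
  exact card_dvd_of_le fun x hx => by
    obtain ⟨y, hy, rfl⟩ := mem_conj_smul_iff_exists.mp hx
    exact e y hy

theorem memU (hR : Nat.card R ∣ q ^ 3) (hu : u ∈ R) (u1 : u ≠ 1) : u ∈ h.U :=
  (h.memU u).mpr ⟨u1, orderOf_dvd_iff_pow_eq_one.mp ((orderOf_dvd_card_of_mem hu).trans hR)⟩

theorem memZ (hu : u ∈ h.Bl Q) : u ∈ h.ZZ := ⟨T.memU T.card.dvd hu.1 hu.2.1, hu.2.2⟩

theorem conjU (hQ : Q ≤ S) (hu : u ∈ h.U) (uS : u ∈ S) : ∃ m ∈ S, m * u * m⁻¹ ∈ Q := by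
  obtain ⟨m, hm, e⟩ := T.conj_le (zpowers_le.mpr uS) hQ (T.pg (by
    rw [Nat.card_zpowers]; exact orderOf_dvd_of_pow_eq_one ((h.memU u).mp hu).2))
  exact ⟨m, hm, e u (mem_zpowers u)⟩

theorem bl_card (h1 : Nat.card R ∣ q ^ 3) (h2 : q ^ 2 ≤ Nat.card R) : (h.Bl R).ncard = q - 1 :=
  T.za.big R h1 h2

theorem q23 : q ^ 2 ≤ Nat.card Q := T.card ▸ Nat.pow_le_pow_right (by have := T.q7; omega) (by omega)

theorem blQ : (h.Bl Q).ncard = q - 1 := T.bl_card T.card.dvd T.q23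

theorem bl_eq (hle : R ≤ S) (h1 : Nat.card S ∣ q ^ 3) (h2 : q ^ 2 ≤ Nat.card R) :
    h.Bl R = h.Bl S :=
  Set.eq_of_subset_of_ncard_le (fun _ hu => ⟨hle hu.1, hu.2⟩) (by
    rw [T.bl_card h1 (h2.trans (card_le_of_le hle)),
      T.bl_card ((card_dvd_of_le hle).trans h1) h2])

theorem QM : Q ≤ normalizer (h.Bl Q) := le_normalizer.trans h.le_norm

theorem bl_of_le (hR : R ≤ normalizer (h.Bl Q)) (h1 : Nat.card R ∣ q ^ 3)
    (h2 : q ^ 2 ≤ Nat.card R) : h.Bl R = h.Bl Q := by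
  obtain ⟨m, hm, e⟩ := T.conj_le hR T.QM (T.pg h1)
  ext u
  rw [← h.bl_conj m, T.bl_eq (S := Q) (fun x hx => ?_) T.card.dvd (by rwa [H7.card_conj_smul]),
    mem_set_normalizer_iff.mp hm u]
  obtain ⟨y, hy, rfl⟩ := mem_conj_smul_iff_exists.mp hx
  exact e y hy

theorem mem_of_big (hR : R ≤ normalizer (h.Bl Q)) (hg : conj g • R ≤ normalizer (h.Bl Q))
    (h1 : Nat.card R ∣ q ^ 3) (h2 : q ^ 2 ≤ Nat.card R) : g ∈ normalizer (h.Bl Q) :=
  mem_set_normalizer_iff.mpr fun u => by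
    nth_rewrite 1 [← T.bl_of_le hR h1 h2]
    rw [← T.bl_of_le hg (by rwa [H7.card_conj_smul]) (by rwa [H7.card_conj_smul]), h.bl_conj]

theorem cq (hz : z ∈ h.Bl Q) : q ^ 2 ≤ Nat.card ↥(C₁[z] ⊓ Q) := by
  have h1 := card_le_cent_mul Q z fun g hg => (mem_set_normalizer_iff.mp (T.QM hg) z).mp hz
  rw [T.card, T.blQ, pow_succ] at h1
  exact Nat.le_of_mul_le_mul_right (h1.trans (Nat.mul_le_mul_left _ (Nat.sub_le _ _)))
    (by have := T.q7; omega)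

theorem key (hz : z ∈ h.Bl Q) (hc : ¬ C₁[z] ≤ normalizer (h.Bl Q)) :
    ¬ q ^ 3 ∣ Nat.card C₁[z] ∧ Nat.card ↥(C₁[z] ⊓ normalizer (h.Bl Q)) ≤ 288 := by
  have := Fact.mk T.pr
  obtain ⟨x, hx, xM⟩ := SetLike.not_le_iff_exists.mp hc
  have h1 := (card_dvd_of_le (inf_le_right : C₁[z] ⊓ Q ≤ Q)).trans T.card.dvd
  obtain ⟨R, h2, h3, h4, h5⟩ := exists_isSylowIn_ge (T.pg h1) inf_le_left
  have h6 : R ≤ normalizer (h.Bl Q) := by
    rw [← T.bl_eq inf_le_right T.card.dvd (T.cq hz), T.bl_eq h2 (T.dvd h4) (T.cq hz)]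
    exact le_normalizer.trans h.le_norm
  generalize hS : C₁[z] ⊓ normalizer (h.Bl Q) = S
  have h7 : conj x⁻¹ • S ≤ C₁[z] := fun y' hy' => by
    obtain ⟨y, hy, rfl⟩ := mem_conj_smul_iff_exists.mp hy'
    exact mul_mem (mul_mem (inv_mem hx) (hS.ge hy).1) (inv_mem (inv_mem hx))
  have h8 := card_mul_le' h3 h7
  have h9 := (card_dvd_of_le (inf_le_left : R ⊓ conj x⁻¹ • S ≤ R)).trans (T.dvd h4)
  have h10 := T.par.facts.2.2.2.2.2.1 _ h9 (lt_of_not_ge fun e => xM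
    (T.mem_of_big (inf_le_left.trans h6) (fun y' hy' => by
      obtain ⟨y, hy, rfl⟩ := mem_conj_smul_iff_exists.mp hy'
      simpa using (hS.ge (mem_conj_smul.mp hy.2)).2) h9 e))
  have h11 := card_mul_relIndex h3
  have h12 : R.relIndex C₁[z] ≤ q + 1 := Nat.le_of_dvd (by omega) ((T.cop h5).dvd_of_dvd_mul_left
    ((Dvd.intro_left _ h11).trans (T.za.dvd z (T.memZ hz).1 hz.2.2)))
  rw [H7.card_conj_smul, ← h11, mul_left_comm] at h8
  have h13 := ((Nat.le_of_mul_le_mul_left h8 Nat.card_pos).trans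
    (Nat.mul_le_mul_left _ h12)).trans h10
  refine ⟨fun e => ?_, h13⟩
  have h14 := (Nat.le_of_dvd Nat.card_pos ((T.cop h5).symm.dvd_of_dvd_mul_right (h11 ▸ e))).trans
    ((card_le_of_le (hS ▸ le_inf h3 h6)).trans h13)
  have := Nat.pow_le_pow_left T.q7 3
  omega

theorem cardZ : h.ZZ.ncard = (q - 1) * (q ^ 3 + 1) := by
  rw [← T.za.cnt, ← Set.ncard_coe_finset]
  congr 1
  ext u
  simp [UB.ZZ]

theorem exists_central : ∃ z ∈ h.Bl Q, Q ≤ C₁[z] := by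
  have h1 := @L0.Bd.ncard_modEq G _ G (MulAction.compHom G (conj : G →* MulAut G)) _ r T.pr Q
    (T.pg T.card.dvd) (h.Bl Q) fun g hg z hz => (mem_set_normalizer_iff.mp (T.QM hg) z).mp hz
  rw [T.blQ] at h1
  obtain ⟨z, h2, h3⟩ := Set.nonempty_of_ncard_ne_zero fun e => T.par.facts.2.2.2.1
    (Nat.modEq_zero_iff_dvd.mp (e ▸ h1))
  exact ⟨z, h2, fun g hg => mem_cent1_iff.mpr (mul_inv_eq_iff_eq_mul.mp (h3 g hg))⟩

theorem cent_card (hq : q ≠ 8) (hz : z ∈ h.ZZ) : Nat.card C₁[z] = q ^ 3 * (q + 1) := by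
  have h1 := card_le_cls z fun g => h.Z_conj g hz
  have h2 := Nat.le_of_dvd (by have := T.q7; positivity) (T.za.dvd z hz.1 hz.2)
  rw [T.cardZ, h.card] at h1
  rcases T.par with ⟨rfl, rfl, rfl, rfl⟩ | ⟨rfl, -⟩ | ⟨rfl, rfl, rfl, rfl⟩ <;> omega

theorem cent_le (hz : z ∈ h.Bl Q) : C₁[z] ≤ normalizer (h.Bl Q) := by
  by_contra hc
  obtain ⟨h1, h2⟩ := T.key hz hc
  by_cases hq : q = 8
  swap
  · exact h1 (T.cent_card hq (T.memZ hz) ▸ dvd_mul_right _ _)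
  obtain ⟨y, hy, h3⟩ := T.exists_central
  have h4 := T.card ▸ card_dvd_of_le h3
  have h5 := card_le_of_le (by_contra fun e => (T.key hy e).1 h4 : C₁[y] ≤ _)
  have h6 := card_le_cent_mul _ z fun g hg => (mem_set_normalizer_iff.mp hg z).mp hz
  have h7 := card_le_cls z (T := {x | ∃ g : G, g * z * g⁻¹ = x}) fun g => ⟨g, rfl⟩
  have h8 := card_le_cls y (T := h.ZZ \ {x | ∃ g : G, g * z * g⁻¹ = x}) fun g =>
    ⟨h.Z_conj g (T.memZ hy), fun ⟨k, e⟩ => h1 (by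
      rwa [← H7.card_conj_smul k, H7.conj_smul_cent1, e, ← H7.conj_smul_cent1,
        H7.card_conj_smul])⟩
  have h9 := Set.ncard_sdiff_add_ncard_of_subset (s := {x | ∃ g : G, g * z * g⁻¹ = x})
    (t := h.ZZ) (by rintro _ ⟨g, rfl⟩; exact h.Z_conj g (T.memZ hz))
  have h10 := Nat.le_of_dvd (by have := T.q7; positivity) (T.za.dvd z (T.memZ hz).1 hz.2.2)
  rw [T.cardZ] at h9
  rw [T.blQ] at h6
  rw [h.card] at h7 h8
  replace h7 := h7.trans (Nat.mul_le_mul_right _ h10)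
  replace h8 := h8.trans (Nat.mul_le_mul_right _ (h5.trans (h6.trans (Nat.mul_le_mul_right _ h2))))
  rcases T.par with ⟨rfl, -⟩ | ⟨rfl, rfl, rfl, rfl⟩ | ⟨rfl, -⟩ <;> omega

theorem part (hz : z ∈ h.Bl Q) (hg : g * z * g⁻¹ ∈ Q) : g ∈ normalizer (h.Bl Q) :=
  T.mem_of_big (inf_le_right.trans T.QM) (fun x hx => T.cent_le (h.bl_of_conj hz hg) (by
    rw [← H7.conj_smul_cent1]
    exact pointwise_smul_le_pointwise_smul_iff.mpr inf_le_left hx))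
    ((card_dvd_of_le inf_le_right).trans T.card.dvd) (T.cq hz)

theorem bl_of_mem (hz : z ∈ h.ZZ) (hM : z ∈ normalizer (h.Bl Q)) : z ∈ h.Bl Q := by
  obtain ⟨m, hm, e⟩ := T.conjU T.QM hz.1 hM
  exact (mem_set_normalizer_iff.mp hm z).mpr ⟨e, ((h.memU _).mp (h.U_conj m hz.1)).1,
    (h.Z_conj m hz).2⟩

theorem exists_comm (hu : u ∈ h.U) (hM : u ∈ normalizer (h.Bl Q)) : ∃ z ∈ h.Bl Q, z ∈ C₁[u] := by
  obtain ⟨m, hm, e⟩ := T.conjU T.QM hu hM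
  obtain ⟨y, hy, h3⟩ := T.exists_central
  refine ⟨m⁻¹ * y * m, (mem_set_normalizer_iff''.mp hm y).mp hy, mem_cent1_iff.mpr ?_⟩
  calc m⁻¹ * y * m * u = m⁻¹ * (y * (m * u * m⁻¹)) * m := by group
    _ = _ := by rw [← mem_cent1_iff.mp (h3 e)]; group

theorem uniq (hu : u ∈ h.U) (hM : u ∈ normalizer (h.Bl Q))
    (hg : g * u * g⁻¹ ∈ normalizer (h.Bl Q)) : g ∈ normalizer (h.Bl Q) := by
  rcases T.za.val u hu with e | e
  swap
  · exact T.part (T.bl_of_mem ⟨hu, e⟩ hM) (T.bl_of_mem (h.Z_conj g ⟨hu, e⟩) hg).1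
  obtain ⟨y, hy, h1⟩ := T.exists_comm hu hM
  obtain ⟨z, hz, h2⟩ := T.exists_comm (h.U_conj g hu) hg
  obtain ⟨x, -, h3⟩ := T.conj_le le_top le_top (T.pg (T.za.zero u hu e))
  rw [← H7.conj_smul_cent1, mem_conj_smul] at h2
  have h4 := T.part (g := x * g⁻¹) hz (by simpa [mul_assoc] using h3 _ h2)
  simpa using mul_mem (inv_mem h4) (T.part hy (h3 y h1))

end TC

end Cfsg.Agent.L0.U3
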