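import Cfsg.Agent.H3.U3Ti1
import Cfsg.Agent.H2.PfId

/-! S3645: the Sylow subgroups are TI; the case `q = 8`. -/

set_option autoImplicit false
set_option linter.unusedSectionVars false

namespace Cfsg.Agent.L0.U3

open Subgroup MulAction Cfsg.Agent.H7 Cfsg.Agent.Fx4 Cfsg.Agent.H2.D1
open MulAut (conj)
open scoped Pointwise

variable {G : Type*} [Group G] {q c p r : ℕ} {h : UB G q c p} {Q R S : Subgroup G} {g u z : G}
  [Finite G]

namespace TC

variable (T : TC h r Q)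
include T

theorem cardU : (h.U : Set G).ncard = (q ^ 3 - 1) * (q ^ 3 + 1) := by
  have h1 := h.S1
  rw [Finset.sum_sub_distrib, ← Finset.sum_filter_add_sum_filter_not _ (h.a · = -q),
    Finset.sum_congr rfl fun u hu => (Finset.mem_filter.mp hu).2,
    Finset.sum_eq_zero fun u hu => (T.za.val u (Finset.mem_filter.mp hu).1).resolve_right
      (Finset.mem_filter.mp hu).2, Finset.sum_const, Finset.sum_const, T.za.cnt] at h1
  rw [Set.ncard_coe_finset]
  rcases T.par with ⟨rfl, rfl, -⟩ | ⟨rfl, rfl, -⟩ | ⟨rfl, rfl, -⟩ <;> simp at h1 ⊢ <;> omega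

theorem count {X : Set G} (h1 : X ⊆ h.U) (h2 : ∀ g : G, ∀ u ∈ X, g * u * g⁻¹ ∈ X) :
    (normalizer (h.Bl Q)).index * {u | u ∈ X ∧ u ∈ normalizer (h.Bl Q)}.ncard = X.ncard := by
  have st : ∀ g u : G, u • (g : G ⧸ normalizer (h.Bl Q)) = g ↔ g⁻¹ * u * g ∈ normalizer (h.Bl Q) :=
    fun g u => by rw [Quotient.smul_mk, eq_comm, QuotientGroup.eq, smul_eq_mul, mul_assoc]
  have := H9.O11.count_fix (exists_smul_eq G) h2 (φ := 1) (fun u hu => by
    obtain ⟨x, -, hx⟩ := T.conjU le_top (h1 hu) (mem_top u)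
    refine Set.ncard_eq_one.mpr ⟨(x⁻¹ : G), Set.eq_singleton_iff_unique_mem.mpr
      ⟨(st _ _).mpr (by simpa using T.QM hx), fun y hy => ?_⟩⟩
    obtain ⟨g, rfl⟩ := QuotientGroup.mk_surjective y
    exact QuotientGroup.eq.mpr (T.uniq (h.U_conj x (h1 hu)) (T.QM hx)
      (by simpa [mul_assoc] using (st _ _).mp hy))) ((1 : G) : G ⧸ normalizer (h.Bl Q))
  simpa only [st, inv_one, one_mul, mul_one, index] using this

theorem indexM : (normalizer (h.Bl Q)).index = q ^ 3 + 1 := by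
  have := T.count (X := h.ZZ) (fun _ hu => hu.1) fun g _ => h.Z_conj g
  rw [show {u | u ∈ h.ZZ ∧ u ∈ normalizer (h.Bl Q)} = h.Bl Q from Set.ext fun u =>
    ⟨fun e => T.bl_of_mem e.1 e.2, fun e => ⟨T.memZ e, T.QM e.1⟩⟩, T.blQ, T.cardZ, mul_comm] at this
  exact Nat.eq_of_mul_eq_mul_left (by have := T.q7; omega) this

theorem memQ (hu : u ∈ h.U) (hM : u ∈ normalizer (h.Bl Q)) : u ∈ Q := by
  have h1 := T.count (X := h.U) le_rfl fun g _ => h.U_conj g
  rw [T.indexM, T.cardU, mul_comm] at h1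
  exact ((Set.eq_of_subset_of_ncard_le (s := (Q : Set G) \ {1})
    (t := {u | u ∈ (h.U : Set G) ∧ u ∈ normalizer (h.Bl Q)})
    (fun x hx => ⟨T.memU T.card.dvd hx.1 hx.2, T.QM hx.1⟩) (by
      rw [Nat.eq_of_mul_eq_mul_right (by omega) h1, Set.ncard_sdiff_singleton_of_mem (one_mem Q),
        ← Nat.card_coe_set_eq (Q : Set G), SetLike.coe_sort_coe, T.card])).ge ⟨hu, hM⟩).1

theorem M_eq : normalizer (h.Bl Q) = N[Q] :=
  le_antisymm (fun g hg => mem_norm_of_conj fun x hx => by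
    by_cases x1 : x = 1
    · simp [x1]
    · exact T.memQ (h.U_conj g (T.memU T.card.dvd hx x1))
        (mul_mem (mul_mem hg (T.QM hx)) (inv_mem hg))) h.le_norm

theorem ti (hu : u ∈ Q) (u1 : u ≠ 1) (hg : g * u * g⁻¹ ∈ Q) : g ∈ N[Q] :=
  T.M_eq ▸ T.uniq (T.memU T.card.dvd hu u1) (T.QM hu) (T.QM hg)

end TC

section Syl

variable [Fact r.Prime] (hP : Par q c p r) (hz : h.ZA)
include hP hz

theorem tc (P : Sylow r G) : TC h r P := by
  refine ⟨hP, hz, ?_⟩
  obtain ⟨hp, ⟨k, hk⟩, h1, -⟩ := hP.facts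
  obtain ⟨n, hn⟩ := P.isPGroup'.exists_card_eq
  have h2 := (P : Subgroup G).card_mul_index
  rw [h.card, mul_assoc, hk] at h2
  rw [hk]
  refine Nat.dvd_antisymm (Nat.Coprime.dvd_of_dvd_mul_right ?_ (Dvd.intro _ h2))
    (((hp.coprime_iff_not_dvd.mpr P.not_dvd_index).pow_left k).dvd_of_dvd_mul_right
      (Dvd.intro _ h2.symm))
  exact hn ▸ (hp.coprime_iff_not_dvd.mpr h1).pow_left n

theorem syl_ti {P P' : Sylow r G} (hu : u ∈ (P : Subgroup G)) (hu' : u ∈ (P' : Subgroup G))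
    (u1 : u ≠ 1) : P = P' := by
  obtain ⟨g, rfl⟩ := exists_smul_eq G P P'
  exact (Sylow.smul_eq_iff_mem_normalizer.mpr (inv_mem_iff.mp ((tc hP hz P).ti hu u1
    (by simpa using mem_conj_smul.mp hu')))).symm

theorem syl_num : Nat.card (Sylow r G) = q ^ 3 + 1 := by
  obtain ⟨P⟩ : Nonempty (Sylow r G) := inferInstance
  rw [Sylow.card_eq_index_normalizer P, ← (tc hP hz P).indexM, (tc hP hz P).M_eq]
  rfl

theorem syl_mem {P : Sylow r G} (hu : u ∈ h.U) (e : u • P = P) : u ∈ (P : Subgroup G) :=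
  (tc hP hz P).memQ hu ((tc hP hz P).M_eq ▸ Sylow.smul_eq_iff_mem_normalizer.mp e)

theorem syl_free {P P' : Sylow r G} (hne : P' ≠ P) (hu : u ∈ (P : Subgroup G)) (e : u • P' = P') :
    u = 1 := by_contra fun u1 =>
  hne (syl_ti hP hz (syl_mem hP hz ((tc hP hz P).memU (tc hP hz P).card.dvd hu u1) e) hu u1)

omit hP hz in
theorem syl_fix {P : Sylow r G} (hu : u ∈ (P : Subgroup G)) : u • P = P :=
  Sylow.smul_eq_iff_mem_normalizer.mpr (le_normalizer hu)

theorem syl_trans {P P' P'' : Sylow r G} (h1 : P' ≠ P) (h2 : P'' ≠ P) :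
    ∃ x ∈ (P : Subgroup G), x • P' = P'' :=
  (Set.eq_of_subset_of_ncard_le (s := (· • P') '' ((P : Subgroup G) : Set G)) (t := {P}ᶜ)
    (by
      rintro _ ⟨x, hx, rfl⟩ e
      exact h1 (smul_left_cancel x (e.trans (syl_fix hx).symm))) (by
      rw [Set.InjOn.ncard_image fun x hx y hy e => (inv_mul_eq_one.mp (syl_free hP hz h1
        (mul_mem (inv_mem hy) hx) (by rw [mul_smul, inv_smul_eq_iff]; exact e))).symm,
        Set.ncard_compl, Set.ncard_singleton, syl_num hP hz, ← Nat.card_coe_set_eq,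
        SetLike.coe_sort_coe, (tc hP hz P).card]
      rfl)).ge h2

end Syl

theorem UB.iso8 [NS G] (h : UB G 8 567 19) (hz : h.ZA) (E : Type*) [Field E] [Fintype E]
    (hE : Fintype.card E = 8 ^ 2) : Nonempty (G ≃* PSU 3 E 8) := by
  have hP : Par 8 567 19 2 := Or.inr (Or.inl ⟨rfl, rfl, rfl, rfl⟩)
  have iU : ∀ s : G, L0.Bd.Iv s → s ∈ h.U := fun s hs => (h.memU s).mpr
    ⟨hs.1, orderOf_dvd_iff_pow_eq_one.mp (by rw [hs.orderOf_eq]; norm_num)⟩
  have se : L0.Bd.SE G (Sylow 2 G) := ⟨fun s hs => by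
    obtain ⟨P, e⟩ := (IsPGroup.of_card (G := zpowers s) (p := 2) (n := 1)
      (by rw [Nat.card_zpowers, hs.orderOf_eq]; rfl)).exists_le_sylow
    exact ⟨P, syl_fix (e (mem_zpowers s))⟩, fun s hs a b ha hb =>
      syl_ti hP hz (syl_mem hP hz (iU s hs) ha) (syl_mem hP hz (iU s hs) hb) hs.1⟩
  have ex : ∀ P : Sylow 2 G, ∃ s ∈ (P : Subgroup G), L0.Bd.Iv s := fun P => by
    obtain ⟨s, h1, h2⟩ := exists_orderOf_eq_prime (A := (P : Subgroup G)) Nat.prime_two
      (by rw [(tc hP hz P).card]; norm_num)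
    exact ⟨s, h1, L0.Bd.iv_of_orderOf h2⟩
  obtain ⟨a, b, hab⟩ := (Finite.one_lt_card_iff_nontrivial.mp
    (by rw [syl_num hP hz]; norm_num : 1 < Nat.card (Sylow 2 G))).exists_pair_ne
  obtain ⟨u, hu, iu⟩ := ex a
  obtain ⟨w, hw, iw⟩ := ex b
  obtain ⟨t, -, ht, -, hta⟩ := se.exists_swap iu iw (mem_top _) (mem_top _) hab (syl_fix hu)
    (syl_fix hw)
  let C : H2.Pf.Ctx G (Sylow 2 G) :=
    { a := a, b := b, hab := hab, Q := a, fix := fun x hx => syl_fix hx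
      norm := fun g hg x hx => conj_mem_of_norm (Sylow.smul_eq_iff_mem_normalizer.mp hg) hx
      trans := fun P hP' => syl_trans hP hz hab.symm hP'
      inv := ⟨u, hu, iu⟩
      odd := fun d h1 h2 => se.odd_of_fix hab h1 h2
      t := t, t_sq := ht.2, ta := hta, tb := by rw [← hta, ht.smul_smul]
      free := fun x hx e => syl_free hP hz hab.symm hx e }
  have cQ : Nat.card C.Q = 8 ^ 3 := (tc hP hz a).card
  have hb : C.Big := by
    obtain ⟨v, h1, h2, h3⟩ := exists_comm_invol iu.orderOf_eq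
    obtain ⟨k, rfl⟩ := isConj_iff.mp h1
    by_cases e : u = C.s
    · exact ⟨_, syl_mem hP hz (iU _ (iu.conj k)) (se.comm_fix iu (syl_fix hu) h2.symm),
        (iu.conj k).2, (iu.conj k).1, e ▸ h3⟩
    · exact ⟨u, hu, iu.2, iu.1, e⟩
  rcases H2.Pf.Ctx.trichotomy hb with e | ⟨-, -, e⟩ | e
  · have := (tc hP hz a).blQ
    rw [show h.Bl a = ((a : Subgroup G) : Set G) \ {1} from Set.ext fun x => ⟨fun k => ⟨k.1, k.2.1⟩,
      fun k => ⟨k.1, k.2, h.inv x (L0.Bd.Iv.orderOf_eq ⟨k.2, (e.le k.1).2⟩)⟩⟩,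
      Set.ncard_sdiff_singleton_of_mem (one_mem _), ← Nat.card_coe_set_eq, SetLike.coe_sort_coe,
      (tc hP hz a).card] at this
    omega
  · rw [cQ] at e
    rcases le_or_gt (Nat.card C.Z) 22 with k | k <;> nlinarith
  · have k := Nat.pow_left_injective (by norm_num) (cQ.symm.trans e.card)
    exact k ▸ e.iso_PSU E (k ▸ hE)

end Cfsg.Agent.L0.U3
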