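import Cfsg.Agent.H3.U3Ti2
import Cfsg.Agent.H3.PermChar
import Cfsg.Agent.H4.Nse2

/-! S3645: piece `TI` (`q = 7, 9`). -/

set_option autoImplicit false
set_option linter.unusedSectionVars false

namespace Cfsg.Agent.L0.U3

open Subgroup MulAction Cfsg.Agent.H7 Cfsg.Agent.Fx4 Cfsg.Agent.H2.D1
open MulAut (conj)
open scoped Pointwise

variable {G : Type*} [Group G] {q c p r : ℕ} {h : UB G q c p} {Q : Subgroup G} {t u z : G}
  [Finite G] [Fact r.Prime] (hP : Par q c p r) (hz : h.ZA)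
include hP hz

theorem syl_two : IsMultiplyPretransitive G (Sylow r G) 2 :=
  is_two_pretransitive_iff.mpr fun {a b c d} h1 h2 => by
    obtain ⟨g, rfl⟩ := exists_smul_eq G a c
    obtain ⟨x, hx, e⟩ := syl_trans hP hz (P' := g • b) (fun e => h1 (smul_left_cancel g e).symm)
      h2.symm
    exact ⟨x * g, by rw [mul_smul, syl_fix hx], by rw [mul_smul, e]⟩

theorem syl_perm (g : G) : (Nat.card (fixedBy (Sylow r G) g) : ℤ) = h.b g + 1 := by
  have : Nontrivial (Sylow r G) := Finite.one_lt_card_iff_nontrivial.mp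
    (by rw [syl_num hP hz, ← (tc hP hz default).card]; exact Nat.succ_lt_succ Nat.card_pos)
  have h1 := congrFun (congrArg Subtype.val (h.uniq
    ⟨_, H3.isIrrCharacter_perm_sub_one (syl_two hP hz)⟩ (by
      simp [fixedBy_one_eq_univ, syl_num hP hz]))) g
  rw [h.hb, sub_eq_iff_eq_add] at h1
  exact_mod_cast h1

variable (hq : q ≠ 8)
include hq

theorem syl_inv (ht : orderOf t = 2) : (fixedBy (Sylow r G) t).ncard = q + 1 := by
  have h1 := syl_perm hP hz t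
  have h2 := h.inv t ht
  have h3 := h.c0 t
  rw [ht] at h3
  rw [Nat.card_coe_set_eq] at h1
  rcases hP with ⟨rfl, rfl, -⟩ | ⟨rfl, -⟩ | ⟨rfl, rfl, -⟩
  · have := h3 (by norm_num); omega
  · exact (hq rfl).elim
  · have := h3 (by norm_num); omega

theorem odd_q : Odd (q ^ 3) := by
  rcases hP with ⟨rfl, -⟩ | ⟨rfl, -⟩ | ⟨rfl, -⟩
  exacts [by decide, (hq rfl).elim, by decide]

theorem card_ct {P : Sylow r G} (ht : orderOf t = 2) (tP : t ∈ N[(P : Subgroup G)]) :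
    Nat.card ↥(C₁[t] ⊓ (P : Subgroup G)) = q := by
  have h1 := syl_inv hP hz hq ht
  have h2 : P ∈ fixedBy (Sylow r G) t := Sylow.smul_eq_iff_mem_normalizer.mpr tP
  have h3 := Set.ncard_sdiff_singleton_of_mem h2
  obtain ⟨P', h4, h5⟩ := Set.nonempty_of_ncard_ne_zero
    (by rw [h3, h1]; have := hP.facts.2.2.2.2.1; omega)
  rw [h1, Nat.add_sub_cancel, show fixedBy (Sylow r G) t \ {P} =
    (· • P') '' ((C₁[t] ⊓ (P : Subgroup G) : Subgroup G) : Set G) from Set.ext fun P'' => ⟨fun e => ?_, ?_⟩,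
    Set.InjOn.ncard_image fun x hx y hy e => (inv_mul_eq_one.mp (syl_free hP hz h5
      (mul_mem (inv_mem hy.2) hx.2) (by rw [mul_smul, inv_smul_eq_iff]; exact e))).symm] at h3
  · exact h3
  · obtain ⟨x, hx, rfl⟩ := syl_trans hP hz h5 e.2
    refine ⟨x, ⟨mem_cent1_iff.mpr ?_, hx⟩, rfl⟩
    rw [eq_comm, ← mul_inv_eq_iff_eq_mul, eq_comm, ← inv_mul_eq_one]
    refine syl_free hP hz h5 (mul_mem (inv_mem hx) (conj_mem_of_norm tP hx)) ?_
    rw [mul_smul, mul_smul, mul_smul, inv_smul_eq_iff.mpr (Eq.symm h4), e.1, inv_smul_smul]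
  · rintro ⟨x, hx, rfl⟩
    exact ⟨by rw [mem_fixedBy, ← mul_smul, ← mem_cent1_iff.mp hx.1, mul_smul, h4],
      fun e => h5 (smul_left_cancel x (e.trans (syl_fix hx.2).symm))⟩

theorem mem_ct {P : Sylow r G} (ht : orderOf t = 2) (tP : t ∈ N[(P : Subgroup G)]) :
    ((C₁[t] ⊓ (P : Subgroup G) : Subgroup G) : Set G) \ {1} = h.Bl P :=
  Set.eq_of_subset_of_ncard_le (fun x hx => ⟨hx.1.2, hx.2, by
    have T := tc hP hz P
    have h1 := T.memU T.card.dvd hx.1.2 hx.2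
    refine (hz.val x h1).resolve_left fun e => ?_
    exact (odd_q hP hz hq).not_two_dvd_nat ((ht ▸ orderOf_dvd_card_of_mem
      (mem_cent1_iff.mpr (mem_cent1_iff.mp hx.1.1).symm)).trans (hz.zero x h1 e))⟩) (by
    rw [Set.ncard_sdiff_singleton_of_mem (one_mem _), (tc hP hz P).blQ, ← Nat.card_coe_set_eq,
      SetLike.coe_sort_coe, card_ct hP hz hq ht tP])

theorem le_cent_bl {P : Sylow r G} (hy : z ∈ h.Bl P) : (P : Subgroup G) ≤ C₁[z] := by
  have T := tc hP hz P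
  obtain ⟨hp, ⟨k, hk⟩, -⟩ := hP.facts
  obtain ⟨R, -, h1, h2⟩ := H4.Nse.exists_between (n := 0) (m := k) hp (bot_le : ⊥ ≤ C₁[z]) card_bot
    k.zero_le (by rw [T.cent_card hq (T.memZ hy), hk]; exact dvd_mul_right _ _)
  refine (eq_of_le_of_card_ge (H := R) (fun x hx => ?_) (by rw [T.card, h2, hk])).ge.trans h1
  by_cases x1 : x = 1
  · simp [x1]
  · exact T.memQ (T.memU (by rw [h2, hk]) hx x1) (T.cent_le hy (h1 hx))

omit hP hz hq in
theorem UB.tis (hP : Par q c p r) (hq : q ≠ 8) [NS G] (h : UB G q c p) (hz : h.ZA) : TIS G q r := by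
  have h7 := hP.facts.2.2.2.2.1
  have hc : Nat.card G = q ^ 3 * (q ^ 3 + 1) * (q ^ 2 - 1) := by
    rw [h.card]
    rcases hP with ⟨rfl, rfl, rfl, -⟩ | ⟨rfl, -⟩ | ⟨rfl, rfl, rfl, -⟩
    exacts [rfl, (hq rfl).elim, rfl]
  refine ⟨hc, fun P => (tc hP hz P).card, fun P P' e => (eq_bot_iff_forall _).mpr fun x hx =>
    by_contra fun x1 => e (syl_ti hP hz hx.1 hx.2 x1), syl_num hP hz, fun P => ?_, fun t ht =>
    Set.nonempty_of_ncard_ne_zero (s := fixedBy (Sylow r G) t) (by rw [syl_inv hP hz hq ht]; omega)⟩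
  have T := tc hP hz P
  obtain ⟨z, hz0, -⟩ := T.exists_central
  have ex : ∀ y ∈ h.Bl P, ∀ s : ℕ, s.Prime → s ∣ q + 1 →
      ∃ t ∈ C₁[y], t ∈ N[(P : Subgroup G)] ∧ orderOf t = s := fun y hy s hs e => by
    obtain ⟨t, h1, h2⟩ := exists_orderOf_eq_prime (A := C₁[y]) hs
      (T.cent_card hq (T.memZ hy) ▸ e.mul_left _)
    exact ⟨t, h1, T.M_eq ▸ T.cent_le hy h1, h2⟩
  have q2 : 2 ∣ q + 1 := ((Nat.odd_pow_iff (by omega)).mp (odd_q hP hz hq)).add_one.two_dvd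
  obtain ⟨t, -, tP, ht⟩ := ex z hz0 2 Nat.prime_two q2
  have cY := card_ct hP hz hq ht tP
  have mY := mem_ct hP hz hq ht tP
  have cI := card_inf_mul_relIndex C₁[t] P
  have Yt : C₁[t] ⊓ (P : Subgroup G) ≤ C₁[t] := inf_le_left
  have YP : C₁[t] ⊓ (P : Subgroup G) ≤ P := inf_le_right
  generalize C₁[t] ⊓ (P : Subgroup G) = Y at cY mY cI Yt YP
  have cen : ∀ g : G, (∀ y ∈ h.Bl P, g ∈ C₁[y]) → g ∈ C[Y] := fun g hg =>
    mem_centralizer_iff.mpr fun y hy => by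
      by_cases y1 : y = 1
      · simp [y1]
      · exact (mem_cent1_iff.mp (hg y (mY.le ⟨hy, y1⟩))).symm
  have PY : (P : Subgroup G) ≤ C[Y] := fun g hg => cen g fun y hy => le_cent_bl hP hz hq hy hg
  have NY : N[(P : Subgroup G)] ≤ N[Y] := fun g hg => mem_norm_of_conj fun y hy => by
    by_cases y1 : y = 1
    · simp [y1]
    · exact (mY.ge ((mem_set_normalizer_iff.mp (T.M_eq.ge hg) y).mp (mY.le ⟨hy, y1⟩))).1
  have CY : ∀ y ∈ Y, y ≠ 1 → C₁[y] = C[Y] := fun y hy y1 => by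
    have h1 := mY.le ⟨hy, y1⟩
    rcases hP with ⟨rfl, -⟩ | ⟨rfl, -⟩ | ⟨rfl, -⟩
    · rw [← cent_zpowers, zpowers_eq_of_card_prime (by rw [cY]; norm_num) hy y1]
    · exact (hq rfl).elim
    have : Fact (Nat.Prime 5) := ⟨by norm_num⟩
    obtain ⟨s, -, h2, h3⟩ := ex y h1 2 Nat.prime_two q2
    obtain ⟨v, -, h4, h5⟩ := ex y h1 5 (by norm_num) (by norm_num)
    have h6 := h3 ▸ orderOf_dvd_card_of_mem (cen s fun x hx => mem_cent1_iff.mpr
      (mem_cent1_iff.mp ((mem_ct T.par hz hq h3 h2).ge hx).1.1).symm)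
    have h7 := card_modEq_cent (p := 5) ⟨1, by rw [pow_one, ← h5, pow_orderOf_eq_one]⟩ (NY h4)
    have h8 := card_dvd_of_le (inf_le_left : Y ⊓ C₁[v] ≤ Y)
    rw [cY] at h7 h8
    have h9 := h5 ▸ orderOf_dvd_card_of_mem (le_cent1_iff.mp (inf_eq_left.mp (eq_of_le_of_card_ge
      (inf_le_left : Y ⊓ C₁[v] ≤ Y) (by
        have := Nat.le_of_dvd (by norm_num) h8
        rw [Nat.ModEq] at h7
        rw [cY]
        generalize Nat.card ↥(Y ⊓ C₁[v]) = n at h7 h8 this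
        interval_cases n <;> omega))))
    have h10 := T.card ▸ card_dvd_of_le PY
    refine (eq_of_le_of_card_ge (fun g hg => mem_cent1_iff.mpr (comm_of_mem_cent hg hy).symm) ?_).symm
    rw [T.cent_card hq (T.memZ h1)]
    exact Nat.le_of_dvd Nat.card_pos (Nat.Coprime.mul_dvd_of_dvd_of_dvd (by norm_num) h10
      (Nat.Coprime.mul_dvd_of_dvd_of_dvd (m := 2) (n := 5) (by norm_num) h6 h9))
  refine ⟨Y, YP, cY, PY, NY, ?_, CY, fun x hx e => ?_, ?_⟩
  · rw [← CY z (mY.ge hz0).1 hz0.2.1, T.cent_card hq (T.memZ hz0)]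
  · have x1 : x ≠ 1 := fun k => e (k ▸ one_mem Y)
    have h1 := T.memU T.card.dvd hx x1
    exact hz.zero x h1 ((hz.val x h1).resolve_right fun k => e (mY.ge ⟨hx, x1, k⟩).1)
  by_contra! ab
  let I : Subgroup G :=
    { carrier := L0.Bd.invS P t
      one_mem' := ⟨one_mem _, by simp⟩
      inv_mem' := fun hx => ⟨inv_mem hx.1, by rw [← conj_inv, hx.2]⟩
      mul_mem' := fun hx hy => ⟨mul_mem hx.1 hy.1, by
        rw [← conj_mul, hx.2, hy.2, ← mul_inv_rev, (ab _ hy.1 _ hx.1).eq]⟩ }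
  have oP : Odd (Nat.card P) := T.card ▸ odd_q hP hz hq
  have h1 : Nat.card I = q ^ 2 := by
    rw [cY, T.card, pow_succ', ← L0.Bd.ncard_invS oP (L0.Bd.iv_of_orderOf ht) tP] at cI
    exact Nat.eq_of_mul_eq_mul_left (by omega) cI
  obtain ⟨y, hy, y1, h2⟩ := Set.nonempty_of_ncard_ne_zero
    ((T.bl_card (h1 ▸ pow_dvd_pow q (by omega)) h1.ge).trans_ne (by omega))
  have h3 := hy.2
  rw [← mem_cent1_iff.mp (Yt (mY.ge ⟨hy.1, y1, h2⟩).1), mul_inv_cancel_right] at h3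
  exact y1 (L0.Bd.eq_one_of_odd_of_sq (L0.Bd.odd_orderOf_of_mem oP hy.1)
    (mul_eq_one_iff_eq_inv.mpr h3))

end Cfsg.Agent.L0.U3
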