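import Cfsg.Agent.H3.U3Ti1
import Cfsg.Agent.H3.FrobCount
import Cfsg.Agent.H5.MtA

/-! S3645: piece `ZA`. -/

set_option autoImplicit false
set_option linter.unusedSectionVars false

namespace Cfsg.Agent.L0.U3

open Subgroup Cfsg.Agent.H7 Cfsg.Agent.H2.D1

/-- the minimal class size -/
def mm (c p : ℕ) (v : ℤ) : ℕ := c / Nat.gcd c (v - 1).natAbs * p

theorem rng7 : ∀ v ∈ Finset.Icc (-24 : ℤ) 24, v % 7 = 0 → mm 384 43 v * (v * (v - 1)) ≤ 115584 →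
    v ∈ ({0, -7, 7} : Finset ℤ) := by decide +kernel

theorem rng8 : ∀ v ∈ Finset.Icc (-24 : ℤ) 24, v % 2 = 0 → mm 567 19 v * (v * (v - 1)) ≤ 258552 →
    v ∈ ({0, -8, -20, -6, -4, -2, 2, 4, 8, 10, 22} : Finset ℤ) := by decide +kernel

theorem rng9 : ∀ v ∈ Finset.Icc (-24 : ℤ) 24, v % 3 = 0 → mm 800 73 v * (v * (v - 1)) ≤ 525600 →
    v ∈ ({0, -9, -3, 3, 6, 9} : Finset ℤ) := by decide +kernel

set_option synthInstance.maxSize 2000 in
theorem ar8 : ∀ a < 3, ∀ b < 3, ∀ e < 5, ∀ f < 3, ∀ g < 2, ∀ c < 9, ∀ d < 9,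
    8 * a + 6 * b + 2 * c + 2 * d + 4 * e + 8 * f + 10 * g = 16 →
    (290872 + 21546 * d + 14364 * e + 12312 * f + 11970 * g) % 512 =
      (9576 * (a + 1) + 9234 * b + 7182 * c) % 512 → a = 2 := by decide +kernel

set_option synthInstance.maxSize 2000 in
theorem ar9 : ∀ a < 2, ∀ b < 4, ∀ c < 4, ∀ d < 2, ∀ e < 2, 3 * a + b + c + 2 * d + 3 * e = 3 →
    (584001 + 87600 * c + 70080 * d + 65700 * e) % 729 = (52560 * a + 43800 * b) % 729 → a = 1 := by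
  decide +kernel

variable {G : Type*} [Group G] [Finite G] {q c p r : ℕ} (h : UB G q c p) {u : G}

/-- the number of elements with a given value -/
def UB.n (v : ℤ) : ℕ := (h.U.filter fun u => h.a u = v).card

theorem UB.n_pos (hu : u ∈ h.U) : 0 < h.n (h.a u) :=
  Finset.card_pos.mpr ⟨u, Finset.mem_filter.mpr ⟨hu, rfl⟩⟩

theorem UB.sum_fib {W : Finset ℤ} (hW : ∀ u ∈ h.U, h.a u ∈ W) (F : ℤ → ℤ) :
    ∑ u ∈ h.U, F (h.a u) = ∑ v ∈ W, h.n v * F v := by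
  rw [← Finset.sum_fiberwise_of_maps_to hW]
  refine Finset.sum_congr rfl fun v _ => ?_
  rw [Finset.sum_congr rfl fun u hu => by rw [(Finset.mem_filter.mp hu).2], Finset.sum_const,
    nsmul_eq_mul, UB.n]

theorem UB.frob : q ^ 3 ∣ h.U.card + 1 := by
  classical
  have := H3.frobenius_dvd (G := G) (d := q ^ 3) (by rw [h.card, mul_assoc]; exact dvd_mul_right _ _)
  rwa [Nat.subtype_card (insert 1 h.U) fun x => by
    by_cases e : x = 1 <;> simp [h.memU, e], Finset.card_insert_of_notMem (by simp [h.memU])] at this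

variable (hP : Par q c p r)
include hP

theorem UB.idx (hu : u ∈ h.U) : mm c p (h.a u) ∣ C₁[u].index := by
  obtain ⟨u1, u2⟩ := (h.memU u).mp hu
  have k : p.Prime ∧ ¬ p ∣ q ^ 3 ∧ c.Coprime p ∧ ¬ (q ^ 3).Coprime q ∧ c ≠ 0 := by
    rcases hP with ⟨rfl, rfl, rfl, -⟩ | ⟨rfl, rfl, rfl, -⟩ | ⟨rfl, rfl, rfl, -⟩ <;> norm_num
  have h1 : orderOf u ≠ p := fun e => k.2.1 (e ▸ orderOf_dvd_of_pow_eq_one u2)
  have h2 := h.cdvd u h1
  rw [h.b0 u fun e => u1 (orderOf_eq_one_iff.mp ((e.pow_right 3).eq_one_of_dvd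
    (orderOf_dvd_of_pow_eq_one u2))), add_zero, ← Int.natAbs_dvd_natAbs,
    Int.natAbs_mul, Int.natAbs_natCast, Int.natAbs_natCast] at h2
  have h3 : p ∣ C₁[u].index := (k.1.dvd_mul.mp (by
    rw [card_mul_index, h.card]; exact dvd_mul_left _ _)).resolve_left fun e => h1 (h.cent u u1 e)
  refine ((k.2.2.1.coprime_dvd_left (Nat.div_dvd_of_dvd (Nat.gcd_dvd_left _ _)))
    ).mul_dvd_of_dvd_of_dvd (Nat.div_dvd_iff_dvd_mul (Nat.gcd_dvd_left _ _)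
      (Nat.gcd_pos_of_pos_left _ (Nat.pos_of_ne_zero k.2.2.2.2)) |>.mpr ?_) h3
  rw [← Nat.gcd_mul_right]
  exact Nat.dvd_gcd (dvd_mul_right _ _) (by rwa [mul_comm])

theorem UB.cdv (hu : u ∈ h.U) : Nat.card C₁[u] ∣ q ^ 3 * (h.a u - 1).natAbs := by
  have k : 0 < c * p := by
    rcases hP with ⟨rfl, rfl, rfl, -⟩ | ⟨rfl, rfl, rfl, -⟩ | ⟨rfl, rfl, rfl, -⟩ <;> norm_num
  have h1 := Nat.mul_dvd_mul (Nat.mul_dvd_mul_left (Nat.card C₁[u]) (h.idx hP hu))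
    (Nat.gcd_dvd_right c (h.a u - 1).natAbs)
  rw [card_mul_index, h.card, mm, mul_assoc, mul_right_comm (_ / _),
    Nat.div_mul_cancel (Nat.gcd_dvd_left _ _), mul_assoc (q ^ 3), mul_right_comm (q ^ 3)] at h1
  exact Nat.dvd_of_mul_dvd_mul_right k h1

theorem UB.n_dvd (v : ℤ) : mm c p v ∣ h.n v := by
  have := Fintype.ofFinite G
  refine H3.dvd_card_of_conj_fibers _ id (fun g x hx => ?_) (fun _ _ => rfl) fun b hb => ?_
  · rw [Finset.mem_filter] at hx ⊢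
    exact ⟨h.U_conj g hx.1, (h.a_conj g x).trans hx.2⟩
  · rw [Finset.mem_filter] at hb
    exact (hb.2 ▸ h.idx hP hb.1).mul_right _

theorem UB.rng (hu : u ∈ h.U) : h.a u ∈ Finset.Icc (-24 : ℤ) 24 ∧ h.a u % r = 0 ∧
    mm c p (h.a u) * (h.a u * (h.a u - 1)) ≤ c * ((q : ℤ) ^ 3 - q ^ 2 + q) := by
  have nn : ∀ v : ℤ, 0 ≤ v * (v - 1) := fun v => by
    rcases le_or_gt v 0 with e | e <;> nlinarith
  have h1 : mm c p (h.a u) * (h.a u * (h.a u - 1)) ≤ c * ((q : ℤ) ^ 3 - q ^ 2 + q) := by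
    rw [← h.S2]
    refine (mul_le_mul_of_nonneg_right (Int.ofNat_le.mpr (Nat.le_of_dvd (h.n_pos hu)
      (h.n_dvd hP _))) (nn _)).trans (le_trans ?_ (Finset.sum_le_sum_of_subset_of_nonneg
        (Finset.filter_subset (fun x => h.a x = h.a u) _) fun x _ _ => nn _))
    rw [Finset.sum_congr rfl fun x hx => by rw [(Finset.mem_filter.mp hx).2], Finset.sum_const,
      nsmul_eq_mul, UB.n]
  obtain ⟨hr, ⟨k, hk⟩, -⟩ := hP.facts
  have h2 := H5.MT.cong_int hr (H3.irr_isCharacter h.α.2) (hk ▸ ((h.memU u).mp hu).2)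
    (Commute.one_right u) (by rw [mul_one, h.ha]) (h.ha 1)
  rw [h.a1] at h2
  have h3 : h.a u % r = 0 ∧ h.a u ≠ 1 := by
    rcases hP with ⟨rfl, -, -, rfl⟩ | ⟨rfl, -, -, rfl⟩ | ⟨rfl, -, -, rfl⟩ <;> omega
  refine ⟨?_, h3.1, h1⟩
  have h4 : c * p ≤ mm c p (h.a u) * (h.a u - 1).natAbs := by
    rw [mm, mul_right_comm]
    nth_rewrite 1 [← Nat.div_mul_cancel (Nat.gcd_dvd_left c (h.a u - 1).natAbs)]
    exact Nat.mul_le_mul_right _ (Nat.mul_le_mul_left _ (Nat.gcd_le_right _ (by omega)))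
  rw [← Int.natAbs_of_nonneg (nn _), Int.natAbs_mul, mul_comm (h.a u).natAbs, ← Nat.cast_mul,
    ← mul_assoc] at h1
  have h5 := (Int.ofNat_le.mpr (Nat.mul_le_mul_right (h.a u).natAbs h4)).trans h1
  rw [Finset.mem_Icc]
  rcases hP with ⟨rfl, rfl, rfl, -⟩ | ⟨rfl, rfl, rfl, -⟩ | ⟨rfl, rfl, rfl, -⟩ <;> omega

set_option maxHeartbeats 1600000 in
theorem UB.val_cnt : (∀ u ∈ h.U, h.a u = 0 ∨ h.a u = -q) ∧ h.n (-q) = (q - 1) * (q ^ 3 + 1) := by
  have h1 := fun W (hW : ∀ u ∈ h.U, h.a u ∈ W) => (⟨(h.sum_fib hW (· - 1)).symm.trans h.S1,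
    (h.sum_fib hW fun v => v * (v - 1)).symm.trans h.S2, (h.sum_fib hW fun _ => 1).symm⟩ : _ ∧ _ ∧ _)
  have h2 := h.frob
  have h3 := h.n_dvd hP
  have h4 := fun u (hu : u ∈ h.U) => h.rng hP hu
  have h5 := fun u (hu : u ∈ h.U) => h.n_pos hu
  rcases hP with ⟨rfl, rfl, rfl, rfl⟩ | ⟨rfl, rfl, rfl, rfl⟩ | ⟨rfl, rfl, rfl, rfl⟩
  · have h6 := fun u hu => rng7 _ (h4 u hu).1 (h4 u hu).2.1 (h4 u hu).2.2
    obtain ⟨e1, e2, e3⟩ := h1 _ h6
    obtain ⟨a, ha⟩ : 2064 ∣ h.n (-7) := h3 (-7)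
    obtain ⟨b, hb⟩ : 2752 ∣ h.n 7 := h3 7
    simp [ha, hb] at e1 e2 e3
    have : a = 1 ∧ b = 0 := by omega
    refine ⟨fun u hu => ?_, by simp [ha, this]⟩
    have k1 := h5 u hu
    have k2 := h6 u hu
    simp only [Finset.mem_insert, Finset.mem_singleton] at k2
    rcases k2 with e | e | e <;>
      first | (rw [e]; decide) | (rw [e] at k1; omega)
  · have h6 := fun u hu => rng8 _ (h4 u hu).1 (h4 u hu).2.1 (h4 u hu).2.2
    obtain ⟨e1, e2, e3⟩ := h1 _ h6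
    have : Fact (Nat.Prime 2) := ⟨Nat.prime_two⟩
    obtain ⟨t, ht⟩ := exists_prime_orderOf_dvd_card' (G := G) 2 (by rw [h.card]; norm_num)
    have h7 := h5 t ((h.memU t).mpr ⟨fun e => by simp [e] at ht,
      orderOf_dvd_iff_pow_eq_one.mp (by rw [ht]; norm_num)⟩)
    rw [show h.a t = -8 from h.inv t ht] at h7
    obtain ⟨a, ha⟩ : 1197 ∣ h.n (-8) := h3 (-8)
    obtain ⟨b, hb⟩ : 1539 ∣ h.n (-6) := h3 (-6)
    obtain ⟨c, hc⟩ : 3591 ∣ h.n (-2) := h3 (-2)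
    obtain ⟨d, hd⟩ : 10773 ∣ h.n 2 := h3 2
    obtain ⟨e, he⟩ : 3591 ∣ h.n 4 := h3 4
    obtain ⟨f, hf⟩ : 1539 ∣ h.n 8 := h3 8
    obtain ⟨g, hg⟩ : 1197 ∣ h.n 10 := h3 10
    obtain ⟨i, hi⟩ : 513 ∣ h.n (-20) := h3 (-20)
    obtain ⟨j, hj⟩ : 10773 ∣ h.n (-4) := h3 (-4)
    obtain ⟨k, hk⟩ : 513 ∣ h.n 22 := h3 22
    simp [ha, hb, hc, hd, he, hf, hg, hi, hj, hk] at e1 e2 e3
    obtain ⟨a, rfl⟩ : ∃ x, a = x + 1 := ⟨a - 1, by omega⟩
    obtain ⟨rfl, rfl, rfl⟩ : i = 0 ∧ j = 0 ∧ k = 0 := by clear e1 e3 h2; omega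
    obtain ⟨w, hw⟩ := h2
    have e4 : 290872 + 21546 * d + 14364 * e + 12312 * f + 11970 * g =
      512 * w + (9576 * (a + 1) + 9234 * b + 7182 * c) := by clear e2; omega
    have e5 : 8 * a + 6 * b + 2 * c + 2 * d + 4 * e + 8 * f + 10 * g = 16 := by
      clear e1 e3 e4 hw; omega
    clear e1 e2 e3 hw
    obtain rfl := ar8 a (by omega) b (by omega) e (by omega) f (by omega) g (by omega) c (by omega)
      d (by omega) e5 (by rw [e4, Nat.mul_add_mod])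
    obtain ⟨rfl, rfl, rfl, rfl, rfl, rfl⟩ : b = 0 ∧ c = 0 ∧ d = 0 ∧ e = 0 ∧ f = 0 ∧ g = 0 := by
      clear e4; omega
    refine ⟨fun u hu => ?_, ha⟩
    have k1 := h5 u hu
    have k2 := h6 u hu
    simp only [Finset.mem_insert, Finset.mem_singleton] at k2
    rcases k2 with e | e | e | e | e | e | e | e | e | e | e <;>
      first | (rw [e]; decide) | (rw [e] at k1; omega)
  · have h6 := fun u hu => rng9 _ (h4 u hu).1 (h4 u hu).2.1 (h4 u hu).2.2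
    obtain ⟨e1, e2, e3⟩ := h1 _ h6
    obtain ⟨a, ha⟩ : 5840 ∣ h.n (-9) := h3 (-9)
    obtain ⟨b, hb⟩ : 14600 ∣ h.n (-3) := h3 (-3)
    obtain ⟨c, hc⟩ : 29200 ∣ h.n 3 := h3 3
    obtain ⟨d, hd⟩ : 11680 ∣ h.n 6 := h3 6
    obtain ⟨e, he⟩ : 7300 ∣ h.n 9 := h3 9
    simp [ha, hb, hc, hd, he] at e1 e2 e3
    obtain ⟨w, hw⟩ := h2
    have e4 : 584001 + 87600 * c + 70080 * d + 65700 * e = 729 * w + (52560 * a + 43800 * b) := by
      clear e2; omega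
    have e5 : 3 * a + b + c + 2 * d + 3 * e = 3 := by clear e1 e3 e4 hw; omega
    clear e1 e2 e3 hw
    obtain rfl := ar9 a (by omega) b (by omega) c (by omega) d (by omega) e (by omega) e5
      (by rw [e4, Nat.mul_add_mod])
    obtain ⟨rfl, rfl, rfl, rfl⟩ : b = 0 ∧ c = 0 ∧ d = 0 ∧ e = 0 := by clear e4; omega
    refine ⟨fun u hu => ?_, ha⟩
    have k1 := h5 u hu
    have k2 := h6 u hu
    simp only [Finset.mem_insert, Finset.mem_singleton] at k2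
    rcases k2 with e | e | e | e | e | e <;>
      first | (rw [e]; decide) | (rw [e] at k1; omega)

omit h hP in
theorem UB.za (hP : Par q c p r) [NS G] (h : UB G q c p) : h.ZA := by
  classical
  obtain ⟨h1, h2⟩ := h.val_cnt hP
  refine ⟨h1, fun u hu e => by simpa [e] using h.cdv hP hu, fun u hu e => ?_, h2, fun M h3 h4 => ?_⟩
  · have := h.cdv hP hu
    rwa [e, show (-q - 1 : ℤ).natAbs = q + 1 by omega] at this
  have := Fintype.ofFinite G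
  obtain ⟨m, h5⟩ := exists_avg (H3.irr_isCharacter h.α.2) M
  simp only [h.ha] at h5
  have h6 : ∑ g : M, h.a g = Nat.card M * m := by exact_mod_cast h5
  rw [← Finset.sum_subtype (Finset.univ.filter (· ∈ M)) (by simp) h.a,
    ← Finset.add_sum_erase _ _ (a := 1) (by simp), h.a1,
    ← Finset.sum_filter_add_sum_filter_not _ (h.a · = -q),
    Finset.sum_congr rfl fun u hu => (Finset.mem_filter.mp hu).2,
    Finset.sum_const, nsmul_eq_mul, Finset.sum_eq_zero fun u hu => ?_] at h6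
  · rw [Nat.subtype_card (((Finset.univ.filter (· ∈ M)).erase 1).filter (h.a · = -q))
      (by simp; tauto)]
    generalize Finset.card _ = j at h6
    have h7 := hP.facts.2.2.2.2.1
    obtain ⟨q, rfl⟩ : ∃ x, q = x + 1 := ⟨q - 1, by omega⟩
    rcases m with _ | m
    · simp only [Nat.add_sub_cancel]
      push_cast at h6
      nlinarith
    · push_cast at h6
      nlinarith
  · simp only [Finset.mem_filter, Finset.mem_erase, Finset.mem_univ, true_and] at hu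
    exact (h1 u ((h.memU u).mpr ⟨hu.1.1, orderOf_dvd_iff_pow_eq_one.mp
      ((orderOf_dvd_card_of_mem hu.1.2).trans h3)⟩)).resolve_right hu.2

end Cfsg.Agent.L0.U3
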