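import Cfsg.Agent.H3.WSmall
import Cfsg.Agent.H7.Primitive

/-!
# Primitive groups with a suborbit of length three
-/

set_option autoImplicit false

namespace Cfsg.Agent.H3

open Subgroup Equiv MulAction

variable {G : Type*} [Group G] [Finite G]

theorem of_small {Γ : Type*} [Group Γ] {ι : Γ →* G} (hι : Function.Injective ι) (h : Prim ι.range)
    (hs : ¬ Group.IsSolvable G) {w : Γ} (h0 : w ≠ 1) (h1 : w ^ 3 = 1)
    (h2 : ∀ m : Γ, (∃ i : Fin 3, m * w * m⁻¹ = w ^ i.val) ∧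
      (m * w = w * m → ∃ i : Fin 3, m = w ^ i.val) ∧ m ^ 6 = 1 ∧ ∀ s : Γ,
        (∃ i : Fin 3, m * s * m⁻¹ * s⁻¹ = w ^ i.val) ∧
        (s * w ≠ w * s → ∃ (i : Fin 3) (j : Fin 2), m = w ^ i.val * s ^ j.val)) :
    Nonempty (G ≃* alternatingGroup (Fin 5)) := by
  have : Fact (Nat.Prime 3) := ⟨Nat.prime_three⟩
  have k : ∀ {u : Γ}, (∃ i : Fin 3, u = w ^ i.val) → ι u ∈ zpowers (ι w) := by
    rintro _ ⟨i, rfl⟩
    rw [map_pow]
    exact pow_mem (mem_zpowers _) _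
  refine h.alt5 hs ⟨w, rfl⟩ (by rw [orderOf_injective ι hι, orderOf_eq_prime h1 h0]) ?_ ?_ ?_ ?_ ?_
  · rintro _ ⟨m, rfl⟩
    simpa using k (h2 m).1
  · rintro _ ⟨m, rfl⟩ e
    exact k ((h2 m).2.1 (hι (by simpa using e.eq)))
  · rintro _ ⟨m, rfl⟩
    rw [← map_pow, (h2 m).2.2.1, map_one]
  · rintro _ ⟨m, rfl⟩ _ ⟨s, rfl⟩
    simpa using k ((h2 m).2.2.2 s).1
  · rintro _ ⟨s, rfl⟩ e _ ⟨m, rfl⟩
    obtain ⟨i, j, e'⟩ := ((h2 m).2.2.2 s).2 (fun e' => e ((show Commute s w from e').map ι))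
    exact ⟨i, j, by simp [e']⟩

set_option synthInstance.maxSize 2000 in
theorem of_z3 {ι : Multiplicative (ZMod 3) →* G} (hι : Function.Injective ι) (h : Prim ι.range)
    (hs : ¬ Group.IsSolvable G) : Nonempty (G ≃* alternatingGroup (Fin 5)) :=
  of_small hι h hs (w := Multiplicative.ofAdd 1) (by decide) (by decide) (by decide +kernel)

set_option synthInstance.maxSize 2000 in
theorem of_s3 {ι : Perm (Fin 3) →* G} (hι : Function.Injective ι) (h : Prim ι.range)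
    (hs : ¬ Group.IsSolvable G) : Nonempty (G ≃* alternatingGroup (Fin 5)) :=
  of_small hι h hs (w := swap 0 1 * swap 1 2) (by decide) (by decide) (by decide +kernel)

variable {Ω : Type*} [MulAction G Ω] [FaithfulSMul G Ω] [IsPreprimitive G Ω]

omit [Finite G] in
theorem prim_stabilizer (a : Ω) : Prim (stabilizer G a) :=
  ⟨fun _ => H7.eq_or_eq_top_of_stabilizer_le, fun _ hN => H7.eq_bot_of_normal_of_le_stabilizer hN⟩

omit [FaithfulSMul G Ω] in
theorem sub3_stabilizer (a b : Ω) (h : Nat.card (orbit (stabilizer G a) b) = 3) :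
    Sub3 (stabilizer G a) := by
  rw [H7.card_orbit_eq_relIndex] at h
  obtain ⟨g, rfl⟩ := exists_smul_eq G a b
  refine ⟨stabilizer G (g • a) ⊓ stabilizer G a, g⁻¹, inf_le_right, fun e => ?_, fun t ht => ?_, ?_⟩
  · rw [inv_mem_iff, mem_stabilizer_iff] at e
    simp [e] at h
  · rw [mem_stabilizer_iff, inv_inv, mul_smul, mul_smul, ht.1, inv_smul_smul]
  · rw [← h, ← Nat.card_congr (subgroupOfEquivOfLe inf_le_right).toEquiv, inf_subgroupOf_right]
    exact card_mul_index _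

end Cfsg.Agent.H3
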