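import Cfsg.Agent.H3.WSD2
import Cfsg.Agent.H3.WPrime

/-!
# Primitive groups with point stabilizer `S₄`
-/

set_option autoImplicit false

namespace Cfsg.Agent.H3

open Subgroup Equiv
open scoped MatrixGroups

variable {G : Type*} [Group G]

theorem mem_normalizer_closure [Finite G] {S : Set G} {x : G}
    (h : ∀ s ∈ S, x * s * x⁻¹ ∈ closure S) : x ∈ normalizer (closure S : Set G) :=
  mem_normalizer_fintype (fun g hg => by
    have : closure S ≤ (closure S).comap (MulAut.conj x).toMonoidHom := (closure_le _).2 h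
    exact this hg)

/-- `M` is a core-free maximal subgroup. -/
structure Prim (M : Subgroup G) : Prop where
  max : ∀ H, M ≤ H → H = M ∨ H = ⊤
  core : ∀ N : Subgroup G, N.Normal → N ≤ M → N = ⊥

namespace Prim

variable {M : Subgroup G} (h : Prim M)
include h

theorem mem_of_norm {V : Subgroup G} (h1 : V ≤ M) (h2 : V ≠ ⊥) (h3 : M ≤ normalizer (V : Set G))
    {x : G} (hx : x ∈ normalizer (V : Set G)) : x ∈ M :=
  (h.max _ h3).resolve_right (fun e => h2 (h.core V (normalizer_eq_top_iff.1 e) h1)) ▸ hx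

theorem mem_of_norm' [Finite G] {c : G} (h1 : c ∈ M) (h2 : c ≠ 1)
    (h3 : ∀ m ∈ M, m * c * m⁻¹ ∈ zpowers c) {x : G} (hx : x * c * x⁻¹ ∈ zpowers c) : x ∈ M := by
  have key : ∀ x, x * c * x⁻¹ ∈ zpowers c → x ∈ normalizer (zpowers c : Set G) := fun x hx =>
    mem_normalizer_fintype (by
      rintro _ ⟨k, rfl⟩
      rw [← conj_zpow]
      exact zpow_mem hx k)
  exact h.mem_of_norm (zpowers_le.2 h1) (by simpa using h2) (fun m hm => key m (h3 m hm)) (key x hx)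

theorem mem_of_comm [Finite G] {c : G} (h1 : c ∈ M) (h2 : c ≠ 1) (h3 : ∀ m ∈ M, Commute m c)
    {x : G} (hx : Commute x c) : x ∈ M :=
  h.mem_of_norm' h1 h2 (fun m hm => by simp [(h3 m hm).eq]) (by simp [hx.eq])

theorem exists_mul {N : Subgroup G} [hN : N.Normal] (h1 : N ≠ ⊥) (g : G) :
    ∃ n ∈ N, ∃ m ∈ M, g = n * m := by
  have : g ∈ ((N ⊔ M : Subgroup G) : Set G) := (h.max _ le_sup_right).resolve_left
    (fun e => h1 (h.core N hN (e ▸ le_sup_left))) ▸ mem_top g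
  rw [normal_mul] at this
  obtain ⟨n, hn, m, hm, e⟩ := this
  exact ⟨n, hn, m, hm, e.symm⟩

theorem mem_normal {N : Subgroup G} [N.Normal] (h1 : N ≠ ⊥) {y r w b : G} (rr : r * r = 1)
    (w3 : w ^ 3 = 1) (wz : w * y ^ 2 * w⁻¹ = r) (sw : y * r * w * (y * r) = w⁻¹)
    (br : b * r * b⁻¹ = y * r)
    (hr : ∀ m ∈ M, m * r * m⁻¹ = y ^ 2 ∨ m * r * m⁻¹ = r ∨ m * r * m⁻¹ = y ^ 2 * r) :
    y ∈ N ∧ r ∈ N ∧ w ∈ N := by
  obtain ⟨n, hn, m, hm, rfl⟩ := h.exists_mul h1 b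
  let π := QuotientGroup.mk' N
  have hπ : ∀ g, π g = 1 ↔ g ∈ N := QuotientGroup.eq_one_iff
  have e : π y * π r = π (m * r * m⁻¹) := by
    rw [← map_mul, ← br]; simp [(hπ n).2 hn, -QuotientGroup.mk'_apply]
  have e1 : π r = π w * π y ^ 2 * (π w)⁻¹ := by rw [← wz]; simp
  have hy : π y = 1 := by
    rcases hr m hm with e' | e' | e' <;> rw [e'] at e
    · rw [map_pow, sq, mul_right_inj] at e
      rw [← e, e1, ← e, sq, ← map_mul, rr]; simp
    · simpa using e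
    · simpa [sq, -QuotientGroup.mk'_apply] using e
  have hr : π r = 1 := by simp [e1, hy]
  refine ⟨(hπ y).1 hy, (hπ r).1 hr, (hπ w).1 ?_⟩
  have e2 := congrArg π sw
  have e3 := congrArg π w3
  simp only [map_mul, map_inv, hy, hr, one_mul, mul_one, map_pow, map_one] at e2 e3
  rw [← e3, pow_three']
  nth_rewrite 2 [e2]
  simp

theorem solvable {N : Subgroup G} [N.Normal] (h1 : N ≠ ⊥) [Group.IsSolvable N] [Group.IsSolvable M] :
    Group.IsSolvable G := by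
  have : Group.IsSolvable (G ⧸ N) := Group.isSolvable_of_surjective
    (f := (QuotientGroup.mk' N).comp M.subtype) (fun g => by
      obtain ⟨g, rfl⟩ := QuotientGroup.mk'_surjective N g
      obtain ⟨n, hn, m, hm, rfl⟩ := h.exists_mul h1 g
      exact ⟨⟨m, hm⟩, by simp [(QuotientGroup.eq_one_iff n).2 hn]⟩)
  exact Group.isSolvable_of_ker_le_range N.subtype (QuotientGroup.mk' N) (by simp)

end Prim

/-- Some subgroup of index three in `M` is conjugated into `M` by an element outside `M`. -/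
def Sub3 (M : Subgroup G) : Prop :=
  ∃ (T : Subgroup G) (g : G), T ≤ M ∧ g ∉ M ∧ (∀ t ∈ T, g * t * g⁻¹ ∈ M) ∧
    Nat.card T * 3 = Nat.card M

theorem Sub3.exists_norm [Finite G] {M T : Subgroup G} (h : Sub3 M) (h1 : T ≤ M) {n : ℕ}
    (h2 : Nat.card T = 2 ^ n) (h3 : Nat.card M = 2 ^ n * 3) :
    ∃ x ∉ M, x ∈ normalizer (T : Set G) := by
  have : Fact (Nat.Prime 2) := ⟨Nat.prime_two⟩
  have key : ∀ T P : Subgroup G, T ≤ M → Nat.card T = 2 ^ n → P ≤ M → IsPGroup 2 P →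
      ∃ m ∈ M, ∀ u ∈ P, m * u * m⁻¹ ∈ T := fun T P h1 h2 h4 h5 => by
    have e : Nat.card (T.subgroupOf M) = 2 ^ n := by
      rw [Nat.card_congr (subgroupOfEquivOfLe h1).toEquiv, h2]
    let S : Sylow 2 M := (IsPGroup.of_card e).toSylow (by
      have := (T.subgroupOf M).card_mul_index
      rw [e, h3] at this
      rw [Nat.eq_of_mul_eq_mul_left (by positivity) this]
      norm_num)
    obtain ⟨Q, hQ⟩ := (h5.comap_subtype (K := M)).exists_le_sylow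
    obtain ⟨m, hm⟩ := MulAction.exists_smul_eq M Q S
    refine ⟨m, m.2, fun u hu => ?_⟩
    have : m * ⟨u, h4 hu⟩ * m⁻¹ ∈ (S : Subgroup M) := hm ▸ ⟨⟨u, h4 hu⟩, hQ hu, rfl⟩
    exact this
  obtain ⟨T', g, h4, h5, h6, h7⟩ := h
  have h8 : Nat.card T' = 2 ^ n := by omega
  obtain ⟨m, hm, e⟩ := key T' T h4 h8 h1 (IsPGroup.of_card h2)
  obtain ⟨m', hm', e'⟩ := key T (T'.map (MulAut.conj g).toMonoidHom) h1 h2
    (by rintro _ ⟨t, ht, rfl⟩; exact h6 t ht) ((IsPGroup.of_card h8).map _)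
  refine ⟨m' * g * m, fun e => h5 (by simpa [mul_assoc] using mul_mem (mul_mem (inv_mem hm') e) (inv_mem hm)),
    mem_normalizer_fintype (fun t ht => ?_)⟩
  simpa [mul_assoc] using e' _ (mem_map_of_mem _ (e t ht))

/-- A four-cycle. -/
def y4 : Perm (Fin 4) := swap 0 1 * swap 1 2 * swap 2 3
/-- A double transposition. -/
def r4 : Perm (Fin 4) := swap 0 1 * swap 2 3
/-- A three-cycle. -/
def w4 : Perm (Fin 4) := swap 0 1 * swap 1 2

theorem s4_rels : y4 ^ 4 = 1 ∧ y4 ^ 2 ≠ 1 ∧ r4 * r4 = 1 ∧ r4 * y4 * r4 = y4⁻¹ ∧ w4 ^ 3 = 1 ∧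
    w4 * y4 ^ 2 * w4⁻¹ = r4 ∧ y4 * r4 * w4 * (y4 * r4) = w4⁻¹ := by decide +kernel

set_option synthInstance.maxSize 2000 in
theorem s4_facts : ∀ g : Perm (Fin 4),
    (∃ (i : Fin 4) (j : Fin 2) (k : Fin 3), g = y4 ^ i.val * r4 ^ j.val * w4 ^ k.val) ∧
    (g * y4 ^ 2 * g⁻¹ = y4 ^ 2 ∨ g * y4 ^ 2 * g⁻¹ = r4 ∨ g * y4 ^ 2 * g⁻¹ = y4 ^ 2 * r4) ∧
    (g * r4 * g⁻¹ = y4 ^ 2 ∨ g * r4 * g⁻¹ = r4 ∨ g * r4 * g⁻¹ = y4 ^ 2 * r4) ∧
    (g * g = 1 → g * w4 = w4 * g → g = 1) ∧ (g * y4 ^ 2 = y4 ^ 2 * g → g ^ 4 = 1 ∧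
      (g * r4 = r4 * g → g = 1 ∨ g = y4 ^ 2 ∨ g = r4 ∨ g = y4 ^ 2 * r4) ∧
      (g * g = 1 ∨ g = y4 ∨ g = y4⁻¹) ∧ (g * g = 1 → g * y4 = y4 * g ∨ (g = r4 ∨ g = y4 ^ 2 * r4) ∨
        g = y4 * r4 ∨ g = y4 * (y4 * r4) * y4⁻¹)) := by decide +kernel

theorem card_cent_y4 : Nat.card (centralizer {y4 ^ 2}) = 2 ^ 3 := by
  rw [Nat.card_congr (Equiv.subtypeEquivRight (fun g => mem_centralizer_singleton_iff)),
    Nat.card_eq_fintype_card]
  decide +kernel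

theorem of_s4 [Finite G] {ι : Perm (Fin 4) →* G} (hι : Function.Injective ι) (h : Prim ι.range)
    (h3 : Sub3 ι.range) : (∃ p : ℕ, p.Prime ∧ (p % 16 = 1 ∨ p % 16 = 15) ∧
      Nonempty (G ≃* PSL(2, ZMod p))) ∨ Nonempty (G ≃* PSL(3, ZMod 3)) := by
  have cM : Nat.card ι.range = 24 := by
    rw [← Nat.card_congr (MonoidHom.ofInjective hι).toEquiv, Nat.card_perm, Nat.card_fin]; rfl
  obtain ⟨x, hx, hxT⟩ := h3.exists_norm (T := (centralizer {y4 ^ 2}).map ι) (map_le_range _ _)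
    (by rw [card_map_of_injective hι, card_cent_y4]) cM
  obtain ⟨e0, e1, e2, e3, e4, e5, e6⟩ := s4_rels
  replace e0 := congrArg ι e0
  replace e1 := hι.ne e1
  replace e2 := congrArg ι e2
  replace e3 := congrArg ι e3
  replace e4 := congrArg ι e4
  replace e5 := congrArg ι e5
  replace e6 := congrArg ι e6
  have F := fun g => s4_facts g
  simp only [← hι.eq_iff] at F
  simp only [map_mul, map_pow, map_inv, map_one] at e0 e1 e2 e3 e4 e5 e6 F
  have my : ι y4 ∈ ι.range := ⟨_, rfl⟩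
  have mr : ι r4 ∈ ι.range := ⟨_, rfl⟩
  have hT : ∀ t, t ∈ (centralizer {y4 ^ 2}).map ι ↔ t ∈ ι.range ∧ Commute t (ι y4 ^ 2) := fun t =>
    ⟨by
      rintro ⟨g, hg, rfl⟩
      exact ⟨⟨g, rfl⟩, by
        simpa [commute_iff_eq] using congrArg ι (mem_centralizer_singleton_iff.1 hg)⟩, by
      rintro ⟨⟨g, rfl⟩, hg⟩
      exact ⟨g, mem_centralizer_singleton_iff.2 (hι (by simpa using hg.eq)), rfl⟩⟩
  simp only [mem_normalizer_iff, hT] at hxT
  replace F : ∀ g ∈ ι.range, _ := fun g ⟨γ, e⟩ => e ▸ F γ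
  generalize ι y4 = y at *
  generalize ι r4 = r at *
  generalize ι w4 = w at *
  generalize ι.range = M at *
  have hV : ∀ g, (g * y ^ 2 * g⁻¹ = y ^ 2 ∨ g * y ^ 2 * g⁻¹ = r ∨ g * y ^ 2 * g⁻¹ = y ^ 2 * r) →
      (g * r * g⁻¹ = y ^ 2 ∨ g * r * g⁻¹ = r ∨ g * r * g⁻¹ = y ^ 2 * r) → g ∈ M := by
    have m1 : y ^ 2 ∈ closure {y ^ 2, r} := subset_closure (by simp)
    have m2 : r ∈ closure {y ^ 2, r} := subset_closure (by simp)
    have key : ∀ g, (g * y ^ 2 * g⁻¹ = y ^ 2 ∨ g * y ^ 2 * g⁻¹ = r ∨ g * y ^ 2 * g⁻¹ = y ^ 2 * r) →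
        (g * r * g⁻¹ = y ^ 2 ∨ g * r * g⁻¹ = r ∨ g * r * g⁻¹ = y ^ 2 * r) →
        g ∈ normalizer (closure {y ^ 2, r} : Set G) := fun g h1 h2 => mem_normalizer_closure (by
      rintro _ (rfl | rfl)
      · rcases h1 with e | e | e <;> rw [e]
        exacts [m1, m2, mul_mem m1 m2]
      · rcases h2 with e | e | e <;> rw [e]
        exacts [m1, m2, mul_mem m1 m2])
    exact fun g h1 h2 => h.mem_of_norm ((closure_le _).2 (by
      rintro _ (rfl | rfl); exacts [pow_mem my 2, mr])) (fun e => e1 (by rwa [e, mem_bot] at m1))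
      (fun m hm => key m (F m hm).2.1 (F m hm).2.2.1) (key g h1 h2)
  have ri : r⁻¹ = r := inv_eq_of_mul_eq_one_right e2
  have rz : Commute r (y ^ 2) := mul_inv_eq_iff_eq_mul.1 (by
    rw [← conj_pow, ri, e3, inv_pow, inv_eq_iff_mul_eq_one, ← pow_add, e0])
  have cy := (Commute.refl y).pow_right 2
  obtain ⟨b, hb1, hb2⟩ : ∃ b, Commute b y ∧ b * r * b⁻¹ = y * r := by
    have h1 : x * y * x⁻¹ = y ∨ x * y * x⁻¹ = y⁻¹ := by
      obtain ⟨m, c⟩ := (hxT y).1 ⟨my, cy⟩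
      exact ((F _ m).2.2.2.2 c).2.2.1.resolve_left (fun e => e1 (by
        rwa [conj_mul, conj_eq_one_iff, ← sq] at e))
    have h2 : x * y ^ 2 * x⁻¹ = y ^ 2 := by
      rw [← conj_pow]
      rcases h1 with e | e <;> rw [e]
      rw [inv_pow, inv_eq_iff_mul_eq_one, ← pow_add, e0]
    obtain ⟨m, c⟩ := (hxT r).1 ⟨mr, rz⟩
    have h4 : ∀ x : G, x * y * x⁻¹ = y ∨ x * y * x⁻¹ = y⁻¹ → x * r * x⁻¹ = y * r →
        ∃ b, Commute b y ∧ b * r * b⁻¹ = y * r := by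
      rintro x (e | e) e'
      · exact ⟨x, mul_inv_eq_iff_eq_mul.1 e, e'⟩
      · refine ⟨x * r, mul_inv_eq_iff_eq_mul.1 ?_, by rw [← e']; group⟩
        calc _ = x * (r * y * r⁻¹) * x⁻¹ := by group
          _ = _ := by rw [ri, e3, ← conj_inv, e, inv_inv]
    rcases ((F _ m).2.2.2.2 c).2.2.2 (by rw [conj_mul, e2]; simp) with e | e | e | e
    · exfalso
      have c1 : Commute (x * r * x⁻¹) (x * y * x⁻¹) := by
        rcases h1 with e' | e' <;> rw [e']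
        exacts [e, Commute.inv_right e]
      have c2 : Commute r y := by simpa [mul_assoc] using conj_comm_iff.1 c1
      rw [c2.eq, mul_assoc, e2, mul_one] at e3
      exact e1 (by rw [sq]; nth_rewrite 1 [e3]; simp)
    · exact absurd (hV x (Or.inl h2) (Or.inr e)) hx
    · exact h4 x h1 e
    · refine h4 (y⁻¹ * x) (h1.imp (fun e => ?_) (fun e => ?_)) ?_
      all_goals
        rw [show ∀ u, y⁻¹ * x * u * (y⁻¹ * x)⁻¹ = y⁻¹ * (x * u * x⁻¹) * y by intro u; group, e]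
        group
  have hF : Fr y r w b := ⟨e0, e1, e2, e3, e4, e5, e6, fun g c1 c2 => ((F g (hV g
    (Or.inl (by rw [c1.eq, mul_inv_cancel_right]))
    (Or.inr (Or.inl (by rw [c2.eq, mul_inv_cancel_right]))))).2.2.2.2 c1).2.1 c2, hb1, hb2⟩
  have gen : ∀ L : Subgroup G, y ∈ L → w ∈ L → L = ⊤ ∨ L = M := fun L hy hw => (h.max L (fun g hg => by
    obtain ⟨i, j, k, e⟩ := (F g hg).1
    have hr : r ∈ L := e5 ▸ mul_mem (mul_mem hw (pow_mem hy 2)) (inv_mem hw)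
    exact e ▸ mul_mem (mul_mem (pow_mem hy _) (pow_mem hr _)) (pow_mem hw _))).symm
  have : Nontrivial G := ⟨⟨_, _, e1⟩⟩
  have : IsSimpleGroup G := ⟨fun N hN => or_iff_not_imp_left.2 (fun h1 => by
    obtain ⟨hy, -, hw⟩ := h.mem_normal h1 e2 e4 e5 e6 hb2 (fun m hm => (F m hm).2.2.1)
    exact (gen N hy hw).resolve_right (fun e => h1 (h.core N hN e.le)))⟩
  obtain ⟨a, j, hS⟩ := hF.exists_sy
  rcases hS.ra with e | e
  · obtain ⟨W, hv⟩ := hS.exists_sv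
    obtain ⟨q, q1, q2, q3⟩ := Dh.psl2 ⟨hv, e, fun L hy hw => (gen L hy hw).imp_right
      (fun (e : L = M) g hg c => ((F g (e ▸ hg)).2.2.2.2 c).1)⟩
    obtain ⟨K, _, _, hK⟩ := exists_field_of_isPrimePow q1
    rw [← Nat.card_eq_fintype_card] at hK
    have hq := hF.card_prime (fun L hy hw => (gen L hy hw).imp_right (fun e : L = M => e ▸ cM))
      (q3 K hK).some (hK ▸ q2)
    rw [hK] at hq
    have : Fact q.Prime := ⟨hq⟩
    exact Or.inl ⟨q, hq, q2, q3 (ZMod q) (Nat.card_zmod q)⟩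
  · obtain ⟨a, g, W, hd⟩ := hS.exists_sd e
    obtain ⟨φ, hg⟩ := hd.exists_sg
    refine Or.inr (hg.iso (fun t => hg.eq_one_of_comm_w (fun L hy hw => (gen L hy hw).imp_right
      (fun (e : L = M) g hg => (F g (e ▸ hg)).2.2.2.1))) (fun L h1 hw => (gen L (h1 y cy) hw).resolve_right
      (fun e => hd.a_four ((F a (e ▸ h1 a hd.az)).2.2.2.2 hd.az).1)))

end Cfsg.Agent.H3
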