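import Cfsg.Agent.H3.WTwo
import Cfsg.Agent.H3.PGL2Rec
import Cfsg.Agent.H3.PSL2Card
import Cfsg.Agent.H6.AltSpec
import Cfsg.Agent.H7.Fitting
import Cfsg.Agent.S3331

/-!
# Primitive groups with a point stabilizer of order at most twelve
-/

set_option autoImplicit false

namespace Cfsg.Agent.H3

open Subgroup Equiv
open scoped MatrixGroups

variable {G : Type*} [Group G]

instance wFactFive : Fact (Nat.Prime 5) := ⟨by norm_num⟩
instance wFactSeven : Fact (Nat.Prime 7) := ⟨by norm_num⟩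
instance wFactEleven : Fact (Nat.Prime 11) := ⟨by norm_num⟩
instance wFactThirteen : Fact (Nat.Prime 13) := ⟨by norm_num⟩

theorem isSolvable_of_commutator_mem {M : Subgroup G} {w : G} (hw : w ∈ M)
    (h : ∀ a ∈ M, ∀ b ∈ M, a * b * a⁻¹ * b⁻¹ ∈ zpowers w) : Group.IsSolvable M := by
  have : Group.IsSolvable (zpowers (⟨w, hw⟩ : M)) := Group.isSolvable_of_comm (fun a b => mul_comm' a b)
  refine Group.isSolvable_of_ker_le_range (zpowers (⟨w, hw⟩ : M)).subtype Abelianization.of ?_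
  rw [Abelianization.ker_of, range_subtype, commutator_def, commutator_le]
  intro a _ b _
  obtain ⟨k, e⟩ := h a a.2 b b.2
  exact ⟨k, Subtype.ext e⟩

theorem card_psl27 : Nat.card PSL(2, ZMod 7) = 168 := by
  have := card_psl2_mul (ZMod 7)
  rw [ZMod.card] at this
  exact Nat.eq_of_mul_eq_mul_right two_pos this

theorem card_alt5 : Nat.card (alternatingGroup (Fin 5)) = 60 := by
  have := two_mul_nat_card_alternatingGroup (α := Fin 5)
  rw [Nat.card_perm, Nat.card_fin] at this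
  simp only [Nat.factorial] at this
  omega

/-- A generator. -/
def p7y : SL(2, ZMod 7) := ⟨!![0, 1; 6, 3], by decide +kernel⟩
/-- A generator. -/
def p7r : SL(2, ZMod 7) := ⟨!![6, 1; 5, 1], by decide +kernel⟩
/-- A generator. -/
def p7w : SL(2, ZMod 7) := ⟨!![1, 1; 4, 5], by decide +kernel⟩

variable [Finite G]

theorem exists_s4_of_psl27 (e : G ≃* PSL(2, ZMod 7)) {w : G} (hw : w ^ 3 = 1) :
    ∃ y r v : G, y ^ 4 = 1 ∧ y ^ 2 ≠ 1 ∧ r * r = 1 ∧
      r * y * r = y⁻¹ ∧ v ^ 3 = 1 ∧ v * y ^ 2 * v⁻¹ = r ∧ y * r * v * (y * r) = v⁻¹ ∧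
      y * r * v ≠ v * (y * r) ∧ w ∈ zpowers v := by
  have : Fact (Nat.Prime 3) := ⟨Nat.prime_three⟩
  have key : ∀ e : G ≃* PSL(2, ZMod 7), ∀ y r v, y = e.symm p7y → r = e.symm p7r → v = e.symm p7w →
      y ^ 4 = 1 ∧ y ^ 2 ≠ 1 ∧ r * r = 1 ∧
      r * y * r = y⁻¹ ∧ v ^ 3 = 1 ∧ v * y ^ 2 * v⁻¹ = r ∧ y * r * v * (y * r) = v⁻¹ ∧
      y * r * v ≠ v * (y * r) := by
    intro e y r v hy hr hv
    let π : SL(2, ZMod 7) →* G := e.symm.toMonoidHom.comp (QuotientGroup.mk' _)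
    have hπ : ∀ A B : SL(2, ZMod 7), π A = π B ↔ ∃ c : ZMod 7, c ^ 2 = 1 ∧ B.1 = c • A.1 :=
      fun A B => e.symm.injective.eq_iff.trans (psl_mk_eq_iff A B)
    rw [show y = π p7y from hy, show r = π p7r from hr, show v = π p7w from hv]
    simp only [← map_mul, ← map_pow, ← map_inv, ← map_one π, hπ, ne_eq]
    decide +kernel
  obtain ⟨-, -, -, -, e4, -, -, e7⟩ := key e _ _ _ rfl rfl rfl
  have cv : Nat.card (zpowers (e.symm p7w)) = 3 ^ 1 := by
    rw [Nat.card_zpowers, orderOf_eq_prime e4 (fun e => e7 (by simp [e]))]; rfl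
  obtain ⟨g, k, hg⟩ := IsPElt.exists_conj_mem (p := 3) (u := w) ⟨1, hw⟩
    ((IsPGroup.of_card cv).toSylow (fun h => by
      have := (zpowers (e.symm p7w)).card_mul_index
      rw [cv, Nat.card_congr e.toEquiv, card_psl27] at this
      omega))
  obtain ⟨e0, e1, e2, e3, e4, e5, e6, e7⟩ := key ((MulAut.conj g).trans e) _ _ _ rfl rfl rfl
  refine ⟨_, _, _, e0, e1, e2, e3, e4, e5, e6, e7, k, ?_⟩
  simp only [MulEquiv.symm_trans_apply, ← map_zpow] at hg ⊢
  rw [hg]; simp [mul_assoc]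

theorem Prim.pCore_eq_bot {M : Subgroup G} (h : Prim M) [Group.IsSolvable M]
    (hs : ¬ Group.IsSolvable G) (K : Subgroup G) [K.Normal] : pCore 2 K = ⊥ := by
  have : Fact (Nat.Prime 2) := ⟨Nat.prime_two⟩
  have := H7.pCore_characteristic 2 K
  by_contra e
  have := ((H7.pCore_isPGroup 2 K).map K.subtype).isNilpotent
  exact hs (h.solvable (N := (pCore 2 K).map K.subtype)
    (by rwa [Ne, map_eq_bot_iff_of_injective _ K.subtype_injective]))

theorem cases_of_selfCent {w : G} (h1 : orderOf w = 3) (h2 : ∀ g, Commute g w → g ∈ zpowers w)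
    (hs : ¬ Group.IsSolvable G) (hO : pCore 2 G = ⊥) :
    Nonempty (G ≃* alternatingGroup (Fin 5)) ∨ Nonempty (G ≃* PSL(2, ZMod 7)) := by
  have : Fact (Nat.Prime 3) := ⟨Nat.prime_three⟩
  rcases S3331.result (zpowers w) (by rw [Nat.card_zpowers, h1]) (le_antisymm
    (fun g hg => h2 g (mem_centralizer_iff.1 hg w (mem_zpowers w)).symm)
    (zpowers w).le_centralizer) with ⟨N, hN, h3, -, h4⟩ | ⟨N, hN, -, h3, ⟨e⟩⟩ | e
  · refine absurd ((Group.isSolvable_iff_subgroup_quotient N).2 ⟨inferInstance, ?_⟩) hs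
    rcases h4 with e | ⟨⟨e⟩⟩
    · have := isCyclic_of_prime_card e
      exact Group.isSolvable_of_comm (fun a b => mul_comm' a b)
    · have := isSolvable_of_commutator_mem (M := ⊤) (mem_top (swap 0 1 * swap 1 2 : Perm (Fin 3)))
        (fun a _ b _ => by
          obtain ⟨i, e⟩ := (by decide +kernel : ∀ a b : Perm (Fin 3), ∃ i : Fin 3,
            a * b * a⁻¹ * b⁻¹ = (swap 0 1 * swap 1 2) ^ i.val) a b
          exact e ▸ pow_mem (mem_zpowers _) _)
      exact Group.isSolvable_of_surjective (f := (topEquiv.trans e.symm).toMonoidHom)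
        (topEquiv.trans e.symm).surjective
  · obtain rfl : N = ⊥ := eq_bot_iff.2 (hO ▸ H7.le_pCore hN
      (fun g => ⟨1, Subtype.ext (h3 g g.2)⟩))
    exact Or.inl ⟨QuotientGroup.quotientBot.symm.trans e⟩
  · exact Or.inr e

theorem Prim.alt5 {M : Subgroup G} (h : Prim M) (hs : ¬ Group.IsSolvable G) {w : G} (hw : w ∈ M)
    (h1 : orderOf w = 3) (h2 : ∀ m ∈ M, m * w * m⁻¹ ∈ zpowers w)
    (h3 : ∀ m ∈ M, Commute m w → m ∈ zpowers w) (h4 : ∀ m ∈ M, m ^ 6 = 1)
    (h5 : ∀ a ∈ M, ∀ b ∈ M, a * b * a⁻¹ * b⁻¹ ∈ zpowers w)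
    (h6 : ∀ s ∈ M, ¬ Commute s w → ∀ m ∈ M, ∃ i j : ℕ, m = w ^ i * s ^ j) :
    Nonempty (G ≃* alternatingGroup (Fin 5)) := by
  have : Fact (Nat.Prime 3) := ⟨Nat.prime_three⟩
  have := isSolvable_of_commutator_mem hw h5
  have w1 : w ≠ 1 := fun e => by simp [e] at h1
  have hN : ∀ g, g * w * g⁻¹ ∈ zpowers w → g ∈ M := fun g => h.mem_of_norm' hw w1 h2
  refine (cases_of_selfCent h1 (fun g c => h3 g (hN g (by simp [c.eq])) c) hs (by
    have := h.pCore_eq_bot hs ⊤
    rw [← H7.pCoreIn_eq_bot_iff, H7.pCoreIn_top] at this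
    exact this)).resolve_right (fun ⟨e⟩ => ?_)
  obtain ⟨y, r, v, e0, e1, e2, e3, e4, e5, e6, e7, hv⟩ :=
    exists_s4_of_psl27 e (h1 ▸ pow_orderOf_eq_one w)
  have e8 : zpowers w = zpowers v := zpowers_eq_of_prime_card (by
    rw [Nat.card_zpowers, orderOf_eq_prime e4 (fun e => e7 (by simp [e]))]
    exact Nat.prime_three) hv w1
  have hs : (y * r)⁻¹ = y * r := inv_eq_of_mul_eq_one_right (by
    rw [mul_assoc, ← mul_assoc r, e3, mul_inv_cancel])
  have m1 : y * r ∈ M := hN _ (by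
    obtain ⟨k, rfl⟩ := hv
    rw [e8, ← conj_zpow, hs, e6]
    exact zpow_mem (inv_mem (mem_zpowers v)) k)
  have m : ∀ x ∈ ({y, r, v} : Set G), x ∈ closure {y, r, v} := fun x hx => subset_closure hx
  have hle : M ≤ closure {y, r, v} := fun u hu => by
    obtain ⟨i, j, rfl⟩ := h6 _ m1 (fun c => e7 (by
      obtain ⟨k, hk⟩ := e8.ge (mem_zpowers v)
      exact hk ▸ c.zpow_right k)) u hu
    exact mul_mem (pow_mem (zpowers_le.2 (m v (by simp)) hv) i)
      (pow_mem (mul_mem (m y (by simp)) (m r (by simp))) j)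
  rcases h.max _ hle with e' | e'
  · have := h4 y (e' ▸ m y (by simp))
    rw [show 6 = 4 + 2 from rfl, pow_add, e0, one_mul] at this
    exact e1 this
  · obtain ⟨-, h24⟩ := WTC.s24_card e0 e2 e3 e4 e5 e6 (zpowers y) (mem_zpowers y)
    rw [Nat.card_zpowers, orderOf_eq_prime_pow (p := 2) (n := 1) e1 e0, e', card_top,
      Nat.card_congr e.toEquiv, card_psl27] at h24
    omega

omit [Finite G] in
theorem ncard_isConj (x : G) : {y | IsConj x y}.ncard = (centralizer {x}).index := by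
  rw [← index_stabilizer_conjAct, MulAction.index_stabilizer]
  congr 1
  ext y
  exact isConj_comm.trans ConjAct.mem_orbit_conjAct.symm

omit [Finite G] in
theorem Spec.of_equiv {H : Type*} [Group H] {p q m n d : ℕ} (h : Spec H p q m n d) (e : G ≃* H) :
    Spec G p q m n d :=
  ⟨h.prime, h.dvd_q, h.cqm, h.cqn, h.cmn, h.hd, by rw [Nat.card_congr e.toEquiv, h.card],
    fun g => e.orderOf_eq g ▸ h.spec (e g), h.exm.elim fun g hg => ⟨e.symm g, by simpa using hg⟩,
    h.exn.elim fun g hg => ⟨e.symm g, by simpa using hg⟩⟩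

theorem spec_alt5 : Spec (alternatingGroup (Fin 5)) 5 5 2 3 2 := by
  refine ⟨by norm_num, dvd_rfl, by norm_num, by norm_num, by norm_num, Or.inr rfl, card_alt5,
    fun g => ?_, (H6.spec_alt5 ▸ by simp : 2 ∈ Set.range _), (H6.spec_alt5 ▸ by simp : 3 ∈ Set.range _)⟩
  have : orderOf g ∈ ({1, 2, 3, 5} : Set ℕ) := H6.spec_alt5 ▸ Set.mem_range_self g
  rcases this with e | e | e | e <;> rw [e] <;> simp

theorem spec_psl27 : Spec PSL(2, ZMod 7) 7 7 4 3 2 := by
  have := spec_of_range_eq (G := PSL(2, ZMod 7)) (ZMod 7) (by simp) rfl rfl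
  rw [ZMod.card, ZMod.ringChar_zmod_n] at this
  exact this.symm

theorem perm5_pgl : Nonempty (Perm (Fin 5) ≃* GL (Fin 2) (ZMod 5) ⧸ center (GL (Fin 2) (ZMod 5))) := by
  refine nonempty_mulEquiv_pgl2_of_isolated (p := 5) (f := 0) (q := 5) (s := 24) (by norm_num) rfl rfl
    (by rw [Nat.card_perm, Nat.card_fin]; rfl) (fun g hg => ?_) (by norm_num) ?_ (ZMod 5) (by simp)
  · rcases (by decide +kernel : ∀ g : Perm (Fin 5), g ^ 12 = 1 ∨ g ^ 5 = 1) g with e | e
    · exact absurd (hg.trans (orderOf_dvd_of_pow_eq_one e)) (by norm_num)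
    · exact Nat.dvd_antisymm (orderOf_dvd_of_pow_eq_one e) hg
  · rw [Nat.card_congr (Equiv.subtypeEquivRight (fun g => orderOf_eq_prime_iff)),
      Nat.card_eq_fintype_card]
    decide +kernel

theorem pgl_of_spec {f : G →* ℤˣ} {c : G} (fc : f c = -1) (oc : orderOf c = 2)
    (hC : Nat.card (centralizer {c}) = 12) (h1 : ∀ t, t * t = 1 → f t = -1 → IsConj c t)
    {p m : ℕ} [Fact p.Prime] (h : Spec f.ker p p m 3 2) (hp : p = 5 ∧ m = 2 ∨ p = 7 ∧ m = 4) :
    Nonempty (G ≃* GL (Fin 2) (ZMod p) ⧸ center (GL (Fin 2) (ZMod p))) := by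
  have iK : f.ker.index = 2 := index_eq_two_iff.2 ⟨c, fun g => by
    rcases Int.units_eq_one_or (f g) with e | e <;> simp [e, fc]⟩
  have hG := f.ker.index_mul_card
  rw [iK, h.card] at hG
  have q1 : ¬ p ∣ m ∧ ¬ p ∣ 3 ∧ ¬ p ∣ 12 ∧ 2 ∣ m ∧ p ≠ 2 ∧ p * p - 1 + 1 = p * p := by
    rcases hp with ⟨rfl, rfl⟩ | ⟨rfl, rfl⟩ <;> decide
  refine nonempty_mulEquiv_pgl2_of_isolated (p := p) (f := 0) (q := p) (s := p * p - 1) h.prime
    (by simp) q1.2.2.2.2.2 (by rcases hp with ⟨rfl, rfl⟩ | ⟨rfl, rfl⟩ <;> omega) (fun g hg => ?_)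
    (by omega) ?_ (ZMod p) (by simp)
  · have key : ∀ g ∈ f.ker, p ∣ orderOf g → orderOf g = p := fun g hg e => by
      have := h.spec ⟨g, hg⟩
      rw [orderOf_mk] at this
      rcases this with e' | e' | e'
      exacts [Nat.dvd_antisymm e' e, absurd (e.trans e') q1.1, absurd (e.trans e') q1.2.1]
    rcases Int.units_eq_one_or (f g) with e | e
    · exact key g e hg
    exfalso
    have o : Odd p := by rcases hp with ⟨rfl, -⟩ | ⟨rfl, -⟩ <;> decide
    have e1 := key (g ^ 2) (by simp) ((Nat.coprime_two_right.2 o).dvd_of_dvd_mul_right (hg.trans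
      (orderOf_dvd_of_pow_eq_one (by rw [mul_comm, pow_mul, pow_orderOf_eq_one]))))
    obtain ⟨k, hk⟩ := isConj_iff.1 (h1 (g ^ p) (by
      rw [← pow_add, ← two_mul, pow_mul, ← e1, pow_orderOf_eq_one]) (by simp [e, o.neg_one_pow]))
    have := orderOf_dvd_natCard (⟨k⁻¹ * g ^ 2 * k⁻¹⁻¹, mem_centralizer_singleton_iff.2 (by
      rw [inv_inv]; exact comm_conj_iff.1 (hk ▸ Commute.pow_pow_self g 2 p))⟩ : centralizer {c})
    rw [orderOf_mk, orderOf_conj', e1, hC] at this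
    exact q1.2.2.1 this
  · obtain ⟨u, hu⟩ := h.exm
    obtain ⟨ζ, oζ⟩ : ∃ ζ : f.ker, orderOf ζ = 2 :=
      ⟨_, orderOf_pow_orderOf_div (orderOf_pos u).ne' (by omega)⟩
    have e1 := (centralizer {ζ}).card_mul_index
    have e2 := Nat.le_of_dvd (by omega)
      (h.card_centralizer_dvd (ρ := ζ) (fun e => by simp [e] at oζ) (oζ ▸ q1.2.2.2.1))
    have e3 := (centralizer {c}).card_mul_index
    rw [← ncard_isConj] at e1 e3
    rw [← Set.ncard_image_of_injective _ f.ker.subtype_injective, h.card] at e1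
    have e4 := Set.ncard_le_ncard (show f.ker.subtype '' {y | IsConj ζ y} ∪ {y | IsConj c y} ⊆
      {t | orderOf t = 2} by
        rintro _ (⟨t, ht, rfl⟩ | ht)
        · exact (orderOf_coe t).trans ((orderOf_eq_of_isConj ht).symm.trans oζ)
        · exact (orderOf_eq_of_isConj ht).symm.trans oc)
    rw [Set.ncard_union_eq (Set.disjoint_left.2 (by
      rintro _ ⟨t, -, rfl⟩ ht
      obtain ⟨k, hk⟩ := isConj_iff.1 ht
      have := congrArg f hk
      simp [fc, show f t = 1 from t.2] at this))] at e4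
    change _ ≤ Set.ncard {t | orderOf t = 2}
    rw [hC] at e3
    rcases hp with ⟨rfl, rfl⟩ | ⟨rfl, rfl⟩ <;> nlinarith

open DihedralGroup in
set_option synthInstance.maxSize 2000 in
theorem d12_facts : ∀ g : DihedralGroup 6, g * r 3 = r 3 * g ∧ g ^ 6 = 1 ∧
    (g * r 2 * g⁻¹ = r 2 ∨ g * r 2 * g⁻¹ = (r 2)⁻¹) ∧
    (g * r 2 = r 2 * g ∨ g * sr 0 * r 2 = r 2 * (g * sr 0)) ∧
    (g * r 2 = r 2 * g → sr 0 * g * (sr 0)⁻¹ = g⁻¹ ∧ (g ^ 3 = r 3 ∨ g = 1 ∨ g = r 2 ∨ g = (r 2)⁻¹)) ∧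
    ((g = 1 ∨ g = sr 0 ∨ g = r 3 ∨ g = sr 0 * r 3) ∨
      (g * sr 0 ≠ sr 0 * g ∧ g * (sr 0 * r 3) ≠ sr 0 * r 3 * g ∧
        ((g * sr 0) ^ 4 ≠ 1 ∨ g ^ 4 ≠ 1))) ∧
    ∀ k : DihedralGroup 6, k * g * k⁻¹ * g⁻¹ = 1 ∨ k * g * k⁻¹ * g⁻¹ = r 2 ∨
      k * g * k⁻¹ * g⁻¹ = (r 2)⁻¹ := by decide +kernel

theorem of_d12 {ι : DihedralGroup 6 →* G} (hι : Function.Injective ι) (h : Prim ι.range)
    (h3 : Sub3 ι.range) (hs : ¬ Group.IsSolvable G) : Nonempty (G ≃* Perm (Fin 5)) ∨
      Nonempty (G ≃* GL (Fin 2) (ZMod 7) ⧸ center (GL (Fin 2) (ZMod 7))) ∨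
      Nonempty (G ≃* PSL(2, ZMod 11)) ∨ Nonempty (G ≃* PSL(2, ZMod 13)) := by
  have : Fact (Nat.Prime 2) := ⟨Nat.prime_two⟩
  have : Fact (Nat.Prime 3) := ⟨Nat.prime_three⟩
  have cM : Nat.card ι.range = 12 := by
    rw [← Nat.card_congr (MonoidHom.ofInjective hι).toEquiv, DihedralGroup.nat_card]
  have F := d12_facts
  obtain ⟨e0, e1, e2, e3, e4, e5, e6⟩ : (DihedralGroup.r 2 : DihedralGroup 6) ^ 3 = 1 ∧
      (DihedralGroup.r 3 : DihedralGroup 6) * .r 3 = 1 ∧ (DihedralGroup.sr 0 : DihedralGroup 6) * .sr 0 = 1 ∧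
      (DihedralGroup.r 3 : DihedralGroup 6) ≠ 1 ∧ (DihedralGroup.sr 0 : DihedralGroup 6) ≠ 1 ∧
      (DihedralGroup.sr 0 : DihedralGroup 6) ≠ .r 3 ∧
      (DihedralGroup.sr 0 : DihedralGroup 6) * .r 2 ≠ .r 2 * .sr 0 := by decide +kernel
  simp only [← hι.eq_iff, ne_eq] at F e0 e1 e2 e3 e4 e5 e6
  simp only [map_mul, map_pow, map_inv, map_one] at F e0 e1 e2 e3 e4 e5 e6
  have mw : ι (.r 2) ∈ ι.range := ⟨_, rfl⟩
  have mc : ι (.r 3) ∈ ι.range := ⟨_, rfl⟩
  have ms : ι (.sr 0) ∈ ι.range := ⟨_, rfl⟩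
  have F' : ∀ a ∈ ι.range, ∀ b ∈ ι.range, a * b * a⁻¹ * b⁻¹ ∈ zpowers (ι (.r 2)) := by
    rintro _ ⟨a, rfl⟩ _ ⟨b, rfl⟩
    rcases (F b).2.2.2.2.2.2 a with e | e | e <;> simp [e]
  replace F : ∀ g ∈ ι.range, _ := fun g ⟨γ, e⟩ => e ▸ (⟨(F γ).1, (F γ).2.1, (F γ).2.2.1, (F γ).2.2.2.1,
    (F γ).2.2.2.2.1, (F γ).2.2.2.2.2.1⟩ : _ ∧ _ ∧ _ ∧ _ ∧ _ ∧ _)
  generalize ι (.r 2) = w at *
  generalize ι (.r 3) = c at *
  generalize ι (.sr 0) = s at *
  generalize ι.range = M at *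
  have := isSolvable_of_commutator_mem mw F'
  have w1 : w ≠ 1 := fun e => e6 (by simp [e])
  have ow : orderOf w = 3 := orderOf_eq_prime e0 w1
  have oc : orderOf c = 2 := orderOf_eq_prime (by rw [sq, e1]) e3
  have sc : Commute s c := (F s ms).1
  have Mc : ∀ g, Commute g c → g ∈ M := fun g => h.mem_of_comm mc e3 (fun m hm => (F m hm).1)
  have Mw : ∀ g, g * w * g⁻¹ ∈ zpowers w → g ∈ M := fun g => h.mem_of_norm' mw w1 (fun m hm => by
    rcases (F m hm).2.2.1 with e | e <;> simp [e])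
  have Mw' : ∀ g, Commute g w → g ∈ M := fun g e => Mw g (by simp [e.eq])
  have CM : centralizer {c} = M := by
    ext g
    exact mem_centralizer_singleton_iff.trans ⟨Mc g, fun e => (F g e).1⟩
  let T := M ⊓ centralizer {s}
  have hT : ∀ g, g ∈ T ↔ g = 1 ∨ g = s ∨ g = c ∨ g = s * c := fun g =>
    ⟨fun e => (F g e.1).2.2.2.2.2.resolve_right (fun e' => e'.1 (mem_centralizer_singleton_iff.1 e.2)),
      by
        rintro (e | e | e | e) <;> rw [e]
        exacts [one_mem _, ⟨ms, mem_centralizer_singleton_iff.2 rfl⟩,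
          ⟨mc, mem_centralizer_singleton_iff.2 sc.symm⟩, ⟨mul_mem ms mc,
            mem_centralizer_singleton_iff.2 ((Commute.refl s).mul_left sc.symm)⟩]⟩
  have cT : Nat.card T = 2 ^ 2 := card_eq_four e4 e3 e5 e1 hT
  obtain ⟨P, hP⟩ := (IsPGroup.of_card cT).exists_le_sylow
  have mT : ∀ g ∈ T, g * g = 1 := fun g hg => by
    rcases (hT g).1 hg with e | e | e | e <;> rw [e]
    exacts [mul_one 1, e2, e1, by rw [sc.symm.mul_mul_mul_comm, e2, e1, one_mul]]
  have cT' : c ∈ T := (hT c).2 (by simp)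
  have sT : s ∈ T := (hT s).2 (by simp)
  by_cases h4 : Nat.card P = 4
  · have hPT : T = P := eq_of_le_of_card_ge hP (h4.trans cT.symm).le
    obtain ⟨x, hx, hxT⟩ := h3.exists_norm (T := T) inf_le_left cT cM
    rw [mem_normalizer_iff] at hxT
    have x1 : x * c * x⁻¹ ≠ c := fun e => hx (Mc x (mul_inv_eq_iff_eq_mul.1 e))
    have x2 : x * (x * c * x⁻¹) * x⁻¹ ≠ c := fun e => by
      have m : x * x ∈ M := Mc _ (mul_inv_eq_iff_eq_mul.1 (by rw [← e]; nth_rewrite 1 [e]; group))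
      have c1 : Commute (x * x) (x * c * x⁻¹) := comm_conj_iff.2 (by
        simpa [mul_assoc] using (show Commute (x * x) c from (F _ m).1))
      have m' : x * x ∈ T := (hT _).2 ((F _ m).2.2.2.2.2.resolve_right (fun e' => by
        rcases (hT _).1 ((hxT c).1 cT') with e | e | e | e
        exacts [e3 (conj_eq_one_iff.1 e), e'.1 (e ▸ c1), x1 e, e'.2.1 (e ▸ c1)]))
      obtain ⟨B, -, cB⟩ := exists_ext2 m' (fun e => hx e.1) (fun u => (hxT u).1)
      rw [cT] at cB
      have := P.pow_dvd_card_of_pow_dvd_card (n := 3) (cB.symm.dvd.trans (card_subgroup_dvd_card B))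
      omega
    have hc : ∀ u ∈ T, u ≠ 1 → IsConj c u := fun u hu u1 => by
      have i1 : IsConj c (x * c * x⁻¹) := isConj_iff.2 ⟨x, rfl⟩
      have i2 : IsConj c (x * (x * c * x⁻¹) * x⁻¹) := i1.trans (isConj_iff.2 ⟨x, rfl⟩)
      have x3 : x * (x * c * x⁻¹) * x⁻¹ ≠ x * c * x⁻¹ := fun e => x1 (by simpa using e)
      have n1 : x * c * x⁻¹ ≠ 1 := fun e => e3 (conj_eq_one_iff.1 e)
      have n2 : x * (x * c * x⁻¹) * x⁻¹ ≠ 1 := fun e => n1 (conj_eq_one_iff.1 e)
      have A := (((hT _).1 ((hxT c).1 cT')).resolve_left n1).imp_right (·.resolve_left x1)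
      have B := (((hT _).1 ((hxT _).1 ((hxT c).1 cT'))).resolve_left n2).imp_right (·.resolve_left x2)
      rcases ((hT u).1 hu).resolve_left u1 with e | e | e <;> rw [e]
      · rcases A with a | a
        exacts [a ▸ i1, B.resolve_right (fun b => x3 (b.trans a.symm)) ▸ i2]
      · rcases A with a | a
        exacts [B.resolve_left (fun b => x3 (b.trans a.symm)) ▸ i2, a ▸ i1]
    have hm : ∀ {x : G}, x ∈ centralizer {w} ↔ Commute x w := mem_centralizer_singleton_iff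
    have hi : ∀ g, Commute g w → s * g * s⁻¹ = g⁻¹ := fun g e => ((F g (Mw' g e)).2.2.2.2.1 e).1
    have hB : H5.BSW (centralizer {w}) c s := by
      refine ⟨fun u hu v hv => ?_, hm.2 (Commute.symm (F w mw).1), e3, e1, fun e => e6 (hm.1 e), e2,
        fun u hu => hi u (hm.1 hu), fun g u hu u1 hg => ?_, fun u u1 u2 => ?_, ?_⟩
      · have := hi _ (hm.1 (mul_mem hu hv))
        rw [← conj_mul, hi u (hm.1 hu), hi v (hm.1 hv), ← mul_inv_rev, inv_inj] at this
        exact this.symm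
      · simp only [hm] at hu hg ⊢
        refine (F g ?_).2.2.2.1
        have a1 := ((F _ (Mw' _ hu)).2.2.2.2.1 hu).2
        have a2 := ((F _ (Mw' _ hg)).2.2.2.2.1 hg).2
        rw [conj_pow] at a2
        have a3 : ∀ u, u = 1 ∨ u = w ∨ u = w⁻¹ → u ^ 3 = 1 := by
          rintro u (e | e | e) <;> simp [e, e0]
        rcases a1 with a1 | a1
        · rw [a1] at a2
          exact Mc g (mul_inv_eq_iff_eq_mul.1 (a2.resolve_right (fun e => e3 (by
            have := a3 _ e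
            rwa [conj_pow, a1, conj_eq_one_iff] at this))))
        · have a4 : g * u * g⁻¹ ∈ zpowers w := by
            rcases a2.resolve_left (fun e => e3 (by rw [← e, a3 u a1]; simp)) with e | e | e <;>
              simp [e]
          rcases a1 with e | e | e
          · exact absurd e u1
          · exact Mw g (e ▸ a4)
          · exact Mw g (by simpa [e, ← conj_inv] using inv_mem a4)
      · obtain ⟨g, hg⟩ := IsPElt.exists_conj_mem (p := 2) (u := u) ⟨1, by rw [pow_one, sq, u2]⟩ P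
        exact (hc _ (hPT ▸ hg) (by simpa using u1)).trans (isConj_iff.2 ⟨g, rfl⟩).symm
      · exact lt_of_lt_of_le (by simp [ow]) (Nat.le_of_dvd Nat.card_pos
          (orderOf_dvd_natCard (⟨w, hm.2 (Commute.refl w)⟩ : centralizer {w})))
    have := hB.card_centralizer
    obtain ⟨q, -, q2, q3⟩ := hB.psl2
    rw [CM, cM] at this
    rcases q2 with e | e
    · exact Or.inr (Or.inr (Or.inr (q3 (ZMod 13) (by rw [Nat.card_zmod]; omega))))
    · exact Or.inr (Or.inr (Or.inl (q3 (ZMod 11) (by rw [Nat.card_zmod]; omega))))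
  let c' : P := ⟨c, hP cT'⟩
  let s' : P := ⟨s, hP sT⟩
  obtain ⟨d, j, hj, od, cP, cd, hd⟩ := suzuki_explicit P.isPGroup' (a := c') (by simpa [c'] using oc)
    (card_eq_four (u := s') (v := c') (fun e => e4 (congrArg Subtype.val e))
      (fun e => e3 (congrArg Subtype.val e)) (fun e => e5 (congrArg Subtype.val e)) (Subtype.ext e1)
      (fun g => by
        rw [mem_centralizer_singleton_iff]
        simp only [Subtype.ext_iff]
        refine ⟨fun e => (F g (Mc g e)).2.2.2.2.2.resolve_right (fun e' => ?_),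
          fun e => (F g ((hT g).2 e).1).1⟩
        have k : ∀ u : P, (u : G) ∈ M → (u : G) ^ 4 = 1 := fun u hu => by
          obtain ⟨n, hn⟩ := P.isPGroup' u
          have := (F _ hu).2.1
          rw [show 6 = 2 * 3 from rfl, pow_mul] at this
          have e7 := pow_eq_one_of_coprime (m := 3) (n := 2 ^ n) (Nat.Coprime.pow_right n (by norm_num))
            (x := (u : G) ^ 2) (by simpa using this) (by
              rw [← pow_mul, mul_comm, pow_mul, show (u : G) ^ 2 ^ n = 1 from congrArg Subtype.val hn,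
                one_pow])
          rw [show 4 = 2 * 2 from rfl, pow_mul, e7, one_pow]
        exact e'.2.2.elim (· (k (g * s') (mul_mem (Mc g e) ms))) (· (k g (Mc g e))))) h4
  have nd : ∀ g : G, g * c * g⁻¹ ∉ zpowers (d : G) := by
    rintro g ⟨k, e⟩
    have := (F _ (Mc _ (comm_conj_iff.1 ((show (d : G) ^ k = _ from e) ▸ Commute.self_zpow (d : G) k)))).2.1
    rw [← inv_inv g, inv_inv g⁻¹, conj_pow, conj_eq_one_iff, ← orderOf_dvd_iff_pow_eq_one, orderOf_coe,
      od] at this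
    have := (pow_dvd_pow 2 (show 2 ≤ j + 1 by omega)).trans this
    omega
  obtain ⟨f, fc⟩ := H5.exists_sign_of_not_conj (M := zpowers (d : G)) (by
    have a1 := (zpowers (d : G)).index_mul_card
    have a2 := (P : Subgroup G).index_mul_card
    have a3 := P.not_dvd_index
    rw [Nat.card_zpowers, orderOf_coe, od, ← a2, show Nat.card (P : Subgroup G) = _ from cP,
      ← mul_assoc] at a1
    have := Nat.eq_of_mul_eq_mul_right (by positivity) a1
    omega) e1 nd
  have fw : f w = 1 := by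
    have := congrArg f e0
    rwa [map_pow, map_one, pow_succ, Int.units_sq, one_mul] at this
  have iK : f.ker.index = 2 := index_eq_two_iff.2 ⟨c, fun g => by
    rcases Int.units_eq_one_or (f g) with e | e <;> simp [e, fc]⟩
  have main : ∀ {p m : ℕ} [Fact p.Prime], Spec f.ker p p m 3 2 → p = 5 ∧ m = 2 ∨ p = 7 ∧ m = 4 →
      Nonempty (G ≃* GL (Fin 2) (ZMod p) ⧸ center (GL (Fin 2) (ZMod p))) := fun {p m} _ hS hp => by
    refine pgl_of_spec fc oc (CM ▸ cM) (fun t t2 ft => ?_) hS hp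
    have hG := f.ker.index_mul_card
    rw [iK, hS.card] at hG
    have a1 : 4 * m ∣ 2 * 2 ^ (j + 1) := by
      rw [← cP]
      rcases hp with ⟨rfl, rfl⟩ | ⟨rfl, rfl⟩
      · exact P.pow_dvd_card_of_pow_dvd_card (n := 3) (by omega)
      · exact P.pow_dvd_card_of_pow_dvd_card (n := 4) (by omega)
    have fd : f d = -1 := (Int.units_eq_one_or _).resolve_left fun e => by
      have := hS.spec ⟨d, e⟩
      rw [← orderOf_coe, orderOf_coe (H := (P : Subgroup G)), od] at this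
      have a2 := pow_dvd_pow 2 (show 2 ≤ j + 1 by omega)
      rcases hp with ⟨rfl, rfl⟩ | ⟨rfl, rfl⟩ <;> rcases this with e | e | e <;>
        have := Nat.le_of_dvd (by norm_num) e <;> have := a2.trans e <;> omega
    obtain ⟨g, hg⟩ := IsPElt.exists_conj_mem (p := 2) (u := t) ⟨1, by rw [pow_one, sq, t2]⟩ P
    refine IsConj.trans ?_ (isConj_iff.2 ⟨g, rfl⟩).symm
    have ft' : f (g * t * g⁻¹) = -1 := by simp [ft]
    have t2' : g * t * g⁻¹ * (g * t * g⁻¹) = 1 := by rw [conj_mul, t2]; simp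
    have hi : (zpowers d).index = 2 := by
      have := (zpowers d).index_mul_card
      rw [Nat.card_zpowers, od, cP] at this
      exact Nat.eq_of_mul_eq_mul_right (by positivity) this
    by_cases e : (⟨_, hg⟩ : P) ∈ zpowers d
    · obtain ⟨i, hi⟩ := mem_powers_iff_mem_zpowers.2 e
      replace hi : (d : G) ^ i = g * t * g⁻¹ := congrArg Subtype.val hi
      rw [← hi, ← pow_add, ← orderOf_dvd_iff_pow_eq_one, orderOf_coe, od] at t2'
      obtain ⟨k, rfl⟩ : 2 ∣ i := by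
        have := (pow_dvd_pow 2 (show 2 ≤ j + 1 by omega)).trans t2'
        omega
      simp [← hi, pow_mul] at ft'
    · obtain ⟨i, hi⟩ := mem_powers_iff_mem_zpowers.2
        (((zpowers d).mul_mem_iff_of_index_two hi).2 (iff_of_false e cd))
      replace hi : (d : G) ^ i = g * t * g⁻¹ * c := congrArg Subtype.val hi
      obtain ⟨k, rfl | rfl⟩ := Nat.even_or_odd' i
      · rw [eq_mul_inv_of_mul_eq hi.symm, inv_eq_of_mul_eq_one_right e1]
        have ci : c⁻¹ = c := inv_eq_of_mul_eq_one_right e1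
        rcases hd with e | ⟨j2, e⟩ <;> replace e := congrArg Subtype.val e
        · replace e : c * d * c⁻¹ = (d : G)⁻¹ := e
          refine isConj_iff.2 ⟨d ^ k, ?_⟩
          calc _ = (d : G) ^ k * ((c * d * c⁻¹) ^ k)⁻¹ * c := by rw [conj_pow]; group
            _ = _ := by rw [e]; group
        · replace e : c * d * c⁻¹ = (d : G) ^ (2 ^ j - 1) := e
          obtain rfl : j = 2 := by
            have a2 := card_subgroup_dvd_card (P : Subgroup G)
            rw [show Nat.card (P : Subgroup G) = _ from cP, ← hG] at a2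
            by_contra
            have := (Nat.mul_dvd_mul_left 2 (pow_dvd_pow 2 (show 4 ≤ j + 1 by omega))).trans a2
            rcases hp with ⟨rfl, rfl⟩ | ⟨rfl, rfl⟩ <;> omega
          have d8 : (d : G) ^ 8 = 1 := by
            rw [← orderOf_dvd_iff_pow_eq_one, orderOf_coe, od]; rfl
          refine isConj_iff.2 ⟨d ^ (3 * k), ?_⟩
          calc _ = (d : G) ^ (3 * k) * ((c * d * c⁻¹) ^ (3 * k))⁻¹ * c := by rw [conj_pow]; group
            _ = (((d : G) ^ 8) ^ k)⁻¹ * d ^ (2 * k) * c := by rw [e]; group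
            _ = _ := by rw [d8]; simp
      · have := congrArg f hi
        simp [pow_succ, pow_mul, fd, ft, fc] at this
  rcases cases_of_selfCent (w := (⟨w, fw⟩ : f.ker)) ((orderOf_coe _).symm.trans ow) (fun g e => by
      replace e : Commute (g : G) w := congrArg Subtype.val e
      rcases ((F g (Mw' g e)).2.2.2.2.1 e).2 with e | e | e | e
      · have := congrArg f e
        simp [show f g = 1 from g.2, fc] at this
      · exact ⟨0, Subtype.ext (by simp [e])⟩
      · exact ⟨1, Subtype.ext (by simp [e])⟩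
      · exact ⟨-1, Subtype.ext (by simp [e])⟩)
    (fun _ => hs (h.solvable (N := f.ker) (fun e => w1 (mem_bot.1 (e ▸ fw))))) (h.pCore_eq_bot hs _)
    with ⟨⟨e⟩⟩ | ⟨⟨e⟩⟩
  · exact Or.inl ⟨(main (spec_alt5.of_equiv e) (by simp)).some.trans perm5_pgl.some.symm⟩
  · exact Or.inr (Or.inl (main (spec_psl27.of_equiv e) (by simp)))

end Cfsg.Agent.H3
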