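import Cfsg.Agent.H4.TC

/-!
# Coset enumerations for amalgams containing `S₄` and `GL₂(3)`
-/

set_option autoImplicit false
set_option maxRecDepth 100000
set_option linter.unusedSimpArgs false

namespace Cfsg.Agent.H3.WTC

open Cfsg.Agent.H4

/-- Certificate data. -/
def g48_par : Trie :=
    (.node (.node (.node (.leaf (nat_lit 0)) (.leaf (nat_lit 260))) (.leaf (nat_lit 4))) (.node
    (.node (.leaf (nat_lit 3)) (.leaf (nat_lit 261))) (.leaf (nat_lit 5))))

/-- Certificate data. -/
def g48_fact : Trie :=
    (.node (.node (.node (.node (.leaf (nat_lit 1)) (.leaf (nat_lit 7170))) (.node (.leaf (nat_lit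
    6149)) (.leaf (nat_lit 9474)))) (.node (.node (.leaf (nat_lit 2305)) (.leaf (nat_lit 9477)))
    (.node (.leaf (nat_lit 8452)) (.leaf (nat_lit 6657))))) (.node (.node (.node (.leaf (nat_lit
    2051)) (.leaf (nat_lit 10501))) (.node (.leaf (nat_lit 4869)) (.leaf (nat_lit 10754)))) (.node
    (.node (.leaf (nat_lit 4100)) (.leaf (nat_lit 5379))) (.leaf (nat_lit 7171)))))

/-- Certificate data. -/
def g48_just : Trie :=
    (.node (.node (.node (.node (.leaf (nat_lit 1)) (.leaf (nat_lit 64761977905676294))) (.node
    (.leaf (nat_lit 0)) (.leaf (nat_lit 77701056511148040)))) (.node (.node (.leaf (nat_lit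
    9007212139970563)) (.leaf (nat_lit 1730871951364))) (.node (.leaf (nat_lit 0)) (.leaf (nat_lit
    74984403797082122))))) (.node (.node (.node (.leaf (nat_lit 0)) (.leaf (nat_lit 0))) (.node
    (.leaf (nat_lit 863288557572)) (.leaf (nat_lit 115047497956917257)))) (.node (.node (.leaf
    (nat_lit 0)) (.leaf (nat_lit 26882200502279))) (.leaf (nat_lit 35652523720709)))))

/-- Certificate data. -/
def g48_rel : Trie :=
    (.node (.node (.node (.node (.leaf (nat_lit 0)) (.leaf (nat_lit 4410948518402))) (.leaf
    (nat_lit 5506181890817))) (.node (.leaf (nat_lit 263172)) (.leaf (nat_lit 4406687105281))))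
    (.node (.node (.leaf (nat_lit 3302846694146)) (.leaf (nat_lit 67306499))) (.node (.leaf
    (nat_lit 84083971)) (.leaf (nat_lit 3307175215361)))))

/-- Certificate data. -/
def g48_rc : Trie :=
    (.node (.node (.node (.node (.leaf (nat_lit 12)) (.leaf (nat_lit 393227))) (.leaf (nat_lit
    11))) (.node (.leaf (nat_lit 6)) (.leaf (nat_lit 131082)))) (.node (.node (.leaf (nat_lit
    524293)) (.leaf (nat_lit 8))) (.node (.leaf (nat_lit 131081)) (.leaf (nat_lit 5)))))

/-- Certificate data. -/
def g48_lv : Trie :=
    (.node (.node (.node (.leaf (nat_lit 0)) (.leaf (nat_lit 4))) (.leaf (nat_lit 2))) (.node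
    (.node (.leaf (nat_lit 1)) (.leaf (nat_lit 5))) (.leaf (nat_lit 3))))

/-- Certificate data. -/
def g48_tb : Trie :=
    (.node (.node (.node (.node (.node (.leaf (nat_lit 0)) (.leaf (nat_lit 181))) (.leaf (nat_lit
    183))) (.node (.leaf (nat_lit 185)) (.leaf (nat_lit 70)))) (.node (.node (.leaf (nat_lit 124))
    (.leaf (nat_lit 110))) (.node (.leaf (nat_lit 34)) (.leaf (nat_lit 107))))) (.node (.node
    (.node (.node (.leaf (nat_lit 36)) (.leaf (nat_lit 51))) (.leaf (nat_lit 143))) (.node (.leaf
    (nat_lit 91)) (.leaf (nat_lit 140)))) (.node (.node (.leaf (nat_lit 145)) (.leaf (nat_lit 86)))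
    (.node (.leaf (nat_lit 3)) (.leaf (nat_lit 9))))))

/-- Certificate data. -/
def g48_C : TC.Cert := ⟨3, 7, 5, 31, 4419571745280, 6, g48_par, g48_fact, g48_just, g48_rel, 9⟩

/-- Certificate data. -/
def g48_rs : List (List ℕ) := [[1, 1, 1, 1, 1, 1, 1, 1], [3, 3], [3, 1, 3, 2, 2, 2], [4, 4, 4], [3, 4, 3, 4], [4, 1, 1, 5, 3, 2]]

/-- Certificate data. -/
def g48_gl : List ℕ := [1, 1539, 3076]

theorem g48_h1 : allB g48_C.factChk 15 = true := by decide +kernel

theorem g48_h2 : g48_C.finChk 15 6 g48_lv g48_tb g48_gl = true := by decide +kernel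

theorem g48_h3 : TC.relChk g48_C.ivc g48_rs g48_C.rel g48_rc g48_C.nrel = true := by decide +kernel

theorem g48_bound {G : Type*} [Group G] {a r k : G}
    (r0 : a * a * a * a * a * a * a * a = 1)
    (r1 : r * r = 1)
    (r2 : r * a * r * a⁻¹ * a⁻¹ * a⁻¹ = 1)
    (r3 : k * k * k = 1)
    (r4 : r * k * r * k = 1)
    (r5 : k * a * a * k⁻¹ * r * a⁻¹ = 1)
    (H : Subgroup G) [Finite H] (m1 : a ∈ H) :
    Finite (Subgroup.closure ({a, r, k} : Set G)) ∧
      Nat.card (Subgroup.closure ({a, r, k} : Set G)) ≤ 6 * Nat.card H := by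
  have hL : TC.Lett (TC.lett [a, a⁻¹, r, k, k⁻¹]) g48_C.ivc :=
    TC.lett_ok (show Nat.shiftRight g48_C.ivc (8 * 6) = 0 by decide +kernel) (by
      intro a ha
      change a < 6 at ha
      interval_cases a
      · exact inv_one.symm
      · rfl
      · exact (inv_inv _).symm
      · exact (inv_eq_of_mul_eq_one_right r1).symm
      · rfl
      · exact (inv_inv _).symm)
  have h := TC.card_le g48_h1 g48_h2 g48_h3 (by decide) hL (by
    simp only [g48_rs, List.forall_mem_cons]
    refine ⟨?_, ?_, ?_, ?_, ?_, ?_, List.forall_mem_nil _⟩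
    · show a * (a * (a * (a * (a * (a * (a * (a * 1))))))) = 1
      simp only [mul_assoc, mul_one] at r0 ⊢
      exact r0
    · show r * (r * 1) = 1
      simp only [mul_one] at r1 ⊢
      exact r1
    · show r * (a * (r * (a⁻¹ * (a⁻¹ * (a⁻¹ * 1))))) = 1
      simp only [mul_assoc, mul_one] at r2 ⊢
      exact r2
    · show k * (k * (k * 1)) = 1
      simp only [mul_assoc, mul_one] at r3 ⊢
      exact r3
    · show r * (k * (r * (k * 1))) = 1
      simp only [mul_assoc, mul_one] at r4 ⊢
      exact r4
    · show k * (a * (a * (k⁻¹ * (r * (a⁻¹ * 1))))) = 1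
      simp only [mul_assoc, mul_one] at r5 ⊢
      exact r5) H
    (TC.forall_subs (K := 6) (by decide +kernel) (by
      intro a ha hb
      interval_cases a
      · exact absurd hb (by decide +kernel)
      · exact m1
      · exact H.inv_mem m1
      · exact absurd hb (by decide +kernel)
      · exact absurd hb (by decide +kernel)
      · exact absurd hb (by decide +kernel)))
  have e : {g₀ | ∃ ak ∈ g48_gl, TC.lett [a, a⁻¹, r, k, k⁻¹] (ak % 256) = g₀} =
      {a, r, k} := by
    ext g₀
    simp only [g48_gl, List.mem_cons, List.not_mem_nil, or_false, exists_eq_or_imp,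
      exists_eq_left, Set.mem_ofPred_eq, Set.mem_insert_iff, Set.mem_singleton_iff]
    exact or_congr eq_comm (or_congr eq_comm (eq_comm))
  rw [e] at h
  exact h

theorem g48_card {G : Type*} [Group G] {a r k : G}
    (e0 : a ^ 8 = 1)
    (e1 : r * r = 1)
    (e2 : r * a * r = a ^ 3)
    (e3 : k ^ 3 = 1)
    (e4 : r * k * r = k⁻¹)
    (e5 : k * a ^ 2 * k⁻¹ = a * r)
    (H : Subgroup G) [Finite H] (ma : a ∈ H) :
    Finite (Subgroup.closure ({a, r, k} : Set G)) ∧
      Nat.card (Subgroup.closure ({a, r, k} : Set G)) ≤ 6 * Nat.card H := by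
  have ir : r⁻¹ = r := inv_eq_of_mul_eq_one_right e1
  refine g48_bound ?_ ?_ ?_ ?_ ?_ ?_ H ma
  · have h := mul_inv_eq_one.mpr e0
    simp only [pow_succ, pow_zero, mul_inv_rev, inv_inv, inv_one, one_mul, mul_one, mul_assoc,
      mul_inv_cancel_left, inv_mul_cancel_left, mul_inv_cancel, inv_mul_cancel, ir] at h ⊢
    exact h
  · have h := mul_inv_eq_one.mpr e1
    simp only [pow_succ, pow_zero, mul_inv_rev, inv_inv, inv_one, one_mul, mul_one, mul_assoc,
      mul_inv_cancel_left, inv_mul_cancel_left, mul_inv_cancel, inv_mul_cancel, ir] at h ⊢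
    exact h
  · have h := mul_inv_eq_one.mpr e2
    simp only [pow_succ, pow_zero, mul_inv_rev, inv_inv, inv_one, one_mul, mul_one, mul_assoc,
      mul_inv_cancel_left, inv_mul_cancel_left, mul_inv_cancel, inv_mul_cancel, ir] at h ⊢
    exact h
  · have h := mul_inv_eq_one.mpr e3
    simp only [pow_succ, pow_zero, mul_inv_rev, inv_inv, inv_one, one_mul, mul_one, mul_assoc,
      mul_inv_cancel_left, inv_mul_cancel_left, mul_inv_cancel, inv_mul_cancel, ir] at h ⊢
    exact h
  · have h := mul_inv_eq_one.mpr e4
    simp only [pow_succ, pow_zero, mul_inv_rev, inv_inv, inv_one, one_mul, mul_one, mul_assoc,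
      mul_inv_cancel_left, inv_mul_cancel_left, mul_inv_cancel, inv_mul_cancel, ir] at h ⊢
    exact h
  · have h := mul_inv_eq_one.mpr e5
    simp only [pow_succ, pow_zero, mul_inv_rev, inv_inv, inv_one, one_mul, mul_one, mul_assoc,
      mul_inv_cancel_left, inv_mul_cancel_left, mul_inv_cancel, inv_mul_cancel, ir] at h ⊢
    exact h

/-- Certificate data. -/
def coll_par : Trie :=
    (.node (.node (.node (.node (.node (.node (.node (.node (.node (.node (.leaf (nat_lit 0))
    (.leaf (nat_lit 78087))) (.leaf (nat_lit 27394))) (.node (.leaf (nat_lit 13317)) (.leaf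
    (nat_lit 44033)))) (.node (.node (.node (.leaf (nat_lit 5637)) (.leaf (nat_lit 94468))) (.leaf
    (nat_lit 34818))) (.node (.leaf (nat_lit 20993)) (.leaf (nat_lit 60417))))) (.node (.node
    (.node (.node (.leaf (nat_lit 2821)) (.leaf (nat_lit 86788))) (.leaf (nat_lit 30721))) (.node
    (.leaf (nat_lit 17159)) (.leaf (nat_lit 50436)))) (.node (.node (.leaf (nat_lit 9476)) (.leaf
    (nat_lit 39425))) (.node (.leaf (nat_lit 24065)) (.leaf (nat_lit 70914)))))) (.node (.node
    (.node (.node (.node (.leaf (nat_lit 1031)) (.leaf (nat_lit 83975))) (.leaf (nat_lit 29188)))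
    (.node (.leaf (nat_lit 15111)) (.leaf (nat_lit 46343)))) (.node (.node (.leaf (nat_lit 7685))
    (.leaf (nat_lit 37634))) (.node (.leaf (nat_lit 22534)) (.leaf (nat_lit 65799))))) (.node
    (.node (.node (.node (.leaf (nat_lit 4357)) (.leaf (nat_lit 90631))) (.leaf (nat_lit 33025)))
    (.node (.leaf (nat_lit 19463)) (.leaf (nat_lit 55559)))) (.node (.node (.leaf (nat_lit 11524))
    (.leaf (nat_lit 41989))) (.node (.leaf (nat_lit 25862)) (.leaf (nat_lit 74503))))))) (.node
    (.node (.node (.node (.node (.node (.leaf (nat_lit 517)) (.leaf (nat_lit 80903))) (.leaf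
    (nat_lit 28162))) (.node (.leaf (nat_lit 14086)) (.leaf (nat_lit 45572)))) (.node (.node (.node
    (.leaf (nat_lit 6405)) (.leaf (nat_lit 96005))) (.leaf (nat_lit 36357))) (.node (.leaf (nat_lit
    21506)) (.leaf (nat_lit 63493))))) (.node (.node (.node (.node (.leaf (nat_lit 3841)) (.leaf
    (nat_lit 88324))) (.leaf (nat_lit 31745))) (.node (.leaf (nat_lit 18439)) (.leaf (nat_lit
    52743)))) (.node (.node (.leaf (nat_lit 10502)) (.leaf (nat_lit 40964))) (.node (.leaf (nat_lit
    24838)) (.leaf (nat_lit 72709)))))) (.node (.node (.node (.node (.node (.leaf (nat_lit 2055))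
    (.leaf (nat_lit 85767))) (.leaf (nat_lit 29959))) (.node (.leaf (nat_lit 15623)) (.leaf
    (nat_lit 48647)))) (.node (.node (.leaf (nat_lit 8452)) (.leaf (nat_lit 38407))) (.node (.leaf
    (nat_lit 23301)) (.leaf (nat_lit 69380))))) (.node (.node (.node (.node (.leaf (nat_lit 5121))
    (.leaf (nat_lit 92932))) (.leaf (nat_lit 33799))) (.node (.leaf (nat_lit 19973)) (.leaf
    (nat_lit 59141)))) (.node (.node (.leaf (nat_lit 12038)) (.leaf (nat_lit 42756))) (.node (.leaf
    (nat_lit 26626)) (.leaf (nat_lit 76550)))))))) (.node (.node (.node (.node (.node (.node (.node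
    (.leaf (nat_lit 258)) (.leaf (nat_lit 79620))) (.leaf (nat_lit 27906))) (.node (.leaf (nat_lit
    13573)) (.leaf (nat_lit 44292)))) (.node (.node (.node (.leaf (nat_lit 6146)) (.leaf (nat_lit
    94727))) (.leaf (nat_lit 35588))) (.node (.leaf (nat_lit 21249)) (.leaf (nat_lit 61701)))))
    (.node (.node (.node (.node (.leaf (nat_lit 3334)) (.leaf (nat_lit 87047))) (.leaf (nat_lit
    31489))) (.node (.leaf (nat_lit 17415)) (.leaf (nat_lit 51717)))) (.node (.node (.leaf (nat_lit
    10244)) (.leaf (nat_lit 40199))) (.node (.leaf (nat_lit 24324)) (.leaf (nat_lit 71941))))))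
    (.node (.node (.node (.node (.node (.leaf (nat_lit 1543)) (.leaf (nat_lit 85509))) (.leaf
    (nat_lit 29444))) (.node (.leaf (nat_lit 15367)) (.leaf (nat_lit 47621)))) (.node (.node (.leaf
    (nat_lit 7943)) (.leaf (nat_lit 37890))) (.node (.leaf (nat_lit 23042)) (.leaf (nat_lit
    68356))))) (.node (.node (.node (.node (.leaf (nat_lit 4865)) (.leaf (nat_lit 91650))) (.leaf
    (nat_lit 33284))) (.node (.leaf (nat_lit 19717)) (.leaf (nat_lit 57607)))) (.node (.node (.leaf
    (nat_lit 11780)) (.leaf (nat_lit 42245))) (.node (.leaf (nat_lit 26117)) (.leaf (nat_lit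
    75270))))))) (.node (.node (.node (.node (.node (.node (.leaf (nat_lit 775)) (.leaf (nat_lit
    82182))) (.leaf (nat_lit 28679))) (.node (.leaf (nat_lit 14599)) (.leaf (nat_lit 46086))))
    (.node (.node (.node (.leaf (nat_lit 7429)) (.leaf (nat_lit 97541))) (.leaf (nat_lit 36868)))
    (.node (.leaf (nat_lit 22020)) (.leaf (nat_lit 65030))))) (.node (.node (.node (.node (.leaf
    (nat_lit 4101)) (.leaf (nat_lit 89093))) (.leaf (nat_lit 32257))) (.node (.leaf (nat_lit
    18951)) (.leaf (nat_lit 54791)))) (.node (.node (.leaf (nat_lit 11014)) (.leaf (nat_lit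
    41729))) (.node (.leaf (nat_lit 25350)) (.leaf (nat_lit 73990)))))) (.node (.node (.node (.node
    (.node (.leaf (nat_lit 2567)) (.leaf (nat_lit 86279))) (.leaf (nat_lit 30465))) (.node (.leaf
    (nat_lit 16903)) (.leaf (nat_lit 49415)))) (.node (.node (.leaf (nat_lit 8710)) (.leaf (nat_lit
    38913))) (.node (.leaf (nat_lit 23810)) (.leaf (nat_lit 69895))))) (.node (.node (.node (.node
    (.leaf (nat_lit 5633)) (.leaf (nat_lit 93446))) (.leaf (nat_lit 34309))) (.node (.leaf (nat_lit
    20487)) (.leaf (nat_lit 59652)))) (.node (.node (.leaf (nat_lit 12551)) (.leaf (nat_lit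
    43521))) (.node (.leaf (nat_lit 27137)) (.leaf (nat_lit 77061))))))))) (.node (.node (.node
    (.node (.node (.node (.node (.node (.leaf (nat_lit 7)) (.leaf (nat_lit 78598))) (.leaf (nat_lit
    27650))) (.node (.leaf (nat_lit 13319)) (.leaf (nat_lit 44036)))) (.node (.node (.node (.leaf
    (nat_lit 5890)) (.leaf (nat_lit 94724))) (.leaf (nat_lit 35329))) (.node (.leaf (nat_lit
    20996)) (.leaf (nat_lit 60420))))) (.node (.node (.node (.node (.leaf (nat_lit 3076)) (.leaf
    (nat_lit 87044))) (.leaf (nat_lit 31233))) (.node (.leaf (nat_lit 17413)) (.leaf (nat_lit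
    50694)))) (.node (.node (.leaf (nat_lit 9732)) (.leaf (nat_lit 39941))) (.node (.leaf (nat_lit
    24322)) (.leaf (nat_lit 71428)))))) (.node (.node (.node (.node (.node (.leaf (nat_lit 1287))
    (.leaf (nat_lit 84231))) (.leaf (nat_lit 29441))) (.node (.leaf (nat_lit 15365)) (.leaf
    (nat_lit 46855)))) (.node (.node (.leaf (nat_lit 7687)) (.leaf (nat_lit 37637))) (.node (.leaf
    (nat_lit 22790)) (.leaf (nat_lit 67334))))) (.node (.node (.node (.node (.leaf (nat_lit 4610))
    (.leaf (nat_lit 91398))) (.leaf (nat_lit 33029))) (.node (.leaf (nat_lit 19714)) (.leaf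
    (nat_lit 55815)))) (.node (.node (.leaf (nat_lit 11526)) (.leaf (nat_lit 42242))) (.node (.leaf
    (nat_lit 26113)) (.leaf (nat_lit 75014))))))) (.node (.node (.node (.node (.node (.node (.leaf
    (nat_lit 773)) (.leaf (nat_lit 81926))) (.leaf (nat_lit 28421))) (.node (.leaf (nat_lit 14343))
    (.leaf (nat_lit 45831)))) (.node (.node (.node (.leaf (nat_lit 7173)) (.leaf (nat_lit 97030)))
    (.leaf (nat_lit 36865))) (.node (.leaf (nat_lit 22017)) (.leaf (nat_lit 64006))))) (.node
    (.node (.node (.node (.leaf (nat_lit 3845)) (.leaf (nat_lit 88582))) (.leaf (nat_lit 32001)))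
    (.node (.leaf (nat_lit 18695)) (.leaf (nat_lit 53508)))) (.node (.node (.leaf (nat_lit 10758))
    (.leaf (nat_lit 41478))) (.node (.leaf (nat_lit 25094)) (.leaf (nat_lit 73222)))))) (.node
    (.node (.node (.node (.node (.leaf (nat_lit 2311)) (.leaf (nat_lit 86021))) (.leaf (nat_lit
    30212))) (.node (.leaf (nat_lit 16647)) (.leaf (nat_lit 49156)))) (.node (.node (.leaf (nat_lit
    8454)) (.leaf (nat_lit 38660))) (.node (.leaf (nat_lit 23554)) (.leaf (nat_lit 69382)))))
    (.node (.node (.node (.node (.leaf (nat_lit 5377)) (.leaf (nat_lit 93189))) (.leaf (nat_lit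
    34053))) (.node (.leaf (nat_lit 20231)) (.leaf (nat_lit 59649)))) (.node (.node (.leaf (nat_lit
    12294)) (.leaf (nat_lit 43010))) (.node (.leaf (nat_lit 26881)) (.leaf (nat_lit 76807))))))))
    (.node (.node (.node (.node (.node (.node (.node (.leaf (nat_lit 261)) (.leaf (nat_lit 80135)))
    (.leaf (nat_lit 27909))) (.node (.leaf (nat_lit 13575)) (.leaf (nat_lit 45316)))) (.node (.node
    (.node (.leaf (nat_lit 6149)) (.leaf (nat_lit 95748))) (.leaf (nat_lit 36098))) (.node (.leaf
    (nat_lit 21253)) (.leaf (nat_lit 62983))))) (.node (.node (.node (.node (.leaf (nat_lit 3590))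
    (.leaf (nat_lit 87559))) (.leaf (nat_lit 31492))) (.node (.leaf (nat_lit 18183)) (.leaf
    (nat_lit 52230)))) (.node (.node (.leaf (nat_lit 10246)) (.leaf (nat_lit 40709))) (.node (.leaf
    (nat_lit 24582)) (.leaf (nat_lit 72455)))))) (.node (.node (.node (.node (.node (.leaf (nat_lit
    1799)) (.leaf (nat_lit 85765))) (.leaf (nat_lit 29703))) (.node (.leaf (nat_lit 15621)) (.leaf
    (nat_lit 48389)))) (.node (.node (.leaf (nat_lit 8198)) (.leaf (nat_lit 37893))) (.node (.leaf
    (nat_lit 23045)) (.leaf (nat_lit 69126))))) (.node (.node (.node (.node (.leaf (nat_lit 4868))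
    (.leaf (nat_lit 91909))) (.leaf (nat_lit 33543))) (.node (.leaf (nat_lit 19971)) (.leaf
    (nat_lit 59138)))) (.node (.node (.leaf (nat_lit 11782)) (.leaf (nat_lit 42753))) (.node (.leaf
    (nat_lit 26373)) (.leaf (nat_lit 75783))))))) (.node (.node (.node (.node (.node (.node (.leaf
    (nat_lit 1029)) (.leaf (nat_lit 83206))) (.leaf (nat_lit 29185))) (.node (.leaf (nat_lit
    14855)) (.leaf (nat_lit 46341)))) (.node (.node (.leaf (nat_lit 7431)) (.leaf (nat_lit 37127)))
    (.node (.leaf (nat_lit 22274)) (.leaf (nat_lit 65543))))) (.node (.node (.node (.node (.leaf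
    (nat_lit 4354)) (.leaf (nat_lit 90118))) (.leaf (nat_lit 32519))) (.node (.leaf (nat_lit
    19207)) (.leaf (nat_lit 55047)))) (.node (.node (.leaf (nat_lit 11270)) (.leaf (nat_lit
    41733))) (.node (.leaf (nat_lit 25606)) (.leaf (nat_lit 74246)))))) (.node (.node (.node (.node
    (.node (.leaf (nat_lit 2818)) (.leaf (nat_lit 86534))) (.leaf (nat_lit 30468))) (.node (.leaf
    (nat_lit 17157)) (.leaf (nat_lit 49927)))) (.node (.node (.leaf (nat_lit 8966)) (.leaf (nat_lit
    38917))) (.node (.leaf (nat_lit 23812)) (.leaf (nat_lit 70149))))) (.node (.node (.node (.node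
    (.leaf (nat_lit 5635)) (.leaf (nat_lit 93703))) (.leaf (nat_lit 34562))) (.node (.leaf (nat_lit
    20740)) (.leaf (nat_lit 59906)))) (.node (.node (.leaf (nat_lit 12807)) (.leaf (nat_lit
    43524))) (.node (.leaf (nat_lit 27141)) (.leaf (nat_lit 77830)))))))))) (.node (.node (.node
    (.node (.node (.node (.node (.node (.node (.leaf (nat_lit 6)) (.leaf (nat_lit 78596))) (.leaf
    (nat_lit 27649))) (.node (.leaf (nat_lit 13318)) (.leaf (nat_lit 44034)))) (.node (.node (.node
    (.leaf (nat_lit 5889)) (.leaf (nat_lit 94469))) (.leaf (nat_lit 35077))) (.node (.leaf (nat_lit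
    20994)) (.leaf (nat_lit 60418))))) (.node (.node (.node (.node (.leaf (nat_lit 3073)) (.leaf
    (nat_lit 86789))) (.leaf (nat_lit 30722))) (.node (.leaf (nat_lit 17412)) (.leaf (nat_lit
    50690)))) (.node (.node (.leaf (nat_lit 9477)) (.leaf (nat_lit 39428))) (.node (.leaf (nat_lit
    24066)) (.leaf (nat_lit 70918)))))) (.node (.node (.node (.node (.node (.leaf (nat_lit 1286))
    (.leaf (nat_lit 84230))) (.leaf (nat_lit 29189))) (.node (.leaf (nat_lit 15364)) (.leaf
    (nat_lit 46854)))) (.node (.node (.leaf (nat_lit 7686)) (.leaf (nat_lit 37636))) (.node (.leaf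
    (nat_lit 22535)) (.leaf (nat_lit 66055))))) (.node (.node (.node (.node (.leaf (nat_lit 4609))
    (.leaf (nat_lit 91140))) (.leaf (nat_lit 33028))) (.node (.leaf (nat_lit 19713)) (.leaf
    (nat_lit 55814)))) (.node (.node (.leaf (nat_lit 11525)) (.leaf (nat_lit 42241))) (.node (.leaf
    (nat_lit 25863)) (.leaf (nat_lit 74759))))))) (.node (.node (.node (.node (.node (.node (.leaf
    (nat_lit 772)) (.leaf (nat_lit 81158))) (.leaf (nat_lit 28418))) (.node (.leaf (nat_lit 14342))
    (.leaf (nat_lit 45573)))) (.node (.node (.node (.leaf (nat_lit 7172)) (.leaf (nat_lit 96774)))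
    (.leaf (nat_lit 36609))) (.node (.leaf (nat_lit 21507)) (.leaf (nat_lit 63750))))) (.node
    (.node (.node (.node (.leaf (nat_lit 3844)) (.leaf (nat_lit 88325))) (.leaf (nat_lit 31746)))
    (.node (.leaf (nat_lit 18694)) (.leaf (nat_lit 53252)))) (.node (.node (.leaf (nat_lit 10503))
    (.leaf (nat_lit 40965))) (.node (.leaf (nat_lit 24839)) (.leaf (nat_lit 72710)))))) (.node
    (.node (.node (.node (.node (.leaf (nat_lit 2310)) (.leaf (nat_lit 86020))) (.leaf (nat_lit
    30209))) (.node (.leaf (nat_lit 16646)) (.leaf (nat_lit 48902)))) (.node (.node (.leaf (nat_lit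
    8453)) (.leaf (nat_lit 38657))) (.node (.leaf (nat_lit 23553)) (.leaf (nat_lit 69381)))))
    (.node (.node (.node (.node (.leaf (nat_lit 5122)) (.leaf (nat_lit 93188))) (.leaf (nat_lit
    34052))) (.node (.leaf (nat_lit 20230)) (.leaf (nat_lit 59394)))) (.node (.node (.leaf (nat_lit
    12290)) (.leaf (nat_lit 42757))) (.node (.leaf (nat_lit 26628)) (.leaf (nat_lit 76806))))))))
    (.node (.node (.node (.node (.node (.node (.node (.leaf (nat_lit 260)) (.leaf (nat_lit 79621)))
    (.leaf (nat_lit 27907))) (.node (.leaf (nat_lit 13574)) (.leaf (nat_lit 45060)))) (.node (.node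
    (.node (.leaf (nat_lit 6148)) (.leaf (nat_lit 95494))) (.leaf (nat_lit 36097))) (.node (.leaf
    (nat_lit 21250)) (.leaf (nat_lit 62726))))) (.node (.node (.node (.node (.leaf (nat_lit 3335))
    (.leaf (nat_lit 87554))) (.leaf (nat_lit 31490))) (.node (.leaf (nat_lit 18182)) (.leaf
    (nat_lit 51973)))) (.node (.node (.leaf (nat_lit 10245)) (.leaf (nat_lit 40708))) (.node (.leaf
    (nat_lit 24325)) (.leaf (nat_lit 71942)))))) (.node (.node (.node (.node (.node (.leaf (nat_lit
    1798)) (.leaf (nat_lit 85764))) (.leaf (nat_lit 29445))) (.node (.leaf (nat_lit 15620)) (.leaf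
    (nat_lit 48133)))) (.node (.node (.leaf (nat_lit 8194)) (.leaf (nat_lit 37892))) (.node (.leaf
    (nat_lit 23044)) (.leaf (nat_lit 68357))))) (.node (.node (.node (.node (.leaf (nat_lit 4866))
    (.leaf (nat_lit 91908))) (.leaf (nat_lit 33285))) (.node (.leaf (nat_lit 19969)) (.leaf
    (nat_lit 59137)))) (.node (.node (.leaf (nat_lit 11781)) (.leaf (nat_lit 42498))) (.node (.leaf
    (nat_lit 26372)) (.leaf (nat_lit 75782))))))) (.node (.node (.node (.node (.node (.node (.leaf
    (nat_lit 1028)) (.leaf (nat_lit 82950))) (.leaf (nat_lit 28935))) (.node (.leaf (nat_lit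
    14854)) (.leaf (nat_lit 46340)))) (.node (.node (.leaf (nat_lit 7430)) (.leaf (nat_lit 37126)))
    (.node (.leaf (nat_lit 22273)) (.leaf (nat_lit 65286))))) (.node (.node (.node (.node (.leaf
    (nat_lit 4353)) (.leaf (nat_lit 89607))) (.leaf (nat_lit 32518))) (.node (.leaf (nat_lit
    19206)) (.leaf (nat_lit 55046)))) (.node (.node (.leaf (nat_lit 11015)) (.leaf (nat_lit
    41732))) (.node (.leaf (nat_lit 25351)) (.leaf (nat_lit 73991)))))) (.node (.node (.node (.node
    (.node (.leaf (nat_lit 2817)) (.leaf (nat_lit 86530))) (.leaf (nat_lit 30466))) (.node (.leaf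
    (nat_lit 17156)) (.leaf (nat_lit 49670)))) (.node (.node (.leaf (nat_lit 8711)) (.leaf (nat_lit
    38916))) (.node (.leaf (nat_lit 23811)) (.leaf (nat_lit 70148))))) (.node (.node (.node (.node
    (.leaf (nat_lit 5634)) (.leaf (nat_lit 93702))) (.leaf (nat_lit 34561))) (.node (.leaf (nat_lit
    20737)) (.leaf (nat_lit 59905)))) (.node (.node (.leaf (nat_lit 12806)) (.leaf (nat_lit
    43522))) (.node (.leaf (nat_lit 27140)) (.leaf (nat_lit 77828))))))))) (.node (.node (.node
    (.node (.node (.node (.node (.node (.leaf (nat_lit 257)) (.leaf (nat_lit 78599))) (.leaf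
    (nat_lit 27905))) (.node (.leaf (nat_lit 13572)) (.leaf (nat_lit 44037)))) (.node (.node (.node
    (.leaf (nat_lit 6145)) (.leaf (nat_lit 94725))) (.leaf (nat_lit 35585))) (.node (.leaf (nat_lit
    20997)) (.leaf (nat_lit 60421))))) (.node (.node (.node (.node (.leaf (nat_lit 3077)) (.leaf
    (nat_lit 87045))) (.leaf (nat_lit 31234))) (.node (.leaf (nat_lit 17414)) (.leaf (nat_lit
    51206)))) (.node (.node (.leaf (nat_lit 9733)) (.leaf (nat_lit 40198))) (.node (.leaf (nat_lit
    24323)) (.leaf (nat_lit 71429)))))) (.node (.node (.node (.node (.node (.leaf (nat_lit 1542))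
    (.leaf (nat_lit 84999))) (.leaf (nat_lit 29443))) (.node (.leaf (nat_lit 15366)) (.leaf
    (nat_lit 47110)))) (.node (.node (.leaf (nat_lit 7942)) (.leaf (nat_lit 37889))) (.node (.leaf
    (nat_lit 22791)) (.leaf (nat_lit 67591))))) (.node (.node (.node (.node (.leaf (nat_lit 4611))
    (.leaf (nat_lit 91399))) (.leaf (nat_lit 33281))) (.node (.leaf (nat_lit 19716)) (.leaf
    (nat_lit 57606)))) (.node (.node (.leaf (nat_lit 11527)) (.leaf (nat_lit 42244))) (.node (.leaf
    (nat_lit 26116)) (.leaf (nat_lit 75015))))))) (.node (.node (.node (.node (.node (.node (.leaf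
    (nat_lit 774)) (.leaf (nat_lit 81927))) (.leaf (nat_lit 28678))) (.node (.leaf (nat_lit 14598))
    (.leaf (nat_lit 46082)))) (.node (.node (.node (.leaf (nat_lit 7428)) (.leaf (nat_lit 97031)))
    (.leaf (nat_lit 36866))) (.node (.leaf (nat_lit 22018)) (.leaf (nat_lit 64516))))) (.node
    (.node (.node (.node (.leaf (nat_lit 4100)) (.leaf (nat_lit 89092))) (.leaf (nat_lit 32005)))
    (.node (.leaf (nat_lit 18950)) (.leaf (nat_lit 54277)))) (.node (.node (.leaf (nat_lit 10759))
    (.leaf (nat_lit 41479))) (.node (.leaf (nat_lit 25095)) (.leaf (nat_lit 73735)))))) (.node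
    (.node (.node (.node (.node (.leaf (nat_lit 2566)) (.leaf (nat_lit 86278))) (.leaf (nat_lit
    30213))) (.node (.leaf (nat_lit 16902)) (.leaf (nat_lit 49413)))) (.node (.node (.leaf (nat_lit
    8455)) (.leaf (nat_lit 38661))) (.node (.leaf (nat_lit 23809)) (.leaf (nat_lit 69383)))))
    (.node (.node (.node (.node (.leaf (nat_lit 5378)) (.leaf (nat_lit 93191))) (.leaf (nat_lit
    34308))) (.node (.leaf (nat_lit 20486)) (.leaf (nat_lit 59650)))) (.node (.node (.leaf (nat_lit
    12550)) (.leaf (nat_lit 43265))) (.node (.leaf (nat_lit 26882)) (.leaf (nat_lit 77060))))))))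
    (.node (.node (.node (.node (.node (.node (.node (.leaf (nat_lit 516)) (.leaf (nat_lit 80902)))
    (.leaf (nat_lit 28161))) (.node (.leaf (nat_lit 13830)) (.leaf (nat_lit 45317)))) (.node (.node
    (.node (.leaf (nat_lit 6404)) (.leaf (nat_lit 96004))) (.leaf (nat_lit 36353))) (.node (.leaf
    (nat_lit 21505)) (.leaf (nat_lit 63237))))) (.node (.node (.node (.node (.leaf (nat_lit 3591))
    (.leaf (nat_lit 88069))) (.leaf (nat_lit 31493))) (.node (.leaf (nat_lit 18438)) (.leaf
    (nat_lit 52742)))) (.node (.node (.leaf (nat_lit 10247)) (.leaf (nat_lit 40961))) (.node (.leaf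
    (nat_lit 24583)) (.leaf (nat_lit 72708)))))) (.node (.node (.node (.node (.node (.leaf (nat_lit
    2054)) (.leaf (nat_lit 85766))) (.leaf (nat_lit 29958))) (.node (.leaf (nat_lit 15622)) (.leaf
    (nat_lit 48646)))) (.node (.node (.leaf (nat_lit 8199)) (.leaf (nat_lit 38406))) (.node (.leaf
    (nat_lit 23300)) (.leaf (nat_lit 69127))))) (.node (.node (.node (.node (.leaf (nat_lit 4869))
    (.leaf (nat_lit 91911))) (.leaf (nat_lit 33798))) (.node (.leaf (nat_lit 19972)) (.leaf
    (nat_lit 59140)))) (.node (.node (.leaf (nat_lit 11783)) (.leaf (nat_lit 42754))) (.node (.leaf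
    (nat_lit 26625)) (.leaf (nat_lit 76295))))))) (.node (.node (.node (.node (.node (.node (.leaf
    (nat_lit 1030)) (.leaf (nat_lit 83207))) (.leaf (nat_lit 29186))) (.node (.leaf (nat_lit
    15110)) (.leaf (nat_lit 46342)))) (.node (.node (.leaf (nat_lit 7684)) (.leaf (nat_lit 37633)))
    (.node (.leaf (nat_lit 22275)) (.leaf (nat_lit 65798))))) (.node (.node (.node (.node (.leaf
    (nat_lit 4356)) (.leaf (nat_lit 90375))) (.leaf (nat_lit 32775))) (.node (.leaf (nat_lit
    19462)) (.leaf (nat_lit 55558)))) (.node (.node (.leaf (nat_lit 11271)) (.leaf (nat_lit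
    41988))) (.node (.leaf (nat_lit 25607)) (.leaf (nat_lit 74247)))))) (.node (.node (.node (.node
    (.node (.leaf (nat_lit 2820)) (.leaf (nat_lit 86535))) (.leaf (nat_lit 30469))) (.node (.leaf
    (nat_lit 17158)) (.leaf (nat_lit 50180)))) (.node (.node (.leaf (nat_lit 8967)) (.leaf (nat_lit
    39169))) (.node (.leaf (nat_lit 23813)) (.leaf (nat_lit 70150))))) (.node (.node (.node (.node
    (.leaf (nat_lit 5636)) (.leaf (nat_lit 93959))) (.leaf (nat_lit 34817))) (.node (.leaf (nat_lit
    20741)) (.leaf (nat_lit 59909)))) (.node (.node (.leaf (nat_lit 13316)) (.leaf (nat_lit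
    43525))) (.node (.leaf (nat_lit 27393)) (.leaf (nat_lit 77831)))))))))))

/-- Certificate data. -/
def coll_fact : Trie :=
    (.node (.node (.node (.node (.node (.node (.node (.node (.node (.node (.node (.leaf (nat_lit
    1)) (.leaf (nat_lit 47285761))) (.node (.leaf (nat_lit 58744321)) (.leaf (nat_lit 105234944))))
    (.node (.node (.leaf (nat_lit 26486789)) (.leaf (nat_lit 136921094))) (.node (.leaf (nat_lit
    83439365)) (.leaf (nat_lit 86528))))) (.node (.node (.node (.leaf (nat_lit 5255936)) (.leaf
    (nat_lit 121963015))) (.node (.leaf (nat_lit 69758725)) (.leaf (nat_lit 9020928)))) (.node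
    (.node (.leaf (nat_lit 37526275)) (.leaf (nat_lit 142228739))) (.leaf (nat_lit 94674949)))))
    (.node (.node (.node (.node (.leaf (nat_lit 6560003)) (.leaf (nat_lit 115193861))) (.node
    (.leaf (nat_lit 47248642)) (.leaf (nat_lit 26324224)))) (.node (.node (.leaf (nat_lit
    29391104)) (.leaf (nat_lit 142746880))) (.leaf (nat_lit 88642309)))) (.node (.node (.node
    (.leaf (nat_lit 18892034)) (.leaf (nat_lit 121237509))) (.node (.leaf (nat_lit 76621827))
    (.leaf (nat_lit 3969536)))) (.node (.node (.leaf (nat_lit 23903489)) (.leaf (nat_lit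
    153975559))) (.leaf (nat_lit 69021188)))))) (.node (.node (.node (.node (.node (.leaf (nat_lit
    3408900)) (.leaf (nat_lit 62236930))) (.node (.leaf (nat_lit 62415878)) (.leaf (nat_lit
    20295680)))) (.node (.node (.leaf (nat_lit 30682629)) (.leaf (nat_lit 141119493))) (.leaf
    (nat_lit 37261315)))) (.node (.node (.node (.leaf (nat_lit 14172166)) (.leaf (nat_lit
    126424836))) (.node (.leaf (nat_lit 73735171)) (.leaf (nat_lit 8932352)))) (.node (.node (.leaf
    (nat_lit 44321030)) (.leaf (nat_lit 79778310))) (.leaf (nat_lit 97297668))))) (.node (.node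
    (.node (.node (.leaf (nat_lit 7874563)) (.leaf (nat_lit 69321479))) (.node (.leaf (nat_lit
    66874113)) (.leaf (nat_lit 17428224)))) (.node (.node (.leaf (nat_lit 37239303)) (.leaf
    (nat_lit 98152964))) (.leaf (nat_lit 85286915)))) (.node (.node (.node (.leaf (nat_lit
    23353346)) (.leaf (nat_lit 133509634))) (.node (.leaf (nat_lit 80249093)) (.leaf (nat_lit
    789504)))) (.node (.node (.leaf (nat_lit 54548486)) (.leaf (nat_lit 49836039))) (.leaf (nat_lit
    103855110))))))) (.node (.node (.node (.node (.node (.node (.leaf (nat_lit 1835524)) (.leaf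
    (nat_lit 109421569))) (.node (.leaf (nat_lit 37545988)) (.leaf (nat_lit 98938112)))) (.node
    (.node (.leaf (nat_lit 28322566)) (.leaf (nat_lit 137760773))) (.node (.leaf (nat_lit
    84708097)) (.leaf (nat_lit 137216))))) (.node (.node (.node (.leaf (nat_lit 14694659)) (.leaf
    (nat_lit 124063493))) (.node (.leaf (nat_lit 72381188)) (.leaf (nat_lit 8927744)))) (.node
    (.node (.leaf (nat_lit 42223618)) (.leaf (nat_lit 151667461))) (.leaf (nat_lit 91843842)))))
    (.node (.node (.node (.node (.leaf (nat_lit 7610627)) (.leaf (nat_lit 95272193))) (.node (.leaf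
    (nat_lit 52492803)) (.leaf (nat_lit 47040768)))) (.node (.node (.leaf (nat_lit 35140871))
    (.leaf (nat_lit 133311751))) (.leaf (nat_lit 88905474)))) (.node (.node (.node (.leaf (nat_lit
    11554561)) (.leaf (nat_lit 132459526))) (.node (.leaf (nat_lit 66923269)) (.leaf (nat_lit
    4287232)))) (.node (.node (.leaf (nat_lit 51139077)) (.leaf (nat_lit 89782528))) (.leaf
    (nat_lit 101493765)))))) (.node (.node (.node (.node (.node (.leaf (nat_lit 4723205)) (.leaf
    (nat_lit 113564166))) (.node (.leaf (nat_lit 62976263)) (.leaf (nat_lit 47495942)))) (.node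
    (.node (.leaf (nat_lit 32518407)) (.leaf (nat_lit 139862275))) (.leaf (nat_lit 59067140))))
    (.node (.node (.node (.leaf (nat_lit 17569793)) (.leaf (nat_lit 128047106))) (.node (.leaf
    (nat_lit 75833859)) (.leaf (nat_lit 8994816)))) (.node (.node (.leaf (nat_lit 46681346)) (.leaf
    (nat_lit 134886656))) (.leaf (nat_lit 98871045))))) (.node (.node (.node (.node (.leaf (nat_lit
    12062978)) (.leaf (nat_lit 115198470))) (.node (.leaf (nat_lit 62456577)) (.leaf (nat_lit
    11102976)))) (.node (.node (.leaf (nat_lit 38311171)) (.leaf (nat_lit 148990724))) (.leaf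
    (nat_lit 76899076)))) (.node (.node (.node (.leaf (nat_lit 14442498)) (.leaf (nat_lit
    126747651))) (.node (.leaf (nat_lit 81606663)) (.leaf (nat_lit 333568)))) (.node (.node (.leaf
    (nat_lit 50904833)) (.leaf (nat_lit 85298432))) (.leaf (nat_lit 70358274)))))))) (.node (.node
    (.node (.node (.node (.node (.node (.leaf (nat_lit 525057)) (.leaf (nat_lit 109364738))) (.node
    (.leaf (nat_lit 60317702)) (.leaf (nat_lit 23973632)))) (.node (.node (.leaf (nat_lit
    27273478)) (.leaf (nat_lit 115477766))) (.node (.leaf (nat_lit 83965445)) (.leaf (nat_lit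
    120576))))) (.node (.node (.node (.leaf (nat_lit 14422789)) (.leaf (nat_lit 122751748))) (.node
    (.leaf (nat_lit 30215681)) (.leaf (nat_lit 15287552)))) (.node (.node (.leaf (nat_lit
    41197057)) (.leaf (nat_lit 151142661))) (.leaf (nat_lit 85022466))))) (.node (.node (.node
    (.node (.leaf (nat_lit 3153153)) (.leaf (nat_lit 73251329))) (.node (.leaf (nat_lit 22833411))
    (.leaf (nat_lit 37548801)))) (.node (.node (.leaf (nat_lit 34359810)) (.leaf (nat_lit
    145316358))) (.leaf (nat_lit 71390470)))) (.node (.node (.node (.leaf (nat_lit 20192518))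
    (.leaf (nat_lit 131409926))) (.node (.leaf (nat_lit 32833285)) (.leaf (nat_lit 8923648))))
    (.node (.node (.leaf (nat_lit 49594371)) (.leaf (nat_lit 153477633))) (.leaf (nat_lit
    100237061)))))) (.node (.node (.node (.node (.node (.leaf (nat_lit 3933190)) (.leaf (nat_lit
    112514822))) (.node (.leaf (nat_lit 24960256)) (.leaf (nat_lit 8250880)))) (.node (.node (.leaf
    (nat_lit 31469318)) (.leaf (nat_lit 142430727))) (.leaf (nat_lit 86329859)))) (.node (.node
    (.node (.leaf (nat_lit 15476485)) (.leaf (nat_lit 127474439))) (.node (.leaf (nat_lit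
    72425219)) (.leaf (nat_lit 17325056)))) (.node (.node (.leaf (nat_lit 44870663)) (.leaf
    (nat_lit 93707008))) (.leaf (nat_lit 93419009))))) (.node (.node (.node (.node (.leaf (nat_lit
    11021058)) (.leaf (nat_lit 102090498))) (.node (.leaf (nat_lit 55378177)) (.leaf (nat_lit
    45662976)))) (.node (.node (.leaf (nat_lit 38048261)) (.leaf (nat_lit 143537411))) (.leaf
    (nat_lit 81844740)))) (.node (.node (.node (.leaf (nat_lit 24125958)) (.leaf (nat_lit
    127517186))) (.node (.leaf (nat_lit 81035781)) (.leaf (nat_lit 535552)))) (.node (.node (.leaf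
    (nat_lit 55073030)) (.leaf (nat_lit 55920128))) (.leaf (nat_lit 105428743))))))) (.node (.node
    (.node (.node (.node (.node (.leaf (nat_lit 2361861)) (.leaf (nat_lit 110676998))) (.node
    (.leaf (nat_lit 36236037)) (.leaf (nat_lit 60918017)))) (.node (.node (.leaf (nat_lit
    29371652)) (.leaf (nat_lit 123081734))) (.leaf (nat_lit 49366277)))) (.node (.node (.node
    (.leaf (nat_lit 15734273)) (.leaf (nat_lit 125112836))) (.node (.leaf (nat_lit 73692673))
    (.leaf (nat_lit 7710720)))) (.node (.node (.leaf (nat_lit 39625475)) (.leaf (nat_lit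
    152664322))) (.leaf (nat_lit 96301061))))) (.node (.node (.node (.node (.leaf (nat_lit
    9446403)) (.leaf (nat_lit 117763074))) (.node (.leaf (nat_lit 28100864)) (.leaf (nat_lit
    107325440)))) (.node (.node (.leaf (nat_lit 35949063)) (.leaf (nat_lit 146936579))) (.leaf
    (nat_lit 91527172)))) (.node (.node (.node (.leaf (nat_lit 22552582)) (.leaf (nat_lit
    133246213))) (.node (.leaf (nat_lit 79462407)) (.leaf (nat_lit 3154176)))) (.node (.node (.leaf
    (nat_lit 52450306)) (.leaf (nat_lit 29464320))) (.leaf (nat_lit 102336261)))))) (.node (.node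
    (.node (.node (.node (.leaf (nat_lit 5768967)) (.leaf (nat_lit 114654467))) (.node (.leaf
    (nat_lit 27062785)) (.leaf (nat_lit 72719872)))) (.node (.node (.leaf (nat_lit 30703363))
    (.leaf (nat_lit 122824199))) (.leaf (nat_lit 70312196)))) (.node (.node (.node (.leaf (nat_lit
    18356229)) (.leaf (nat_lit 129310983))) (.node (.leaf (nat_lit 76577537)) (.leaf (nat_lit
    9026560)))) (.node (.node (.leaf (nat_lit 48254469)) (.leaf (nat_lit 98715650))) (.leaf
    (nat_lit 55409413))))) (.node (.node (.node (.node (.leaf (nat_lit 7090690)) (.leaf (nat_lit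
    109693955))) (.node (.leaf (nat_lit 45680385)) (.leaf (nat_lit 23883264)))) (.node (.node
    (.leaf (nat_lit 39599366)) (.leaf (nat_lit 127806471))) (.leaf (nat_lit 93888261)))) (.node
    (.node (.node (.leaf (nat_lit 25961989)) (.leaf (nat_lit 135912451))) (.node (.leaf (nat_lit
    71382273)) (.leaf (nat_lit 3980032)))) (.node (.node (.leaf (nat_lit 57170946)) (.leaf (nat_lit
    37271552))) (.leaf (nat_lit 107528196))))))))) (.node (.node (.node (.node (.node (.node (.node
    (.node (.leaf (nat_lit 262403)) (.leaf (nat_lit 108315142))) (.node (.leaf (nat_lit 59793156))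
    (.leaf (nat_lit 37071616)))) (.node (.node (.leaf (nat_lit 26748934)) (.leaf (nat_lit
    137445638))) (.node (.leaf (nat_lit 72957697)) (.leaf (nat_lit 4608))))) (.node (.node (.node
    (.leaf (nat_lit 13898498)) (.leaf (nat_lit 121491971))) (.node (.leaf (nat_lit 70061063))
    (.leaf (nat_lit 37045504)))) (.node (.node (.leaf (nat_lit 41173764)) (.leaf (nat_lit
    150826759))) (.leaf (nat_lit 94937606))))) (.node (.node (.node (.node (.leaf (nat_lit
    7084803)) (.leaf (nat_lit 99465475))) (.node (.leaf (nat_lit 64533250)) (.leaf (nat_lit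
    62533632)))) (.node (.node (.leaf (nat_lit 34092039)) (.leaf (nat_lit 96606465))) (.leaf
    (nat_lit 41767938)))) (.node (.node (.node (.leaf (nat_lit 19155461)) (.leaf (nat_lit
    130675463))) (.node (.leaf (nat_lit 77888514)) (.leaf (nat_lit 11288832)))) (.node (.node
    (.leaf (nat_lit 49828100)) (.leaf (nat_lit 154002946))) (.leaf (nat_lit 73235714)))))) (.node
    (.node (.node (.node (.node (.leaf (nat_lit 3411461)) (.leaf (nat_lit 111780866))) (.node
    (.leaf (nat_lit 57208577)) (.leaf (nat_lit 49925120)))) (.node (.node (.leaf (nat_lit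
    25457665)) (.leaf (nat_lit 141644039))) (.leaf (nat_lit 86281985)))) (.node (.node (.node
    (.leaf (nat_lit 17046020)) (.leaf (nat_lit 126949637))) (.node (.leaf (nat_lit 71113987))
    (.leaf (nat_lit 9198336)))) (.node (.node (.leaf (nat_lit 44345863)) (.leaf (nat_lit
    123349248))) (.leaf (nat_lit 97822210))))) (.node (.node (.node (.node (.leaf (nat_lit
    10758661)) (.leaf (nat_lit 118813958))) (.node (.leaf (nat_lit 48562178)) (.leaf (nat_lit
    49101824)))) (.node (.node (.leaf (nat_lit 37763847)) (.leaf (nat_lit 147469063))) (.leaf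
    (nat_lit 67723524)))) (.node (.node (.node (.leaf (nat_lit 23601414)) (.leaf (nat_lit
    134033415))) (.node (.leaf (nat_lit 80511489)) (.leaf (nat_lit 913664)))) (.node (.node (.leaf
    (nat_lit 54810631)) (.leaf (nat_lit 21563392))) (.leaf (nat_lit 49909250))))))) (.node (.node
    (.node (.node (.node (.node (.leaf (nat_lit 1837059)) (.leaf (nat_lit 110206722))) (.node
    (.leaf (nat_lit 61366790)) (.leaf (nat_lit 119156480)))) (.node (.node (.leaf (nat_lit
    28847110)) (.leaf (nat_lit 138809863))) (.node (.leaf (nat_lit 78464003)) (.leaf (nat_lit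
    6))))) (.node (.node (.node (.leaf (nat_lit 10238465)) (.leaf (nat_lit 124587783))) (.node
    (.leaf (nat_lit 72944899)) (.leaf (nat_lit 23962112)))) (.node (.node (.leaf (nat_lit
    41198083)) (.leaf (nat_lit 152663556))) (.leaf (nat_lit 96248836))))) (.node (.node (.node
    (.node (.leaf (nat_lit 8397314)) (.leaf (nat_lit 97369859))) (.node (.leaf (nat_lit 45939458))
    (.leaf (nat_lit 3269376)))) (.node (.node (.leaf (nat_lit 32016387)) (.leaf (nat_lit
    131215108))) (.leaf (nat_lit 91002629)))) (.node (.node (.node (.leaf (nat_lit 21765894))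
    (.leaf (nat_lit 132984068))) (.node (.leaf (nat_lit 78937862)) (.leaf (nat_lit 3191552))))
    (.node (.node (.leaf (nat_lit 51401473)) (.leaf (nat_lit 70096896))) (.leaf (nat_lit
    102019076)))))) (.node (.node (.node (.node (.node (.leaf (nat_lit 4985863)) (.leaf (nat_lit
    113619715))) (.node (.leaf (nat_lit 53003523)) (.leaf (nat_lit 4068352)))) (.node (.node (.leaf
    (nat_lit 33042951)) (.leaf (nat_lit 89531138))) (.leaf (nat_lit 60902402)))) (.node (.node
    (.node (.leaf (nat_lit 17581059)) (.leaf (nat_lit 121498117))) (.node (.leaf (nat_lit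
    75566340)) (.leaf (nat_lit 6865664)))) (.node (.node (.leaf (nat_lit 46969861)) (.leaf (nat_lit
    151406339))) (.leaf (nat_lit 93157890))))) (.node (.node (.node (.node (.leaf (nat_lit
    12333061)) (.leaf (nat_lit 120389122))) (.node (.leaf (nat_lit 68709637)) (.leaf (nat_lit
    22622464)))) (.node (.node (.leaf (nat_lit 39337221)) (.leaf (nat_lit 149253124))) (.leaf
    (nat_lit 93152263)))) (.node (.node (.node (.leaf (nat_lit 19161347)) (.leaf (nat_lit
    96339207))) (.node (.leaf (nat_lit 74004995)) (.leaf (nat_lit 58368)))) (.node (.node (.leaf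
    (nat_lit 56153858)) (.leaf (nat_lit 47275776))) (.leaf (nat_lit 106741254)))))))) (.node (.node
    (.node (.node (.node (.node (.node (.leaf (nat_lit 1049347)) (.leaf (nat_lit 101294854)))
    (.node (.leaf (nat_lit 60579847)) (.leaf (nat_lit 37874688)))) (.node (.node (.leaf (nat_lit
    27798022)) (.leaf (nat_lit 138233095))) (.node (.leaf (nat_lit 84208386)) (.leaf (nat_lit
    135004167))))) (.node (.node (.node (.leaf (nat_lit 7092225)) (.leaf (nat_lit 123276806)))
    (.node (.leaf (nat_lit 71594501)) (.leaf (nat_lit 3207936)))) (.node (.node (.leaf (nat_lit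
    41960199)) (.leaf (nat_lit 151613956))) (.leaf (nat_lit 91319299))))) (.node (.node (.node
    (.node (.leaf (nat_lit 8391429)) (.leaf (nat_lit 111262724))) (.node (.leaf (nat_lit 54851586))
    (.leaf (nat_lit 17436928)))) (.node (.node (.leaf (nat_lit 34374657)) (.leaf (nat_lit
    145841157))) (.leaf (nat_lit 90215943)))) (.node (.node (.node (.leaf (nat_lit 20979205))
    (.leaf (nat_lit 131934727))) (.node (.leaf (nat_lit 78150913)) (.leaf (nat_lit 3276288))))
    (.node (.node (.leaf (nat_lit 46711043)) (.leaf (nat_lit 116005632))) (.leaf (nat_lit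
    100969474)))))) (.node (.node (.node (.node (.node (.leaf (nat_lit 4457734)) (.leaf (nat_lit
    97627907))) (.node (.leaf (nat_lit 45936643)) (.leaf (nat_lit 55872770)))) (.node (.node (.leaf
    (nat_lit 31993862)) (.leaf (nat_lit 142693124))) (.leaf (nat_lit 67672581)))) (.node (.node
    (.node (.leaf (nat_lit 15221251)) (.leaf (nat_lit 127785217))) (.node (.leaf (nat_lit
    72950018)) (.leaf (nat_lit 18475008)))) (.node (.node (.leaf (nat_lit 45894662)) (.leaf
    (nat_lit 152171012))) (.leaf (nat_lit 95254274))))) (.node (.node (.node (.node (.leaf (nat_lit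
    8924163)) (.leaf (nat_lit 119863558))) (.node (.leaf (nat_lit 45679106)) (.leaf (nat_lit
    60891136)))) (.node (.node (.leaf (nat_lit 38550534)) (.leaf (nat_lit 93987329))) (.leaf
    (nat_lit 93101318)))) (.node (.node (.node (.leaf (nat_lit 24912647)) (.leaf (nat_lit
    134820614))) (.node (.leaf (nat_lit 81342211)) (.leaf (nat_lit 321536)))) (.node (.node (.leaf
    (nat_lit 55597570)) (.leaf (nat_lit 21607168))) (.leaf (nat_lit 105958402))))))) (.node (.node
    (.node (.node (.node (.node (.leaf (nat_lit 2884358)) (.leaf (nat_lit 111201799))) (.node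
    (.leaf (nat_lit 62153479)) (.leaf (nat_lit 17155328)))) (.node (.node (.leaf (nat_lit
    29895942)) (.leaf (nat_lit 140332806))) (.leaf (nat_lit 40977922)))) (.node (.node (.node
    (.leaf (nat_lit 16258563)) (.leaf (nat_lit 125637126))) (.node (.leaf (nat_lit 71857666))
    (.leaf (nat_lit 18665728)))) (.node (.node (.leaf (nat_lit 22062597)) (.leaf (nat_lit
    71974144))) (.leaf (nat_lit 96773377))))) (.node (.node (.node (.node (.leaf (nat_lit 9971203))
    (.leaf (nat_lit 86098439))) (.node (.leaf (nat_lit 66349572)) (.leaf (nat_lit 40503552))))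
    (.node (.node (.leaf (nat_lit 36714759)) (.leaf (nat_lit 118370562))) (.leaf (nat_lit
    85810947)))) (.node (.node (.node (.leaf (nat_lit 19945475)) (.leaf (nat_lit 133282818)))
    (.node (.leaf (nat_lit 34156545)) (.leaf (nat_lit 18401792)))) (.node (.node (.leaf (nat_lit
    53499396)) (.leaf (nat_lit 50154240))) (.leaf (nat_lit 102861061)))))) (.node (.node (.node
    (.node (.node (.leaf (nat_lit 6035204)) (.leaf (nat_lit 115140356))) (.node (.leaf (nat_lit
    46986243)) (.leaf (nat_lit 11683584)))) (.node (.node (.leaf (nat_lit 33325061)) (.leaf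
    (nat_lit 144791812))) (.leaf (nat_lit 42028801)))) (.node (.node (.node (.leaf (nat_lit
    18368258)) (.leaf (nat_lit 128577029))) (.node (.leaf (nat_lit 77101828)) (.leaf (nat_lit
    3153152)))) (.node (.node (.leaf (nat_lit 49041414)) (.leaf (nat_lit 152455427))) (.leaf
    (nat_lit 73466117))))) (.node (.node (.node (.node (.leaf (nat_lit 13373955)) (.leaf (nat_lit
    121176071))) (.node (.leaf (nat_lit 55379970)) (.leaf (nat_lit 30245888)))) (.node (.node
    (.leaf (nat_lit 24156421)) (.leaf (nat_lit 149777415))) (.leaf (nat_lit 42821377)))) (.node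
    (.node (.node (.leaf (nat_lit 26224644)) (.leaf (nat_lit 136395783))) (.node (.leaf (nat_lit
    70597889)) (.leaf (nat_lit 58624)))) (.node (.node (.leaf (nat_lit 57957635)) (.leaf (nat_lit
    20502784))) (.leaf (nat_lit 107790597)))))))))) (.node (.node (.node (.node (.node (.node
    (.node (.node (.node (.leaf (nat_lit 4)) (.leaf (nat_lit 103913731))) (.node (.leaf (nat_lit
    59268866)) (.leaf (nat_lit 51177473)))) (.node (.node (.leaf (nat_lit 19686657)) (.leaf
    (nat_lit 137183239))) (.node (.leaf (nat_lit 83658753)) (.leaf (nat_lit 1280))))) (.node (.node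
    (.node (.leaf (nat_lit 9706499)) (.leaf (nat_lit 110743813))) (.node (.leaf (nat_lit 70021126))
    (.leaf (nat_lit 40768000)))) (.node (.node (.leaf (nat_lit 40911367)) (.leaf (nat_lit
    150355463))) (.leaf (nat_lit 91580675))))) (.node (.node (.node (.node (.leaf (nat_lit
    6560263)) (.leaf (nat_lit 115664898))) (.node (.leaf (nat_lit 64513797)) (.leaf (nat_lit
    62500352)))) (.node (.node (.leaf (nat_lit 33829894)) (.leaf (nat_lit 139861248))) (.leaf
    (nat_lit 88904705)))) (.node (.node (.node (.leaf (nat_lit 12601602)) (.leaf (nat_lit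
    130622726))) (.node (.leaf (nat_lit 76607493)) (.leaf (nat_lit 4201984)))) (.node (.node (.leaf
    (nat_lit 20468227)) (.leaf (nat_lit 151931650))) (.leaf (nat_lit 70089729)))))) (.node (.node
    (.node (.node (.node (.leaf (nat_lit 3409922)) (.leaf (nat_lit 111726852))) (.node (.leaf
    (nat_lit 62448130)) (.leaf (nat_lit 21074176)))) (.node (.node (.leaf (nat_lit 12350722))
    (.leaf (nat_lit 88480258))) (.leaf (nat_lit 86019589)))) (.node (.node (.node (.leaf (nat_lit
    6832385)) (.leaf (nat_lit 94495239))) (.node (.leaf (nat_lit 34113027)) (.leaf (nat_lit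
    3191296)))) (.node (.node (.leaf (nat_lit 40151301)) (.leaf (nat_lit 129367557))) (.leaf
    (nat_lit 97559813))))) (.node (.node (.node (.node (.leaf (nat_lit 10751748)) (.leaf (nat_lit
    111789059))) (.node (.leaf (nat_lit 45940481)) (.leaf (nat_lit 54908928)))) (.node (.node
    (.leaf (nat_lit 37501702)) (.leaf (nat_lit 145371651))) (.leaf (nat_lit 45703172)))) (.node
    (.node (.node (.leaf (nat_lit 19682560)) (.leaf (nat_lit 72736001))) (.node (.leaf (nat_lit
    71381507)) (.leaf (nat_lit 887808)))) (.node (.node (.leaf (nat_lit 54578690)) (.leaf (nat_lit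
    47003648))) (.leaf (nat_lit 104379653))))))) (.node (.node (.node (.node (.node (.node (.leaf
    (nat_lit 2097669)) (.leaf (nat_lit 108896512))) (.node (.leaf (nat_lit 61104391)) (.leaf
    (nat_lit 47531269)))) (.node (.node (.leaf (nat_lit 28584711)) (.leaf (nat_lit 118886661)))
    (.node (.leaf (nat_lit 84970244)) (.leaf (nat_lit 143654919))))) (.node (.node (.node (.leaf
    (nat_lit 14956548)) (.leaf (nat_lit 71424258))) (.node (.leaf (nat_lit 72905735)) (.leaf
    (nat_lit 8752128)))) (.node (.node (.leaf (nat_lit 42238726)) (.leaf (nat_lit 152138247)))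
    (.leaf (nat_lit 90795523))))) (.node (.node (.node (.node (.leaf (nat_lit 8654594)) (.leaf
    (nat_lit 93437442))) (.node (.leaf (nat_lit 65825026)) (.leaf (nat_lit 48557312)))) (.node
    (.node (.leaf (nat_lit 31491843)) (.leaf (nat_lit 105786885))) (.leaf (nat_lit 90525699))))
    (.node (.node (.node (.leaf (nat_lit 21503495)) (.leaf (nat_lit 132721671))) (.node (.leaf
    (nat_lit 35990529)) (.leaf (nat_lit 4294912)))) (.node (.node (.leaf (nat_lit 48022275)) (.leaf
    (nat_lit 78730759))) (.leaf (nat_lit 101756164)))))) (.node (.node (.node (.node (.node (.leaf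
    (nat_lit 4985603)) (.leaf (nat_lit 113619463))) (.node (.leaf (nat_lit 51689985)) (.leaf
    (nat_lit 56486400)))) (.node (.node (.leaf (nat_lit 22051844)) (.leaf (nat_lit 143479813)))
    (.leaf (nat_lit 69291012)))) (.node (.node (.node (.leaf (nat_lit 17831938)) (.leaf (nat_lit
    128261126))) (.node (.leaf (nat_lit 75828485)) (.leaf (nat_lit 11571200)))) (.node (.node
    (.leaf (nat_lit 46943492)) (.leaf (nat_lit 149829380))) (.leaf (nat_lit 92895495))))) (.node
    (.node (.node (.node (.leaf (nat_lit 12325124)) (.leaf (nat_lit 120388612))) (.node (.leaf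
    (nat_lit 57476099)) (.leaf (nat_lit 28936448)))) (.node (.node (.leaf (nat_lit 39092230))
    (.leaf (nat_lit 97662978))) (.leaf (nat_lit 87370244)))) (.node (.node (.node (.leaf (nat_lit
    25437445)) (.leaf (nat_lit 135608069))) (.node (.leaf (nat_lit 82347269)) (.leaf (nat_lit
    512)))) (.node (.node (.leaf (nat_lit 49862147)) (.leaf (nat_lit 116519169))) (.leaf (nat_lit
    106478853)))))))) (.node (.node (.node (.node (.node (.node (.node (.leaf (nat_lit 525314))
    (.leaf (nat_lit 59875846))) (.node (.leaf (nat_lit 37021188)) (.leaf (nat_lit 20558080))))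
    (.node (.node (.leaf (nat_lit 27535623)) (.leaf (nat_lit 137970950))) (.node (.leaf (nat_lit
    65618181)) (.leaf (nat_lit 37888))))) (.node (.node (.node (.leaf (nat_lit 14169859)) (.leaf
    (nat_lit 123013893))) (.node (.leaf (nat_lit 35196674)) (.leaf (nat_lit 8975360)))) (.node
    (.node (.leaf (nat_lit 41698054)) (.leaf (nat_lit 151106049))) (.leaf (nat_lit 94989063)))))
    (.node (.node (.node (.node (.leaf (nat_lit 4201986)) (.leaf (nat_lit 70105858))) (.node (.leaf
    (nat_lit 36208131)) (.leaf (nat_lit 103106820)))) (.node (.node (.leaf (nat_lit 34374661))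
    (.leaf (nat_lit 141175554))) (.leaf (nat_lit 89478661)))) (.node (.node (.node (.leaf (nat_lit
    20205063)) (.leaf (nat_lit 131462663))) (.node (.leaf (nat_lit 52504320)) (.leaf (nat_lit
    3155712)))) (.node (.node (.leaf (nat_lit 27024131)) (.leaf (nat_lit 154285575))) (.leaf
    (nat_lit 100707329)))))) (.node (.node (.node (.node (.node (.leaf (nat_lit 4195335)) (.leaf
    (nat_lit 112569863))) (.node (.leaf (nat_lit 60087811)) (.leaf (nat_lit 49156096)))) (.node
    (.node (.leaf (nat_lit 31488004)) (.leaf (nat_lit 129376005))) (.leaf (nat_lit 86546690))))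
    (.node (.node (.node (.leaf (nat_lit 15735042)) (.leaf (nat_lit 127736836))) (.node (.leaf
    (nat_lit 75528193)) (.leaf (nat_lit 7881216)))) (.node (.node (.leaf (nat_lit 45632263)) (.leaf
    (nat_lit 71132422))) (.leaf (nat_lit 98346754))))) (.node (.node (.node (.node (.leaf (nat_lit
    11538437)) (.leaf (nat_lit 109168641))) (.node (.leaf (nat_lit 67660802)) (.leaf (nat_lit
    63772160)))) (.node (.node (.leaf (nat_lit 38048257)) (.leaf (nat_lit 148203778))) (.leaf
    (nat_lit 92627459)))) (.node (.node (.node (.leaf (nat_lit 24141063)) (.leaf (nat_lit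
    134558468))) (.node (.leaf (nat_lit 42284551)) (.leaf (nat_lit 290304)))) (.node (.node (.leaf
    (nat_lit 55335175)) (.leaf (nat_lit 47496192))) (.leaf (nat_lit 105953797))))))) (.node (.node
    (.node (.node (.node (.node (.leaf (nat_lit 2361857)) (.leaf (nat_lit 110939654))) (.node
    (.leaf (nat_lit 61891334)) (.leaf (nat_lit 152930567)))) (.node (.node (.leaf (nat_lit
    29389061)) (.leaf (nat_lit 140070661))) (.leaf (nat_lit 37280005)))) (.node (.node (.node
    (.leaf (nat_lit 9977090)) (.leaf (nat_lit 125165061))) (.node (.leaf (nat_lit 31265536)) (.leaf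
    (nat_lit 20036608)))) (.node (.node (.leaf (nat_lit 43271942)) (.leaf (nat_lit 125191687)))
    (.leaf (nat_lit 82407430))))) (.node (.node (.node (.node (.leaf (nat_lit 9446663)) (.leaf
    (nat_lit 118025220))) (.node (.leaf (nat_lit 62170627)) (.leaf (nat_lit 50656768)))) (.node
    (.node (.leaf (nat_lit 36452614)) (.leaf (nat_lit 127545604))) (.leaf (nat_lit 91789317))))
    (.node (.node (.node (.leaf (nat_lit 22566663)) (.leaf (nat_lit 122813443))) (.node (.leaf
    (nat_lit 79724801)) (.leaf (nat_lit 3154432)))) (.node (.node (.leaf (nat_lit 52975105)) (.leaf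
    (nat_lit 81627648))) (.leaf (nat_lit 102806020)))))) (.node (.node (.node (.node (.node (.leaf
    (nat_lit 6031366)) (.leaf (nat_lit 99726851))) (.node (.leaf (nat_lit 47248131)) (.leaf
    (nat_lit 15592704)))) (.node (.node (.leaf (nat_lit 33306370)) (.leaf (nat_lit 134358789)))
    (.leaf (nat_lit 87593223)))) (.node (.node (.node (.leaf (nat_lit 14435846)) (.leaf (nat_lit
    129573382))) (.node (.leaf (nat_lit 76839682)) (.leaf (nat_lit 4203264)))) (.node (.node (.leaf
    (nat_lit 48779015)) (.leaf (nat_lit 144552961))) (.leaf (nat_lit 73490946))))) (.node (.node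
    (.node (.node (.leaf (nat_lit 7090437)) (.leaf (nat_lit 100519174))) (.node (.leaf (nat_lit
    28602115)) (.leaf (nat_lit 31541504)))) (.node (.node (.leaf (nat_lit 40124678)) (.leaf
    (nat_lit 149515269))) (.leaf (nat_lit 94150657)))) (.node (.node (.node (.leaf (nat_lit
    25715459)) (.leaf (nat_lit 136133638))) (.node (.leaf (nat_lit 80821251)) (.leaf (nat_lit
    76800)))) (.node (.node (.leaf (nat_lit 57695490)) (.leaf (nat_lit 15572224))) (.leaf (nat_lit
    107579649))))))))) (.node (.node (.node (.node (.node (.node (.node (.node (.leaf (nat_lit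
    262663)) (.leaf (nat_lit 108839940))) (.node (.leaf (nat_lit 60055301)) (.leaf (nat_lit
    21073664)))) (.node (.node (.leaf (nat_lit 27011079)) (.leaf (nat_lit 132254723))) (.node
    (.leaf (nat_lit 83181571)) (.leaf (nat_lit 78592))))) (.node (.node (.node (.leaf (nat_lit
    7353602)) (.leaf (nat_lit 120705796))) (.node (.leaf (nat_lit 38341895)) (.leaf (nat_lit
    37787904)))) (.node (.node (.leaf (nat_lit 41197061)) (.leaf (nat_lit 151089412))) (.leaf
    (nat_lit 94978306))))) (.node (.node (.node (.node (.leaf (nat_lit 7085063)) (.leaf (nat_lit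
    115689732))) (.node (.leaf (nat_lit 46200577)) (.leaf (nat_lit 40396548)))) (.node (.node
    (.leaf (nat_lit 34354436)) (.leaf (nat_lit 140912899))) (.leaf (nat_lit 38839299)))) (.node
    (.node (.node (.leaf (nat_lit 19930373)) (.leaf (nat_lit 131147270))) (.node (.leaf (nat_lit
    65571076)) (.leaf (nat_lit 4204544)))) (.node (.node (.leaf (nat_lit 49856261)) (.leaf (nat_lit
    152456193))) (.leaf (nat_lit 77168134)))))) (.node (.node (.node (.node (.node (.leaf (nat_lit
    3411457)) (.leaf (nat_lit 55945986))) (.node (.leaf (nat_lit 59030529)) (.leaf (nat_lit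
    21086720)))) (.node (.node (.leaf (nat_lit 31206919)) (.leaf (nat_lit 141906434))) (.leaf
    (nat_lit 62736645)))) (.node (.node (.node (.leaf (nat_lit 5773315)) (.leaf (nat_lit
    127211782))) (.node (.leaf (nat_lit 72687107)) (.leaf (nat_lit 3216896)))) (.node (.node (.leaf
    (nat_lit 40676101)) (.leaf (nat_lit 96593153))) (.leaf (nat_lit 93411331))))) (.node (.node
    (.node (.node (.leaf (nat_lit 11276292)) (.leaf (nat_lit 119076359))) (.node (.leaf (nat_lit
    67398657)) (.leaf (nat_lit 37044224)))) (.node (.node (.leaf (nat_lit 38026244)) (.leaf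
    (nat_lit 147940866))) (.leaf (nat_lit 92616706)))) (.node (.node (.node (.leaf (nat_lit
    23863559)) (.leaf (nat_lit 90308613))) (.node (.leaf (nat_lit 80773636)) (.leaf (nat_lit
    525056)))) (.node (.node (.leaf (nat_lit 53006594)) (.leaf (nat_lit 60922368))) (.leaf (nat_lit
    104903943))))))) (.node (.node (.node (.node (.node (.node (.leaf (nat_lit 2360068)) (.leaf
    (nat_lit 108897539))) (.node (.leaf (nat_lit 61628935)) (.leaf (nat_lit 46722816)))) (.node
    (.node (.leaf (nat_lit 29109255)) (.leaf (nat_lit 137499397))) (.leaf (nat_lit 62204673))))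
    (.node (.node (.node (.leaf (nat_lit 15471874)) (.leaf (nat_lit 87677957))) (.node (.leaf
    (nat_lit 73430279)) (.leaf (nat_lit 9020160)))) (.node (.node (.leaf (nat_lit 18129410)) (.leaf
    (nat_lit 151930371))) (.leaf (nat_lit 88430081))))) (.node (.node (.node (.node (.leaf (nat_lit
    8921861)) (.leaf (nat_lit 117500929))) (.node (.leaf (nat_lit 65076227)) (.leaf (nat_lit
    56205824)))) (.node (.node (.leaf (nat_lit 32278787)) (.leaf (nat_lit 146891271))) (.leaf
    (nat_lit 91265025)))) (.node (.node (.node (.leaf (nat_lit 21779463)) (.leaf (nat_lit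
    111278850))) (.node (.leaf (nat_lit 79200007)) (.leaf (nat_lit 3246336)))) (.node (.node (.leaf
    (nat_lit 51925765)) (.leaf (nat_lit 131728640))) (.leaf (nat_lit 102281476)))))) (.node (.node
    (.node (.node (.node (.leaf (nat_lit 5510403)) (.leaf (nat_lit 114616065))) (.node (.leaf
    (nat_lit 48803843)) (.leaf (nat_lit 48105216)))) (.node (.node (.leaf (nat_lit 22838788))
    (.leaf (nat_lit 144004610))) (.leaf (nat_lit 87100418)))) (.node (.node (.node (.leaf (nat_lit
    16794883)) (.leaf (nat_lit 129048838))) (.node (.leaf (nat_lit 76355077)) (.leaf (nat_lit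
    7875584)))) (.node (.node (.leaf (nat_lit 47730179)) (.leaf (nat_lit 153188101))) (.leaf
    (nat_lit 99167236))))) (.node (.node (.node (.node (.leaf (nat_lit 12849665)) (.leaf (nat_lit
    120651270))) (.node (.leaf (nat_lit 68972033)) (.leaf (nat_lit 7706880)))) (.node (.node (.leaf
    (nat_lit 38049283)) (.leaf (nat_lit 143538434))) (.leaf (nat_lit 88696067)))) (.node (.node
    (.node (.leaf (nat_lit 25699844)) (.leaf (nat_lit 135870727))) (.node (.leaf (nat_lit
    81083139)) (.leaf (nat_lit 17920)))) (.node (.node (.leaf (nat_lit 56908801)) (.leaf (nat_lit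
    64040448))) (.leaf (nat_lit 106797063)))))))) (.node (.node (.node (.node (.node (.node (.node
    (.leaf (nat_lit 1573125)) (.leaf (nat_lit 110152197))) (.node (.leaf (nat_lit 60842246)) (.leaf
    (nat_lit 3024640)))) (.node (.node (.leaf (nat_lit 28060167)) (.leaf (nat_lit 138496007)))
    (.node (.leaf (nat_lit 77939203)) (.leaf (nat_lit 87040))))) (.node (.node (.node (.leaf
    (nat_lit 14947330)) (.leaf (nat_lit 123328263))) (.node (.leaf (nat_lit 71856897)) (.leaf
    (nat_lit 10270464)))) (.node (.node (.leaf (nat_lit 41459971)) (.leaf (nat_lit 151655426)))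
    (.leaf (nat_lit 95724292))))) (.node (.node (.node (.node (.leaf (nat_lit 8134659)) (.leaf
    (nat_lit 84261894))) (.node (.leaf (nat_lit 51968259)) (.leaf (nat_lit 37097216)))) (.node
    (.node (.leaf (nat_lit 34878726)) (.leaf (nat_lit 93727746))) (.leaf (nat_lit 90478337))))
    (.node (.node (.node (.leaf (nat_lit 8146946)) (.leaf (nat_lit 132197126))) (.node (.leaf
    (nat_lit 33106433)) (.leaf (nat_lit 4288768)))) (.node (.node (.leaf (nat_lit 50876932)) (.leaf
    (nat_lit 116017412))) (.leaf (nat_lit 101231620)))))) (.node (.node (.node (.node (.node (.leaf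
    (nat_lit 4719879)) (.leaf (nat_lit 113301767))) (.node (.leaf (nat_lit 53800962)) (.leaf
    (nat_lit 8745984)))) (.node (.node (.leaf (nat_lit 32012804)) (.leaf (nat_lit 142955269)))
    (.leaf (nat_lit 85543683)))) (.node (.node (.node (.leaf (nat_lit 17308165)) (.leaf (nat_lit
    127998981))) (.node (.leaf (nat_lit 76315138)) (.leaf (nat_lit 38353920)))) (.node (.node
    (.leaf (nat_lit 46419201)) (.leaf (nat_lit 139579393))) (.leaf (nat_lit 98608900))))) (.node
    (.node (.node (.node (.leaf (nat_lit 11800833)) (.leaf (nat_lit 113363205))) (.node (.leaf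
    (nat_lit 57453826)) (.leaf (nat_lit 10354176)))) (.node (.node (.leaf (nat_lit 38573063))
    (.leaf (nat_lit 143275523))) (.leaf (nat_lit 78466305)))) (.node (.node (.node (.leaf (nat_lit
    25175300)) (.leaf (nat_lit 135082759))) (.node (.leaf (nat_lit 73217795)) (.leaf (nat_lit
    262912)))) (.node (.node (.leaf (nat_lit 55859716)) (.leaf (nat_lit 73247744))) (.leaf (nat_lit
    85300485))))))) (.node (.node (.node (.node (.node (.node (.leaf (nat_lit 3146503)) (.leaf
    (nat_lit 61188100))) (.node (.leaf (nat_lit 36760837)) (.leaf (nat_lit 55155712)))) (.node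
    (.node (.leaf (nat_lit 29913863)) (.leaf (nat_lit 140384263))) (.leaf (nat_lit 85757441))))
    (.node (.node (.node (.leaf (nat_lit 12336902)) (.leaf (nat_lit 126162182))) (.node (.leaf
    (nat_lit 74216965)) (.leaf (nat_lit 8997120)))) (.node (.node (.leaf (nat_lit 44058631)) (.leaf
    (nat_lit 88735488))) (.leaf (nat_lit 97035522))))) (.node (.node (.node (.node (.leaf (nat_lit
    9971463)) (.leaf (nat_lit 118080261))) (.node (.leaf (nat_lit 66387461)) (.leaf (nat_lit
    40978688)))) (.node (.node (.leaf (nat_lit 36977158)) (.leaf (nat_lit 126759174))) (.leaf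
    (nat_lit 57237252)))) (.node (.node (.node (.leaf (nat_lit 19683587)) (.leaf (nat_lit
    125435139))) (.node (.leaf (nat_lit 71643395)) (.leaf (nat_lit 3272960)))) (.node (.node (.leaf
    (nat_lit 54023938)) (.leaf (nat_lit 56170496))) (.leaf (nat_lit 103330567)))))) (.node (.node
    (.node (.node (.node (.leaf (nat_lit 6035463)) (.leaf (nat_lit 65648390))) (.node (.leaf
    (nat_lit 64251652)) (.leaf (nat_lit 8519680)))) (.node (.node (.leaf (nat_lit 31752193)) (.leaf
    (nat_lit 140126210))) (.leaf (nat_lit 43077634)))) (.node (.node (.node (.leaf (nat_lit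
    18630661)) (.leaf (nat_lit 129625863))) (.node (.leaf (nat_lit 77363973)) (.leaf (nat_lit
    21000448)))) (.node (.node (.leaf (nat_lit 49069063)) (.leaf (nat_lit 153713414))) (.leaf
    (nat_lit 79251458))))) (.node (.node (.node (.node (.leaf (nat_lit 9712641)) (.leaf (nat_lit
    121700615))) (.node (.leaf (nat_lit 69496578)) (.leaf (nat_lit 9294080)))) (.node (.node (.leaf
    (nat_lit 40147463)) (.leaf (nat_lit 141442051))) (.leaf (nat_lit 91842563)))) (.node (.node
    (.node (.leaf (nat_lit 19948546)) (.leaf (nat_lit 136658182))) (.node (.leaf (nat_lit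
    83396354)) (.leaf (nat_lit 34816)))) (.node (.node (.leaf (nat_lit 58481925)) (.leaf (nat_lit
    7979776))) (.leaf (nat_lit 50961154))))))))))) (.node (.node (.node (.node (.node (.node (.node
    (.node (.node (.node (.leaf (nat_lit 3)) (.leaf (nat_lit 107841026))) (.node (.leaf (nat_lit
    59006466)) (.leaf (nat_lit 105517056)))) (.node (.node (.leaf (nat_lit 20735235)) (.leaf
    (nat_lit 113641988))) (.node (.leaf (nat_lit 83181061)) (.leaf (nat_lit 37632))))) (.node
    (.node (.node (.leaf (nat_lit 4723715)) (.leaf (nat_lit 120967428))) (.node (.leaf (nat_lit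
    66652678)) (.leaf (nat_lit 37838848)))) (.node (.node (.leaf (nat_lit 24681221)) (.leaf
    (nat_lit 150564359))) (.leaf (nat_lit 94464261))))) (.node (.node (.node (.node (.leaf (nat_lit
    6818055)) (.leaf (nat_lit 85047302))) (.node (.leaf (nat_lit 55891969)) (.leaf (nat_lit
    46716672)))) (.node (.node (.leaf (nat_lit 12611585)) (.leaf (nat_lit 89792513))) (.leaf
    (nat_lit 88429061)))) (.node (.node (.node (.leaf (nat_lit 19143684)) (.leaf (nat_lit
    130360327))) (.node (.leaf (nat_lit 45950981)) (.leaf (nat_lit 4268800)))) (.node (.node (.leaf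
    (nat_lit 21542400)) (.leaf (nat_lit 153766663))) (.leaf (nat_lit 99658241)))))) (.node (.node
    (.node (.node (.node (.leaf (nat_lit 2624771)) (.leaf (nat_lit 111503874))) (.node (.leaf
    (nat_lit 45411843)) (.leaf (nat_lit 20769792)))) (.node (.node (.leaf (nat_lit 30438661))
    (.leaf (nat_lit 140909061))) (.leaf (nat_lit 37816324)))) (.node (.node (.node (.leaf (nat_lit
    17045249)) (.leaf (nat_lit 115466754))) (.node (.leaf (nat_lit 74481922)) (.leaf (nat_lit
    24419072)))) (.node (.node (.leaf (nat_lit 24160516)) (.leaf (nat_lit 88735238))) (.leaf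
    (nat_lit 92631815))))) (.node (.node (.node (.node (.leaf (nat_lit 4204545)) (.leaf (nat_lit
    118550789))) (.node (.leaf (nat_lit 54066947)) (.leaf (nat_lit 4314368)))) (.node (.node (.leaf
    (nat_lit 36998663)) (.leaf (nat_lit 147416326))) (.leaf (nat_lit 40722433)))) (.node (.node
    (.node (.leaf (nat_lit 23077634)) (.leaf (nat_lit 125165568))) (.node (.leaf (nat_lit
    80032261)) (.leaf (nat_lit 891136)))) (.node (.node (.leaf (nat_lit 48549891)) (.leaf (nat_lit
    130415616))) (.leaf (nat_lit 104117508))))))) (.node (.node (.node (.node (.node (.node (.leaf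
    (nat_lit 1574658)) (.leaf (nat_lit 109155330))) (.node (.leaf (nat_lit 28895237)) (.leaf
    (nat_lit 112865280)))) (.node (.node (.leaf (nat_lit 24144899)) (.leaf (nat_lit 138758406)))
    (.node (.leaf (nat_lit 36782849)) (.leaf (nat_lit 136960))))) (.node (.node (.node (.leaf
    (nat_lit 14951429)) (.leaf (nat_lit 123853061))) (.node (.leaf (nat_lit 72643333)) (.leaf
    (nat_lit 8984320)))) (.node (.node (.leaf (nat_lit 30449159)) (.leaf (nat_lit 97403650)))
    (.leaf (nat_lit 95986437))))) (.node (.node (.node (.node (.leaf (nat_lit 4197379)) (.leaf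
    (nat_lit 116976130))) (.node (.leaf (nat_lit 48560641)) (.leaf (nat_lit 47303168)))) (.node
    (.node (.leaf (nat_lit 35403270)) (.leaf (nat_lit 146366470))) (.leaf (nat_lit 39886851))))
    (.node (.node (.node (.leaf (nat_lit 21241350)) (.leaf (nat_lit 131463427))) (.node (.leaf
    (nat_lit 78675457)) (.leaf (nat_lit 4024832)))) (.node (.node (.leaf (nat_lit 50905861)) (.leaf
    (nat_lit 122812928))) (.leaf (nat_lit 78480134)))))) (.node (.node (.node (.node (.node (.leaf
    (nat_lit 4982278)) (.leaf (nat_lit 113826311))) (.node (.leaf (nat_lit 51441922)) (.leaf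
    (nat_lit 27120128)))) (.node (.node (.leaf (nat_lit 32275463)) (.leaf (nat_lit 143217668)))
    (.leaf (nat_lit 87068676)))) (.node (.node (.node (.leaf (nat_lit 9978625)) (.leaf (nat_lit
    82958337))) (.node (.leaf (nat_lit 76092932)) (.leaf (nat_lit 8947712)))) (.node (.node (.leaf
    (nat_lit 23900674)) (.leaf (nat_lit 94241285))) (.leaf (nat_lit 98662661))))) (.node (.node
    (.node (.node (.leaf (nat_lit 9711106)) (.leaf (nat_lit 113363460))) (.node (.leaf (nat_lit
    68185346)) (.leaf (nat_lit 9060608)))) (.node (.node (.leaf (nat_lit 39084802)) (.leaf (nat_lit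
    139606019))) (.leaf (nat_lit 77161218)))) (.node (.node (.node (.leaf (nat_lit 12339713))
    (.leaf (nat_lit 115204865))) (.node (.leaf (nat_lit 82085124)) (.leaf (nat_lit 256)))) (.node
    (.node (.leaf (nat_lit 56121861)) (.leaf (nat_lit 133034245))) (.leaf (nat_lit 60614915))))))))
    (.node (.node (.node (.node (.node (.node (.node (.leaf (nat_lit 1048834)) (.leaf (nat_lit
    109626886))) (.node (.leaf (nat_lit 44361219)) (.leaf (nat_lit 8769536)))) (.node (.node (.leaf
    (nat_lit 21784579)) (.leaf (nat_lit 131206403))) (.node (.leaf (nat_lit 84183301)) (.leaf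
    (nat_lit 120320))))) (.node (.node (.node (.leaf (nat_lit 14169861)) (.leaf (nat_lit
    89773063))) (.node (.leaf (nat_lit 71070210)) (.leaf (nat_lit 10269952)))) (.node (.node (.leaf
    (nat_lit 41174530)) (.leaf (nat_lit 134365442))) (.leaf (nat_lit 95199751))))) (.node (.node
    (.node (.node (.leaf (nat_lit 7867138)) (.leaf (nat_lit 116189442))) (.node (.leaf (nat_lit
    61646851)) (.leaf (nat_lit 46745861)))) (.node (.node (.leaf (nat_lit 34616581)) (.leaf
    (nat_lit 145579012))) (.leaf (nat_lit 89691141)))) (.node (.node (.node (.leaf (nat_lit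
    20454663)) (.leaf (nat_lit 131672071))) (.node (.leaf (nat_lit 54037253)) (.leaf (nat_lit
    9041664)))) (.node (.node (.leaf (nat_lit 50357762)) (.leaf (nat_lit 146161411))) (.leaf
    (nat_lit 66944774)))))) (.node (.node (.node (.node (.node (.leaf (nat_lit 3936003)) (.leaf
    (nat_lit 112776967))) (.node (.leaf (nat_lit 24403715)) (.leaf (nat_lit 49123840)))) (.node
    (.node (.leaf (nat_lit 16545798)) (.leaf (nat_lit 142221063))) (.leaf (nat_lit 86561541))))
    (.node (.node (.node (.leaf (nat_lit 15219461)) (.leaf (nat_lit 93447684))) (.node (.leaf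
    (nat_lit 75307522)) (.leaf (nat_lit 17400320)))) (.node (.node (.leaf (nat_lit 45370118))
    (.leaf (nat_lit 124400384))) (.leaf (nat_lit 98136579))))) (.node (.node (.node (.node (.leaf
    (nat_lit 8135425)) (.leaf (nat_lit 119601157))) (.node (.leaf (nat_lit 62706435)) (.leaf
    (nat_lit 31497216)))) (.node (.node (.leaf (nat_lit 18649602)) (.leaf (nat_lit 143013122)))
    (.leaf (nat_lit 92838917)))) (.node (.node (.node (.leaf (nat_lit 24388103)) (.leaf (nat_lit
    134332161))) (.node (.leaf (nat_lit 81298183)) (.leaf (nat_lit 262656)))) (.node (.node (.leaf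
    (nat_lit 49074691)) (.leaf (nat_lit 24689920))) (.leaf (nat_lit 105691142))))))) (.node (.node
    (.node (.node (.node (.node (.leaf (nat_lit 1837570)) (.leaf (nat_lit 58566150))) (.node (.leaf
    (nat_lit 27585284)) (.leaf (nat_lit 86345728)))) (.node (.node (.leaf (nat_lit 29633797))
    (.leaf (nat_lit 139808516))) (.leaf (nat_lit 37307649)))) (.node (.node (.node (.leaf (nat_lit
    15996418)) (.leaf (nat_lit 125374981))) (.node (.leaf (nat_lit 35199233)) (.leaf (nat_lit
    24216064)))) (.node (.node (.leaf (nat_lit 43009031)) (.leaf (nat_lit 123880199))) (.leaf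
    (nat_lit 89485315))))) (.node (.node (.node (.node (.leaf (nat_lit 9702663)) (.leaf (nat_lit
    90292482))) (.node (.leaf (nat_lit 22047491)) (.leaf (nat_lit 9325312)))) (.node (.node (.leaf
    (nat_lit 27560453)) (.leaf (nat_lit 147153924))) (.leaf (nat_lit 80305414)))) (.node (.node
    (.node (.leaf (nat_lit 22814727)) (.leaf (nat_lit 133037061))) (.node (.leaf (nat_lit
    75575042)) (.leaf (nat_lit 3154688)))) (.node (.node (.leaf (nat_lit 52712451)) (.leaf (nat_lit
    76688640))) (.leaf (nat_lit 48072450)))))) (.node (.node (.node (.node (.node (.leaf (nat_lit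
    5510663)) (.leaf (nat_lit 114878210))) (.node (.leaf (nat_lit 63727108)) (.leaf (nat_lit
    37560576)))) (.node (.node (.leaf (nat_lit 33321217)) (.leaf (nat_lit 144529413))) (.leaf
    (nat_lit 87331078)))) (.node (.node (.node (.leaf (nat_lit 16532995)) (.leaf (nat_lit
    129101063))) (.node (.leaf (nat_lit 36250625)) (.leaf (nat_lit 9243904)))) (.node (.node (.leaf
    (nat_lit 48516870)) (.leaf (nat_lit 153203714))) (.leaf (nat_lit 73497345))))) (.node (.node
    (.node (.node (.leaf (nat_lit 13119747)) (.leaf (nat_lit 120913670))) (.node (.leaf (nat_lit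
    29164800)) (.leaf (nat_lit 23909888)))) (.node (.node (.leaf (nat_lit 39861511)) (.leaf
    (nat_lit 149291270))) (.leaf (nat_lit 88434179)))) (.node (.node (.node (.leaf (nat_lit
    25715461)) (.leaf (nat_lit 97388033))) (.node (.leaf (nat_lit 82871813)) (.leaf (nat_lit
    3840)))) (.node (.node (.leaf (nat_lit 57433345)) (.leaf (nat_lit 51154948))) (.leaf (nat_lit
    106535427))))))))) (.node (.node (.node (.node (.node (.node (.node (.node (.leaf (nat_lit
    524295)) (.leaf (nat_lit 108577543))) (.node (.leaf (nat_lit 51962886)) (.leaf (nat_lit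
    23912448)))) (.node (.node (.leaf (nat_lit 20211203)) (.leaf (nat_lit 116526086))) (.node
    (.leaf (nat_lit 83920898)) (.leaf (nat_lit 69120))))) (.node (.node (.node (.leaf (nat_lit
    11810051)) (.leaf (nat_lit 122488839))) (.node (.leaf (nat_lit 70545671)) (.leaf (nat_lit
    37016832)))) (.node (.node (.leaf (nat_lit 41435909)) (.leaf (nat_lit 135675655))) (.leaf
    (nat_lit 90008067))))) (.node (.node (.node (.node (.leaf (nat_lit 7342599)) (.leaf (nat_lit
    62765316))) (.node (.leaf (nat_lit 64776193)) (.leaf (nat_lit 45421824)))) (.node (.node (.leaf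
    (nat_lit 33849863)) (.leaf (nat_lit 145053957))) (.leaf (nat_lit 87905027)))) (.node (.node
    (.node (.leaf (nat_lit 19668228)) (.leaf (nat_lit 129889028))) (.node (.leaf (nat_lit
    35989762)) (.leaf (nat_lit 4275456)))) (.node (.node (.leaf (nat_lit 50090245)) (.leaf (nat_lit
    154238213))) (.leaf (nat_lit 100182532)))))) (.node (.node (.node (.node (.node (.leaf (nat_lit
    2362883)) (.leaf (nat_lit 111989765))) (.node (.leaf (nat_lit 58781442)) (.leaf (nat_lit
    50177792)))) (.node (.node (.leaf (nat_lit 30944774)) (.leaf (nat_lit 128850949))) (.leaf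
    (nat_lit 40978689)))) (.node (.node (.node (.leaf (nat_lit 6307328)) (.leaf (nat_lit
    82699266))) (.node (.leaf (nat_lit 75003652)) (.leaf (nat_lit 24453632)))) (.node (.node (.leaf
    (nat_lit 44845574)) (.leaf (nat_lit 127277312))) (.leaf (nat_lit 90010882))))) (.node (.node
    (.node (.node (.leaf (nat_lit 10758659)) (.leaf (nat_lit 108381443))) (.node (.leaf (nat_lit
    53805059)) (.leaf (nat_lit 21104640)))) (.node (.node (.leaf (nat_lit 37523463)) (.leaf
    (nat_lit 130953988))) (.leaf (nat_lit 60383490)))) (.node (.node (.node (.leaf (nat_lit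
    21256707)) (.leaf (nat_lit 134295815))) (.node (.leaf (nat_lit 70857475)) (.leaf (nat_lit
    900096)))) (.node (.node (.leaf (nat_lit 54579463)) (.leaf (nat_lit 48056320))) (.leaf (nat_lit
    104641798))))))) (.node (.node (.node (.node (.node (.node (.leaf (nat_lit 2098434)) (.leaf
    (nat_lit 110414597))) (.node (.leaf (nat_lit 43313667)) (.leaf (nat_lit 63784704)))) (.node
    (.node (.leaf (nat_lit 24669699)) (.leaf (nat_lit 139283463))) (.leaf (nat_lit 44123138))))
    (.node (.node (.node (.leaf (nat_lit 15214340)) (.leaf (nat_lit 124850439))) (.node (.leaf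
    (nat_lit 73168134)) (.leaf (nat_lit 8709120)))) (.node (.node (.leaf (nat_lit 39100929)) (.leaf
    (nat_lit 113919492))) (.leaf (nat_lit 89747203))))) (.node (.node (.node (.node (.leaf (nat_lit
    9178117)) (.leaf (nat_lit 87146247))) (.node (.leaf (nat_lit 66087425)) (.leaf (nat_lit
    29428224)))) (.node (.node (.leaf (nat_lit 35928070)) (.leaf (nat_lit 146673667))) (.leaf
    (nat_lit 90790661)))) (.node (.node (.node (.leaf (nat_lit 22028039)) (.leaf (nat_lit
    123075331))) (.node (.leaf (nat_lit 70069507)) (.leaf (nat_lit 3149824)))) (.node (.node (.leaf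
    (nat_lit 51663618)) (.leaf (nat_lit 77741824))) (.leaf (nat_lit 52004098)))))) (.node (.node
    (.node (.node (.node (.leaf (nat_lit 5506822)) (.leaf (nat_lit 114352391))) (.node (.leaf
    (nat_lit 53265411)) (.leaf (nat_lit 23216896)))) (.node (.node (.leaf (nat_lit 32800263))
    (.leaf (nat_lit 143741959))) (.leaf (nat_lit 44386305)))) (.node (.node (.node (.leaf (nat_lit
    18094084)) (.leaf (nat_lit 128786439))) (.node (.leaf (nat_lit 76357635)) (.leaf (nat_lit
    17060352)))) (.node (.node (.leaf (nat_lit 47468033)) (.leaf (nat_lit 152962562))) (.leaf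
    (nat_lit 48593412))))) (.node (.node (.node (.node (.leaf (nat_lit 12333059)) (.leaf (nat_lit
    120440577))) (.node (.leaf (nat_lit 66389510)) (.leaf (nat_lit 9252096)))) (.node (.node (.leaf
    (nat_lit 39097861)) (.leaf (nat_lit 145897731))) (.leaf (nat_lit 93626116)))) (.node (.node
    (.node (.leaf (nat_lit 25441794)) (.leaf (nat_lit 135626242))) (.node (.leaf (nat_lit
    82609668)) (.leaf (nat_lit 28416)))) (.node (.node (.leaf (nat_lit 56646405)) (.leaf (nat_lit
    20240896))) (.leaf (nat_lit 107003399)))))))) (.node (.node (.node (.node (.node (.node (.node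
    (.leaf (nat_lit 1310980)) (.leaf (nat_lit 109683460))) (.node (.leaf (nat_lit 60352263)) (.leaf
    (nat_lit 4343808)))) (.node (.node (.leaf (nat_lit 22571523)) (.leaf (nat_lit 138022663)))
    (.node (.leaf (nat_lit 84445697)) (.leaf (nat_lit 131840))))) (.node (.node (.node (.leaf
    (nat_lit 9451525)) (.leaf (nat_lit 123538951))) (.node (.leaf (nat_lit 71373061)) (.leaf
    (nat_lit 28126208)))) (.node (.node (.leaf (nat_lit 42222596)) (.leaf (nat_lit 113918467)))
    (.leaf (nat_lit 43084801))))) (.node (.node (.node (.node (.leaf (nat_lit 8134661)) (.leaf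
    (nat_lit 115457027))) (.node (.leaf (nat_lit 65300484)) (.leaf (nat_lit 37307648)))) (.node
    (.node (.leaf (nat_lit 14189570)) (.leaf (nat_lit 140913665))) (.leaf (nat_lit 90003463))))
    (.node (.node (.node (.leaf (nat_lit 20729861)) (.leaf (nat_lit 129365764))) (.node (.leaf
    (nat_lit 76884483)) (.leaf (nat_lit 872960)))) (.node (.node (.leaf (nat_lit 23642370)) (.leaf
    (nat_lit 88455687))) (.leaf (nat_lit 79003906)))))) (.node (.node (.node (.node (.node (.leaf
    (nat_lit 4460803)) (.leaf (nat_lit 61452037))) (.node (.leaf (nat_lit 62965762)) (.leaf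
    (nat_lit 40917765)))) (.node (.node (.leaf (nat_lit 18119174)) (.leaf (nat_lit 140124163)))
    (.leaf (nat_lit 86806530)))) (.node (.node (.node (.leaf (nat_lit 10240514)) (.leaf (nat_lit
    75360001))) (.node (.leaf (nat_lit 76052993)) (.leaf (nat_lit 38320896)))) (.node (.node (.leaf
    (nat_lit 46156807)) (.leaf (nat_lit 121782784))) (.leaf (nat_lit 95243779))))) (.node (.node
    (.node (.node (.leaf (nat_lit 11544834)) (.leaf (nat_lit 110741763))) (.node (.leaf (nat_lit
    45661187)) (.leaf (nat_lit 15333120)))) (.node (.node (.leaf (nat_lit 38812679)) (.leaf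
    (nat_lit 148465413))) (.leaf (nat_lit 87384835)))) (.node (.node (.node (.leaf (nat_lit
    24665863)) (.leaf (nat_lit 128320003))) (.node (.leaf (nat_lit 81560582)) (.leaf (nat_lit
    263424)))) (.node (.node (.leaf (nat_lit 27055106)) (.leaf (nat_lit 7975936))) (.leaf (nat_lit
    106216453))))))) (.node (.node (.node (.node (.node (.node (.leaf (nat_lit 2886403)) (.leaf
    (nat_lit 110995463))) (.node (.leaf (nat_lit 61926663)) (.leaf (nat_lit 15339008)))) (.node
    (.node (.leaf (nat_lit 30158087)) (.leaf (nat_lit 140594951))) (.leaf (nat_lit 40951813))))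
    (.node (.node (.node (.leaf (nat_lit 16520708)) (.leaf (nat_lit 125900034))) (.node (.leaf
    (nat_lit 73954820)) (.leaf (nat_lit 37829888)))) (.node (.node (.leaf (nat_lit 43796486))
    (.leaf (nat_lit 79830528))) (.leaf (nat_lit 90272001))))) (.node (.node (.node (.node (.leaf
    (nat_lit 10227207)) (.leaf (nat_lit 118287365))) (.node (.leaf (nat_lit 66611717)) (.leaf
    (nat_lit 46787072)))) (.node (.node (.leaf (nat_lit 28085253)) (.leaf (nat_lit 113125121)))
    (.leaf (nat_lit 40460033)))) (.node (.node (.node (.leaf (nat_lit 23339269)) (.leaf (nat_lit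
    133509124))) (.node (.leaf (nat_lit 79986948)) (.leaf (nat_lit 3222784)))) (.node (.node (.leaf
    (nat_lit 53761793)) (.leaf (nat_lit 21291264))) (.leaf (nat_lit 47024386)))))) (.node (.node
    (.node (.node (.node (.leaf (nat_lit 6293511)) (.leaf (nat_lit 111261443))) (.node (.leaf
    (nat_lit 64009986)) (.leaf (nat_lit 8214528)))) (.node (.node (.leaf (nat_lit 30441475)) (.leaf
    (nat_lit 141174787))) (.leaf (nat_lit 88118018)))) (.node (.node (.node (.leaf (nat_lit
    18880773)) (.leaf (nat_lit 129835527))) (.node (.leaf (nat_lit 43591170)) (.leaf (nat_lit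
    4263168)))) (.node (.node (.leaf (nat_lit 49303559)) (.leaf (nat_lit 133317889))) (.leaf
    (nat_lit 45132291))))) (.node (.node (.node (.node (.leaf (nat_lit 13636353)) (.leaf (nat_lit
    121438470))) (.node (.leaf (nat_lit 56952835)) (.leaf (nat_lit 22612224)))) (.node (.node
    (.leaf (nat_lit 40386823)) (.leaf (nat_lit 150039814))) (.leaf (nat_lit 94412804)))) (.node
    (.node (.node (.leaf (nat_lit 20997123)) (.leaf (nat_lit 136185863))) (.node (.leaf (nat_lit
    79510789)) (.leaf (nat_lit 8704)))) (.node (.node (.leaf (nat_lit 58219780)) (.leaf (nat_lit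
    37769732))) (.leaf (nat_lit 103652097)))))))))) (.node (.node (.node (.node (.node (.node
    (.node (.node (.node (.leaf (nat_lit 262150)) (.leaf (nat_lit 108052743))) (.node (.leaf
    (nat_lit 59531011)) (.leaf (nat_lit 146906627)))) (.node (.node (.leaf (nat_lit 11298050))
    (.leaf (nat_lit 136973063))) (.node (.leaf (nat_lit 83443459)) (.leaf (nat_lit 4718599)))))
    (.node (.node (.node (.leaf (nat_lit 12854274)) (.leaf (nat_lit 122226438))) (.node (.leaf
    (nat_lit 70283271)) (.leaf (nat_lit 36998656)))) (.node (.node (.leaf (nat_lit 40672263))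
    (.leaf (nat_lit 137248260))) (.leaf (nat_lit 94725378))))) (.node (.node (.node (.node (.leaf
    (nat_lit 7080454)) (.leaf (nat_lit 81901826))) (.node (.leaf (nat_lit 56423939)) (.leaf
    (nat_lit 10635776)))) (.node (.node (.leaf (nat_lit 29917443)) (.leaf (nat_lit 88741121)))
    (.leaf (nat_lit 89166850)))) (.node (.node (.node (.leaf (nat_lit 19405829)) (.leaf (nat_lit
    130884871))) (.node (.leaf (nat_lit 67183876)) (.leaf (nat_lit 17113088)))) (.node (.node
    (.leaf (nat_lit 47468802)) (.leaf (nat_lit 152942855))) (.leaf (nat_lit 99920386)))))) (.node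
    (.node (.node (.node (.node (.leaf (nat_lit 3671045)) (.leaf (nat_lit 66693634))) (.node (.leaf
    (nat_lit 62678023)) (.leaf (nat_lit 3027200)))) (.node (.node (.leaf (nat_lit 30438657)) (.leaf
    (nat_lit 141381894))) (.leaf (nat_lit 56969221)))) (.node (.node (.node (.leaf (nat_lit
    15483139)) (.leaf (nat_lit 126686981))) (.node (.leaf (nat_lit 74741506)) (.leaf (nat_lit
    23955712)))) (.node (.node (.leaf (nat_lit 44583175)) (.leaf (nat_lit 131988996))) (.leaf
    (nat_lit 58815495))))) (.node (.node (.node (.node (.leaf (nat_lit 11013893)) (.leaf (nat_lit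
    118552834))) (.node (.leaf (nat_lit 67136258)) (.leaf (nat_lit 47580928)))) (.node (.node
    (.leaf (nat_lit 28872452)) (.leaf (nat_lit 147678471))) (.leaf (nat_lit 92576260)))) (.node
    (.node (.node (.leaf (nat_lit 8407809)) (.leaf (nat_lit 133771270))) (.node (.leaf (nat_lit
    80286722)) (.leaf (nat_lit 787456)))) (.node (.node (.leaf (nat_lit 52219906)) (.leaf (nat_lit
    37798400))) (.leaf (nat_lit 104173061))))))) (.node (.node (.node (.node (.node (.node (.leaf
    (nat_lit 1837061)) (.leaf (nat_lit 52010753))) (.node (.leaf (nat_lit 60877063)) (.leaf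
    (nat_lit 27066880)))) (.node (.node (.leaf (nat_lit 28339463)) (.leaf (nat_lit 139020551)))
    (.node (.leaf (nat_lit 54084612)) (.leaf (nat_lit 140288))))) (.node (.node (.node (.leaf
    (nat_lit 15209729)) (.leaf (nat_lit 124325638))) (.node (.leaf (nat_lit 41489927)) (.leaf
    (nat_lit 29126912)))) (.node (.node (.leaf (nat_lit 42484741)) (.leaf (nat_lit 152401158)))
    (.leaf (nat_lit 96034050))))) (.node (.node (.node (.node (.leaf (nat_lit 8915972)) (.leaf
    (nat_lit 117238277))) (.node (.leaf (nat_lit 52230915)) (.leaf (nat_lit 47494912)))) (.node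
    (.node (.leaf (nat_lit 35665670)) (.leaf (nat_lit 146628871))) (.leaf (nat_lit 90740484))))
    (.node (.node (.node (.leaf (nat_lit 21254663)) (.leaf (nat_lit 107084293))) (.node (.leaf
    (nat_lit 48573445)) (.leaf (nat_lit 3156736)))) (.node (.node (.leaf (nat_lit 51166722)) (.leaf
    (nat_lit 96335104))) (.leaf (nat_lit 60130306)))))) (.node (.node (.node (.node (.node (.leaf
    (nat_lit 5244423)) (.leaf (nat_lit 114090246))) (.node (.leaf (nat_lit 63230211)) (.leaf
    (nat_lit 41020928)))) (.node (.node (.leaf (nat_lit 32780806)) (.leaf (nat_lit 143270661)))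
    (.leaf (nat_lit 86068227)))) (.node (.node (.node (.leaf (nat_lit 6571010)) (.leaf (nat_lit
    128523782))) (.node (.leaf (nat_lit 75833348)) (.leaf (nat_lit 3227392)))) (.node (.node (.leaf
    (nat_lit 47205637)) (.leaf (nat_lit 152925956))) (.leaf (nat_lit 99133442))))) (.node (.node
    (.node (.node (.leaf (nat_lit 12587269)) (.leaf (nat_lit 119655171))) (.node (.leaf (nat_lit
    68447491)) (.leaf (nat_lit 22107904)))) (.node (.node (.leaf (nat_lit 29659655)) (.leaf
    (nat_lit 98702337))) (.leaf (nat_lit 93363463)))) (.node (.node (.node (.leaf (nat_lit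
    25190661)) (.leaf (nat_lit 126485763))) (.node (.leaf (nat_lit 82131461)) (.leaf (nat_lit
    60100096)))) (.node (.node (.leaf (nat_lit 56384260)) (.leaf (nat_lit 64577792))) (.leaf
    (nat_lit 56464898)))))))) (.node (.node (.node (.node (.node (.node (.node (.leaf (nat_lit
    524803)) (.leaf (nat_lit 109889542))) (.node (.leaf (nat_lit 28370437)) (.leaf (nat_lit
    51241216)))) (.node (.node (.leaf (nat_lit 27289863)) (.leaf (nat_lit 108400132))) (.node
    (.leaf (nat_lit 77152515)) (.leaf (nat_lit 85760))))) (.node (.node (.node (.leaf (nat_lit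
    14685185)) (.leaf (nat_lit 122803461))) (.node (.leaf (nat_lit 71332356)) (.leaf (nat_lit
    103921408)))) (.node (.node (.leaf (nat_lit 38575875)) (.leaf (nat_lit 97665025))) (.leaf
    (nat_lit 95462145))))) (.node (.node (.node (.node (.leaf (nat_lit 8129284)) (.leaf (nat_lit
    116451588))) (.node (.leaf (nat_lit 65038338)) (.leaf (nat_lit 15609344)))) (.node (.node
    (.leaf (nat_lit 29393923)) (.leaf (nat_lit 145579522))) (.leaf (nat_lit 89953798)))) (.node
    (.node (.node (.leaf (nat_lit 20717060)) (.leaf (nat_lit 103413252))) (.node (.leaf (nat_lit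
    32294916)) (.leaf (nat_lit 4205568)))) (.node (.node (.leaf (nat_lit 50614786)) (.leaf (nat_lit
    149519622))) (.leaf (nat_lit 81625089)))))) (.node (.node (.node (.node (.node (.leaf (nat_lit
    3936263)) (.leaf (nat_lit 113039622))) (.node (.leaf (nat_lit 62940422)) (.leaf (nat_lit
    55166464)))) (.node (.node (.leaf (nat_lit 31731714)) (.leaf (nat_lit 131997444))) (.leaf
    (nat_lit 40410115)))) (.node (.node (.node (.leaf (nat_lit 17307394)) (.leaf (nat_lit
    127002371))) (.node (.leaf (nat_lit 75790338)) (.leaf (nat_lit 18733056)))) (.node (.node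
    (.leaf (nat_lit 45395463)) (.leaf (nat_lit 130931204))) (.leaf (nat_lit 96827139))))) (.node
    (.node (.node (.node (.leaf (nat_lit 11283461)) (.leaf (nat_lit 65390594))) (.node (.leaf
    (nat_lit 58786307)) (.leaf (nat_lit 28904704)))) (.node (.node (.leaf (nat_lit 38027266))
    (.leaf (nat_lit 143275008))) (.leaf (nat_lit 92842754)))) (.node (.node (.node (.leaf (nat_lit
    24650502)) (.leaf (nat_lit 125436162))) (.node (.leaf (nat_lit 76101122)) (.leaf (nat_lit
    290560)))) (.node (.node (.leaf (nat_lit 55104263)) (.leaf (nat_lit 23658752))) (.leaf (nat_lit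
    102077443))))))) (.node (.node (.node (.node (.node (.node (.leaf (nat_lit 1575169)) (.leaf
    (nat_lit 109946627))) (.node (.leaf (nat_lit 43838467)) (.leaf (nat_lit 15307520)))) (.node
    (.node (.leaf (nat_lit 19165442)) (.leaf (nat_lit 94508546))) (.leaf (nat_lit 85495042))))
    (.node (.node (.node (.leaf (nat_lit 16006147)) (.leaf (nat_lit 74046978))) (.node (.leaf
    (nat_lit 30177027)) (.leaf (nat_lit 21541632)))) (.node (.node (.leaf (nat_lit 43534087))
    (.leaf (nat_lit 125713920))) (.leaf (nat_lit 96557570))))) (.node (.node (.node (.node (.leaf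
    (nat_lit 9965062)) (.leaf (nat_lit 98943491))) (.node (.leaf (nat_lit 36731907)) (.leaf
    (nat_lit 23110912)))) (.node (.node (.leaf (nat_lit 32803587)) (.leaf (nat_lit 144584963)))
    (.leaf (nat_lit 92051713)))) (.node (.node (.node (.leaf (nat_lit 23077124)) (.leaf (nat_lit
    91880455))) (.node (.leaf (nat_lit 71905283)) (.leaf (nat_lit 3959552)))) (.node (.node (.leaf
    (nat_lit 53237250)) (.leaf (nat_lit 51203072))) (.leaf (nat_lit 103068165)))))) (.node (.node
    (.node (.node (.node (.leaf (nat_lit 6035203)) (.leaf (nat_lit 81638914))) (.node (.leaf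
    (nat_lit 63989253)) (.leaf (nat_lit 11368192)))) (.node (.node (.leaf (nat_lit 33567749))
    (.leaf (nat_lit 133048070))) (.leaf (nat_lit 87855873)))) (.node (.node (.node (.leaf (nat_lit
    18618628)) (.leaf (nat_lit 121499140))) (.node (.leaf (nat_lit 36775170)) (.leaf (nat_lit
    4251136)))) (.node (.node (.leaf (nat_lit 48544263)) (.leaf (nat_lit 153451014))) (.leaf
    (nat_lit 73468931))))) (.node (.node (.node (.node (.leaf (nat_lit 13114117)) (.leaf (nat_lit
    120179971))) (.node (.leaf (nat_lit 69234178)) (.leaf (nat_lit 9201152)))) (.node (.node (.leaf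
    (nat_lit 37001475)) (.leaf (nat_lit 145635843))) (.leaf (nat_lit 89220867)))) (.node (.node
    (.node (.leaf (nat_lit 25968386)) (.leaf (nat_lit 113641221))) (.node (.leaf (nat_lit
    83134209)) (.leaf (nat_lit 87552)))) (.node (.node (.leaf (nat_lit 49077250)) (.leaf (nat_lit
    50647808))) (.leaf (nat_lit 51223041))))))))) (.node (.node (.node (.node (.node (.node (.node
    (.node (.leaf (nat_lit 786689)) (.leaf (nat_lit 109102340))) (.node (.leaf (nat_lit 59827461))
    (.leaf (nat_lit 49123328)))) (.node (.node (.leaf (nat_lit 26765063)) (.leaf (nat_lit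
    137708550))) (.node (.leaf (nat_lit 83967748)) (.leaf (nat_lit 123207686))))) (.node (.node
    (.node (.leaf (nat_lit 14160644)) (.leaf (nat_lit 111006469))) (.node (.leaf (nat_lit
    70808065)) (.leaf (nat_lit 15240448)))) (.node (.node (.leaf (nat_lit 25730562)) (.leaf
    (nat_lit 151351557))) (.leaf (nat_lit 89979652))))) (.node (.node (.node (.node (.leaf (nat_lit
    7604993)) (.leaf (nat_lit 115927297))) (.node (.leaf (nat_lit 27578112)) (.leaf (nat_lit
    26857728)))) (.node (.node (.leaf (nat_lit 29655811)) (.leaf (nat_lit 139864321))) (.leaf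
    (nat_lit 89428996)))) (.node (.node (.node (.leaf (nat_lit 8932354)) (.leaf (nat_lit
    100267014))) (.node (.leaf (nat_lit 77626626)) (.leaf (nat_lit 11345920)))) (.node (.node
    (.leaf (nat_lit 50352641)) (.leaf (nat_lit 100289538))) (.leaf (nat_lit 100444677)))))) (.node
    (.node (.node (.node (.node (.leaf (nat_lit 1314306)) (.leaf (nat_lit 112252423))) (.node
    (.leaf (nat_lit 24437504)) (.leaf (nat_lit 26310912)))) (.node (.node (.leaf (nat_lit
    30963463)) (.leaf (nat_lit 142168582))) (.leaf (nat_lit 86544385)))) (.node (.node (.node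
    (.leaf (nat_lit 6825731)) (.leaf (nat_lit 123331843))) (.node (.leaf (nat_lit 75265797)) (.leaf
    (nat_lit 58270464)))) (.node (.node (.leaf (nat_lit 45107719)) (.leaf (nat_lit 71184896)))
    (.leaf (nat_lit 98084609))))) (.node (.node (.node (.node (.leaf (nat_lit 9186051)) (.leaf
    (nat_lit 119338757))) (.node (.leaf (nat_lit 59048195)) (.leaf (nat_lit 45456896)))) (.node
    (.node (.leaf (nat_lit 38288389)) (.leaf (nat_lit 148203268))) (.leaf (nat_lit 92092420))))
    (.node (.node (.node (.leaf (nat_lit 23616263)) (.leaf (nat_lit 134342147))) (.node (.leaf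
    (nat_lit 71644162)) (.leaf (nat_lit 552448)))) (.node (.node (.leaf (nat_lit 53260289)) (.leaf
    (nat_lit 108663552))) (.leaf (nat_lit 105166598))))))) (.node (.node (.node (.node (.node
    (.node (.leaf (nat_lit 2622213)) (.leaf (nat_lit 53585154))) (.node (.leaf (nat_lit 61401863))
    (.leaf (nat_lit 78967815)))) (.node (.node (.leaf (nat_lit 28864263)) (.leaf (nat_lit
    139546117))) (.leaf (nat_lit 85232897)))) (.node (.node (.node (.leaf (nat_lit 6830850)) (.leaf
    (nat_lit 124877057))) (.node (.leaf (nat_lit 73209863)) (.leaf (nat_lit 8943616)))) (.node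
    (.node (.leaf (nat_lit 42746886)) (.leaf (nat_lit 152715521))) (.leaf (nat_lit 96510981)))))
    (.node (.node (.node (.node (.leaf (nat_lit 9440518)) (.leaf (nat_lit 87670785))) (.node (.leaf
    (nat_lit 48823297)) (.leaf (nat_lit 55943936)))) (.node (.node (.leaf (nat_lit 36190215))
    (.leaf (nat_lit 132263940))) (.leaf (nat_lit 41769985)))) (.node (.node (.node (.leaf (nat_lit
    22290434)) (.leaf (nat_lit 101307649))) (.node (.leaf (nat_lit 78982663)) (.leaf (nat_lit
    3205120)))) (.node (.node (.leaf (nat_lit 52188161)) (.leaf (nat_lit 49875968))) (.leaf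
    (nat_lit 102543621)))))) (.node (.node (.node (.node (.node (.leaf (nat_lit 5510404)) (.leaf
    (nat_lit 79017217))) (.node (.leaf (nat_lit 63464961)) (.leaf (nat_lit 37358080)))) (.node
    (.node (.leaf (nat_lit 33305604)) (.leaf (nat_lit 144266759))) (.leaf (nat_lit 86838276))))
    (.node (.node (.node (.leaf (nat_lit 12600582)) (.leaf (nat_lit 114158597))) (.node (.leaf
    (nat_lit 76096261)) (.leaf (nat_lit 17098752)))) (.node (.node (.leaf (nat_lit 47992324))
    (.leaf (nat_lit 152979461))) (.leaf (nat_lit 99395841))))) (.node (.node (.node (.node (.leaf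
    (nat_lit 13111810)) (.leaf (nat_lit 69848070))) (.node (.leaf (nat_lit 57214723)) (.leaf
    (nat_lit 9040128)))) (.node (.node (.leaf (nat_lit 16553474)) (.leaf (nat_lit 149253634)))
    (.leaf (nat_lit 89477633)))) (.node (.node (.node (.leaf (nat_lit 16802306)) (.leaf (nat_lit
    95290884))) (.node (.leaf (nat_lit 82393858)) (.leaf (nat_lit 46336)))) (.node (.node (.leaf
    (nat_lit 49338625)) (.leaf (nat_lit 103135488))) (.leaf (nat_lit 107265798)))))))) (.node
    (.node (.node (.node (.node (.node (.node (.leaf (nat_lit 1312259)) (.leaf (nat_lit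
    109159427))) (.node (.leaf (nat_lit 44886019)) (.leaf (nat_lit 56170246)))) (.node (.node
    (.leaf (nat_lit 27814663)) (.leaf (nat_lit 118099975))) (.node (.leaf (nat_lit 36520449))
    (.leaf (nat_lit 140247046))))) (.node (.node (.node (.leaf (nat_lit 9451778)) (.leaf (nat_lit
    123801348))) (.node (.leaf (nat_lit 72119043)) (.leaf (nat_lit 6860288)))) (.node (.node (.leaf
    (nat_lit 39362818)) (.leaf (nat_lit 151876101))) (.leaf (nat_lit 91057411))))) (.node (.node
    (.node (.node (.leaf (nat_lit 8653825)) (.leaf (nat_lit 116713985))) (.node (.leaf (nat_lit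
    65562881)) (.leaf (nat_lit 50647558)))) (.node (.node (.leaf (nat_lit 30967043)) (.leaf
    (nat_lit 146103815))) (.leaf (nat_lit 39934209)))) (.node (.node (.node (.leaf (nat_lit
    20729857)) (.leaf (nat_lit 101578758))) (.node (.leaf (nat_lit 78413061)) (.leaf (nat_lit
    4203008)))) (.node (.node (.leaf (nat_lit 48284163)) (.leaf (nat_lit 78784000))) (.leaf
    (nat_lit 52527622)))))) (.node (.node (.node (.node (.node (.leaf (nat_lit 4461063)) (.leaf
    (nat_lit 113094663))) (.node (.leaf (nat_lit 63202567)) (.leaf (nat_lit 47468551)))) (.node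
    (.node (.leaf (nat_lit 32256262)) (.leaf (nat_lit 142745861))) (.leaf (nat_lit 40717058))))
    (.node (.node (.node (.leaf (nat_lit 17056261)) (.leaf (nat_lit 80078850))) (.node (.leaf
    (nat_lit 70591234)) (.leaf (nat_lit 20999936)))) (.node (.node (.leaf (nat_lit 20492545))
    (.leaf (nat_lit 151900164))) (.leaf (nat_lit 67729415))))) (.node (.node (.node (.node (.leaf
    (nat_lit 7351553)) (.leaf (nat_lit 120125958))) (.node (.leaf (nat_lit 67923201)) (.leaf
    (nat_lit 9269504)))) (.node (.node (.leaf (nat_lit 39075076)) (.leaf (nat_lit 148727559)))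
    (.leaf (nat_lit 93126660)))) (.node (.node (.node (.leaf (nat_lit 19423235)) (.leaf (nat_lit
    135345924))) (.node (.leaf (nat_lit 81822727)) (.leaf (nat_lit 316928)))) (.node (.node (.leaf
    (nat_lit 50124035)) (.leaf (nat_lit 56451584))) (.leaf (nat_lit 60396801))))))) (.node (.node
    (.node (.node (.node (.node (.leaf (nat_lit 2886663)) (.leaf (nat_lit 111464452))) (.node
    (.leaf (nat_lit 28110084)) (.leaf (nat_lit 37244421)))) (.node (.node (.leaf (nat_lit
    30420484)) (.leaf (nat_lit 140857348))) (.leaf (nat_lit 37570305)))) (.node (.node (.node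
    (.leaf (nat_lit 16782853)) (.leaf (nat_lit 114155780))) (.node (.leaf (nat_lit 74479361))
    (.leaf (nat_lit 8952832)))) (.node (.node (.leaf (nat_lit 22849541)) (.leaf (nat_lit
    133832448))) (.leaf (nat_lit 87650818))))) (.node (.node (.node (.node (.leaf (nat_lit
    10489601)) (.leaf (nat_lit 98681603))) (.node (.leaf (nat_lit 53542403)) (.leaf (nat_lit
    40706560)))) (.node (.node (.leaf (nat_lit 28347652)) (.leaf (nat_lit 147173890))) (.leaf
    (nat_lit 92314113)))) (.node (.node (.node (.leaf (nat_lit 10770690)) (.leaf (nat_lit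
    127008002))) (.node (.leaf (nat_lit 72691970)) (.leaf (nat_lit 3208192)))) (.node (.node (.leaf
    (nat_lit 54286083)) (.leaf (nat_lit 104436992))) (.leaf (nat_lit 103592962)))))) (.node (.node
    (.node (.node (.node (.leaf (nat_lit 6555910)) (.leaf (nat_lit 115402501))) (.node (.leaf
    (nat_lit 56685827)) (.leaf (nat_lit 3275520)))) (.node (.node (.leaf (nat_lit 25198594)) (.leaf
    (nat_lit 144792322))) (.leaf (nat_lit 88380164)))) (.node (.node (.node (.leaf (nat_lit
    18630659)) (.leaf (nat_lit 130097927))) (.node (.leaf (nat_lit 77626369)) (.leaf (nat_lit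
    1069056)))) (.node (.node (.leaf (nat_lit 49565953)) (.leaf (nat_lit 112609796))) (.leaf
    (nat_lit 81866243))))) (.node (.node (.node (.node (.leaf (nat_lit 12071939)) (.leaf (nat_lit
    121491463))) (.node (.leaf (nat_lit 45418754)) (.leaf (nat_lit 3263744)))) (.node (.node (.leaf
    (nat_lit 40649222)) (.leaf (nat_lit 150302214))) (.leaf (nat_lit 93939714)))) (.node (.node
    (.node (.leaf (nat_lit 26225154)) (.leaf (nat_lit 122292485))) (.node (.leaf (nat_lit
    81346050)) (.leaf (nat_lit 14080)))) (.node (.node (.leaf (nat_lit 53534470)) (.leaf (nat_lit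
    21353216))) (.leaf (nat_lit 102337280))))))))))))

/-- Certificate data. -/
def coll_just : Trie :=
    (.node (.node (.node (.node (.node (.node (.node (.node (.node (.node (.node (.leaf (nat_lit
    1)) (.leaf (nat_lit 34894096724262914))) (.node (.leaf (nat_lit 0)) (.leaf (nat_lit
    144024175691629264898)))) (.node (.node (.leaf (nat_lit 0)) (.leaf (nat_lit 0))) (.node (.leaf
    (nat_lit 1856142479411143660288671775)) (.leaf (nat_lit 256155121241957793794))))) (.node
    (.node (.node (.leaf (nat_lit 2130896206107819847937974476406812)) (.leaf (nat_lit 0))) (.node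
    (.leaf (nat_lit 0)) (.leaf (nat_lit 12452392518014926850)))) (.node (.node (.leaf (nat_lit
    3506208956092120550795691556867)) (.leaf (nat_lit 13064889924344690293273522470915))) (.leaf
    (nat_lit 0))))) (.node (.node (.node (.node (.leaf (nat_lit 623988280758543051884981518339))
    (.leaf (nat_lit 38149200898293771))) (.node (.leaf (nat_lit 1378511394482147846179323914))
    (.leaf (nat_lit 55428717618528258)))) (.node (.node (.leaf (nat_lit
    2793478333634820397285723471906)) (.leaf (nat_lit 13130361725553319421381414617096))) (.leaf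
    (nat_lit 0)))) (.node (.node (.node (.leaf (nat_lit 463129000031823094752804874)) (.leaf
    (nat_lit 46577124714368993556222217950789695))) (.node (.leaf (nat_lit
    1683237163356895645538779163)) (.leaf (nat_lit 6257651682507948034)))) (.node (.node (.leaf
    (nat_lit 9330705826406273479356650782916613)) (.leaf (nat_lit 0))) (.leaf (nat_lit
    1527170879386625465871826977)))))) (.node (.node (.node (.node (.node (.leaf (nat_lit 0))
    (.leaf (nat_lit 1455790251805100788588806154))) (.node (.leaf (nat_lit 0)) (.leaf (nat_lit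
    29165179644888154114)))) (.node (.node (.leaf (nat_lit 0)) (.leaf (nat_lit 0))) (.leaf (nat_lit
    3502808629186335005681880793091)))) (.node (.node (.node (.leaf (nat_lit
    5476735899334817987495177799270436)) (.leaf (nat_lit 0))) (.node (.leaf (nat_lit
    1605848195472259084672368667)) (.leaf (nat_lit 1000667470906035045400578)))) (.node (.node
    (.leaf (nat_lit 0)) (.leaf (nat_lit 44080782662303746))) (.leaf (nat_lit 0))))) (.node (.node
    (.node (.node (.leaf (nat_lit 180177772543262193069916180)) (.leaf (nat_lit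
    32516228654140406628785277375021116))) (.node (.leaf (nat_lit 0)) (.leaf (nat_lit
    55756368218004062210)))) (.node (.node (.leaf (nat_lit 0)) (.leaf (nat_lit
    2261009613218147343482028066))) (.leaf (nat_lit 1912990341763790542509244443)))) (.node (.node
    (.node (.leaf (nat_lit 540454494402475005424500774)) (.leaf (nat_lit
    3016975496033765482446520352))) (.node (.leaf (nat_lit 0)) (.leaf (nat_lit
    18257287468939877810178)))) (.node (.node (.leaf (nat_lit 0)) (.leaf (nat_lit
    35637031577190402))) (.leaf (nat_lit 0))))))) (.node (.node (.node (.node (.node (.node (.leaf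
    (nat_lit 0)) (.leaf (nat_lit 2495500398397414508555730961))) (.node (.leaf (nat_lit
    14361625493843862547121837405831187)) (.leaf (nat_lit 136458497311172132866)))) (.node (.node
    (.leaf (nat_lit 0)) (.leaf (nat_lit 52278552277823529654181812372963346))) (.node (.leaf
    (nat_lit 0)) (.leaf (nat_lit 1065743984945423941107714))))) (.node (.node (.node (.leaf
    (nat_lit 339748610755738551835754504)) (.leaf (nat_lit 0))) (.node (.leaf (nat_lit 0)) (.leaf
    (nat_lit 988237823601480588066818)))) (.node (.node (.leaf (nat_lit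
    966152847973286526675386400)) (.leaf (nat_lit 49974036138164235))) (.leaf (nat_lit
    2162086627995592143296331786))))) (.node (.node (.node (.node (.leaf (nat_lit
    171684890418470421925265428)) (.leaf (nat_lit 2273335256970531383814717470))) (.node (.leaf
    (nat_lit 1348282037843894333333635099)) (.leaf (nat_lit 62601170461342760962)))) (.node (.node
    (.leaf (nat_lit 0)) (.leaf (nat_lit 43763444708671492))) (.leaf (nat_lit
    8260418549805807676132101062704)))) (.node (.node (.node (.leaf (nat_lit
    262386794172641868555550734)) (.leaf (nat_lit 0))) (.node (.leaf (nat_lit 25075045571362827))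
    (.leaf (nat_lit 251253867042375401474)))) (.node (.node (.leaf (nat_lit 0)) (.leaf (nat_lit
    192518181015882235906))) (.leaf (nat_lit 0)))))) (.node (.node (.node (.node (.node (.leaf
    (nat_lit 1866110436555070520643955160711186)) (.leaf (nat_lit 0))) (.node (.leaf (nat_lit
    19532132577837060)) (.leaf (nat_lit 35144854094872578)))) (.node (.node (.leaf (nat_lit 0))
    (.leaf (nat_lit 188099781152978698249))) (.leaf (nat_lit 1487342792182725550516011041))))
    (.node (.node (.node (.leaf (nat_lit 0)) (.leaf (nat_lit 2900648195737971911477755916))) (.node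
    (.leaf (nat_lit 1655409141318540661669298196)) (.leaf (nat_lit 242172323123511361538)))) (.node
    (.node (.leaf (nat_lit 0)) (.leaf (nat_lit 209651405144916889534553315310578434097))) (.leaf
    (nat_lit 0))))) (.node (.node (.node (.node (.leaf (nat_lit 0)) (.leaf (nat_lit
    38237574145376296))) (.node (.leaf (nat_lit 5408565006665769652043282513972)) (.leaf (nat_lit
    15044106712204378114)))) (.node (.node (.leaf (nat_lit 51742826845893230607)) (.leaf (nat_lit
    0))) (.leaf (nat_lit 24900498100453429)))) (.node (.node (.node (.leaf (nat_lit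
    334952160058559681945468938)) (.leaf (nat_lit 171091127378490097679))) (.node (.leaf (nat_lit
    26359550030512132)) (.leaf (nat_lit 1047438472035185656594434)))) (.node (.node (.leaf (nat_lit
    1117318764775339407993798679)) (.leaf (nat_lit 145032787459026649090))) (.leaf (nat_lit
    1989166222277999959851991052)))))))) (.node (.node (.node (.node (.node (.node (.node (.leaf
    (nat_lit 202838952526209600884132194746373)) (.leaf (nat_lit 0))) (.node (.leaf (nat_lit 0))
    (.leaf (nat_lit 33415980237405224962)))) (.node (.node (.leaf (nat_lit 0)) (.leaf (nat_lit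
    38344432931700776))) (.node (.leaf (nat_lit 111644153231150612506)) (.leaf (nat_lit
    1060430025403159724425218))))) (.node (.node (.node (.leaf (nat_lit 0)) (.leaf (nat_lit 0)))
    (.node (.leaf (nat_lit 11562290961513796777260406400286725)) (.leaf (nat_lit
    58807413771468802)))) (.node (.node (.leaf (nat_lit 943193276146745067998347277)) (.leaf
    (nat_lit 49762861186154507))) (.leaf (nat_lit 1906901413666933623014883338))))) (.node (.node
    (.node (.node (.leaf (nat_lit 1217068391988124843426753745977349)) (.leaf (nat_lit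
    2331446950231780817774116894))) (.node (.leaf (nat_lit 16875918643560450)) (.leaf (nat_lit
    28125692122234882)))) (.node (.node (.leaf (nat_lit 792031514630348967625687069)) (.leaf
    (nat_lit 0))) (.leaf (nat_lit 26410510584568019214862815622266915)))) (.node (.node (.node
    (.leaf (nat_lit 0)) (.leaf (nat_lit 0))) (.node (.leaf (nat_lit 1720716463458755665530781727))
    (.leaf (nat_lit 995927451754373614665730)))) (.node (.node (.leaf (nat_lit
    1081046264288029507093594139)) (.leaf (nat_lit 3551487802678974259403227200))) (.leaf (nat_lit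
    33961229827571723)))))) (.node (.node (.node (.node (.node (.leaf (nat_lit 0)) (.leaf (nat_lit
    0))) (.node (.leaf (nat_lit 74310788002292629506)) (.leaf (nat_lit 29743119738547142658))))
    (.node (.node (.leaf (nat_lit 0)) (.leaf (nat_lit 0))) (.leaf (nat_lit
    1944424479324874837319811099)))) (.node (.node (.node (.leaf (nat_lit 23496547327906349082))
    (.leaf (nat_lit 0))) (.node (.leaf (nat_lit 94563037190805454857)) (.leaf (nat_lit
    963537634096767085838338)))) (.node (.node (.leaf (nat_lit 14816258486829060)) (.leaf (nat_lit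
    198569611024788553730))) (.leaf (nat_lit 35822737362912556804244726287368197))))) (.node (.node
    (.node (.node (.leaf (nat_lit 245469804137616693610741770)) (.leaf (nat_lit
    2373398861145379899227570188))) (.node (.leaf (nat_lit 19878965494959431281475872199475205))
    (.leaf (nat_lit 61666918927324872706)))) (.node (.node (.leaf (nat_lit 12599093289418763))
    (.leaf (nat_lit 191704561300594163727))) (.leaf (nat_lit 30670589094133813)))) (.node (.node
    (.node (.leaf (nat_lit 0)) (.leaf (nat_lit 3036353419585767777600077834))) (.node (.leaf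
    (nat_lit 0)) (.leaf (nat_lit 1042716105376892367142914)))) (.node (.node (.leaf (nat_lit 0))
    (.leaf (nat_lit 71461859246221754370))) (.leaf (nat_lit 0))))))) (.node (.node (.node (.node
    (.node (.node (.leaf (nat_lit 774258049548299)) (.leaf (nat_lit 0))) (.node (.leaf (nat_lit
    13915134546603873418634637974372370)) (.leaf (nat_lit 38381678888091650)))) (.node (.node
    (.leaf (nat_lit 0)) (.leaf (nat_lit 47208672120171215087012821529460772))) (.leaf (nat_lit
    1216475757806247756958072863)))) (.node (.node (.node (.leaf (nat_lit 0)) (.leaf (nat_lit 0)))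
    (.node (.leaf (nat_lit 0)) (.leaf (nat_lit 58208901488836610)))) (.node (.node (.leaf (nat_lit
    3724093659515842906602535780355)) (.leaf (nat_lit 3459577851280215397640765450))) (.leaf
    (nat_lit 32236783278358539))))) (.node (.node (.node (.node (.leaf (nat_lit
    861688486700192331331392634883)) (.leaf (nat_lit 0))) (.node (.leaf (nat_lit
    11019267218004807866741258201792540)) (.leaf (nat_lit 146332269959490764802)))) (.node (.node
    (.leaf (nat_lit 12000821524955140)) (.leaf (nat_lit 197122777980334178319))) (.leaf (nat_lit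
    0)))) (.node (.node (.node (.leaf (nat_lit 0)) (.leaf (nat_lit 0))) (.node (.leaf (nat_lit 0))
    (.leaf (nat_lit 1033832845222418172870658)))) (.node (.node (.leaf (nat_lit 0)) (.leaf (nat_lit
    92646512136382775298))) (.leaf (nat_lit 34559501592035339)))))) (.node (.node (.node (.node
    (.node (.leaf (nat_lit 0)) (.leaf (nat_lit 2610499242831031016093974536))) (.node (.leaf
    (nat_lit 1107640569022650919585906702)) (.leaf (nat_lit 170470666558844895234)))) (.node (.node
    (.leaf (nat_lit 41509645256866594831)) (.leaf (nat_lit 40878120038957060))) (.leaf (nat_lit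
    28981344096878645)))) (.node (.node (.node (.leaf (nat_lit 0)) (.leaf (nat_lit 0))) (.node
    (.leaf (nat_lit 0)) (.leaf (nat_lit 59687212052250626)))) (.node (.node (.leaf (nat_lit 0))
    (.leaf (nat_lit 3373672327883248236855885836))) (.leaf (nat_lit
    1489759126783383575548198943))))) (.node (.node (.node (.node (.leaf (nat_lit
    2779353713226885024357999591227416)) (.leaf (nat_lit 10232709063130688186013882646531))) (.node
    (.leaf (nat_lit 1499433778373385176647794718)) (.leaf (nat_lit 295083592506622081236994))))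
    (.node (.node (.leaf (nat_lit 0)) (.leaf (nat_lit 48527117627343189202353269703639084))) (.leaf
    (nat_lit 0)))) (.node (.node (.node (.leaf (nat_lit 0)) (.leaf (nat_lit
    183275580217169739791))) (.node (.leaf (nat_lit 1574404908040663685455478807)) (.leaf (nat_lit
    60813275167850498)))) (.node (.node (.leaf (nat_lit 0)) (.leaf (nat_lit
    115345177290857447426))) (.leaf (nat_lit 0))))))))) (.node (.node (.node (.node (.node (.node
    (.node (.node (.leaf (nat_lit 29711770163888721622395650051)) (.leaf (nat_lit 0))) (.node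
    (.leaf (nat_lit 0)) (.leaf (nat_lit 114696857599638437890)))) (.node (.node (.leaf (nat_lit 0))
    (.leaf (nat_lit 0))) (.node (.leaf (nat_lit 1654216743481212637502832670)) (.leaf (nat_lit
    566958802881150978))))) (.node (.node (.node (.leaf (nat_lit 0)) (.leaf (nat_lit
    11380635822166471050882397372419))) (.node (.leaf (nat_lit 22593894504071172)) (.leaf (nat_lit
    58666203836710914)))) (.node (.node (.leaf (nat_lit 0)) (.leaf (nat_lit 0))) (.leaf (nat_lit
    0))))) (.node (.node (.node (.node (.leaf (nat_lit 663599950360989025943008182275)) (.leaf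
    (nat_lit 2305985389067610737076404232))) (.node (.leaf (nat_lit 1401439644959804025519538186))
    (.leaf (nat_lit 56378704254861314)))) (.node (.node (.leaf (nat_lit 0)) (.leaf (nat_lit
    2232180779000807730377457681))) (.leaf (nat_lit 16046991245486952253161329092132888)))) (.node
    (.node (.node (.leaf (nat_lit 6792263145488395)) (.leaf (nat_lit 42865040629563396))) (.node
    (.leaf (nat_lit 0)) (.leaf (nat_lit 60458795736069971378178)))) (.node (.node (.leaf (nat_lit
    0)) (.leaf (nat_lit 3565966571464545078048260128))) (.leaf (nat_lit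
    6568343397269443327361389297670)))))) (.node (.node (.node (.node (.node (.leaf (nat_lit
    1126204849651723)) (.leaf (nat_lit 2562072567393623467884871712))) (.node (.leaf (nat_lit
    4992589506125446651365028134963)) (.leaf (nat_lit 65194082972882632706)))) (.node (.node (.leaf
    (nat_lit 591279555270409005465665550)) (.leaf (nat_lit 0))) (.leaf (nat_lit 0)))) (.node (.node
    (.node (.leaf (nat_lit 389308950021316714397237282)) (.leaf (nat_lit 0))) (.node (.leaf
    (nat_lit 1569376476491728215955800072)) (.leaf (nat_lit 51304775403658381885442)))) (.node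
    (.node (.leaf (nat_lit 14640302266646532)) (.leaf (nat_lit
    197937096584890295772738698025296724017))) (.leaf (nat_lit 0))))) (.node (.node (.node (.node
    (.leaf (nat_lit 3448923163328523)) (.leaf (nat_lit 0))) (.node (.leaf (nat_lit
    1434135840374107566474854432)) (.leaf (nat_lit 228408052898135736322)))) (.node (.node (.leaf
    (nat_lit 0)) (.leaf (nat_lit 48460730181222404))) (.leaf (nat_lit 28577161904521269)))) (.node
    (.node (.node (.leaf (nat_lit 0)) (.leaf (nat_lit 0))) (.node (.leaf (nat_lit 0)) (.leaf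
    (nat_lit 61939595981488130)))) (.node (.node (.leaf (nat_lit 0)) (.leaf (nat_lit
    66994253265857871874))) (.leaf (nat_lit 1130619603534978651424882700))))))) (.node (.node
    (.node (.node (.node (.node (.leaf (nat_lit 2306247788406702089)) (.leaf (nat_lit
    36618294165372930))) (.node (.leaf (nat_lit 0)) (.leaf (nat_lit 162327299284481015810))))
    (.node (.node (.leaf (nat_lit 0)) (.leaf (nat_lit 45645293219348484))) (.node (.leaf (nat_lit
    103631035959638949903)) (.leaf (nat_lit 63716866333474818))))) (.node (.node (.node (.leaf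
    (nat_lit 3772899634791959132598738434326533)) (.leaf (nat_lit 0))) (.node (.leaf (nat_lit
    6532320886051423647706927988739)) (.leaf (nat_lit 58314437425233922)))) (.node (.node (.leaf
    (nat_lit 55923029626446872585)) (.leaf (nat_lit 0))) (.leaf (nat_lit 0))))) (.node (.node
    (.node (.node (.leaf (nat_lit 189845636172061215012749322)) (.leaf (nat_lit
    133757657318070353929))) (.node (.leaf (nat_lit 1344654391514827852848889885)) (.leaf (nat_lit
    4594914879806308354)))) (.node (.node (.leaf (nat_lit 2971525324601828629662283464707)) (.leaf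
    (nat_lit 49640645679338619189569809493196842))) (.leaf (nat_lit 0)))) (.node (.node (.node
    (.leaf (nat_lit 0)) (.leaf (nat_lit 0))) (.node (.leaf (nat_lit 0)) (.leaf (nat_lit
    1031496448628498612092930)))) (.node (.node (.leaf (nat_lit 0)) (.leaf (nat_lit
    167298075904935395330))) (.leaf (nat_lit 0)))))) (.node (.node (.node (.node (.node (.leaf
    (nat_lit 1724476614115332)) (.leaf (nat_lit 10617792670833818864424086536195))) (.node (.leaf
    (nat_lit 1175408609291705112154406920)) (.leaf (nat_lit 11943875365195415554)))) (.node (.node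
    (.leaf (nat_lit 0)) (.leaf (nat_lit 2145125587065495452968615948))) (.leaf (nat_lit
    1275666257155800531055476746)))) (.node (.node (.node (.leaf (nat_lit
    429223293840233809511251976)) (.leaf (nat_lit 46618451587159983193017284508975149))) (.node
    (.leaf (nat_lit 24335920354426933)) (.leaf (nat_lit 59088648230010882)))) (.node (.node (.leaf
    (nat_lit 15273758403198987)) (.leaf (nat_lit 203956041789737205775))) (.leaf (nat_lit
    2131796172847298362512572448))))) (.node (.node (.node (.node (.leaf (nat_lit
    4012010555703307)) (.leaf (nat_lit 2755809422088352944345120797))) (.node (.leaf (nat_lit 0))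
    (.leaf (nat_lit 31185116014171062274)))) (.node (.node (.leaf (nat_lit 0)) (.leaf (nat_lit 0)))
    (.leaf (nat_lit 30829099157159940)))) (.node (.node (.node (.leaf (nat_lit
    27818824942257111049)) (.leaf (nat_lit 37328771491466341978348338075336764))) (.node (.leaf
    (nat_lit 96424854068503183369)) (.leaf (nat_lit 4297569801382356938177970178)))) (.node (.node
    (.leaf (nat_lit 1205565920369398567636631562)) (.leaf (nat_lit 62959274745605062658))) (.leaf
    (nat_lit 0)))))))) (.node (.node (.node (.node (.node (.node (.node (.leaf (nat_lit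
    21763027305768551314685960)) (.leaf (nat_lit 34331249850056744))) (.node (.leaf (nat_lit 0))
    (.leaf (nat_lit 220981933196424970242)))) (.node (.node (.leaf (nat_lit 0)) (.leaf (nat_lit
    0))) (.node (.leaf (nat_lit 1885128660247232175893970954)) (.leaf (nat_lit
    44418126573600770))))) (.node (.node (.node (.leaf (nat_lit 290213639510696580559994910))
    (.leaf (nat_lit 0))) (.node (.leaf (nat_lit 0)) (.leaf (nat_lit 981827361720462660075522))))
    (.node (.node (.leaf (nat_lit 0)) (.leaf (nat_lit 0))) (.leaf (nat_lit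
    2065345402388972585437429787))))) (.node (.node (.node (.node (.leaf (nat_lit 0)) (.leaf
    (nat_lit 37111365000888373))) (.node (.leaf (nat_lit 1176617816921428609743519776)) (.leaf
    (nat_lit 25347255014994935810)))) (.node (.node (.leaf (nat_lit 793170461351684914500927505))
    (.leaf (nat_lit 0))) (.leaf (nat_lit 0)))) (.node (.node (.node (.leaf (nat_lit 0)) (.leaf
    (nat_lit 0))) (.node (.leaf (nat_lit 0)) (.leaf (nat_lit 61164577722859522)))) (.node (.node
    (.leaf (nat_lit 1044666041302254610200985608)) (.leaf (nat_lit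
    182226431353252513247312343384413700152))) (.leaf (nat_lit 0)))))) (.node (.node (.node (.node
    (.node (.leaf (nat_lit 0)) (.leaf (nat_lit 9226456897154494397239112630275))) (.node (.leaf
    (nat_lit 4239320979369935031429262344195)) (.leaf (nat_lit 37379035952709634)))) (.node (.node
    (.leaf (nat_lit 0)) (.leaf (nat_lit 0))) (.leaf (nat_lit 89307425520465674266)))) (.node (.node
    (.node (.leaf (nat_lit 359149866326106573453459464)) (.leaf (nat_lit
    2891243900903137957829214222))) (.node (.leaf (nat_lit 26779184176868054031844677098340376))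
    (.leaf (nat_lit 27153725393633214466)))) (.node (.node (.leaf (nat_lit 0)) (.leaf (nat_lit
    57859533317461314887521996240257065))) (.leaf (nat_lit 8963664427075494598676998127622)))))
    (.node (.node (.node (.node (.leaf (nat_lit 11964429051449507849)) (.leaf (nat_lit 0))) (.node
    (.leaf (nat_lit 4219436706577376417526971760646)) (.leaf (nat_lit 76220931538472337410))))
    (.node (.node (.leaf (nat_lit 0)) (.leaf (nat_lit 48654312947187714))) (.leaf (nat_lit 0))))
    (.node (.node (.node (.leaf (nat_lit 0)) (.leaf (nat_lit 0))) (.node (.leaf (nat_lit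
    1807748551913431975552417819)) (.leaf (nat_lit 1044487857886228111425538)))) (.node (.node
    (.leaf (nat_lit 0)) (.leaf (nat_lit 30533183259023704066))) (.leaf (nat_lit
    2426892680133583142000066570))))))) (.node (.node (.node (.node (.node (.node (.leaf (nat_lit
    0)) (.leaf (nat_lit 0))) (.node (.leaf (nat_lit 0)) (.leaf (nat_lit 23616675003374960642))))
    (.node (.node (.leaf (nat_lit 0)) (.leaf (nat_lit 0))) (.leaf (nat_lit
    3823176128914605669213280796678)))) (.node (.node (.node (.leaf (nat_lit 0)) (.leaf (nat_lit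
    0))) (.node (.leaf (nat_lit 6477591451816150878708333674544)) (.leaf (nat_lit
    59216551432536915970)))) (.node (.node (.leaf (nat_lit 8641049322892319540833820525133842))
    (.leaf (nat_lit 170178481213598269442))) (.leaf (nat_lit 0))))) (.node (.node (.node (.node
    (.leaf (nat_lit 901313455960952510695090814979)) (.leaf (nat_lit
    32604406827210132949271696181231674))) (.node (.leaf (nat_lit 0)) (.leaf (nat_lit
    231504770266111868930)))) (.node (.node (.leaf (nat_lit 0)) (.leaf (nat_lit
    2707341103623232996231151626))) (.leaf (nat_lit 1929913826691018644485636123)))) (.node (.node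
    (.node (.leaf (nat_lit 28537623874277408783)) (.leaf (nat_lit 3004865563159452805805441034)))
    (.node (.leaf (nat_lit 1630024648423500411100790798)) (.leaf (nat_lit
    1008398168407017043263490)))) (.node (.node (.leaf (nat_lit 0)) (.leaf (nat_lit
    65552960690560630786))) (.leaf (nat_lit 34700273440129035)))))) (.node (.node (.node (.node
    (.node (.leaf (nat_lit 2352952762057258895609789518643219)) (.leaf (nat_lit 0))) (.node (.leaf
    (nat_lit 62555179655184449545)) (.leaf (nat_lit 15330723099775795202)))) (.node (.node (.leaf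
    (nat_lit 10945049844121611)) (.leaf (nat_lit 0))) (.leaf (nat_lit
    16065451470230529784062598757941253)))) (.node (.node (.node (.leaf (nat_lit
    448604177502802876039495690)) (.leaf (nat_lit 48806182900656875562587393475674157))) (.node
    (.leaf (nat_lit 0)) (.leaf (nat_lit 1012468703649980748136450)))) (.node (.node (.leaf (nat_lit
    0)) (.leaf (nat_lit 14134577340134024796568014946307))) (.leaf (nat_lit
    2304774043678835969829961759))))) (.node (.node (.node (.node (.leaf (nat_lit 0)) (.leaf
    (nat_lit 0))) (.node (.leaf (nat_lit 1489760010777341939453067296)) (.leaf (nat_lit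
    94812233074515050498)))) (.node (.node (.leaf (nat_lit 9411860120829300847160778442604589))
    (.leaf (nat_lit 0))) (.leaf (nat_lit 988193381345869312622395406)))) (.node (.node (.node
    (.leaf (nat_lit 0)) (.leaf (nat_lit 0))) (.node (.leaf (nat_lit 1661473249445536212978040862))
    (.leaf (nat_lit 350863016646082562)))) (.node (.node (.leaf (nat_lit 0)) (.leaf (nat_lit
    64904898143328600066))) (.leaf (nat_lit 0)))))))))) (.node (.node (.node (.node (.node (.node
    (.node (.node (.node (.leaf (nat_lit 1)) (.leaf (nat_lit 9826768637343077384981091581959)))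
    (.node (.leaf (nat_lit 0)) (.leaf (nat_lit 35865850254852098)))) (.node (.node (.leaf (nat_lit
    550106121002089762735325201)) (.leaf (nat_lit 0))) (.node (.leaf (nat_lit 0)) (.leaf (nat_lit
    62537859156017154))))) (.node (.node (.node (.leaf (nat_lit 304724585403497182386257940))
    (.leaf (nat_lit 42577829120635717459183307160223807))) (.node (.leaf (nat_lit 0)) (.leaf
    (nat_lit 55252845407775162370)))) (.node (.node (.leaf (nat_lit 0)) (.leaf (nat_lit
    49516519041925124))) (.leaf (nat_lit 123392480225712603145))))) (.node (.node (.node (.node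
    (.leaf (nat_lit 2217178082443268)) (.leaf (nat_lit 0))) (.node (.leaf (nat_lit 0)) (.leaf
    (nat_lit 78454966465478197250)))) (.node (.node (.leaf (nat_lit 0)) (.leaf (nat_lit
    13155085469794368838781047799869))) (.leaf (nat_lit 0)))) (.node (.node (.node (.leaf (nat_lit
    284164877260471750522896394)) (.leaf (nat_lit 0))) (.node (.leaf (nat_lit
    101481919755915034650)) (.leaf (nat_lit 1020720596013273917423618)))) (.node (.node (.leaf
    (nat_lit 15432208336683010)) (.leaf (nat_lit 57836125563610026622755947820810290))) (.leaf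
    (nat_lit 26133208690310682750161168821059589)))))) (.node (.node (.node (.node (.node (.leaf
    (nat_lit 81013676716920638615650320)) (.leaf (nat_lit 0))) (.node (.leaf (nat_lit
    22132318497676462333645335812309016)) (.leaf (nat_lit 120641457378602931978242)))) (.node
    (.node (.leaf (nat_lit 582817371548281565952147468)) (.leaf (nat_lit
    2220084364386712746904059916))) (.leaf (nat_lit 0)))) (.node (.node (.node (.leaf (nat_lit
    2637079771833712228386515104235525)) (.leaf (nat_lit 36228306288156598382109809474732090)))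
    (.node (.leaf (nat_lit 13210520295681420763016826704035889)) (.leaf (nat_lit
    12093234356152369154)))) (.node (.node (.leaf (nat_lit 15335125994866738931592516250042413))
    (.leaf (nat_lit 46526105112412162))) (.leaf (nat_lit 0))))) (.node (.node (.node (.node (.leaf
    (nat_lit 0)) (.leaf (nat_lit 152493705011539410953))) (.node (.leaf (nat_lit
    1441391166035111203794386974)) (.leaf (nat_lit 69807671309634830338)))) (.node (.node (.leaf
    (nat_lit 0)) (.leaf (nat_lit 13391793146813865756950882811911))) (.leaf (nat_lit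
    1528455132054743674798800930)))) (.node (.node (.node (.leaf (nat_lit
    2199123241369786951374041645077)) (.leaf (nat_lit 41581068746358786))) (.node (.leaf (nat_lit
    93830358316053889033)) (.leaf (nat_lit 253704388481676148738)))) (.node (.node (.leaf (nat_lit
    19536328401392354093807979274371096)) (.leaf (nat_lit 142798824030341365762))) (.leaf (nat_lit
    0))))))) (.node (.node (.node (.node (.node (.node (.leaf (nat_lit 0)) (.leaf (nat_lit
    10201757755571267103489285029919))) (.node (.leaf (nat_lit 0)) (.leaf (nat_lit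
    34968734665932802)))) (.node (.node (.leaf (nat_lit 0)) (.leaf (nat_lit
    45600542043295611680872239267774509))) (.node (.leaf (nat_lit 0)) (.leaf (nat_lit
    46916285711384578))))) (.node (.node (.node (.leaf (nat_lit 349462516232449876430225441))
    (.leaf (nat_lit 1838006523053659864881758220))) (.node (.leaf (nat_lit 0)) (.leaf (nat_lit
    46866880163235947085826)))) (.node (.node (.leaf (nat_lit 3947523785371787333857744125999))
    (.leaf (nat_lit 0))) (.leaf (nat_lit 122656388123271036937))))) (.node (.node (.node (.node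
    (.leaf (nat_lit 782552232061857814535844790294)) (.leaf (nat_lit
    2263662374962318846984519712))) (.node (.leaf (nat_lit 0)) (.leaf (nat_lit
    63610006868414627842)))) (.node (.node (.leaf (nat_lit 2932143362116548011027606142979)) (.leaf
    (nat_lit 40609742061553753130545890367832110))) (.leaf (nat_lit
    2046003473004600414068604955)))) (.node (.node (.node (.leaf (nat_lit 0)) (.leaf (nat_lit 0)))
    (.node (.leaf (nat_lit 828526611415432559944073230)) (.leaf (nat_lit 248226181893473894402))))
    (.node (.node (.leaf (nat_lit 63282404522765516809)) (.leaf (nat_lit 43377524717256706)))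
    (.leaf (nat_lit 0)))))) (.node (.node (.node (.node (.node (.leaf (nat_lit
    485313613638951244599482777603)) (.leaf (nat_lit 37726868174143492))) (.node (.leaf (nat_lit
    4645884122128244764103347142707)) (.leaf (nat_lit 71967813862638682114)))) (.node (.node (.leaf
    (nat_lit 8641049322892910410799436039389225)) (.leaf (nat_lit 0))) (.leaf (nat_lit
    28207296500858933)))) (.node (.node (.node (.leaf (nat_lit 0)) (.leaf (nat_lit 0))) (.node
    (.leaf (nat_lit 99175497097915072538)) (.leaf (nat_lit 64293847890748665757698)))) (.node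
    (.node (.leaf (nat_lit 0)) (.leaf (nat_lit 56966839821325707216984998693765162))) (.leaf
    (nat_lit 35416910347562597036165587391676476))))) (.node (.node (.node (.node (.leaf (nat_lit
    0)) (.leaf (nat_lit 0))) (.node (.leaf (nat_lit 1504225520767046784064487432)) (.leaf (nat_lit
    39831959584268025858)))) (.node (.node (.leaf (nat_lit 14951726781780116119372628710850603))
    (.leaf (nat_lit 2582897031136009695030214666))) (.leaf (nat_lit 126420005941133115447))))
    (.node (.node (.node (.leaf (nat_lit 0)) (.leaf (nat_lit 0))) (.node (.leaf (nat_lit 0)) (.leaf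
    (nat_lit 62537824796278786)))) (.node (.node (.leaf (nat_lit 65148126504987852809)) (.leaf
    (nat_lit 43799883211210754))) (.leaf (nat_lit 0)))))))) (.node (.node (.node (.node (.node
    (.node (.node (.leaf (nat_lit 49521231596654179733186412550)) (.leaf (nat_lit
    18216790253502504))) (.node (.leaf (nat_lit 14199162571964758622155151501623315)) (.leaf
    (nat_lit 64905183389286596610)))) (.node (.node (.leaf (nat_lit 0)) (.leaf (nat_lit 0))) (.node
    (.leaf (nat_lit 24987582857347083)) (.leaf (nat_lit 351112073209643010))))) (.node (.node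
    (.node (.leaf (nat_lit 19457328373557297161)) (.leaf (nat_lit 0))) (.node (.leaf (nat_lit
    3327905777415802554070015016966)) (.leaf (nat_lit 982415567825427073597442)))) (.node (.node
    (.leaf (nat_lit 0)) (.leaf (nat_lit 3424514846372588724150403085))) (.leaf (nat_lit
    31673713065852932))))) (.node (.node (.node (.node (.leaf (nat_lit
    415976885433959531670061580294)) (.leaf (nat_lit 2326612132829383420541206560))) (.node (.leaf
    (nat_lit 49812365408574046217)) (.leaf (nat_lit 34793164992806914)))) (.node (.node (.leaf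
    (nat_lit 11472935684538379)) (.leaf (nat_lit 3243130166760014678849814538))) (.leaf (nat_lit
    29526916612620299)))) (.node (.node (.node (.leaf (nat_lit 7038605289717764)) (.leaf (nat_lit
    43076198401703940))) (.node (.leaf (nat_lit 349557453572569473220617)) (.leaf (nat_lit
    49540079031831935320066)))) (.node (.node (.leaf (nat_lit 10693361822056668115652028127445041))
    (.leaf (nat_lit 60028225601571742912606124594626604))) (.leaf (nat_lit 0)))))) (.node (.node
    (.node (.node (.node (.leaf (nat_lit 0)) (.leaf (nat_lit 37445324477956100))) (.node (.leaf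
    (nat_lit 74671146349816381455)) (.leaf (nat_lit 55498957513687042)))) (.node (.node (.leaf
    (nat_lit 12008315600345280397867611532492819)) (.leaf (nat_lit
    49009147850457365684436989811032082))) (.leaf (nat_lit 1955308648335763852679774224)))) (.node
    (.node (.node (.leaf (nat_lit 1505706319211899527486679416854)) (.leaf (nat_lit 0))) (.node
    (.leaf (nat_lit 0)) (.leaf (nat_lit 44212421599530781507586)))) (.node (.node (.leaf (nat_lit
    0)) (.leaf (nat_lit 41266118794543106))) (.leaf (nat_lit 0))))) (.node (.node (.node (.node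
    (.leaf (nat_lit 0)) (.leaf (nat_lit 2517575119185702571265556497))) (.node (.leaf (nat_lit 0))
    (.leaf (nat_lit 231865334604562104322)))) (.node (.node (.leaf (nat_lit
    870640009590684324219650061)) (.leaf (nat_lit 3350717848362595996102098976))) (.leaf (nat_lit
    124976410090839146505)))) (.node (.node (.node (.leaf (nat_lit 8164780074467332)) (.leaf
    (nat_lit 0))) (.node (.leaf (nat_lit 14150521376079876)) (.leaf (nat_lit 62256332639698946))))
    (.node (.node (.leaf (nat_lit 0)) (.leaf (nat_lit 65048766289180557314))) (.leaf (nat_lit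
    0))))))) (.node (.node (.node (.node (.node (.node (.leaf (nat_lit 58043494767656418901557261))
    (.leaf (nat_lit 0))) (.node (.leaf (nat_lit 0)) (.leaf (nat_lit 51910069956247554)))) (.node
    (.node (.leaf (nat_lit 9854042251591691)) (.leaf (nat_lit 0))) (.leaf (nat_lit
    1917823324560911458126594079)))) (.node (.node (.node (.leaf (nat_lit
    3753147092541992851099376157130776)) (.leaf (nat_lit 41386936224579595))) (.node (.leaf
    (nat_lit 11993486574471030026724201812394012)) (.leaf (nat_lit 28594207908033658882)))) (.node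
    (.node (.leaf (nat_lit 0)) (.leaf (nat_lit 12386129981903443052245570420764))) (.leaf (nat_lit
    30589182247757901035574780437659705))))) (.node (.node (.node (.node (.leaf (nat_lit
    3061809171005444)) (.leaf (nat_lit 0))) (.node (.leaf (nat_lit 78347771658092347407)) (.leaf
    (nat_lit 232801594538302046210)))) (.node (.node (.leaf (nat_lit 0)) (.leaf (nat_lit
    42004312003575861))) (.leaf (nat_lit 0)))) (.node (.node (.node (.leaf (nat_lit
    7601692682092548)) (.leaf (nat_lit 167199137493571272713))) (.node (.leaf (nat_lit 0)) (.leaf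
    (nat_lit 61552439039492098)))) (.node (.node (.leaf (nat_lit 0)) (.leaf (nat_lit
    182574479286303129602))) (.leaf (nat_lit 0)))))) (.node (.node (.node (.node (.node (.leaf
    (nat_lit 0)) (.leaf (nat_lit 2327610322758897199881715720))) (.node (.leaf (nat_lit
    62699294826080436239)) (.leaf (nat_lit 51431540342267248642)))) (.node (.node (.leaf (nat_lit
    755750750650176665649741840)) (.leaf (nat_lit 44150283823087627))) (.leaf (nat_lit 0)))) (.node
    (.node (.node (.leaf (nat_lit 5579247588725964596523527223836708)) (.leaf (nat_lit 0))) (.node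
    (.leaf (nat_lit 0)) (.leaf (nat_lit 48059267925633415774210)))) (.node (.node (.leaf (nat_lit
    0)) (.leaf (nat_lit 3315684939771506076464513038))) (.leaf (nat_lit
    2304774058615730050534015014))))) (.node (.node (.node (.node (.leaf (nat_lit
    290212448830678287390146585)) (.leaf (nat_lit 34121088510328872))) (.node (.leaf (nat_lit
    22083635209437186)) (.leaf (nat_lit 57751556191289346)))) (.node (.node (.leaf (nat_lit 0))
    (.leaf (nat_lit 0))) (.leaf (nat_lit 0)))) (.node (.node (.node (.leaf (nat_lit
    35455592955677704201)) (.leaf (nat_lit 0))) (.node (.leaf (nat_lit 106957190360308318217))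
    (.leaf (nat_lit 257307373693739139074)))) (.node (.node (.leaf (nat_lit 0)) (.leaf (nat_lit
    51430096232528412674))) (.leaf (nat_lit 2460761210591057528471486478))))))))) (.node (.node
    (.node (.node (.node (.node (.node (.node (.leaf (nat_lit 105600361037828)) (.leaf (nat_lit
    0))) (.node (.leaf (nat_lit 0)) (.leaf (nat_lit 64256611587782279170)))) (.node (.node (.leaf
    (nat_lit 0)) (.leaf (nat_lit 12183241921793689873659336196099))) (.node (.leaf (nat_lit
    1848837579857533738592567304)) (.leaf (nat_lit 279405463899144194))))) (.node (.node (.node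
    (.leaf (nat_lit 315596360653016818648416285)) (.leaf (nat_lit
    46392209692551651061144664347705386))) (.node (.leaf (nat_lit 13076539033911300)) (.leaf
    (nat_lit 982967170535716903190530)))) (.node (.node (.leaf (nat_lit 13654882150121483)) (.leaf
    (nat_lit 0))) (.leaf (nat_lit 36577534091060688425509902765981720))))) (.node (.node (.node
    (.node (.leaf (nat_lit 2357949930536964)) (.leaf (nat_lit 38481034366550069))) (.node (.leaf
    (nat_lit 1179036258712352987183120414)) (.leaf (nat_lit 28600663965564930)))) (.node (.node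
    (.leaf (nat_lit 0)) (.leaf (nat_lit 188964947468025528329))) (.leaf (nat_lit
    2018191684890444617889415176)))) (.node (.node (.node (.leaf (nat_lit 0)) (.leaf (nat_lit 0)))
    (.node (.leaf (nat_lit 1432855759990006654490181665)) (.leaf (nat_lit
    1023092876124388149428226)))) (.node (.node (.leaf (nat_lit 15907231719620619)) (.leaf (nat_lit
    3553765106190539686802685969))) (.leaf (nat_lit 28398374507995740768678794827857955))))))
    (.node (.node (.node (.node (.node (.leaf (nat_lit 82217582211742854782713873)) (.leaf (nat_lit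
    1395396200130440525578043404))) (.node (.leaf (nat_lit 5081745394343545460962116370483)) (.leaf
    (nat_lit 55252658319130626)))) (.node (.node (.leaf (nat_lit 0)) (.leaf (nat_lit 0))) (.leaf
    (nat_lit 1328911762709263831171137567)))) (.node (.node (.node (.leaf (nat_lit
    5507775866208258)) (.leaf (nat_lit 0))) (.node (.leaf (nat_lit 94707152361701441551)) (.leaf
    (nat_lit 58983112293613570)))) (.node (.node (.leaf (nat_lit
    15538049126106398466324392386691118)) (.leaf (nat_lit 47440950326329346))) (.leaf (nat_lit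
    8761795468430262647803800322055))))) (.node (.node (.node (.node (.leaf (nat_lit 0)) (.leaf
    (nat_lit 0))) (.node (.leaf (nat_lit 0)) (.leaf (nat_lit 50928650721886928898)))) (.node (.node
    (.leaf (nat_lit 0)) (.leaf (nat_lit 0))) (.leaf (nat_lit
    35276275992535294200865245584883762)))) (.node (.node (.node (.leaf (nat_lit 0)) (.leaf
    (nat_lit 34240407270592500589939599190982674))) (.node (.leaf (nat_lit 0)) (.leaf (nat_lit
    4976639258007490002946)))) (.node (.node (.leaf (nat_lit 19230388999361422278301553059627058))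
    (.leaf (nat_lit 118227221941292564482))) (.leaf (nat_lit 0))))))) (.node (.node (.node (.node
    (.node (.node (.leaf (nat_lit 0)) (.leaf (nat_lit 148458549461324595209))) (.node (.leaf
    (nat_lit 0)) (.leaf (nat_lit 62311422123489558530)))) (.node (.node (.leaf (nat_lit 0)) (.leaf
    (nat_lit 52156960345214010787367231869616146))) (.leaf (nat_lit
    1312148009506990971775418391)))) (.node (.node (.node (.leaf (nat_lit 0)) (.leaf (nat_lit
    33510087009725521492359283340673042))) (.node (.leaf (nat_lit 0)) (.leaf (nat_lit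
    991937836618558730403842)))) (.node (.node (.leaf (nat_lit 465548015761521127165591564)) (.leaf
    (nat_lit 205108910251497947151))) (.leaf (nat_lit 2009724482294124289982791703))))) (.node
    (.node (.node (.node (.leaf (nat_lit 2921037322911755)) (.leaf (nat_lit 0))) (.node (.leaf
    (nat_lit 1423192936918226925462552603)) (.leaf (nat_lit 71896740919918133250)))) (.node (.node
    (.leaf (nat_lit 3001083478225270968354299314179)) (.leaf (nat_lit 0))) (.leaf (nat_lit 0))))
    (.node (.node (.node (.leaf (nat_lit 7460920833998852)) (.leaf (nat_lit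
    2624009064688396636973760522))) (.node (.leaf (nat_lit 0)) (.leaf (nat_lit
    61552464809295874)))) (.node (.node (.leaf (nat_lit 0)) (.leaf (nat_lit
    176809766558044979202))) (.leaf (nat_lit 0)))))) (.node (.node (.node (.node (.node (.leaf
    (nat_lit 524947038594784708787637190659)) (.leaf (nat_lit 0))) (.node (.leaf (nat_lit
    1360318463339382613748285461)) (.leaf (nat_lit 63320973556716863490)))) (.node (.node (.leaf
    (nat_lit 8803318503242438057286024160542762)) (.leaf (nat_lit 0))) (.leaf (nat_lit
    33288659284667675617589701728731186)))) (.node (.node (.node (.leaf (nat_lit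
    22920157068901154831)) (.leaf (nat_lit 0))) (.node (.leaf (nat_lit 99896178595705585690))
    (.leaf (nat_lit 4124957855351591529416556546)))) (.node (.node (.leaf (nat_lit 0)) (.leaf
    (nat_lit 0))) (.leaf (nat_lit 33413771821187125))))) (.node (.node (.node (.node (.leaf
    (nat_lit 0)) (.leaf (nat_lit 0))) (.node (.leaf (nat_lit 0)) (.leaf (nat_lit
    43026930026538634313730)))) (.node (.node (.leaf (nat_lit 51598711700767047689)) (.leaf
    (nat_lit 3347123176453766816718979082))) (.leaf (nat_lit 119917741912474451983)))) (.node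
    (.node (.node (.leaf (nat_lit 0)) (.leaf (nat_lit 0))) (.node (.leaf (nat_lit
    107245420702100291599)) (.leaf (nat_lit 4306570912806318214673137666)))) (.node (.node (.leaf
    (nat_lit 0)) (.leaf (nat_lit 82558941075540738050))) (.leaf (nat_lit 35615290452738052))))))))
    (.node (.node (.node (.node (.node (.node (.node (.leaf (nat_lit 0)) (.leaf (nat_lit 0)))
    (.node (.leaf (nat_lit 0)) (.leaf (nat_lit 10645853613173440514)))) (.node (.node (.leaf
    (nat_lit 0)) (.leaf (nat_lit 0))) (.node (.leaf (nat_lit 1715892035535930734344994843)) (.leaf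
    (nat_lit 135467009432551426))))) (.node (.node (.node (.leaf (nat_lit 0)) (.leaf (nat_lit
    40964620680298500))) (.node (.leaf (nat_lit 0)) (.leaf (nat_lit 58877361608851458)))) (.node
    (.node (.leaf (nat_lit 56067144762983120911)) (.leaf (nat_lit 3437813644391953026100035600)))
    (.leaf (nat_lit 0))))) (.node (.node (.node (.node (.leaf (nat_lit 10809677701796003849))
    (.leaf (nat_lit 31522241966681034896684155681570853))) (.node (.leaf (nat_lit
    67743467318022438927)) (.leaf (nat_lit 50495390475654201346)))) (.node (.node (.leaf (nat_lit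
    0)) (.leaf (nat_lit 2175386576988728254196416524))) (.leaf (nat_lit 0)))) (.node (.node (.node
    (.leaf (nat_lit 253924609010945845027471372)) (.leaf (nat_lit 0))) (.node (.leaf (nat_lit
    1418481524069894688415744014)) (.leaf (nat_lit 60601636359372802)))) (.node (.node (.leaf
    (nat_lit 0)) (.leaf (nat_lit 2648143605343568236778946594))) (.leaf (nat_lit 0)))))) (.node
    (.node (.node (.node (.node (.leaf (nat_lit 0)) (.leaf (nat_lit 0))) (.node (.leaf (nat_lit
    4724503910087730213294170308656)) (.leaf (nat_lit 33272777966102970370)))) (.node (.node (.leaf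
    (nat_lit 12170600239376578073926190531805203)) (.leaf (nat_lit 0))) (.leaf (nat_lit
    1922415892133147048893808648)))) (.node (.node (.node (.leaf (nat_lit
    419584647547412645394317343)) (.leaf (nat_lit 0))) (.node (.leaf (nat_lit 0)) (.leaf (nat_lit
    60144145032937474)))) (.node (.node (.leaf (nat_lit 0)) (.leaf (nat_lit 50062254766424066)))
    (.leaf (nat_lit 0))))) (.node (.node (.node (.node (.leaf (nat_lit 0)) (.leaf (nat_lit
    43475796889469604989435743375392813))) (.node (.leaf (nat_lit 5002502700207626931630839824406))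
    (.leaf (nat_lit 24339505466577190914)))) (.node (.node (.leaf (nat_lit 12810251061559300))
    (.leaf (nat_lit 191560446164057915401))) (.leaf (nat_lit
    32071838090245701667885598514806840)))) (.node (.node (.node (.leaf (nat_lit 0)) (.leaf
    (nat_lit 0))) (.node (.leaf (nat_lit 6546931904190770696309472362499)) (.leaf (nat_lit
    62256324049764354)))) (.node (.node (.leaf (nat_lit 0)) (.leaf (nat_lit 95601243348751548418)))
    (.leaf (nat_lit 27892252059762699))))))) (.node (.node (.node (.node (.node (.node (.leaf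
    (nat_lit 0)) (.leaf (nat_lit 21501751050688338497277122037874730))) (.node (.leaf (nat_lit
    14118003828955961535106862341881874)) (.leaf (nat_lit 70814451037257269250)))) (.node (.node
    (.leaf (nat_lit 9994814099685380)) (.leaf (nat_lit 46032407211671556))) (.leaf (nat_lit 0))))
    (.node (.node (.node (.leaf (nat_lit 4624825175962024775249121751007267)) (.leaf (nat_lit 0)))
    (.node (.leaf (nat_lit 0)) (.leaf (nat_lit 59370277825544194)))) (.node (.node (.leaf (nat_lit
    0)) (.leaf (nat_lit 190210578959862792194))) (.leaf (nat_lit 0))))) (.node (.node (.node (.node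
    (.leaf (nat_lit 3202581019099140)) (.leaf (nat_lit 39204989758996491))) (.node (.leaf (nat_lit
    21256561947181067)) (.leaf (nat_lit 936974248051563368284162)))) (.node (.node (.leaf (nat_lit
    0)) (.leaf (nat_lit 48156987326201621162246674521194533))) (.leaf (nat_lit
    1325347027502376368711467042)))) (.node (.node (.node (.leaf (nat_lit 28393508703381422089))
    (.leaf (nat_lit 169649306840043028495))) (.node (.leaf (nat_lit 93974473478359941135)) (.leaf
    (nat_lit 61727604985692162)))) (.node (.node (.leaf (nat_lit 0)) (.leaf (nat_lit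
    71894030099769655298))) (.leaf (nat_lit 0)))))) (.node (.node (.node (.node (.node (.leaf
    (nat_lit 2041221862260740)) (.leaf (nat_lit 28804399079791710483203236624269347))) (.node
    (.leaf (nat_lit 0)) (.leaf (nat_lit 11007301568130383874)))) (.node (.node (.leaf (nat_lit
    723005540365169281537998865)) (.leaf (nat_lit 3204435095871156813360857098))) (.leaf (nat_lit
    4050976464934290428156671557638)))) (.node (.node (.node (.leaf (nat_lit 6581105373347851))
    (.leaf (nat_lit 42583514113245188))) (.node (.leaf (nat_lit 0)) (.leaf (nat_lit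
    60214917504040962)))) (.node (.node (.leaf (nat_lit 15625688023433220)) (.leaf (nat_lit 0)))
    (.leaf (nat_lit 7190711718015097384117282930694))))) (.node (.node (.node (.node (.leaf
    (nat_lit 3610600741469834527216192941654021)) (.leaf (nat_lit 0))) (.node (.leaf (nat_lit 0))
    (.leaf (nat_lit 58384677320392706)))) (.node (.node (.leaf (nat_lit 13302969709756420)) (.leaf
    (nat_lit 13026307069791983143160650268675))) (.leaf (nat_lit 123680710576094511119)))) (.node
    (.node (.node (.leaf (nat_lit 532056647233713092121919498)) (.leaf (nat_lit 0))) (.node (.leaf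
    (nat_lit 0)) (.leaf (nat_lit 62959556225007618)))) (.node (.node (.leaf (nat_lit 0)) (.leaf
    (nat_lit 30389314743804559362))) (.leaf (nat_lit 1199521850078411465901277196))))))))))) (.node
    (.node (.node (.node (.node (.node (.node (.node (.node (.node (.leaf (nat_lit 1)) (.leaf
    (nat_lit 35949627886927874))) (.node (.leaf (nat_lit 0)) (.leaf (nat_lit
    144168292413008445442)))) (.node (.node (.leaf (nat_lit 29258763082437689353)) (.leaf (nat_lit
    43494128827705174634962650160103486))) (.node (.leaf (nat_lit 1845273373177370601729622047))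
    (.leaf (nat_lit 351287917760675842))))) (.node (.node (.node (.leaf (nat_lit 4381558131785730))
    (.leaf (nat_lit 46517142942270900157054968266162218))) (.node (.leaf (nat_lit
    24608793682079746175933310579441700)) (.leaf (nat_lit 51361700669340975106)))) (.node (.node
    (.leaf (nat_lit 9533574385491839436140747006869550)) (.leaf (nat_lit 0))) (.leaf (nat_lit
    31427345151819787))))) (.node (.node (.node (.node (.leaf (nat_lit 0)) (.leaf (nat_lit
    31887374865610816540156644777459748))) (.node (.leaf (nat_lit 1194709501606918967850762263))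
    (.leaf (nat_lit 919759759850875931328514)))) (.node (.node (.leaf (nat_lit 10540472514772994))
    (.leaf (nat_lit 46965093719736322))) (.leaf (nat_lit 29245364326498315)))) (.node (.node (.node
    (.leaf (nat_lit 0)) (.leaf (nat_lit 0))) (.node (.leaf (nat_lit 1475248450099968544040353823))
    (.leaf (nat_lit 60637301767798786)))) (.node (.node (.leaf (nat_lit
    8583892172347418795793774035795996)) (.leaf (nat_lit 51733675649400836))) (.leaf (nat_lit
    0)))))) (.node (.node (.node (.node (.node (.leaf (nat_lit 3315089409568866319)) (.leaf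
    (nat_lit 2554815715975710606404943904))) (.node (.leaf (nat_lit
    4209546244431753524997614075907)) (.leaf (nat_lit 29309365601140146178)))) (.node (.node (.leaf
    (nat_lit 10100392985755659)) (.leaf (nat_lit 46137986097741835))) (.leaf (nat_lit
    115392149917949689911)))) (.node (.node (.node (.leaf (nat_lit 0)) (.leaf (nat_lit
    2662703547803776036087595018))) (.node (.leaf (nat_lit 1626398162941179639932190736)) (.leaf
    (nat_lit 137783100678585572392962)))) (.node (.node (.leaf (nat_lit
    9411860120829891720452562659770387)) (.leaf (nat_lit 46473328554278914))) (.leaf (nat_lit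
    35173471890538688895238574210220090))))) (.node (.node (.node (.node (.leaf (nat_lit
    195888495608016738028158990)) (.leaf (nat_lit 0))) (.node (.leaf (nat_lit
    1166898891851830206103093275)) (.leaf (nat_lit 6324894669746667522)))) (.node (.node (.leaf
    (nat_lit 12317558183165956)) (.leaf (nat_lit 0))) (.leaf (nat_lit
    930135725605506940364193806)))) (.node (.node (.node (.leaf (nat_lit
    9109015613707408143552641979842599)) (.leaf (nat_lit 11669360310163385533677990969377))) (.node
    (.leaf (nat_lit 25796471228071947)) (.leaf (nat_lit 253703403078739492866)))) (.node (.node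
    (.leaf (nat_lit 4367956645039989811676606496771)) (.leaf (nat_lit 175440866579939786754)))
    (.leaf (nat_lit 0))))))) (.node (.node (.node (.node (.node (.node (.leaf (nat_lit
    37484375334751287055286282)) (.leaf (nat_lit 2512762204711276237277167632))) (.node (.leaf
    (nat_lit 11196939975938002444803571397885998)) (.leaf (nat_lit 153536132100135256066)))) (.node
    (.node (.leaf (nat_lit 2298098015361761278210341208067)) (.leaf (nat_lit 0))) (.node (.leaf
    (nat_lit 1458382875762532697304793102)) (.leaf (nat_lit 260119397792995278850))))) (.node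
    (.node (.node (.leaf (nat_lit 20829624021526183962)) (.leaf (nat_lit 41070199566368779)))
    (.node (.leaf (nat_lit 0)) (.leaf (nat_lit 12018569489332502530)))) (.node (.node (.leaf
    (nat_lit 11807239644973265089883504541892652)) (.leaf (nat_lit 3078675833506737093117018124)))
    (.leaf (nat_lit 0))))) (.node (.node (.node (.node (.leaf (nat_lit
    178964123204172679165050901)) (.leaf (nat_lit 0))) (.node (.leaf (nat_lit
    17975821480316360269349593180209157)) (.leaf (nat_lit 62745285675188420610)))) (.node (.node
    (.leaf (nat_lit 0)) (.leaf (nat_lit 0))) (.leaf (nat_lit 2048419850993956397682851867))))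
    (.node (.node (.node (.leaf (nat_lit 0)) (.leaf (nat_lit 12123628380248455935255315349507)))
    (.node (.leaf (nat_lit 0)) (.leaf (nat_lit 6258322418960629762)))) (.node (.node (.leaf
    (nat_lit 16259169929789451)) (.leaf (nat_lit 192590238627100033026))) (.leaf (nat_lit
    29236551088356494689517961182904356)))))) (.node (.node (.node (.node (.node (.leaf (nat_lit
    0)) (.leaf (nat_lit 0))) (.node (.leaf (nat_lit 18986960460278748655762205334503474)) (.leaf
    (nat_lit 66059090739211730946)))) (.node (.node (.leaf (nat_lit 10663480378130436)) (.leaf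
    (nat_lit 0))) (.leaf (nat_lit 0)))) (.node (.node (.node (.leaf (nat_lit
    372440670203262094606139422)) (.leaf (nat_lit 1844050865670055606813523982))) (.node (.leaf
    (nat_lit 1665094068618199814268846113)) (.leaf (nat_lit 1001170505590670954332162)))) (.node
    (.node (.leaf (nat_lit 2278004428348792227446544269318)) (.leaf (nat_lit 48690090024763394)))
    (.leaf (nat_lit 33151791701032971))))) (.node (.node (.node (.node (.leaf (nat_lit
    881494347042664412936642363398)) (.leaf (nat_lit 43475796889469025794752201303195667))) (.node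
    (.leaf (nat_lit 0)) (.leaf (nat_lit 15620607115645878274)))) (.node (.node (.leaf (nat_lit
    891192363609742691482796048)) (.leaf (nat_lit 187815228110645952527))) (.leaf (nat_lit
    1883966057801861020128706570)))) (.node (.node (.node (.leaf (nat_lit
    275701511516268182861316119)) (.leaf (nat_lit 2621589738036691587222011927))) (.node (.leaf
    (nat_lit 0)) (.leaf (nat_lit 2321894381311242797058)))) (.node (.node (.leaf (nat_lit 0))
    (.leaf (nat_lit 43676737908899842))) (.leaf (nat_lit 5206735297188330901119372230663))))))))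
    (.node (.node (.node (.node (.node (.node (.node (.leaf (nat_lit 0)) (.leaf (nat_lit 0)))
    (.node (.leaf (nat_lit 4120548887858644600207572336643)) (.leaf (nat_lit
    32983634681767591938)))) (.node (.node (.leaf (nat_lit 2100044506582118676962728083459)) (.leaf
    (nat_lit 12104232511084971618709583298563))) (.node (.leaf (nat_lit 0)) (.leaf (nat_lit
    1057246664509024767311874))))) (.node (.node (.node (.leaf (nat_lit 4751062758195211)) (.leaf
    (nat_lit 34184185665166321156634780964945978))) (.node (.leaf (nat_lit 0)) (.leaf (nat_lit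
    21604062240526499842)))) (.node (.node (.leaf (nat_lit 3883126698237059205234348654614)) (.leaf
    (nat_lit 3039893044891237781885747212))) (.leaf (nat_lit 0))))) (.node (.node (.node (.node
    (.leaf (nat_lit 0)) (.leaf (nat_lit 0))) (.node (.leaf (nat_lit 77482482421081505807)) (.leaf
    (nat_lit 34722796248629250)))) (.node (.node (.leaf (nat_lit 0)) (.leaf (nat_lit 0))) (.leaf
    (nat_lit 0)))) (.node (.node (.node (.leaf (nat_lit 0)) (.leaf (nat_lit 0))) (.node (.leaf
    (nat_lit 87791221384017018906)) (.leaf (nat_lit 59123875551772674)))) (.node (.node (.leaf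
    (nat_lit 1104014083396180643552755728)) (.leaf (nat_lit 13477292084310577502140481536007)))
    (.leaf (nat_lit 28905474363377215481060919236558884)))))) (.node (.node (.node (.node (.node
    (.leaf (nat_lit 396162577664518660273415258115)) (.leaf (nat_lit 0))) (.node (.leaf (nat_lit
    17895999146164226)) (.leaf (nat_lit 262318222682265586237442)))) (.node (.node (.leaf (nat_lit
    5579269891817512)) (.leaf (nat_lit 46419529793929220))) (.leaf (nat_lit
    116545511055408955418)))) (.node (.node (.node (.leaf (nat_lit 5243918845345803)) (.leaf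
    (nat_lit 35822598703908310724677772096503850))) (.node (.leaf (nat_lit
    1645735368894005124847173642)) (.leaf (nat_lit 59968678439026690)))) (.node (.node (.leaf
    (nat_lit 0)) (.leaf (nat_lit 168809808877349699586))) (.leaf (nat_lit
    2264869529764142763854856200))))) (.node (.node (.node (.node (.leaf (nat_lit
    181382270424444539920252951)) (.leaf (nat_lit 0))) (.node (.leaf (nat_lit
    1328911781236173881777389595)) (.leaf (nat_lit 403696862252207423356930)))) (.node (.node
    (.leaf (nat_lit 455873672424368720159506444)) (.leaf (nat_lit 3212886358179364716436324362)))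
    (.leaf (nat_lit 0)))) (.node (.node (.node (.leaf (nat_lit 0)) (.leaf (nat_lit
    3033741038232798391288791063))) (.node (.leaf (nat_lit 0)) (.leaf (nat_lit
    3796436125560267341826)))) (.node (.node (.leaf (nat_lit 4397664846849203673150748229635))
    (.leaf (nat_lit 74055982255639298050))) (.leaf (nat_lit 0))))))) (.node (.node (.node (.node
    (.node (.node (.leaf (nat_lit 42320668476639473989648396)) (.leaf (nat_lit 18005812869988392)))
    (.node (.leaf (nat_lit 10791212550868522669330774605889577)) (.leaf (nat_lit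
    157787825968540483586)))) (.node (.node (.leaf (nat_lit 0)) (.leaf (nat_lit 0))) (.leaf
    (nat_lit 14280520180012850304251189665398789)))) (.node (.node (.node (.leaf (nat_lit 0))
    (.leaf (nat_lit 0))) (.node (.leaf (nat_lit 13631101643285484942016993867268101)) (.leaf
    (nat_lit 33494053388407734274)))) (.node (.node (.leaf (nat_lit 0)) (.leaf (nat_lit
    48709946507589553730121371109228588))) (.leaf (nat_lit 120942135197898571785))))) (.node (.node
    (.node (.node (.leaf (nat_lit 0)) (.leaf (nat_lit 2237067189252011145824632864))) (.node (.leaf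
    (nat_lit 16664958439915522)) (.leaf (nat_lit 15259615595453415426)))) (.node (.node (.leaf
    (nat_lit 10791212550866751201725354252632082)) (.leaf (nat_lit 0))) (.leaf (nat_lit
    29858896633167407681770885302648869)))) (.node (.node (.node (.leaf (nat_lit 0)) (.leaf
    (nat_lit 43498539715788811))) (.node (.leaf (nat_lit 6755853860088769121923096772630)) (.leaf
    (nat_lit 61552258650865666)))) (.node (.node (.leaf (nat_lit 0)) (.leaf (nat_lit
    101509635398919454722))) (.leaf (nat_lit 1386975011706971486536663052)))))) (.node (.node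
    (.node (.node (.node (.leaf (nat_lit 1865257052143620)) (.leaf (nat_lit 0))) (.node (.leaf
    (nat_lit 0)) (.leaf (nat_lit 51503597910535372802)))) (.node (.node (.leaf (nat_lit
    755750135060357642195369998)) (.leaf (nat_lit 0))) (.leaf (nat_lit 0)))) (.node (.node (.node
    (.leaf (nat_lit 22631926718519246857)) (.leaf (nat_lit 42442733675216900))) (.node (.leaf
    (nat_lit 13915159438447630932397581463388165)) (.leaf (nat_lit 245054099162396819458)))) (.node
    (.node (.leaf (nat_lit 0)) (.leaf (nat_lit 14507079261760102509197497073686))) (.leaf (nat_lit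
    26857000972920028693257736839168005))))) (.node (.node (.node (.node (.leaf (nat_lit
    291391575088145729730183188)) (.leaf (nat_lit 0))) (.node (.leaf (nat_lit
    11344112667656673512888731546615836)) (.leaf (nat_lit 62458210915822272514)))) (.node (.node
    (.leaf (nat_lit 0)) (.leaf (nat_lit 13843556547408708890509657374767))) (.leaf (nat_lit
    119773626750168399881)))) (.node (.node (.node (.leaf (nat_lit 8657490132729867)) (.leaf
    (nat_lit 2244313363981203412921679895))) (.node (.leaf (nat_lit 0)) (.leaf (nat_lit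
    4298943423041800852161757186)))) (.node (.node (.leaf (nat_lit 0)) (.leaf (nat_lit
    16391274533879810))) (.leaf (nat_lit 145572392761955647503))))))))) (.node (.node (.node (.node
    (.node (.node (.node (.node (.leaf (nat_lit 0)) (.leaf (nat_lit 0))) (.node (.leaf (nat_lit
    19067564755096382645946262391029797)) (.leaf (nat_lit 64616860207481552898)))) (.node (.node
    (.leaf (nat_lit 1980879404040790292353463484419)) (.leaf (nat_lit 38801803999051816))) (.node
    (.leaf (nat_lit 0)) (.leaf (nat_lit 62924938788601858))))) (.node (.node (.node (.leaf (nat_lit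
    269667509540226999282630664)) (.leaf (nat_lit 0))) (.node (.leaf (nat_lit 0)) (.leaf (nat_lit
    984727825763576068702210)))) (.node (.node (.leaf (nat_lit 0)) (.leaf (nat_lit
    44643509277425668))) (.leaf (nat_lit 8349632583890665600184238866435))))) (.node (.node (.node
    (.node (.leaf (nat_lit 0)) (.leaf (nat_lit 1492190007454942529054900257))) (.node (.leaf
    (nat_lit 0)) (.leaf (nat_lit 321942431569596368814082)))) (.node (.node (.leaf (nat_lit
    11332155246510084)) (.leaf (nat_lit 0))) (.leaf (nat_lit 1999796592997371694106869780))))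
    (.node (.node (.node (.leaf (nat_lit 0)) (.leaf (nat_lit 49212011584694306968411097461620778)))
    (.node (.leaf (nat_lit 828525428949768928110116893)) (.leaf (nat_lit
    1021459402134231617634306)))) (.node (.node (.leaf (nat_lit 0)) (.leaf (nat_lit 0))) (.leaf
    (nat_lit 0)))))) (.node (.node (.node (.node (.node (.leaf (nat_lit 3170974247262814217))
    (.leaf (nat_lit 0))) (.node (.leaf (nat_lit 20771931376716230713391357819813938)) (.leaf
    (nat_lit 65338198169548423170)))) (.node (.node (.leaf (nat_lit 0)) (.leaf (nat_lit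
    48887461944211063103802183065731090))) (.leaf (nat_lit 1927330027853027021481639949)))) (.node
    (.node (.node (.leaf (nat_lit 2536901011977263175712287324831772)) (.leaf (nat_lit
    1836803451409668004280336396))) (.node (.leaf (nat_lit 0)) (.leaf (nat_lit
    59721889618198530)))) (.node (.node (.leaf (nat_lit 0)) (.leaf (nat_lit
    171764064426385408002))) (.leaf (nat_lit 2187412369873577192525725728))))) (.node (.node (.node
    (.node (.leaf (nat_lit 14124749437574250505)) (.leaf (nat_lit
    10183290532659131586518209396739))) (.node (.leaf (nat_lit 1349489802240052855914692616))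
    (.leaf (nat_lit 228263937735829684226)))) (.node (.node (.leaf (nat_lit 12458330031259652))
    (.leaf (nat_lit 49457231829846469194577487572959273))) (.leaf (nat_lit
    1261156792552016287055020042)))) (.node (.node (.node (.leaf (nat_lit
    2070012291071421146394177961987)) (.leaf (nat_lit 0))) (.node (.leaf (nat_lit
    1564733501480826194555633691)) (.leaf (nat_lit 253704459176837840898)))) (.node (.node (.leaf
    (nat_lit 16892660426080260)) (.leaf (nat_lit 67210426056561590274))) (.leaf (nat_lit 0)))))))
    (.node (.node (.node (.node (.node (.node (.leaf (nat_lit 49575404778634191525183498)) (.leaf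
    (nat_lit 0))) (.node (.leaf (nat_lit 4061316387332362827349646245891)) (.leaf (nat_lit
    82271343171978067970)))) (.node (.node (.leaf (nat_lit 2327582478835301777302018719747)) (.leaf
    (nat_lit 0))) (.leaf (nat_lit 1415968941124581401959923722)))) (.node (.node (.node (.leaf
    (nat_lit 355456074871986662129598498)) (.leaf (nat_lit 0))) (.node (.leaf (nat_lit 0)) (.leaf
    (nat_lit 33277810220369903618)))) (.node (.node (.leaf (nat_lit 892333673751290232376197137))
    (.leaf (nat_lit 48443558901973045))) (.leaf (nat_lit 121230365548280479759))))) (.node (.node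
    (.node (.node (.leaf (nat_lit 0)) (.leaf (nat_lit 33144983351853608123486073881296955))) (.node
    (.leaf (nat_lit 0)) (.leaf (nat_lit 216876620115639205890)))) (.node (.node (.leaf (nat_lit 0))
    (.leaf (nat_lit 196690537917683269647))) (.leaf (nat_lit 29949223566966795)))) (.node (.node
    (.node (.leaf (nat_lit 0)) (.leaf (nat_lit 167487367835363246095))) (.node (.leaf (nat_lit
    6358837495629908142779659583491)) (.leaf (nat_lit 4226988719629792112479109122)))) (.node
    (.node (.leaf (nat_lit 0)) (.leaf (nat_lit 176521537423138816002))) (.leaf (nat_lit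
    1426880235201048889065275402)))))) (.node (.node (.node (.node (.node (.leaf (nat_lit 0))
    (.leaf (nat_lit 0))) (.node (.leaf (nat_lit 1148759694055725543589216277)) (.leaf (nat_lit
    31615598546139676674)))) (.node (.node (.leaf (nat_lit 10804252226224132)) (.leaf (nat_lit 0)))
    (.leaf (nat_lit 1012349462101467391009816599)))) (.node (.node (.node (.leaf (nat_lit 0))
    (.leaf (nat_lit 0))) (.node (.leaf (nat_lit 1658824592805271375219851318)) (.leaf (nat_lit
    23695271212674646018)))) (.node (.node (.leaf (nat_lit 0)) (.leaf (nat_lit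
    3532117533753803106368684061))) (.leaf (nat_lit 1163271274496305378617524257))))) (.node (.node
    (.node (.node (.leaf (nat_lit 16430733321715253257)) (.leaf (nat_lit
    2755809947745704881858871310))) (.node (.leaf (nat_lit 24503805184048155512449950898651172))
    (.leaf (nat_lit 12306061414577143810)))) (.node (.node (.leaf (nat_lit 12915864307367947))
    (.leaf (nat_lit 195452154436561076239))) (.leaf (nat_lit 0)))) (.node (.node (.node (.leaf
    (nat_lit 591278672199033599838978058)) (.leaf (nat_lit 3065326001923481814400565258))) (.node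
    (.leaf (nat_lit 0)) (.leaf (nat_lit 62537841976147970)))) (.node (.node (.leaf (nat_lit 0))
    (.leaf (nat_lit 62671044373748318210))) (.leaf (nat_lit 0)))))))) (.node (.node (.node (.node
    (.node (.node (.node (.leaf (nat_lit 0)) (.leaf (nat_lit 41908113413292989491095370662871102)))
    (.node (.leaf (nat_lit 18300378907017220)) (.leaf (nat_lit 10717911198621433858)))) (.node
    (.node (.leaf (nat_lit 2139363604928312866202009862147)) (.leaf (nat_lit 45398942485184516)))
    (.node (.leaf (nat_lit 0)) (.leaf (nat_lit 1063290856130287809855490))))) (.node (.node (.node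
    (.leaf (nat_lit 318017152386338810151370783)) (.leaf (nat_lit 0))) (.node (.leaf (nat_lit
    22910631162281995)) (.leaf (nat_lit 78311499241938419714)))) (.node (.node (.leaf (nat_lit 0))
    (.leaf (nat_lit 198407536345065127951))) (.leaf (nat_lit 2027861920081330247597096974)))))
    (.node (.node (.node (.node (.leaf (nat_lit 2639485036789771)) (.leaf (nat_lit
    156688719914526244879))) (.node (.leaf (nat_lit 0)) (.leaf (nat_lit 50783620826036109314))))
    (.node (.node (.leaf (nat_lit 593725447756581717653389324)) (.leaf (nat_lit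
    3261015548383057149918773265))) (.leaf (nat_lit 29667679870779396)))) (.node (.node (.node
    (.leaf (nat_lit 7144184175788043)) (.leaf (nat_lit 49009136594793296442854764091736106)))
    (.node (.leaf (nat_lit 1691643271424569569530150932)) (.leaf (nat_lit 4456746426139082754))))
    (.node (.node (.leaf (nat_lit 555161174310788910935244829)) (.leaf (nat_lit
    46297793240891394))) (.leaf (nat_lit 7202179641469179431941864554502)))))) (.node (.node (.node
    (.node (.node (.leaf (nat_lit 435849212773673152298931847171)) (.leaf (nat_lit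
    21582920311649045099209146117849133))) (.node (.leaf (nat_lit
    22578561077970115666685082758217752)) (.leaf (nat_lit 28055185939103746)))) (.node (.node
    (.leaf (nat_lit 6458913553776680)) (.leaf (nat_lit 188243896323874684943))) (.leaf (nat_lit
    0)))) (.node (.node (.node (.leaf (nat_lit 405079307734706751524896797)) (.leaf (nat_lit
    1645784670717512956825108494))) (.node (.leaf (nat_lit 0)) (.leaf (nat_lit
    213637982358798072020994)))) (.node (.node (.leaf (nat_lit 0)) (.leaf (nat_lit
    191374890665177951858384721843673628730))) (.leaf (nat_lit 2273334373198353483123982357)))))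
    (.node (.node (.node (.node (.leaf (nat_lit 262385908868677720131043338)) (.leaf (nat_lit
    10381318636296210486729015427079))) (.node (.leaf (nat_lit 1499432907713385634826878997))
    (.leaf (nat_lit 24411561230959050754)))) (.node (.node (.leaf (nat_lit 0)) (.leaf (nat_lit 0)))
    (.leaf (nat_lit 8171282085287978049648135110659)))) (.node (.node (.node (.leaf (nat_lit
    8270358960537604)) (.leaf (nat_lit 11905659063238097921454320779267))) (.node (.leaf (nat_lit
    0)) (.leaf (nat_lit 1046080547241759328174082)))) (.node (.node (.leaf (nat_lit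
    1107631715162113976733859869)) (.leaf (nat_lit 30244952900051861506))) (.leaf (nat_lit 0)))))))
    (.node (.node (.node (.node (.node (.node (.leaf (nat_lit 277319126443114034680717246467))
    (.leaf (nat_lit 36952631599562756))) (.node (.leaf (nat_lit 18933835043569668)) (.leaf (nat_lit
    24409309963721310210)))) (.node (.node (.leaf (nat_lit 0)) (.leaf (nat_lit 0))) (.leaf (nat_lit
    1925079240673980281390432281)))) (.node (.node (.node (.leaf (nat_lit 0)) (.leaf (nat_lit 0)))
    (.node (.leaf (nat_lit 0)) (.leaf (nat_lit 985849112592019112591362)))) (.node (.node (.leaf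
    (nat_lit 0)) (.leaf (nat_lit 105470796934731202562))) (.leaf (nat_lit
    34240417157147743540422393377259525))))) (.node (.node (.node (.node (.leaf (nat_lit 0)) (.leaf
    (nat_lit 0))) (.node (.leaf (nat_lit 0)) (.leaf (nat_lit 56343803350614018)))) (.node (.node
    (.leaf (nat_lit 10953497134324650820510652280799250)) (.leaf (nat_lit
    2586545059685695738400276503))) (.leaf (nat_lit 1961352984015845969155653646)))) (.node (.node
    (.node (.leaf (nat_lit 0)) (.leaf (nat_lit 0))) (.node (.leaf (nat_lit 0)) (.leaf (nat_lit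
    61692403433734146)))) (.node (.node (.leaf (nat_lit 0)) (.leaf (nat_lit 65264730318703886338)))
    (.leaf (nat_lit 1403904133570971258117750796)))))) (.node (.node (.node (.node (.node (.leaf
    (nat_lit 0)) (.leaf (nat_lit 152004993765397954575))) (.node (.leaf (nat_lit
    1384476313897220381780279306)) (.leaf (nat_lit 10863186367169626114)))) (.node (.node (.leaf
    (nat_lit 41365530103150477321)) (.leaf (nat_lit 189109062578791972879))) (.leaf (nat_lit 0))))
    (.node (.node (.node (.leaf (nat_lit 0)) (.leaf (nat_lit 0))) (.node (.leaf (nat_lit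
    1457075948873828927327764490)) (.leaf (nat_lit 60602272014532610)))) (.node (.node (.leaf
    (nat_lit 0)) (.leaf (nat_lit 50473555610267393129782250792484920))) (.leaf (nat_lit
    4206161766098022854808800985095))))) (.node (.node (.node (.node (.leaf (nat_lit 0)) (.leaf
    (nat_lit 0))) (.node (.leaf (nat_lit 1217755260301039991752294408)) (.leaf (nat_lit
    975274731927409885708290)))) (.node (.node (.leaf (nat_lit 0)) (.leaf (nat_lit 0))) (.leaf
    (nat_lit 0)))) (.node (.node (.node (.leaf (nat_lit 29402878236153806863)) (.leaf (nat_lit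
    44835855092809732))) (.node (.leaf (nat_lit 1764225395590691119975170079)) (.leaf (nat_lit
    1049211377290628133289986)))) (.node (.node (.leaf (nat_lit 0)) (.leaf (nat_lit
    28195639959617538))) (.leaf (nat_lit 2396347815499713481223241745)))))))))) (.node (.node
    (.node (.node (.node (.node (.node (.node (.node (.leaf (nat_lit 0)) (.leaf (nat_lit 0)))
    (.node (.leaf (nat_lit 0)) (.leaf (nat_lit 48145204703789058)))) (.node (.node (.leaf (nat_lit
    252723941568825625374162956)) (.leaf (nat_lit 45047012864950276))) (.node (.leaf (nat_lit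
    1856142477957572052665040923)) (.leaf (nat_lit 1633895753842690))))) (.node (.node (.node
    (.leaf (nat_lit 1168904401497024679604816052246)) (.leaf (nat_lit 0))) (.node (.leaf (nat_lit
    0)) (.leaf (nat_lit 467451691669942842949634)))) (.node (.node (.leaf (nat_lit
    13478934519873540)) (.leaf (nat_lit 52011785160687421488193262368260138))) (.leaf (nat_lit
    2172945114237691726513111050))))) (.node (.node (.node (.node (.leaf (nat_lit 0)) (.leaf
    (nat_lit 2105255896606663999691751456))) (.node (.leaf (nat_lit 71929615853732167689)) (.leaf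
    (nat_lit 36445392620289720322)))) (.node (.node (.leaf (nat_lit
    2812869438832824258178291466243)) (.leaf (nat_lit 46402160946184194))) (.leaf (nat_lit 0))))
    (.node (.node (.node (.leaf (nat_lit 0)) (.leaf (nat_lit 0))) (.node (.leaf (nat_lit
    1483681467571204853753774113)) (.leaf (nat_lit 60496057473302530)))) (.node (.node (.leaf
    (nat_lit 4328324412778073667961904037936)) (.leaf (nat_lit 14472123154614090462684229533724)))
    (.leaf (nat_lit 0)))))) (.node (.node (.node (.node (.node (.leaf (nat_lit 0)) (.leaf (nat_lit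
    1469125920037270630433095690))) (.node (.leaf (nat_lit 0)) (.leaf (nat_lit
    10646450935750131714)))) (.node (.node (.leaf (nat_lit 698930621535743342276837389)) (.leaf
    (nat_lit 0))) (.leaf (nat_lit 27960877047218187)))) (.node (.node (.node (.leaf (nat_lit
    366400174469133295692349467)) (.leaf (nat_lit 0))) (.node (.leaf (nat_lit 0)) (.leaf (nat_lit
    58279493571313666)))) (.node (.node (.leaf (nat_lit 0)) (.leaf (nat_lit 46561289484500994)))
    (.leaf (nat_lit 32354266497411194513813502920425531))))) (.node (.node (.node (.node (.leaf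
    (nat_lit 0)) (.leaf (nat_lit 2714664329086799036736143376))) (.node (.leaf (nat_lit 0)) (.leaf
    (nat_lit 56977156407951362)))) (.node (.node (.leaf (nat_lit
    11196955388721323466729132420169747)) (.leaf (nat_lit 0))) (.leaf (nat_lit 0)))) (.node (.node
    (.node (.leaf (nat_lit 7584177805459458)) (.leaf (nat_lit 0))) (.node (.leaf (nat_lit
    1785967811480757792128958474)) (.leaf (nat_lit 1040249142012383995363330)))) (.node (.node
    (.leaf (nat_lit 4665073116500903809100552732720)) (.leaf (nat_lit 117866929216574128130)))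
    (.leaf (nat_lit 34946624174293003))))))) (.node (.node (.node (.node (.node (.node (.leaf
    (nat_lit 563108867342347)) (.leaf (nat_lit 36336819188662274))) (.node (.leaf (nat_lit
    18511536679157764)) (.leaf (nat_lit 83424229560932302850)))) (.node (.node (.leaf (nat_lit
    9572507145338884)) (.leaf (nat_lit 0))) (.node (.leaf (nat_lit 25093213283024949)) (.leaf
    (nat_lit 1068033975481766894632962))))) (.node (.node (.node (.leaf (nat_lit 0)) (.leaf
    (nat_lit 0))) (.node (.leaf (nat_lit 14132181865725956)) (.leaf (nat_lit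
    92362831844289478658)))) (.node (.node (.leaf (nat_lit 0)) (.leaf (nat_lit 0))) (.leaf (nat_lit
    2211627787833104837883789322))))) (.node (.node (.node (.node (.leaf (nat_lit 0)) (.leaf
    (nat_lit 0))) (.node (.leaf (nat_lit 1168106654661525099140939784)) (.leaf (nat_lit
    228189590769604165634)))) (.node (.node (.leaf (nat_lit 0)) (.leaf (nat_lit 0))) (.leaf
    (nat_lit 0)))) (.node (.node (.node (.leaf (nat_lit 7355341947928580)) (.leaf (nat_lit
    41096638753631521662618598751272978))) (.node (.leaf (nat_lit 1434134936627236322094153759))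
    (.leaf (nat_lit 1002464661187693425983490)))) (.node (.node (.leaf (nat_lit
    1128186992627463313726701578)) (.leaf (nat_lit 132278050000950460418))) (.leaf (nat_lit
    1339790341572602363786887178)))))) (.node (.node (.node (.node (.node (.leaf (nat_lit 0))
    (.leaf (nat_lit 0))) (.node (.leaf (nat_lit 5552270158206285648252966928387)) (.leaf (nat_lit
    227900447420844277762)))) (.node (.node (.leaf (nat_lit 0)) (.leaf (nat_lit
    46771459414163467))) (.leaf (nat_lit 115608535356779200527)))) (.node (.node (.node (.leaf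
    (nat_lit 412335517542565241979994144)) (.leaf (nat_lit 0))) (.node (.leaf (nat_lit
    1655409141822838241048723490)) (.leaf (nat_lit 12093860506549551106)))) (.node (.node (.leaf
    (nat_lit 0)) (.leaf (nat_lit 0))) (.leaf (nat_lit 0))))) (.node (.node (.node (.node (.leaf
    (nat_lit 0)) (.leaf (nat_lit 162727097371791130639))) (.node (.leaf (nat_lit 0)) (.leaf
    (nat_lit 30752731765173059586)))) (.node (.node (.leaf (nat_lit
    11502052764162495787533958021316652)) (.leaf (nat_lit 2278170372361323603950895127))) (.leaf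
    (nat_lit 0)))) (.node (.node (.node (.leaf (nat_lit 8375963616411659)) (.leaf (nat_lit
    170658781840032333833))) (.node (.leaf (nat_lit 26500313288671243)) (.leaf (nat_lit
    141147198342394216450)))) (.node (.node (.leaf (nat_lit 0)) (.leaf (nat_lit
    83639804225900445698))) (.leaf (nat_lit 1210428155542181430637690892)))))))) (.node (.node
    (.node (.node (.node (.node (.node (.leaf (nat_lit 64395857832671628862234689543)) (.leaf
    (nat_lit 0))) (.node (.leaf (nat_lit 11034641085027531949102407587659821)) (.leaf (nat_lit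
    66922796937176612866)))) (.node (.node (.leaf (nat_lit 9290963449151492)) (.leaf (nat_lit
    41705210079362657119687580288745491))) (.node (.leaf (nat_lit 100892671387027832841)) (.leaf
    (nat_lit 63092687326347266))))) (.node (.node (.node (.leaf (nat_lit 0)) (.leaf (nat_lit
    40823857422139403))) (.node (.leaf (nat_lit 0)) (.leaf (nat_lit 143019169463377526786))))
    (.node (.node (.leaf (nat_lit 3605292534866305105541867110403)) (.leaf (nat_lit
    2583076224474783968475283470))) (.leaf (nat_lit 0))))) (.node (.node (.node (.node (.leaf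
    (nat_lit 0)) (.leaf (nat_lit 0))) (.node (.leaf (nat_lit 0)) (.leaf (nat_lit
    24482529251923525634)))) (.node (.node (.leaf (nat_lit 40356935013111103497)) (.leaf (nat_lit
    3275771825596479845720981536))) (.leaf (nat_lit 0)))) (.node (.node (.node (.leaf (nat_lit 0))
    (.leaf (nat_lit 40163469626734269622111480052121641))) (.node (.leaf (nat_lit
    24723158900801538)) (.leaf (nat_lit 60883721221439490)))) (.node (.node (.leaf (nat_lit 0))
    (.leaf (nat_lit 56885789548969686170211842527789093))) (.leaf (nat_lit
    30514243836660368707001232111632389)))))) (.node (.node (.node (.node (.node (.leaf (nat_lit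
    1407739955904516)) (.leaf (nat_lit 0))) (.node (.leaf (nat_lit 0)) (.leaf (nat_lit
    289177260995000437833730)))) (.node (.node (.leaf (nat_lit 0)) (.leaf (nat_lit
    49822339838184838169490178286485546))) (.leaf (nat_lit 15524072101687109906940719700312113))))
    (.node (.node (.node (.leaf (nat_lit 0)) (.leaf (nat_lit 171232497592837537807))) (.node (.leaf
    (nat_lit 0)) (.leaf (nat_lit 59545993527558146)))) (.node (.node (.leaf (nat_lit
    14957021744988164)) (.leaf (nat_lit 48602068964999170))) (.leaf (nat_lit
    2238273458466180301370753032))))) (.node (.node (.node (.node (.leaf (nat_lit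
    3589720781225995)) (.leaf (nat_lit 2717118119435032864426885132))) (.node (.leaf (nat_lit
    1327764851248418527279120392)) (.leaf (nat_lit 51216946398721409026)))) (.node (.node (.leaf
    (nat_lit 3585948518435685262603263016982)) (.leaf (nat_lit 13184932663258790518626365866017)))
    (.leaf (nat_lit 2114923169447488026858291210)))) (.node (.node (.node (.leaf (nat_lit 0))
    (.leaf (nat_lit 3013378166353992595433390090))) (.node (.leaf (nat_lit
    6785571676355550221916604596246)) (.leaf (nat_lit 4278222266333506180001103874)))) (.node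
    (.node (.leaf (nat_lit 17174186942398468)) (.leaf (nat_lit 33127252688724230146))) (.leaf
    (nat_lit 141252824872536702985))))))) (.node (.node (.node (.node (.node (.node (.leaf (nat_lit
    37489394723217409078263822)) (.leaf (nat_lit 10251285029650764073967097872387))) (.node (.leaf
    (nat_lit 4090618357032179147928028708867)) (.leaf (nat_lit 50854374120110620674)))) (.node
    (.node (.leaf (nat_lit 470340034409413348744822796)) (.leaf (nat_lit
    2165710382636082557171859468))) (.leaf (nat_lit 0)))) (.node (.node (.node (.leaf (nat_lit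
    373612702822502077833740308)) (.leaf (nat_lit 1648166799209899453076275212))) (.node (.leaf
    (nat_lit 23069081095766018)) (.leaf (nat_lit 66278143692034473986)))) (.node (.node (.leaf
    (nat_lit 0)) (.leaf (nat_lit 196108868093177567691484767751047217212))) (.leaf (nat_lit
    2228545664028620634187956234))))) (.node (.node (.node (.node (.leaf (nat_lit 0)) (.leaf
    (nat_lit 136063711493646123023))) (.node (.leaf (nat_lit 50389424260843241481)) (.leaf (nat_lit
    31616895853896335362)))) (.node (.node (.leaf (nat_lit 3040668530798899888382007443459)) (.leaf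
    (nat_lit 192714898017051934735))) (.leaf (nat_lit 0)))) (.node (.node (.node (.leaf (nat_lit
    0)) (.leaf (nat_lit 34808349395803683658946502866698300))) (.node (.leaf (nat_lit
    1581657576994944913988976667)) (.leaf (nat_lit 1030196167030144801964034)))) (.node (.node
    (.leaf (nat_lit 0)) (.leaf (nat_lit 67354400532918894594))) (.leaf (nat_lit 0)))))) (.node
    (.node (.node (.node (.node (.leaf (nat_lit 574454976139926497480134754307)) (.leaf (nat_lit
    1815166856157142942570840093))) (.node (.leaf (nat_lit 0)) (.leaf (nat_lit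
    14754262334587469826)))) (.node (.node (.leaf (nat_lit 0)) (.leaf (nat_lit
    50145287453194346589423203326033956))) (.leaf (nat_lit 0)))) (.node (.node (.node (.leaf
    (nat_lit 0)) (.leaf (nat_lit 46618451587160921095083554773598227))) (.node (.leaf (nat_lit
    3446774651799450951777958363142)) (.leaf (nat_lit 4163590943205163652144758786)))) (.node
    (.node (.leaf (nat_lit 15520109137362948)) (.leaf (nat_lit 0))) (.leaf (nat_lit
    2304774101848526808009736219))))) (.node (.node (.node (.node (.leaf (nat_lit
    17442248426875191322)) (.leaf (nat_lit 11241930913008247199886817492995))) (.node (.leaf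
    (nat_lit 0)) (.leaf (nat_lit 959443101982904780324866)))) (.node (.node (.leaf (nat_lit
    3466591263113314889326867644419)) (.leaf (nat_lit 195019808923873116169))) (.leaf (nat_lit
    2023037722237381100637061147)))) (.node (.node (.node (.leaf (nat_lit
    605817070595400983644536842)) (.leaf (nat_lit 43494128827704230247607371955634222))) (.node
    (.leaf (nat_lit 0)) (.leaf (nat_lit 1048956150205071724118018)))) (.node (.node (.leaf (nat_lit
    19841030050739198202904945216651288)) (.leaf (nat_lit 66201934827421368322))) (.leaf (nat_lit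
    1128266406888441003964170254))))))))) (.node (.node (.node (.node (.node (.node (.node (.node
    (.leaf (nat_lit 0)) (.leaf (nat_lit 0))) (.node (.leaf (nat_lit 18159589879054347)) (.leaf
    (nat_lit 64328669190410141698)))) (.node (.node (.leaf (nat_lit 9150191601057796)) (.leaf
    (nat_lit 0))) (.node (.leaf (nat_lit 111644276569726451767)) (.leaf (nat_lit
    40970049518960642))))) (.node (.node (.node (.leaf (nat_lit 0)) (.leaf (nat_lit
    42725199172861998444272116843348031))) (.node (.leaf (nat_lit 0)) (.leaf (nat_lit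
    207139111154106232995842)))) (.node (.node (.leaf (nat_lit 598512161672423083723784204)) (.leaf
    (nat_lit 0))) (.leaf (nat_lit 2179016885980978312993112097))))) (.node (.node (.node (.node
    (.leaf (nat_lit 0)) (.leaf (nat_lit 0))) (.node (.leaf (nat_lit
    10856849443702816786832115722813468)) (.leaf (nat_lit 37957016062448041986)))) (.node (.node
    (.leaf (nat_lit 40501050175417155599)) (.leaf (nat_lit 3258546329549128478436425745))) (.leaf
    (nat_lit 0)))) (.node (.node (.node (.leaf (nat_lit 204353330250375028099317772)) (.leaf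
    (nat_lit 34016196819025960))) (.node (.leaf (nat_lit 6963888247691846290473616801814)) (.leaf
    (nat_lit 60954201634766850)))) (.node (.node (.leaf (nat_lit 0)) (.leaf (nat_lit
    3070210078689836673186201612))) (.leaf (nat_lit 0)))))) (.node (.node (.node (.node (.node
    (.leaf (nat_lit 51994437225692322750332940)) (.leaf (nat_lit 0))) (.node (.leaf (nat_lit
    9517427840783892792505008933765148)) (.leaf (nat_lit 36588589960969519106)))) (.node (.node
    (.leaf (nat_lit 10311550757896196)) (.leaf (nat_lit 0))) (.leaf (nat_lit 0)))) (.node (.node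
    (.node (.leaf (nat_lit 391788500542602682845954068)) (.leaf (nat_lit
    11529266009058401509549330006019))) (.node (.leaf (nat_lit 0)) (.leaf (nat_lit
    73414485317538480130)))) (.node (.node (.leaf (nat_lit 0)) (.leaf (nat_lit
    107859898414017950383400648271970435128))) (.leaf (nat_lit 0))))) (.node (.node (.node (.node
    (.leaf (nat_lit 12252659393241481231)) (.leaf (nat_lit 0))) (.node (.leaf (nat_lit
    1330115392724137547294638107)) (.leaf (nat_lit 56484592378576898)))) (.node (.node (.leaf
    (nat_lit 0)) (.leaf (nat_lit 0))) (.leaf (nat_lit 2077158650616674919125418018)))) (.node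
    (.node (.node (.leaf (nat_lit 8024016816308228)) (.leaf (nat_lit 180825393484670369801)))
    (.node (.leaf (nat_lit 1775135895325192379705917450)) (.leaf (nat_lit
    4270965168198853921467596802)))) (.node (.node (.leaf (nat_lit
    4705319706840782674906552074291)) (.leaf (nat_lit 148347281083616919554))) (.leaf (nat_lit
    0))))))) (.node (.node (.node (.node (.node (.node (.leaf (nat_lit 0)) (.leaf (nat_lit
    2429323529594127248152395788))) (.node (.leaf (nat_lit 18722677271429124)) (.leaf (nat_lit
    25592151043866626)))) (.node (.node (.leaf (nat_lit 9713278993432580)) (.leaf (nat_lit 0)))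
    (.leaf (nat_lit 0)))) (.node (.node (.node (.leaf (nat_lit 643818336153041715276160565254))
    (.leaf (nat_lit 2840422728927153782329245719))) (.node (.leaf (nat_lit 23262560782516228))
    (.leaf (nat_lit 4077110538461469232838541314)))) (.node (.node (.leaf (nat_lit 0)) (.leaf
    (nat_lit 3459578396319005311628541966))) (.leaf (nat_lit 0))))) (.node (.node (.node (.node
    (.leaf (nat_lit 0)) (.leaf (nat_lit 2241902006654408543057543198))) (.node (.leaf (nat_lit
    1360374837371474187418664990)) (.leaf (nat_lit 71464429741198737410)))) (.node (.node (.leaf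
    (nat_lit 0)) (.leaf (nat_lit 49965241716248281139388287264686122))) (.leaf (nat_lit
    956750096289657777490821134)))) (.node (.node (.node (.leaf (nat_lit 0)) (.leaf (nat_lit
    2355561699624523171551838231))) (.node (.leaf (nat_lit 25479725979926532)) (.leaf (nat_lit
    251830187667075825666)))) (.node (.node (.leaf (nat_lit 0)) (.leaf (nat_lit
    146113261322140581890))) (.leaf (nat_lit 0)))))) (.node (.node (.node (.node (.node (.leaf
    (nat_lit 2150093886402545174595141001216019)) (.leaf (nat_lit
    9638475667320320674080437436468))) (.node (.leaf (nat_lit 0)) (.leaf (nat_lit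
    225882905757821894658)))) (.node (.node (.leaf (nat_lit 0)) (.leaf (nat_lit 0))) (.leaf
    (nat_lit 1971985056652220656360161314)))) (.node (.node (.node (.leaf (nat_lit
    4665389995169328404503520424165413)) (.leaf (nat_lit 43615347655195378273373174203088942)))
    (.node (.leaf (nat_lit 24247998078910475)) (.leaf (nat_lit 23479107656150614018)))) (.node
    (.node (.leaf (nat_lit 0)) (.leaf (nat_lit 51346561657077771))) (.leaf (nat_lit 0))))) (.node
    (.node (.node (.node (.leaf (nat_lit 0)) (.leaf (nat_lit 22580588695388200))) (.node (.leaf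
    (nat_lit 1325307139642153466094485531)) (.leaf (nat_lit 12017833486556790786)))) (.node (.node
    (.leaf (nat_lit 608236093963203923948142604)) (.leaf (nat_lit 3382182686638925945818644512)))
    (.leaf (nat_lit 2029070838046420655644409879)))) (.node (.node (.node (.leaf (nat_lit
    440155867323977984169541642)) (.leaf (nat_lit 36715153491949335768210630137806890))) (.node
    (.leaf (nat_lit 1829499768762028098318565386)) (.leaf (nat_lit 4297569801381864253889511426))))
    (.node (.node (.leaf (nat_lit 18053850754503098335743626839523333)) (.leaf (nat_lit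
    142654975637044002818))) (.leaf (nat_lit 0)))))))) (.node (.node (.node (.node (.node (.node
    (.node (.leaf (nat_lit 1873655899214774281)) (.leaf (nat_lit 148602629404898820105))) (.node
    (.leaf (nat_lit 4169966134711839509051821391875)) (.leaf (nat_lit 37431623532281858)))) (.node
    (.node (.leaf (nat_lit 9431735297245188)) (.leaf (nat_lit 39294471107641348))) (.node (.leaf
    (nat_lit 840623541654935307498618894)) (.leaf (nat_lit 46036650639360002))))) (.node (.node
    (.node (.leaf (nat_lit 318019228653853444776722464)) (.leaf (nat_lit 0))) (.node (.leaf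
    (nat_lit 0)) (.leaf (nat_lit 98821242025504311345154)))) (.node (.node (.leaf (nat_lit
    905696789297349058476965898)) (.leaf (nat_lit 0))) (.leaf (nat_lit 122800503285577089039)))))
    (.node (.node (.node (.node (.leaf (nat_lit 0)) (.leaf (nat_lit 0))) (.node (.leaf (nat_lit 0))
    (.leaf (nat_lit 36165398453944322)))) (.node (.node (.leaf (nat_lit
    2902002316712285646985307226115)) (.leaf (nat_lit 0))) (.leaf (nat_lit
    15294472297942573731544458385096709)))) (.node (.node (.node (.leaf (nat_lit
    495781493370550262627106829)) (.leaf (nat_lit 34403293631479848))) (.node (.leaf (nat_lit 0))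
    (.leaf (nat_lit 4204706823074053568357269506)))) (.node (.node (.leaf (nat_lit
    63426519693661503503)) (.leaf (nat_lit 157988444846557191182489339951650963498))) (.leaf
    (nat_lit 29027129205708942840192350567202853)))))) (.node (.node (.node (.node (.node (.leaf
    (nat_lit 1548511803998212)) (.leaf (nat_lit 37550920543895556))) (.node (.leaf (nat_lit 0))
    (.leaf (nat_lit 35109661132849154)))) (.node (.node (.leaf (nat_lit 0)) (.leaf (nat_lit
    46595503193980939))) (.leaf (nat_lit 930138964736556155525201949)))) (.node (.node (.node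
    (.leaf (nat_lit 389375374729307113671426079)) (.leaf (nat_lit 1778717801148992233096413196)))
    (.node (.leaf (nat_lit 26799595404806167507243732967030808)) (.leaf (nat_lit
    3958776597394428285537288194)))) (.node (.node (.leaf (nat_lit
    8154321140613359371702076527017989)) (.leaf (nat_lit 50132623510601730))) (.leaf (nat_lit
    35219465686319638685616864380780602))))) (.node (.node (.node (.node (.leaf (nat_lit
    2799299423693660219437318238830597)) (.leaf (nat_lit 0))) (.node (.leaf (nat_lit 0)) (.leaf
    (nat_lit 14899991515538587650)))) (.node (.node (.leaf (nat_lit 0)) (.leaf (nat_lit 0))) (.leaf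
    (nat_lit 2122183492149464684153864225)))) (.node (.node (.node (.leaf (nat_lit
    28107055284049084431)) (.leaf (nat_lit 0))) (.node (.leaf (nat_lit 0)) (.leaf (nat_lit
    4290307981312687996852830210)))) (.node (.node (.leaf (nat_lit 65292241667293904911)) (.leaf
    (nat_lit 72182506753641086978))) (.leaf (nat_lit 2101625835846854374813138961))))))) (.node
    (.node (.node (.node (.node (.node (.leaf (nat_lit 985424411623428)) (.leaf (nat_lit 0)))
    (.node (.leaf (nat_lit 10953481731218050315834972092956714)) (.leaf (nat_lit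
    27949555513425922)))) (.node (.node (.leaf (nat_lit 0)) (.leaf (nat_lit 0))) (.leaf (nat_lit
    859921482634877541703548941)))) (.node (.node (.node (.leaf (nat_lit 0)) (.leaf (nat_lit
    43615347655194145799123459046309950))) (.node (.leaf (nat_lit 0)) (.leaf (nat_lit
    59370131796656130)))) (.node (.node (.leaf (nat_lit 8803333807263767987108879245180946)) (.leaf
    (nat_lit 180338671572891140098))) (.leaf (nat_lit 8181212554749015514371567517702))))) (.node
    (.node (.node (.node (.leaf (nat_lit 0)) (.leaf (nat_lit 135775481143264215049))) (.node (.leaf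
    (nat_lit 68608299321404882953)) (.leaf (nat_lit 55828425777682251778)))) (.node (.node (.leaf
    (nat_lit 11034641085029303409861366603251731)) (.leaf (nat_lit
    55686303634625066445637047074357298))) (.leaf (nat_lit 0)))) (.node (.node (.node (.leaf
    (nat_lit 264817337527631106455961612)) (.leaf (nat_lit 2890037619091766479721660426))) (.node
    (.leaf (nat_lit 1639703138458084180698136586)) (.leaf (nat_lit 61727768194449410)))) (.node
    (.node (.leaf (nat_lit 0)) (.leaf (nat_lit 143663394212517445634))) (.leaf (nat_lit 0))))))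
    (.node (.node (.node (.node (.node (.leaf (nat_lit 0)) (.leaf (nat_lit 0))) (.node (.leaf
    (nat_lit 72217846195524141071)) (.leaf (nat_lit 4594175707344732162)))) (.node (.node (.leaf
    (nat_lit 581573606747080763654864908)) (.leaf (nat_lit 3246737766380455052649496614))) (.leaf
    (nat_lit 0)))) (.node (.node (.node (.leaf (nat_lit 26951811189977579529)) (.leaf (nat_lit 0)))
    (.node (.leaf (nat_lit 0)) (.leaf (nat_lit 25336193348426361208834)))) (.node (.node (.leaf
    (nat_lit 0)) (.leaf (nat_lit 43165910049444280166948926642389011))) (.leaf (nat_lit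
    2108664210942477360693575741))))) (.node (.node (.node (.node (.leaf (nat_lit
    274500556340784825693962267)) (.leaf (nat_lit 40436726249947140))) (.node (.leaf (nat_lit
    1505482260691802796234965024)) (.leaf (nat_lit 12380334915387064322)))) (.node (.node (.leaf
    (nat_lit 0)) (.leaf (nat_lit 0))) (.leaf (nat_lit 2151169688197309446352076810)))) (.node
    (.node (.node (.leaf (nat_lit 615473139691667370210033696)) (.leaf (nat_lit
    46861875319483998971185828544839725))) (.node (.leaf (nat_lit 1807750617431874942787715104))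
    (.leaf (nat_lit 1049546734376657055121410)))) (.node (.node (.leaf (nat_lit
    19310993286839311174095703720263716)) (.leaf (nat_lit 30461372659965034498))) (.leaf (nat_lit
    9747447057189943172518289735714))))))))))))

/-- Certificate data. -/
def coll_rel : Trie :=
    (.node (.node (.node (.node (.node (.node (.leaf (nat_lit 0)) (.leaf (nat_lit 2207680495877)))
    (.node (.leaf (nat_lit 433760657268279044)) (.leaf (nat_lit 433191093065154817)))) (.node
    (.node (.leaf (nat_lit 5506181890817)) (.leaf (nat_lit 433479177996666629))) (.node (.leaf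
    (nat_lit 50594564)) (.leaf (nat_lit 362263818422125574))))) (.node (.node (.node (.leaf
    (nat_lit 282578884167425)) (.leaf (nat_lit 3307175215361))) (.node (.leaf (nat_lit
    1692178476761345)) (.leaf (nat_lit 5501870146051)))) (.node (.node (.leaf (nat_lit
    2207663588098)) (.leaf (nat_lit 505535676834711044))) (.node (.leaf (nat_lit 2211925131778))
    (.leaf (nat_lit 505535672539743749)))))) (.node (.node (.node (.node (.leaf (nat_lit 394758))
    (.leaf (nat_lit 289924753719165959))) (.node (.leaf (nat_lit 2207646941443)) (.leaf (nat_lit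
    569560025661954)))) (.node (.node (.leaf (nat_lit 4406687105281)) (.leaf (nat_lit
    216455382422323462))) (.node (.leaf (nat_lit 852130135147014)) (.leaf (nat_lit
    290205124889347334))))) (.node (.node (.node (.leaf (nat_lit 1103823569411)) (.leaf (nat_lit
    460551))) (.node (.leaf (nat_lit 73749746745213697)) (.leaf (nat_lit 218145314614739458))))
    (.node (.node (.leaf (nat_lit 3307158504193)) (.leaf (nat_lit 282600308932865))) (.node (.leaf
    (nat_lit 1112430280961)) (.leaf (nat_lit 3302846694146))))))) (.node (.node (.node (.node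
    (.node (.leaf (nat_lit 1972532483851779)) (.leaf (nat_lit 361982347740316679))) (.node (.leaf
    (nat_lit 505817147516388869)) (.leaf (nat_lit 1692178493604354)))) (.node (.node (.leaf
    (nat_lit 263172)) (.leaf (nat_lit 144681466662617863))) (.node (.leaf (nat_lit 2211925000451))
    (.leaf (nat_lit 290206224400974854))))) (.node (.node (.node (.leaf (nat_lit 1971428660413955))
    (.leaf (nat_lit 72340172838076673))) (.node (.leaf (nat_lit 3320026563586)) (.leaf (nat_lit
    50660101)))) (.node (.node (.leaf (nat_lit 84083971)) (.leaf (nat_lit 565157600559879))) (.node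
    (.leaf (nat_lit 2211992109316)) (.leaf (nat_lit 433479182291633924)))))) (.node (.node (.node
    (.node (.leaf (nat_lit 144967318211069698)) (.leaf (nat_lit 361981248228689159))) (.node (.leaf
    (nat_lit 1112430215683)) (.leaf (nat_lit 328965)))) (.node (.node (.leaf (nat_lit
    2216253523202)) (.leaf (nat_lit 505817151811356164))) (.node (.leaf (nat_lit 1103857058561))
    (.leaf (nat_lit 1121020150787))))) (.node (.node (.node (.leaf (nat_lit 67306499)) (.leaf
    (nat_lit 433760652973311749))) (.node (.leaf (nat_lit 3302913868292)) (.leaf (nat_lit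
    289923654207538439)))) (.node (.node (.leaf (nat_lit 4410948518402)) (.leaf (nat_lit
    72345678986151427))) (.leaf (nat_lit 1103873835781)))))))

/-- Certificate data. -/
def coll_rc : Trie :=
    (.node (.node (.node (.node (.node (.node (.leaf (nat_lit 20)) (.leaf (nat_lit 655371))) (.node
    (.leaf (nat_lit 131091)) (.leaf (nat_lit 16)))) (.node (.node (.leaf (nat_lit 11)) (.leaf
    (nat_lit 655379))) (.node (.leaf (nat_lit 131080)) (.leaf (nat_lit 19))))) (.node (.node (.node
    (.leaf (nat_lit 524302)) (.leaf (nat_lit 5))) (.node (.leaf (nat_lit 131086)) (.leaf (nat_lit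
    524298)))) (.node (.node (.leaf (nat_lit 655364)) (.leaf (nat_lit 393235))) (.node (.leaf
    (nat_lit 524292)) (.leaf (nat_lit 524306)))))) (.node (.node (.node (.node (.leaf (nat_lit 12))
    (.leaf (nat_lit 262163))) (.node (.leaf (nat_lit 4)) (.leaf (nat_lit 393231)))) (.node (.node
    (.leaf (nat_lit 131082)) (.leaf (nat_lit 393232))) (.node (.leaf (nat_lit 131087)) (.leaf
    (nat_lit 524307))))) (.node (.node (.node (.leaf (nat_lit 393221)) (.leaf (nat_lit 13))) (.node
    (.leaf (nat_lit 131088)) (.leaf (nat_lit 262161)))) (.node (.node (.leaf (nat_lit 131076))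
    (.leaf (nat_lit 393230))) (.node (.leaf (nat_lit 131077)) (.leaf (nat_lit 524293))))))) (.node
    (.node (.node (.node (.node (.leaf (nat_lit 15)) (.leaf (nat_lit 917522))) (.node (.leaf
    (nat_lit 917523)) (.leaf (nat_lit 262159)))) (.node (.node (.leaf (nat_lit 6)) (.leaf (nat_lit
    17))) (.node (.leaf (nat_lit 655365)) (.leaf (nat_lit 131090))))) (.node (.node (.node (.leaf
    (nat_lit 786446)) (.leaf (nat_lit 0))) (.node (.leaf (nat_lit 655370)) (.leaf (nat_lit 9))))
    (.node (.node (.leaf (nat_lit 131081)) (.leaf (nat_lit 786447))) (.node (.leaf (nat_lit 10))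
    (.leaf (nat_lit 262162)))))) (.node (.node (.node (.node (.leaf (nat_lit 393233)) (.leaf
    (nat_lit 786451))) (.node (.leaf (nat_lit 262148)) (.leaf (nat_lit 7)))) (.node (.node (.leaf
    (nat_lit 524299)) (.leaf (nat_lit 18))) (.node (.leaf (nat_lit 262149)) (.leaf (nat_lit
    131083))))) (.node (.node (.node (.leaf (nat_lit 8)) (.leaf (nat_lit 786450))) (.node (.leaf
    (nat_lit 262155)) (.leaf (nat_lit 393234)))) (.node (.node (.leaf (nat_lit 393227)) (.leaf
    (nat_lit 262160))) (.leaf (nat_lit 393226)))))))

/-- Certificate data. -/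
def coll_lv : Trie :=
    (.leaf (nat_lit 0))

/-- Certificate data. -/
def coll_tb : Trie :=
    (.node (.node (.leaf (nat_lit 0)) (.leaf (nat_lit 4))) (.node (.leaf (nat_lit 3)) (.leaf
    (nat_lit 3624))))

/-- Certificate data. -/
def coll_C : TC.Cert := ⟨10, 1023, 12, 4095, 434320308636287488, 62, coll_par, coll_fact, coll_just, coll_rel, 63⟩

/-- Certificate data. -/
def coll_rs : List (List ℕ) := [[1, 1, 1, 1, 1, 1, 1, 1], [3, 3], [3, 1, 3, 2, 2, 2], [4, 4, 4], [3, 4, 3, 4], [4, 1, 1, 5, 3, 2], [6, 6, 6], [6, 1, 1, 1, 1, 7, 3], [1, 1, 3, 6, 1, 1, 3, 6], [4, 6, 4, 7, 5, 6, 5, 7]]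

/-- Certificate data. -/
def coll_gl : List ℕ := [1, 259, 516, 774]

theorem coll_h1_0 : allR coll_C.factChk 0 710 = true := by decide +kernel

theorem coll_h1_1 : allR coll_C.factChk 710 684 = true := by decide +kernel

theorem coll_h1_2 : allR coll_C.factChk 1394 419 = true := by decide +kernel

theorem coll_h1 : allB coll_C.factChk 1813 = true :=
  allB_of_allR (a := 1813)
    (allR_append (allR_append (coll_h1_0) coll_h1_1) coll_h1_2)

theorem coll_h2 : coll_C.finChk 1813 1 coll_lv coll_tb coll_gl = true := by decide +kernel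

theorem coll_h3 : TC.relChk coll_C.ivc coll_rs coll_C.rel coll_rc coll_C.nrel = true := by decide +kernel

theorem coll_bound {G : Type*} [Group G] {a r k w : G}
    (r0 : a * a * a * a * a * a * a * a = 1)
    (r1 : r * r = 1)
    (r2 : r * a * r * a⁻¹ * a⁻¹ * a⁻¹ = 1)
    (r3 : k * k * k = 1)
    (r4 : r * k * r * k = 1)
    (r5 : k * a * a * k⁻¹ * r * a⁻¹ = 1)
    (r6 : w * w * w = 1)
    (r7 : w * a * a * a * a * w⁻¹ * r = 1)
    (r8 : a * a * r * w * a * a * r * w = 1)
    (r9 : k * w * k * w⁻¹ * k⁻¹ * w * k⁻¹ * w⁻¹ = 1)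
    (H : Subgroup G) [Finite H] (m1 : a ∈ H) (m3 : r ∈ H) (m4 : k ∈ H) :
    Finite (Subgroup.closure ({a, r, k, w} : Set G)) ∧
      Nat.card (Subgroup.closure ({a, r, k, w} : Set G)) ≤ 1 * Nat.card H := by
  have hL : TC.Lett (TC.lett [a, a⁻¹, r, k, k⁻¹, w, w⁻¹]) coll_C.ivc :=
    TC.lett_ok (show Nat.shiftRight coll_C.ivc (8 * 8) = 0 by decide +kernel) (by
      intro a ha
      change a < 8 at ha
      interval_cases a
      · exact inv_one.symm
      · rfl
      · exact (inv_inv _).symm
      · exact (inv_eq_of_mul_eq_one_right r1).symm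
      · rfl
      · exact (inv_inv _).symm
      · rfl
      · exact (inv_inv _).symm)
  have h := TC.card_le coll_h1 coll_h2 coll_h3 (by decide) hL (by
    simp only [coll_rs, List.forall_mem_cons]
    refine ⟨?_, ?_, ?_, ?_, ?_, ?_, ?_, ?_, ?_, ?_, List.forall_mem_nil _⟩
    · show a * (a * (a * (a * (a * (a * (a * (a * 1))))))) = 1
      simp only [mul_assoc, mul_one] at r0 ⊢
      exact r0
    · show r * (r * 1) = 1
      simp only [mul_one] at r1 ⊢
      exact r1
    · show r * (a * (r * (a⁻¹ * (a⁻¹ * (a⁻¹ * 1))))) = 1
      simp only [mul_assoc, mul_one] at r2 ⊢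
      exact r2
    · show k * (k * (k * 1)) = 1
      simp only [mul_assoc, mul_one] at r3 ⊢
      exact r3
    · show r * (k * (r * (k * 1))) = 1
      simp only [mul_assoc, mul_one] at r4 ⊢
      exact r4
    · show k * (a * (a * (k⁻¹ * (r * (a⁻¹ * 1))))) = 1
      simp only [mul_assoc, mul_one] at r5 ⊢
      exact r5
    · show w * (w * (w * 1)) = 1
      simp only [mul_assoc, mul_one] at r6 ⊢
      exact r6
    · show w * (a * (a * (a * (a * (w⁻¹ * (r * 1)))))) = 1
      simp only [mul_assoc, mul_one] at r7 ⊢
      exact r7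
    · show a * (a * (r * (w * (a * (a * (r * (w * 1))))))) = 1
      simp only [mul_assoc, mul_one] at r8 ⊢
      exact r8
    · show k * (w * (k * (w⁻¹ * (k⁻¹ * (w * (k⁻¹ * (w⁻¹ * 1))))))) = 1
      simp only [mul_assoc, mul_one] at r9 ⊢
      exact r9) H
    (TC.forall_subs (K := 8) (by decide +kernel) (by
      intro a ha hb
      interval_cases a
      · exact absurd hb (by decide +kernel)
      · exact m1
      · exact H.inv_mem m1
      · exact m3
      · exact m4
      · exact H.inv_mem m4
      · exact absurd hb (by decide +kernel)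
      · exact absurd hb (by decide +kernel)))
  have e : {g₀ | ∃ ak ∈ coll_gl, TC.lett [a, a⁻¹, r, k, k⁻¹, w, w⁻¹] (ak % 256) = g₀} =
      {a, r, k, w} := by
    ext g₀
    simp only [coll_gl, List.mem_cons, List.not_mem_nil, or_false, exists_eq_or_imp,
      exists_eq_left, Set.mem_ofPred_eq, Set.mem_insert_iff, Set.mem_singleton_iff]
    exact or_congr eq_comm (or_congr eq_comm (or_congr eq_comm (eq_comm)))
  rw [e] at h
  exact h

theorem coll_card {G : Type*} [Group G] {a r k w : G}
    (e0 : a ^ 8 = 1)
    (e1 : r * r = 1)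
    (e2 : r * a * r = a ^ 3)
    (e3 : k ^ 3 = 1)
    (e4 : r * k * r = k⁻¹)
    (e5 : k * a ^ 2 * k⁻¹ = a * r)
    (e6 : w ^ 3 = 1)
    (e7 : w * a ^ 4 * w⁻¹ = r)
    (e8 : a ^ 2 * r * w * (a ^ 2 * r) = w⁻¹)
    (e9 : k * (w * k * w⁻¹) = (w * k * w⁻¹) * k)
    (H : Subgroup G) [Finite H] (ma : a ∈ H) (mr : r ∈ H) (mk : k ∈ H) :
    Finite (Subgroup.closure ({a, r, k, w} : Set G)) ∧
      Nat.card (Subgroup.closure ({a, r, k, w} : Set G)) ≤ 1 * Nat.card H := by
  have ir : r⁻¹ = r := inv_eq_of_mul_eq_one_right e1
  refine coll_bound ?_ ?_ ?_ ?_ ?_ ?_ ?_ ?_ ?_ ?_ H ma mr mk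
  · have h := mul_inv_eq_one.mpr e0
    simp only [pow_succ, pow_zero, mul_inv_rev, inv_inv, inv_one, one_mul, mul_one, mul_assoc,
      mul_inv_cancel_left, inv_mul_cancel_left, mul_inv_cancel, inv_mul_cancel, ir] at h ⊢
    exact h
  · have h := mul_inv_eq_one.mpr e1
    simp only [pow_succ, pow_zero, mul_inv_rev, inv_inv, inv_one, one_mul, mul_one, mul_assoc,
      mul_inv_cancel_left, inv_mul_cancel_left, mul_inv_cancel, inv_mul_cancel, ir] at h ⊢
    exact h
  · have h := mul_inv_eq_one.mpr e2
    simp only [pow_succ, pow_zero, mul_inv_rev, inv_inv, inv_one, one_mul, mul_one, mul_assoc,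
      mul_inv_cancel_left, inv_mul_cancel_left, mul_inv_cancel, inv_mul_cancel, ir] at h ⊢
    exact h
  · have h := mul_inv_eq_one.mpr e3
    simp only [pow_succ, pow_zero, mul_inv_rev, inv_inv, inv_one, one_mul, mul_one, mul_assoc,
      mul_inv_cancel_left, inv_mul_cancel_left, mul_inv_cancel, inv_mul_cancel, ir] at h ⊢
    exact h
  · have h := mul_inv_eq_one.mpr e4
    simp only [pow_succ, pow_zero, mul_inv_rev, inv_inv, inv_one, one_mul, mul_one, mul_assoc,
      mul_inv_cancel_left, inv_mul_cancel_left, mul_inv_cancel, inv_mul_cancel, ir] at h ⊢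
    exact h
  · have h := mul_inv_eq_one.mpr e5
    simp only [pow_succ, pow_zero, mul_inv_rev, inv_inv, inv_one, one_mul, mul_one, mul_assoc,
      mul_inv_cancel_left, inv_mul_cancel_left, mul_inv_cancel, inv_mul_cancel, ir] at h ⊢
    exact h
  · have h := mul_inv_eq_one.mpr e6
    simp only [pow_succ, pow_zero, mul_inv_rev, inv_inv, inv_one, one_mul, mul_one, mul_assoc,
      mul_inv_cancel_left, inv_mul_cancel_left, mul_inv_cancel, inv_mul_cancel, ir] at h ⊢
    exact h
  · have h := mul_inv_eq_one.mpr e7
    simp only [pow_succ, pow_zero, mul_inv_rev, inv_inv, inv_one, one_mul, mul_one, mul_assoc,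
      mul_inv_cancel_left, inv_mul_cancel_left, mul_inv_cancel, inv_mul_cancel, ir] at h ⊢
    exact h
  · have h := mul_inv_eq_one.mpr e8
    simp only [pow_succ, pow_zero, mul_inv_rev, inv_inv, inv_one, one_mul, mul_one, mul_assoc,
      mul_inv_cancel_left, inv_mul_cancel_left, mul_inv_cancel, inv_mul_cancel, ir] at h ⊢
    exact h
  · have h := mul_inv_eq_one.mpr e9
    simp only [pow_succ, pow_zero, mul_inv_rev, inv_inv, inv_one, one_mul, mul_one, mul_assoc,
      mul_inv_cancel_left, inv_mul_cancel_left, mul_inv_cancel, inv_mul_cancel, ir] at h ⊢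
    exact h

/-- Certificate data. -/
def l33_par : Trie :=
    (.node (.node (.node (.node (.node (.node (.node (.node (.node (.leaf (nat_lit 0)) (.leaf
    (nat_lit 27650))) (.leaf (nat_lit 12806))) (.node (.leaf (nat_lit 5635)) (.leaf (nat_lit
    20486)))) (.node (.node (.node (.leaf (nat_lit 2821)) (.leaf (nat_lit 31235))) (.leaf (nat_lit
    16646))) (.node (.leaf (nat_lit 8967)) (.leaf (nat_lit 23301))))) (.node (.node (.node (.node
    (.leaf (nat_lit 1031)) (.leaf (nat_lit 29444))) (.leaf (nat_lit 14854))) (.node (.leaf (nat_lit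
    7684)) (.leaf (nat_lit 21765)))) (.node (.node (.node (.leaf (nat_lit 4357)) (.leaf (nat_lit
    33028))) (.leaf (nat_lit 18183))) (.node (.leaf (nat_lit 11271)) (.leaf (nat_lit 25863))))))
    (.node (.node (.node (.node (.node (.leaf (nat_lit 517)) (.leaf (nat_lit 28417))) (.leaf
    (nat_lit 13828))) (.node (.leaf (nat_lit 6404)) (.leaf (nat_lit 21252)))) (.node (.node (.node
    (.leaf (nat_lit 3841)) (.leaf (nat_lit 32002))) (.leaf (nat_lit 17414))) (.node (.leaf (nat_lit
    10247)) (.leaf (nat_lit 24322))))) (.node (.node (.node (.node (.leaf (nat_lit 2055)) (.leaf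
    (nat_lit 30465))) (.leaf (nat_lit 15876))) (.node (.leaf (nat_lit 8199)) (.leaf (nat_lit
    22532)))) (.node (.node (.node (.leaf (nat_lit 4869)) (.leaf (nat_lit 34564))) (.leaf (nat_lit
    19969))) (.node (.leaf (nat_lit 11783)) (.leaf (nat_lit 27137))))))) (.node (.node (.node
    (.node (.node (.node (.leaf (nat_lit 258)) (.leaf (nat_lit 27906))) (.leaf (nat_lit 13572)))
    (.node (.leaf (nat_lit 6145)) (.leaf (nat_lit 20996)))) (.node (.node (.node (.leaf (nat_lit
    3334)) (.leaf (nat_lit 31746))) (.leaf (nat_lit 17158))) (.node (.leaf (nat_lit 9733)) (.leaf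
    (nat_lit 23810))))) (.node (.node (.node (.node (.leaf (nat_lit 1543)) (.leaf (nat_lit 29700)))
    (.leaf (nat_lit 15366))) (.node (.leaf (nat_lit 7942)) (.leaf (nat_lit 22277)))) (.node (.node
    (.node (.leaf (nat_lit 4613)) (.leaf (nat_lit 34055))) (.leaf (nat_lit 19207))) (.node (.leaf
    (nat_lit 11527)) (.leaf (nat_lit 26372)))))) (.node (.node (.node (.node (.node (.leaf (nat_lit
    775)) (.leaf (nat_lit 29190))) (.leaf (nat_lit 14086))) (.node (.leaf (nat_lit 7428)) (.leaf
    (nat_lit 21761)))) (.node (.node (.node (.leaf (nat_lit 4101)) (.leaf (nat_lit 32261))) (.leaf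
    (nat_lit 17671))) (.node (.leaf (nat_lit 10759)) (.leaf (nat_lit 25095))))) (.node (.node
    (.node (.node (.leaf (nat_lit 2567)) (.leaf (nat_lit 30978))) (.leaf (nat_lit 16132))) (.node
    (.leaf (nat_lit 8455)) (.leaf (nat_lit 23046)))) (.node (.node (.leaf (nat_lit 5378)) (.leaf
    (nat_lit 20225))) (.node (.leaf (nat_lit 12294)) (.leaf (nat_lit 27393)))))))) (.node (.node
    (.node (.node (.node (.node (.node (.leaf (nat_lit 7)) (.leaf (nat_lit 27653))) (.leaf (nat_lit
    13318))) (.node (.leaf (nat_lit 5637)) (.leaf (nat_lit 20743)))) (.node (.node (.node (.leaf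
    (nat_lit 3076)) (.leaf (nat_lit 31237))) (.leaf (nat_lit 16902))) (.node (.leaf (nat_lit 9477))
    (.leaf (nat_lit 23557))))) (.node (.node (.node (.node (.leaf (nat_lit 1287)) (.leaf (nat_lit
    29697))) (.leaf (nat_lit 15110))) (.node (.leaf (nat_lit 7686)) (.leaf (nat_lit 22274))))
    (.node (.node (.node (.leaf (nat_lit 4610)) (.leaf (nat_lit 33541))) (.leaf (nat_lit 18694)))
    (.node (.leaf (nat_lit 11525)) (.leaf (nat_lit 26119)))))) (.node (.node (.node (.node (.node
    (.leaf (nat_lit 773)) (.leaf (nat_lit 28420))) (.leaf (nat_lit 13830))) (.node (.leaf (nat_lit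
    7172)) (.leaf (nat_lit 21505)))) (.node (.node (.node (.leaf (nat_lit 3845)) (.leaf (nat_lit
    32004))) (.leaf (nat_lit 17668))) (.node (.leaf (nat_lit 10503)) (.leaf (nat_lit 24325)))))
    (.node (.node (.node (.node (.leaf (nat_lit 2311)) (.leaf (nat_lit 30724))) (.leaf (nat_lit
    15878))) (.node (.leaf (nat_lit 8453)) (.leaf (nat_lit 22790)))) (.node (.node (.node (.leaf
    (nat_lit 5122)) (.leaf (nat_lit 34823))) (.leaf (nat_lit 19972))) (.node (.leaf (nat_lit
    12039)) (.leaf (nat_lit 27140))))))) (.node (.node (.node (.node (.node (.node (.leaf (nat_lit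
    261)) (.leaf (nat_lit 27909))) (.leaf (nat_lit 13574))) (.node (.leaf (nat_lit 6148)) (.leaf
    (nat_lit 21249)))) (.node (.node (.node (.leaf (nat_lit 3590)) (.leaf (nat_lit 31749))) (.leaf
    (nat_lit 17412))) (.node (.leaf (nat_lit 10245)) (.leaf (nat_lit 23813))))) (.node (.node
    (.node (.node (.leaf (nat_lit 1799)) (.leaf (nat_lit 29958))) (.leaf (nat_lit 15622))) (.node
    (.leaf (nat_lit 8194)) (.leaf (nat_lit 22530)))) (.node (.node (.node (.leaf (nat_lit 4866))
    (.leaf (nat_lit 34308))) (.leaf (nat_lit 19718))) (.node (.leaf (nat_lit 11781)) (.leaf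
    (nat_lit 26628)))))) (.node (.node (.node (.node (.node (.leaf (nat_lit 1029)) (.leaf (nat_lit
    29441))) (.leaf (nat_lit 14342))) (.node (.leaf (nat_lit 7430)) (.leaf (nat_lit 21763))))
    (.node (.node (.node (.leaf (nat_lit 4354)) (.leaf (nat_lit 32516))) (.leaf (nat_lit 17927)))
    (.node (.leaf (nat_lit 11015)) (.leaf (nat_lit 25606))))) (.node (.node (.node (.node (.leaf
    (nat_lit 2818)) (.leaf (nat_lit 31233))) (.leaf (nat_lit 16134))) (.node (.leaf (nat_lit 8711))
    (.leaf (nat_lit 23298)))) (.node (.node (.leaf (nat_lit 5633)) (.leaf (nat_lit 20228))) (.node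
    (.leaf (nat_lit 12550)) (.leaf (nat_lit 27396))))))))) (.node (.node (.node (.node (.node
    (.node (.node (.node (.leaf (nat_lit 6)) (.leaf (nat_lit 27652))) (.leaf (nat_lit 12807)))
    (.node (.leaf (nat_lit 5636)) (.leaf (nat_lit 20487)))) (.node (.node (.node (.leaf (nat_lit
    3073)) (.leaf (nat_lit 31236))) (.leaf (nat_lit 16647))) (.node (.leaf (nat_lit 9476)) (.leaf
    (nat_lit 23556))))) (.node (.node (.node (.node (.leaf (nat_lit 1286)) (.leaf (nat_lit 29445)))
    (.leaf (nat_lit 14855))) (.node (.leaf (nat_lit 7685)) (.leaf (nat_lit 22273)))) (.node (.node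
    (.node (.leaf (nat_lit 4609)) (.leaf (nat_lit 33284))) (.leaf (nat_lit 18438))) (.node (.leaf
    (nat_lit 11524)) (.leaf (nat_lit 26118)))))) (.node (.node (.node (.node (.node (.leaf (nat_lit
    772)) (.leaf (nat_lit 28418))) (.leaf (nat_lit 13829))) (.node (.leaf (nat_lit 6405)) (.leaf
    (nat_lit 21253)))) (.node (.node (.node (.leaf (nat_lit 3844)) (.leaf (nat_lit 32003))) (.leaf
    (nat_lit 17415))) (.node (.leaf (nat_lit 10502)) (.leaf (nat_lit 24324))))) (.node (.node
    (.node (.node (.leaf (nat_lit 2310)) (.leaf (nat_lit 30721))) (.leaf (nat_lit 15877))) (.node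
    (.leaf (nat_lit 8452)) (.leaf (nat_lit 22533)))) (.node (.node (.node (.leaf (nat_lit 5121))
    (.leaf (nat_lit 34822))) (.leaf (nat_lit 19970))) (.node (.leaf (nat_lit 12038)) (.leaf
    (nat_lit 27138))))))) (.node (.node (.node (.node (.node (.node (.leaf (nat_lit 260)) (.leaf
    (nat_lit 27908))) (.leaf (nat_lit 13573))) (.node (.leaf (nat_lit 6146)) (.leaf (nat_lit
    20997)))) (.node (.node (.node (.leaf (nat_lit 3335)) (.leaf (nat_lit 31748))) (.leaf (nat_lit
    17159))) (.node (.leaf (nat_lit 10244)) (.leaf (nat_lit 23812))))) (.node (.node (.node (.node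
    (.leaf (nat_lit 1798)) (.leaf (nat_lit 29701))) (.leaf (nat_lit 15367))) (.node (.leaf (nat_lit
    7943)) (.leaf (nat_lit 22529)))) (.node (.node (.node (.leaf (nat_lit 4865)) (.leaf (nat_lit
    34305))) (.leaf (nat_lit 19463))) (.node (.leaf (nat_lit 11780)) (.leaf (nat_lit 26373))))))
    (.node (.node (.node (.node (.node (.leaf (nat_lit 1028)) (.leaf (nat_lit 29191))) (.leaf
    (nat_lit 14087))) (.node (.leaf (nat_lit 7429)) (.leaf (nat_lit 21762)))) (.node (.node (.node
    (.leaf (nat_lit 4353)) (.leaf (nat_lit 32513))) (.leaf (nat_lit 17926))) (.node (.leaf (nat_lit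
    11014)) (.leaf (nat_lit 25350))))) (.node (.node (.node (.node (.leaf (nat_lit 2817)) (.leaf
    (nat_lit 30980))) (.leaf (nat_lit 16133))) (.node (.leaf (nat_lit 8710)) (.leaf (nat_lit
    23047)))) (.node (.node (.leaf (nat_lit 5380)) (.leaf (nat_lit 20227))) (.node (.leaf (nat_lit
    12295)) (.leaf (nat_lit 27394)))))))) (.node (.node (.node (.node (.node (.node (.node (.leaf
    (nat_lit 257)) (.leaf (nat_lit 27905))) (.leaf (nat_lit 13319))) (.node (.leaf (nat_lit 5889))
    (.leaf (nat_lit 20993)))) (.node (.node (.node (.leaf (nat_lit 3077)) (.leaf (nat_lit 31745)))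
    (.leaf (nat_lit 16903))) (.node (.leaf (nat_lit 9732)) (.leaf (nat_lit 23809))))) (.node (.node
    (.node (.node (.leaf (nat_lit 1542)) (.leaf (nat_lit 29699))) (.leaf (nat_lit 15111))) (.node
    (.leaf (nat_lit 7687)) (.leaf (nat_lit 22276)))) (.node (.node (.node (.leaf (nat_lit 4611))
    (.leaf (nat_lit 34054))) (.leaf (nat_lit 18951))) (.node (.leaf (nat_lit 11526)) (.leaf
    (nat_lit 26369)))))) (.node (.node (.node (.node (.node (.leaf (nat_lit 774)) (.leaf (nat_lit
    28421))) (.leaf (nat_lit 13831))) (.node (.leaf (nat_lit 7173)) (.leaf (nat_lit 21506))))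
    (.node (.node (.node (.leaf (nat_lit 4100)) (.leaf (nat_lit 32257))) (.leaf (nat_lit 17669)))
    (.node (.leaf (nat_lit 10758)) (.leaf (nat_lit 24839))))) (.node (.node (.node (.node (.leaf
    (nat_lit 2566)) (.leaf (nat_lit 30977))) (.leaf (nat_lit 15879))) (.node (.leaf (nat_lit 8454))
    (.leaf (nat_lit 22791)))) (.node (.node (.leaf (nat_lit 5377)) (.leaf (nat_lit 19973))) (.node
    (.leaf (nat_lit 12290)) (.leaf (nat_lit 27141))))))) (.node (.node (.node (.node (.node (.node
    (.leaf (nat_lit 516)) (.leaf (nat_lit 28163))) (.leaf (nat_lit 13575))) (.node (.leaf (nat_lit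
    6149)) (.leaf (nat_lit 21250)))) (.node (.node (.node (.leaf (nat_lit 3591)) (.leaf (nat_lit
    32001))) (.leaf (nat_lit 17413))) (.node (.leaf (nat_lit 10246)) (.leaf (nat_lit 24321)))))
    (.node (.node (.node (.node (.leaf (nat_lit 2054)) (.leaf (nat_lit 29959))) (.leaf (nat_lit
    15623))) (.node (.leaf (nat_lit 8198)) (.leaf (nat_lit 22531)))) (.node (.node (.node (.leaf
    (nat_lit 4868)) (.leaf (nat_lit 34309))) (.leaf (nat_lit 19719))) (.node (.leaf (nat_lit
    11782)) (.leaf (nat_lit 26881)))))) (.node (.node (.node (.node (.node (.leaf (nat_lit 1030))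
    (.leaf (nat_lit 29442))) (.leaf (nat_lit 14343))) (.node (.leaf (nat_lit 7431)) (.leaf (nat_lit
    21764)))) (.node (.node (.node (.leaf (nat_lit 4356)) (.leaf (nat_lit 33025))) (.leaf (nat_lit
    18182))) (.node (.leaf (nat_lit 11270)) (.leaf (nat_lit 25862))))) (.node (.node (.node (.node
    (.leaf (nat_lit 2820)) (.leaf (nat_lit 31234))) (.leaf (nat_lit 16135))) (.node (.leaf (nat_lit
    8966)) (.leaf (nat_lit 23300)))) (.node (.node (.leaf (nat_lit 5634)) (.leaf (nat_lit 20229)))
    (.node (.leaf (nat_lit 12551)) (.leaf (nat_lit 27649))))))))))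

/-- Certificate data. -/
def l33_fact : Trie :=
    (.node (.node (.node (.node (.node (.node (.node (.node (.node (.node (.node (.leaf (nat_lit
    1)) (.leaf (nat_lit 19417351))) (.leaf (nat_lit 29252356))) (.node (.leaf (nat_lit 13116933))
    (.leaf (nat_lit 18817024)))) (.node (.node (.leaf (nat_lit 6566917)) (.leaf (nat_lit
    34893572))) (.node (.leaf (nat_lit 19963139)) (.leaf (nat_lit 7097351))))) (.node (.node (.node
    (.leaf (nat_lit 3283463)) (.leaf (nat_lit 25229313))) (.node (.leaf (nat_lit 17072903)) (.leaf
    (nat_lit 17205504)))) (.node (.node (.leaf (nat_lit 8537859)) (.leaf (nat_lit 39267587)))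
    (.node (.leaf (nat_lit 24792835)) (.leaf (nat_lit 5566976)))))) (.node (.node (.node (.node
    (.node (.leaf (nat_lit 1444871)) (.leaf (nat_lit 14999046))) (.leaf (nat_lit 29945857))) (.node
    (.leaf (nat_lit 14577671)) (.leaf (nat_lit 41236996)))) (.node (.node (.leaf (nat_lit 7748867))
    (.leaf (nat_lit 15799040))) (.node (.leaf (nat_lit 22438919)) (.leaf (nat_lit 4512768)))))
    (.node (.node (.node (.leaf (nat_lit 5121796)) (.leaf (nat_lit 33844229))) (.node (.leaf
    (nat_lit 15895555)) (.leaf (nat_lit 17205252)))) (.node (.node (.leaf (nat_lit 11542535))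
    (.leaf (nat_lit 40055297))) (.node (.leaf (nat_lit 26891522)) (.leaf (nat_lit 8950277)))))))
    (.node (.node (.node (.node (.node (.node (.leaf (nat_lit 656899)) (.leaf (nat_lit 18659584)))
    (.leaf (nat_lit 30433026))) (.node (.leaf (nat_lit 13527047)) (.leaf (nat_lit 35731203))))
    (.node (.node (.leaf (nat_lit 7476225)) (.leaf (nat_lit 18288386))) (.node (.leaf (nat_lit
    21906437)) (.leaf (nat_lit 13272576))))) (.node (.node (.node (.leaf (nat_lit 3809539)) (.leaf
    (nat_lit 33188610))) (.node (.leaf (nat_lit 15107587)) (.leaf (nat_lit 9342720)))) (.node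
    (.node (.leaf (nat_lit 10362119)) (.leaf (nat_lit 39366401))) (.node (.leaf (nat_lit 25973505))
    (.leaf (nat_lit 8295940)))))) (.node (.node (.node (.node (.node (.leaf (nat_lit 2232839))
    (.leaf (nat_lit 13688576))) (.leaf (nat_lit 25343747))) (.node (.leaf (nat_lit 15740423))
    (.leaf (nat_lit 27856896)))) (.node (.node (.leaf (nat_lit 7881475)) (.leaf (nat_lit
    38042117))) (.node (.leaf (nat_lit 23612167)) (.leaf (nat_lit 35297542))))) (.node (.node
    (.node (.leaf (nat_lit 5902593)) (.leaf (nat_lit 30213379))) (.node (.leaf (nat_lit 19807495))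
    (.leaf (nat_lit 9342470)))) (.node (.node (.leaf (nat_lit 12198406)) (.leaf (nat_lit
    19567363))) (.node (.leaf (nat_lit 28596486)) (.leaf (nat_lit 19704322)))))))) (.node (.node
    (.node (.node (.node (.node (.node (.leaf (nat_lit 262913)) (.leaf (nat_lit 17482502))) (.leaf
    (nat_lit 29549061))) (.node (.leaf (nat_lit 13379589)) (.leaf (nat_lit 37166339)))) (.node
    (.node (.leaf (nat_lit 6431746)) (.leaf (nat_lit 19467269))) (.node (.leaf (nat_lit 21250566))
    (.leaf (nat_lit 9644032))))) (.node (.node (.node (.leaf (nat_lit 1580289)) (.leaf (nat_lit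
    32806146))) (.node (.leaf (nat_lit 15369475)) (.leaf (nat_lit 7124224)))) (.node (.node (.leaf
    (nat_lit 6310402)) (.leaf (nat_lit 29830916))) (.node (.leaf (nat_lit 16957956)) (.leaf
    (nat_lit 9071104)))))) (.node (.node (.node (.node (.node (.leaf (nat_lit 658946)) (.leaf
    (nat_lit 24164356))) (.leaf (nat_lit 27980034))) (.node (.leaf (nat_lit 15347204)) (.leaf
    (nat_lit 37299456)))) (.node (.node (.leaf (nat_lit 8273411)) (.leaf (nat_lit 36379139)))
    (.node (.leaf (nat_lit 23086855)) (.leaf (nat_lit 4650752))))) (.node (.node (.node (.leaf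
    (nat_lit 5640196)) (.leaf (nat_lit 34106626))) (.node (.leaf (nat_lit 19151622)) (.leaf
    (nat_lit 7648256)))) (.node (.node (.leaf (nat_lit 11819266)) (.leaf (nat_lit 40312578)))
    (.node (.leaf (nat_lit 27809541)) (.leaf (nat_lit 19154951))))))) (.node (.node (.node (.node
    (.node (.node (.leaf (nat_lit 1311493)) (.leaf (nat_lit 25857538))) (.leaf (nat_lit 30993155)))
    (.node (.leaf (nat_lit 14052359)) (.leaf (nat_lit 41091585)))) (.node (.node (.leaf (nat_lit
    7615491)) (.leaf (nat_lit 36467974))) (.node (.leaf (nat_lit 22299908)) (.leaf (nat_lit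
    15900928))))) (.node (.node (.node (.leaf (nat_lit 4727811)) (.leaf (nat_lit 25231362))) (.node
    (.leaf (nat_lit 14846211)) (.leaf (nat_lit 12877575)))) (.node (.node (.leaf (nat_lit
    10755590)) (.leaf (nat_lit 22743553))) (.node (.leaf (nat_lit 25085955)) (.leaf (nat_lit
    4243712)))))) (.node (.node (.node (.node (.node (.leaf (nat_lit 2758151)) (.leaf (nat_lit
    11954181))) (.leaf (nat_lit 32270340))) (.node (.leaf (nat_lit 16527622)) (.leaf (nat_lit
    36240897)))) (.node (.node (.leaf (nat_lit 4998145)) (.leaf (nat_lit 38829314))) (.node (.leaf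
    (nat_lit 23901959)) (.leaf (nat_lit 13149440))))) (.node (.node (.node (.leaf (nat_lit
    6427137)) (.leaf (nat_lit 14747392))) (.node (.leaf (nat_lit 8689665)) (.leaf (nat_lit
    16676355)))) (.node (.node (.leaf (nat_lit 7364866)) (.leaf (nat_lit 18534145))) (.node (.leaf
    (nat_lit 27571969)) (.leaf (nat_lit 18400256))))))))) (.node (.node (.node (.node (.node (.node
    (.node (.node (.leaf (nat_lit 131331)) (.leaf (nat_lit 9452295))) (.leaf (nat_lit 25747459)))
    (.node (.leaf (nat_lit 13248516)) (.leaf (nat_lit 40317959)))) (.node (.node (.leaf (nat_lit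
    2634496)) (.leaf (nat_lit 30608131))) (.node (.leaf (nat_lit 20856583)) (.leaf (nat_lit
    17869319))))) (.node (.node (.node (.leaf (nat_lit 3545861)) (.leaf (nat_lit 32795140))) (.node
    (.leaf (nat_lit 17315842)) (.leaf (nat_lit 6482944)))) (.node (.node (.leaf (nat_lit 9455877))
    (.leaf (nat_lit 31534596))) (.node (.leaf (nat_lit 19185668)) (.leaf (nat_lit 8550662))))))
    (.node (.node (.node (.node (.node (.leaf (nat_lit 1836037)) (.leaf (nat_lit 12109056))) (.leaf
    (nat_lit 31614470))) (.node (.leaf (nat_lit 9728514)) (.leaf (nat_lit 41235459)))) (.node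
    (.node (.leaf (nat_lit 5118467)) (.leaf (nat_lit 36772099))) (.node (.leaf (nat_lit 22824455))
    (.leaf (nat_lit 19700992))))) (.node (.node (.node (.leaf (nat_lit 5377796)) (.leaf (nat_lit
    29033217))) (.node (.leaf (nat_lit 18757639)) (.leaf (nat_lit 17199363)))) (.node (.node (.leaf
    (nat_lit 11804933)) (.leaf (nat_lit 40273158))) (.node (.leaf (nat_lit 27185157)) (.leaf
    (nat_lit 21535746))))))) (.node (.node (.node (.node (.node (.node (.leaf (nat_lit 919557))
    (.leaf (nat_lit 22332935))) (.leaf (nat_lit 30826759))) (.node (.leaf (nat_lit 13789703))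
    (.leaf (nat_lit 41060358)))) (.node (.node (.leaf (nat_lit 7485955)) (.leaf (nat_lit
    35943425))) (.node (.leaf (nat_lit 21776391)) (.leaf (nat_lit 7225862))))) (.node (.node (.node
    (.leaf (nat_lit 4203010)) (.leaf (nat_lit 33451009))) (.node (.leaf (nat_lit 14977027)) (.leaf
    (nat_lit 7008256)))) (.node (.node (.leaf (nat_lit 10506501)) (.leaf (nat_lit 21292804)))
    (.node (.leaf (nat_lit 26104578)) (.leaf (nat_lit 11692288)))))) (.node (.node (.node (.node
    (.node (.leaf (nat_lit 2495495)) (.leaf (nat_lit 16300544))) (.leaf (nat_lit 32007940))) (.node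
    (.leaf (nat_lit 16134146)) (.leaf (nat_lit 27816708)))) (.node (.node (.leaf (nat_lit 3162112))
    (.leaf (nat_lit 38435844))) (.node (.leaf (nat_lit 17216773)) (.leaf (nat_lit 36611846)))))
    (.node (.node (.node (.leaf (nat_lit 6164740)) (.leaf (nat_lit 34500099))) (.node (.leaf
    (nat_lit 19962117)) (.leaf (nat_lit 13266432)))) (.node (.node (.leaf (nat_lit 12591879))
    (.leaf (nat_lit 40303361))) (.node (.leaf (nat_lit 26794498)) (.leaf (nat_lit 5396743))))))))
    (.node (.node (.node (.node (.node (.node (.node (.leaf (nat_lit 525059)) (.leaf (nat_lit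
    29166848))) (.leaf (nat_lit 30039300))) (.node (.leaf (nat_lit 5662210)) (.leaf (nat_lit
    40666628)))) (.node (.node (.leaf (nat_lit 7213828)) (.leaf (nat_lit 35327237))) (.node (.leaf
    (nat_lit 19178499)) (.leaf (nat_lit 17859329))))) (.node (.node (.node (.leaf (nat_lit
    4197125)) (.leaf (nat_lit 33057537))) (.node (.leaf (nat_lit 6320385)) (.leaf (nat_lit
    7242498)))) (.node (.node (.leaf (nat_lit 10099973)) (.leaf (nat_lit 40010244))) (.node (.leaf
    (nat_lit 10375939)) (.leaf (nat_lit 11805191)))))) (.node (.node (.node (.node (.node (.leaf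
    (nat_lit 1970183)) (.leaf (nat_lit 18376449))) (.leaf (nat_lit 26657025))) (.node (.leaf
    (nat_lit 15365633)) (.leaf (nat_lit 37167879)))) (.node (.node (.leaf (nat_lit 8656389)) (.leaf
    (nat_lit 37517825))) (.node (.leaf (nat_lit 23349510)) (.leaf (nat_lit 10508032))))) (.node
    (.node (.node (.leaf (nat_lit 5771269)) (.leaf (nat_lit 16941827))) (.node (.leaf (nat_lit
    19545095)) (.leaf (nat_lit 18391808)))) (.node (.node (.leaf (nat_lit 11936006)) (.leaf
    (nat_lit 37918466))) (.node (.leaf (nat_lit 28203011)) (.leaf (nat_lit 19686151))))))) (.node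
    (.node (.node (.node (.node (.node (.leaf (nat_lit 788737)) (.leaf (nat_lit 13551872))) (.leaf
    (nat_lit 22474246))) (.node (.leaf (nat_lit 14315015)) (.leaf (nat_lit 39096833)))) (.node
    (.node (.leaf (nat_lit 5126913)) (.leaf (nat_lit 36509447))) (.node (.leaf (nat_lit 22430981))
    (.leaf (nat_lit 6335744))))) (.node (.node (.node (.leaf (nat_lit 4984326)) (.leaf (nat_lit
    21561602))) (.node (.leaf (nat_lit 18101766)) (.leaf (nat_lit 6053120)))) (.node (.node (.leaf
    (nat_lit 11149063)) (.leaf (nat_lit 21029636))) (.node (.leaf (nat_lit 26395650)) (.leaf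
    (nat_lit 7909888)))))) (.node (.node (.node (.node (.leaf (nat_lit 3020807)) (.leaf (nat_lit
    13948672))) (.node (.leaf (nat_lit 16921095)) (.leaf (nat_lit 32446976)))) (.node (.node (.leaf
    (nat_lit 9181188)) (.leaf (nat_lit 17246977))) (.node (.leaf (nat_lit 12105986)) (.leaf
    (nat_lit 9474816))))) (.node (.node (.node (.leaf (nat_lit 6558212)) (.leaf (nat_lit
    29821187))) (.node (.leaf (nat_lit 20093955)) (.leaf (nat_lit 20525824)))) (.node (.node (.leaf
    (nat_lit 9724419)) (.leaf (nat_lit 26814468))) (.node (.leaf (nat_lit 19062021)) (.leaf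
    (nat_lit 10427392)))))))))) (.node (.node (.node (.node (.node (.node (.node (.node (.node
    (.leaf (nat_lit 4)) (.leaf (nat_lit 8146182))) (.leaf (nat_lit 26264833))) (.node (.leaf
    (nat_lit 13001731)) (.leaf (nat_lit 28348162)))) (.node (.node (.leaf (nat_lit 4863233)) (.leaf
    (nat_lit 35024645))) (.node (.leaf (nat_lit 20603655)) (.leaf (nat_lit 10646272))))) (.node
    (.node (.node (.leaf (nat_lit 3541510)) (.leaf (nat_lit 26802435))) (.node (.leaf (nat_lit
    15500291)) (.leaf (nat_lit 7417088)))) (.node (.node (.leaf (nat_lit 9324546)) (.leaf (nat_lit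
    30354692))) (.node (.leaf (nat_lit 25054981)) (.leaf (nat_lit 16270855)))))) (.node (.node
    (.node (.node (.node (.leaf (nat_lit 1314051)) (.leaf (nat_lit 20110855))) (.leaf (nat_lit
    16707588))) (.node (.leaf (nat_lit 14953733)) (.leaf (nat_lit 38478595)))) (.node (.node (.leaf
    (nat_lit 8010501)) (.leaf (nat_lit 35944194))) (.node (.leaf (nat_lit 22693382)) (.leaf
    (nat_lit 17472519))))) (.node (.node (.node (.leaf (nat_lit 3942403)) (.leaf (nat_lit
    33975553))) (.node (.leaf (nat_lit 18626566)) (.leaf (nat_lit 30705666)))) (.node (.node (.leaf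
    (nat_lit 11673860)) (.leaf (nat_lit 22360582))) (.node (.leaf (nat_lit 27153668)) (.leaf
    (nat_lit 21926402))))))) (.node (.node (.node (.node (.node (.node (.leaf (nat_lit 788226))
    (.leaf (nat_lit 17876486))) (.leaf (nat_lit 30695173))) (.node (.leaf (nat_lit 11036931))
    (.leaf (nat_lit 40929028)))) (.node (.node (.leaf (nat_lit 7607298)) (.leaf (nat_lit
    35812101))) (.node (.leaf (nat_lit 13018882)) (.leaf (nat_lit 6972679))))) (.node (.node (.node
    (.leaf (nat_lit 4329218)) (.leaf (nat_lit 33319684))) (.node (.leaf (nat_lit 17598215)) (.leaf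
    (nat_lit 12857606)))) (.node (.node (.leaf (nat_lit 10493444)) (.leaf (nat_lit 34123524)))
    (.node (.leaf (nat_lit 25978626)) (.leaf (nat_lit 8558082)))))) (.node (.node (.node (.node
    (.node (.leaf (nat_lit 2495235)) (.leaf (nat_lit 13521669))) (.leaf (nat_lit 24703747))) (.node
    (.leaf (nat_lit 15871750)) (.leaf (nat_lit 11473152)))) (.node (.node (.leaf (nat_lit 7870212))
    (.leaf (nat_lit 38173697))) (.node (.leaf (nat_lit 23638787)) (.leaf (nat_lit 15378183)))))
    (.node (.node (.node (.leaf (nat_lit 6033666)) (.leaf (nat_lit 30082563))) (.node (.leaf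
    (nat_lit 19938820)) (.leaf (nat_lit 12726790)))) (.node (.node (.leaf (nat_lit 12213767))
    (.leaf (nat_lit 19846404))) (.node (.leaf (nat_lit 21551621)) (.leaf (nat_lit 8268295))))))))
    (.node (.node (.node (.node (.node (.node (.node (.leaf (nat_lit 263170)) (.leaf (nat_lit
    20497159))) (.leaf (nat_lit 25486081))) (.node (.leaf (nat_lit 10511875)) (.leaf (nat_lit
    40535553)))) (.node (.node (.leaf (nat_lit 5912067)) (.leaf (nat_lit 35287559))) (.node (.leaf
    (nat_lit 21275399)) (.leaf (nat_lit 4623104))))) (.node (.node (.node (.leaf (nat_lit 2104834))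
    (.leaf (nat_lit 32926213))) (.node (.leaf (nat_lit 12748034)) (.leaf (nat_lit 14844160))))
    (.node (.node (.leaf (nat_lit 9718533)) (.leaf (nat_lit 25505796))) (.node (.leaf (nat_lit
    12108545)) (.leaf (nat_lit 9187335)))))) (.node (.node (.node (.node (.node (.leaf (nat_lit
    1969923)) (.leaf (nat_lit 16301572))) (.leaf (nat_lit 31650311))) (.node (.leaf (nat_lit
    15365637)) (.leaf (nat_lit 38607876)))) (.node (.node (.leaf (nat_lit 8394243)) (.leaf (nat_lit
    37255426))) (.node (.leaf (nat_lit 23218182)) (.leaf (nat_lit 5918983))))) (.node (.node (.node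
    (.leaf (nat_lit 5516034)) (.leaf (nat_lit 23790594))) (.node (.leaf (nat_lit 19174151)) (.leaf
    (nat_lit 14452224)))) (.node (.node (.leaf (nat_lit 9983488)) (.leaf (nat_lit 33497600)))
    (.node (.leaf (nat_lit 27940865)) (.leaf (nat_lit 13380102))))))) (.node (.node (.node (.node
    (.node (.node (.leaf (nat_lit 920066)) (.leaf (nat_lit 24188672))) (.leaf (nat_lit 20638982)))
    (.node (.leaf (nat_lit 12217603)) (.leaf (nat_lit 18557184)))) (.node (.node (.leaf (nat_lit
    2636293)) (.leaf (nat_lit 19207685))) (.node (.leaf (nat_lit 20621826)) (.leaf (nat_lit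
    8935424))))) (.node (.node (.node (.leaf (nat_lit 4852999)) (.leaf (nat_lit 33713156))) (.node
    (.leaf (nat_lit 7244034)) (.leaf (nat_lit 17189382)))) (.node (.node (.leaf (nat_lit 10769159))
    (.leaf (nat_lit 34778372))) (.node (.leaf (nat_lit 26265861)) (.leaf (nat_lit 9606400))))))
    (.node (.node (.node (.node (.node (.leaf (nat_lit 3020547)) (.leaf (nat_lit 10255365))) (.leaf
    (nat_lit 32401665))) (.node (.leaf (nat_lit 16547591)) (.leaf (nat_lit 33232128)))) (.node
    (.node (.leaf (nat_lit 3294466)) (.leaf (nat_lit 39091460))) (.node (.leaf (nat_lit 10401793))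
    (.leaf (nat_lit 11709440))))) (.node (.node (.node (.leaf (nat_lit 3551746)) (.leaf (nat_lit
    34762498))) (.node (.leaf (nat_lit 20332039)) (.leaf (nat_lit 16675329)))) (.node (.node (.leaf
    (nat_lit 12854533)) (.leaf (nat_lit 32974592))) (.node (.leaf (nat_lit 28989959)) (.leaf
    (nat_lit 26032640))))))))) (.node (.node (.node (.node (.node (.node (.node (.node (.leaf
    (nat_lit 131591)) (.leaf (nat_lit 10778881))) (.leaf (nat_lit 29417730))) (.node (.leaf
    (nat_lit 10118402)) (.leaf (nat_lit 40449029)))) (.node (.node (.leaf (nat_lit 6427653)) (.leaf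
    (nat_lit 17107714))) (.node (.leaf (nat_lit 21119239)) (.leaf (nat_lit 21539584))))) (.node
    (.node (.node (.leaf (nat_lit 3546119)) (.leaf (nat_lit 19724802))) (.node (.leaf (nat_lit
    17446149)) (.leaf (nat_lit 9732608)))) (.node (.node (.leaf (nat_lit 9586178)) (.leaf (nat_lit
    39747841))) (.node (.leaf (nat_lit 25215239)) (.leaf (nat_lit 4237312)))))) (.node (.node
    (.node (.node (.node (.leaf (nat_lit 1183235)) (.leaf (nat_lit 10941440))) (.leaf (nat_lit
    19722501))) (.node (.leaf (nat_lit 15215879)) (.leaf (nat_lit 16325889)))) (.node (.node (.leaf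
    (nat_lit 8263170)) (.leaf (nat_lit 17730307))) (.node (.leaf (nat_lit 22955782)) (.leaf
    (nat_lit 8531719))))) (.node (.node (.node (.leaf (nat_lit 5384709)) (.leaf (nat_lit
    19037955))) (.node (.leaf (nat_lit 16814083)) (.leaf (nat_lit 17230336)))) (.node (.node (.leaf
    (nat_lit 9984515)) (.leaf (nat_lit 31666949))) (.node (.leaf (nat_lit 27547394)) (.leaf
    (nat_lit 13124359))))))) (.node (.node (.node (.node (.node (.node (.leaf (nat_lit 1049858))
    (.leaf (nat_lit 16301824))) (.leaf (nat_lit 30958087))) (.node (.leaf (nat_lit 11430659))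
    (.leaf (nat_lit 21575940)))) (.node (.node (.leaf (nat_lit 2634754)) (.leaf (nat_lit
    36205572))) (.node (.leaf (nat_lit 22037510)) (.leaf (nat_lit 9207040))))) (.node (.node (.node
    (.leaf (nat_lit 4465413)) (.leaf (nat_lit 23920385))) (.node (.leaf (nat_lit 17970693)) (.leaf
    (nat_lit 15010560)))) (.node (.node (.leaf (nat_lit 10506497)) (.leaf (nat_lit 34254594)))
    (.node (.leaf (nat_lit 11978498)) (.leaf (nat_lit 10820352)))))) (.node (.node (.node (.node
    (.node (.leaf (nat_lit 2757891)) (.leaf (nat_lit 12094468))) (.leaf (nat_lit 25097218))) (.node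
    (.leaf (nat_lit 16396295)) (.leaf (nat_lit 14104064)))) (.node (.node (.leaf (nat_lit 7881477))
    (.leaf (nat_lit 38479365))) (.node (.leaf (nat_lit 19445252)) (.leaf (nat_lit 20513024)))))
    (.node (.node (.node (.leaf (nat_lit 6172677)) (.leaf (nat_lit 29952003))) (.node (.leaf
    (nat_lit 19962113)) (.leaf (nat_lit 16659716)))) (.node (.node (.leaf (nat_lit 12723460))
    (.leaf (nat_lit 16056834))) (.node (.leaf (nat_lit 28629767)) (.leaf (nat_lit 25637888))))))))
    (.node (.node (.node (.node (.node (.node (.node (.leaf (nat_lit 786693)) (.leaf (nat_lit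
    26381314))) (.leaf (nat_lit 30074373))) (.node (.leaf (nat_lit 10249987)) (.leaf (nat_lit
    36386306)))) (.node (.node (.leaf (nat_lit 7223301)) (.leaf (nat_lit 15273473))) (.node (.leaf
    (nat_lit 21538055)) (.leaf (nat_lit 15481351))))) (.node (.node (.node (.leaf (nat_lit
    4071427)) (.leaf (nat_lit 14208512))) (.node (.leaf (nat_lit 14835974)) (.leaf (nat_lit
    6974720)))) (.node (.node (.leaf (nat_lit 4476162)) (.leaf (nat_lit 39660545))) (.node (.leaf
    (nat_lit 25711108)) (.leaf (nat_lit 13410048)))))) (.node (.node (.node (.node (.node (.leaf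
    (nat_lit 2232579)) (.leaf (nat_lit 18407936))) (.leaf (nat_lit 27446019))) (.node (.leaf
    (nat_lit 12875009)) (.leaf (nat_lit 27861766)))) (.node (.node (.leaf (nat_lit 8787713)) (.leaf
    (nat_lit 37779971))) (.node (.leaf (nat_lit 23480839)) (.leaf (nat_lit 19437568))))) (.node
    (.node (.node (.leaf (nat_lit 4467715)) (.leaf (nat_lit 30576642))) (.node (.leaf (nat_lit
    19676422)) (.leaf (nat_lit 8550912)))) (.node (.node (.leaf (nat_lit 12067079)) (.leaf (nat_lit
    28481281))) (.node (.leaf (nat_lit 28465157)) (.leaf (nat_lit 8933382))))))) (.node (.node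
    (.node (.node (.node (.node (.leaf (nat_lit 1444611)) (.leaf (nat_lit 11958532))) (.leaf
    (nat_lit 31483143))) (.node (.leaf (nat_lit 12480259)) (.leaf (nat_lit 41105927)))) (.node
    (.node (.leaf (nat_lit 3423234)) (.leaf (nat_lit 36730625))) (.node (.leaf (nat_lit 20491009))
    (.leaf (nat_lit 13249287))))) (.node (.node (.node (.leaf (nat_lit 5115399)) (.leaf (nat_lit
    33727746))) (.node (.leaf (nat_lit 18232839)) (.leaf (nat_lit 17184261)))) (.node (.node (.leaf
    (nat_lit 11280386)) (.leaf (nat_lit 40141573))) (.node (.leaf (nat_lit 26629122)) (.leaf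
    (nat_lit 19414532)))))) (.node (.node (.node (.node (.leaf (nat_lit 3283203)) (.leaf (nat_lit
    32532993))) (.node (.leaf (nat_lit 16548355)) (.leaf (nat_lit 7285504)))) (.node (.node (.leaf
    (nat_lit 9312261)) (.leaf (nat_lit 39353861))) (.node (.leaf (nat_lit 24530437)) (.leaf
    (nat_lit 4606982))))) (.node (.node (.node (.leaf (nat_lit 6435589)) (.leaf (nat_lit
    29916676))) (.node (.leaf (nat_lit 20594437)) (.leaf (nat_lit 4487168)))) (.node (.node (.leaf
    (nat_lit 12985860)) (.leaf (nat_lit 28123140))) (.node (.leaf (nat_lit 24174083)) (.leaf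
    (nat_lit 19437825))))))))))) (.node (.node (.node (.node (.node (.node (.node (.node (.node
    (.node (.leaf (nat_lit 3)) (.leaf (nat_lit 9583623))) (.leaf (nat_lit 25878275))) (.node (.leaf
    (nat_lit 13001733)) (.leaf (nat_lit 16027395)))) (.node (.node (.leaf (nat_lit 6951681)) (.leaf
    (nat_lit 30738947))) (.node (.leaf (nat_lit 8559874)) (.leaf (nat_lit 11820544))))) (.node
    (.node (.node (.leaf (nat_lit 3414532)) (.leaf (nat_lit 32664066))) (.node (.leaf (nat_lit
    17315076)) (.leaf (nat_lit 2556928)))) (.node (.node (.leaf (nat_lit 9443588)) (.leaf (nat_lit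
    16854273))) (.node (.leaf (nat_lit 24923908)) (.leaf (nat_lit 27300868)))))) (.node (.node
    (.node (.node (.node (.leaf (nat_lit 1704964)) (.leaf (nat_lit 29154821))) (.leaf (nat_lit
    30339074))) (.node (.leaf (nat_lit 14822660)) (.leaf (nat_lit 38341889)))) (.node (.node (.leaf
    (nat_lit 7738629)) (.leaf (nat_lit 15235075))) (.node (.leaf (nat_lit 22562055)) (.leaf
    (nat_lit 5796864))))) (.node (.node (.node (.leaf (nat_lit 5246721)) (.leaf (nat_lit
    27197955))) (.node (.leaf (nat_lit 18495239)) (.leaf (nat_lit 15020032)))) (.node (.node (.leaf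
    (nat_lit 11425799)) (.leaf (nat_lit 30749186))) (.node (.leaf (nat_lit 27022595)) (.leaf
    (nat_lit 21926404))))))) (.node (.node (.node (.node (.node (.node (.leaf (nat_lit 918020))
    (.leaf (nat_lit 11959298))) (.leaf (nat_lit 30564100))) (.node (.leaf (nat_lit 13773062))
    (.leaf (nat_lit 40834050)))) (.node (.node (.leaf (nat_lit 3553537)) (.leaf (nat_lit
    35681028))) (.node (.leaf (nat_lit 21800709)) (.leaf (nat_lit 5820672))))) (.node (.node (.node
    (.leaf (nat_lit 2100227)) (.leaf (nat_lit 32439555))) (.node (.leaf (nat_lit 17708295)) (.leaf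
    (nat_lit 18657280)))) (.node (.node (.leaf (nat_lit 10243847)) (.leaf (nat_lit 30712321)))
    (.node (.leaf (nat_lit 25609731)) (.leaf (nat_lit 20485637)))))) (.node (.node (.node (.node
    (.node (.leaf (nat_lit 2491910)) (.leaf (nat_lit 18635777))) (.leaf (nat_lit 31876865))) (.node
    (.leaf (nat_lit 15628295)) (.leaf (nat_lit 15127296)))) (.node (.node (.leaf (nat_lit 8001282))
    (.leaf (nat_lit 37954053))) (.node (.leaf (nat_lit 15512583)) (.leaf (nat_lit 19451648)))))
    (.node (.node (.node (.leaf (nat_lit 3681537)) (.leaf (nat_lit 34368773))) (.node (.leaf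
    (nat_lit 19699463)) (.leaf (nat_lit 16297472)))) (.node (.node (.leaf (nat_lit 12329479))
    (.leaf (nat_lit 19319812))) (.node (.leaf (nat_lit 25221635)) (.leaf (nat_lit 8283654))))))))
    (.node (.node (.node (.node (.node (.node (.node (.leaf (nat_lit 524546)) (.leaf (nat_lit
    25608965))) (.leaf (nat_lit 29777153))) (.node (.leaf (nat_lit 13264389)) (.leaf (nat_lit
    18422532)))) (.node (.node (.leaf (nat_lit 7082754)) (.leaf (nat_lit 23923716))) (.node (.leaf
    (nat_lit 21381639)) (.leaf (nat_lit 41200134))))) (.node (.node (.node (.leaf (nat_lit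
    3934978)) (.leaf (nat_lit 32675076))) (.node (.leaf (nat_lit 16155905)) (.leaf (nat_lit
    17904128)))) (.node (.node (.leaf (nat_lit 9837573)) (.leaf (nat_lit 39878916))) (.node (.leaf
    (nat_lit 25580033)) (.leaf (nat_lit 22346240)))))) (.node (.node (.node (.node (.node (.leaf
    (nat_lit 1967110)) (.leaf (nat_lit 21936135))) (.leaf (nat_lit 31745543))) (.node (.leaf
    (nat_lit 15478277)) (.leaf (nat_lit 16325637)))) (.node (.node (.leaf (nat_lit 3292673)) (.leaf
    (nat_lit 37124353))) (.node (.leaf (nat_lit 22982663)) (.leaf (nat_lit 6052359))))) (.node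
    (.node (.node (.leaf (nat_lit 4598531)) (.leaf (nat_lit 30344195))) (.node (.leaf (nat_lit
    19282695)) (.leaf (nat_lit 5670656)))) (.node (.node (.leaf (nat_lit 11674370)) (.leaf (nat_lit
    19472642))) (.node (.leaf (nat_lit 27710469)) (.leaf (nat_lit 10114048))))))) (.node (.node
    (.node (.node (.node (.node (.leaf (nat_lit 1182213)) (.leaf (nat_lit 15879937))) (.leaf
    (nat_lit 31089414))) (.node (.leaf (nat_lit 14297862)) (.leaf (nat_lit 41101314)))) (.node
    (.node (.leaf (nat_lit 6437380)) (.leaf (nat_lit 25236996))) (.node (.leaf (nat_lit 21932547))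
    (.leaf (nat_lit 13180672))))) (.node (.node (.node (.leaf (nat_lit 4727812)) (.leaf (nat_lit
    27983875))) (.node (.leaf (nat_lit 17860865)) (.leaf (nat_lit 17509888)))) (.node (.node (.leaf
    (nat_lit 10886663)) (.leaf (nat_lit 40017922))) (.node (.leaf (nat_lit 26366725)) (.leaf
    (nat_lit 20107264)))))) (.node (.node (.node (.node (.node (.leaf (nat_lit 3016710)) (.leaf
    (nat_lit 10243844))) (.leaf (nat_lit 29685251))) (.node (.leaf (nat_lit 16658695)) (.leaf
    (nat_lit 17591045)))) (.node (.node (.leaf (nat_lit 9050114)) (.leaf (nat_lit 38960387)))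
    (.node (.leaf (nat_lit 24137217)) (.leaf (nat_lit 8842752))))) (.node (.node (.node (.leaf
    (nat_lit 6558210)) (.leaf (nat_lit 14446595))) (.node (.leaf (nat_lit 20200966)) (.leaf
    (nat_lit 5926656)))) (.node (.node (.leaf (nat_lit 6179585)) (.leaf (nat_lit 28385282))) (.node
    (.leaf (nat_lit 28858886)) (.leaf (nat_lit 16303872))))))))) (.node (.node (.node (.node (.node
    (.node (.node (.node (.leaf (nat_lit 262151)) (.leaf (nat_lit 4082951))) (.leaf (nat_lit
    29514756))) (.node (.leaf (nat_lit 10642691)) (.leaf (nat_lit 37172226)))) (.node (.node (.leaf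
    (nat_lit 2364419)) (.leaf (nat_lit 35028738))) (.node (.leaf (nat_lit 20988166)) (.leaf
    (nat_lit 21960192))))) (.node (.node (.node (.leaf (nat_lit 3672583)) (.leaf (nat_lit
    28506627))) (.node (.leaf (nat_lit 17326598)) (.leaf (nat_lit 16679936)))) (.node (.node (.leaf
    (nat_lit 9455875)) (.leaf (nat_lit 20524550))) (.node (.leaf (nat_lit 25317383)) (.leaf
    (nat_lit 13014784)))))) (.node (.node (.node (.node (.node (.leaf (nat_lit 1707525)) (.leaf
    (nat_lit 10386436))) (.leaf (nat_lit 23916803))) (.node (.leaf (nat_lit 15084806)) (.leaf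
    (nat_lit 37430272)))) (.node (.node (.leaf (nat_lit 8132097)) (.leaf (nat_lit 36865538)))
    (.node (.leaf (nat_lit 22720007)) (.leaf (nat_lit 40410118))))) (.node (.node (.node (.leaf
    (nat_lit 5508869)) (.leaf (nat_lit 31513859))) (.node (.leaf (nat_lit 18889222)) (.leaf
    (nat_lit 7102208)))) (.node (.node (.leaf (nat_lit 11688453)) (.leaf (nat_lit 35205891)))
    (.node (.leaf (nat_lit 27416321)) (.leaf (nat_lit 21521415))))))) (.node (.node (.node (.node
    (.node (.node (.leaf (nat_lit 919555)) (.leaf (nat_lit 10915333))) (.leaf (nat_lit 14871303)))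
    (.node (.leaf (nat_lit 14035462)) (.leaf (nat_lit 36518147)))) (.node (.node (.leaf (nat_lit
    6830336)) (.leaf (nat_lit 36074499))) (.node (.leaf (nat_lit 21776130)) (.leaf (nat_lit
    19975936))))) (.node (.node (.node (.leaf (nat_lit 4590597)) (.leaf (nat_lit 28114691))) (.node
    (.leaf (nat_lit 17844994)) (.leaf (nat_lit 15503616)))) (.node (.node (.leaf (nat_lit 4083970))
    (.leaf (nat_lit 39494148))) (.node (.leaf (nat_lit 24299267)) (.leaf (nat_lit 4110080))))))
    (.node (.node (.node (.node (.node (.leaf (nat_lit 2754310)) (.leaf (nat_lit 13536772))) (.leaf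
    (nat_lit 24572931))) (.node (.leaf (nat_lit 16265222)) (.leaf (nat_lit 15095556)))) (.node
    (.node (.leaf (nat_lit 2889731)) (.leaf (nat_lit 38566917))) (.node (.leaf (nat_lit 23874822))
    (.leaf (nat_lit 22324229))))) (.node (.node (.node (.leaf (nat_lit 6295813)) (.leaf (nat_lit
    34631425))) (.node (.leaf (nat_lit 9476354)) (.leaf (nat_lit 5697280)))) (.node (.node (.leaf
    (nat_lit 12476423)) (.leaf (nat_lit 33889792))) (.node (.leaf (nat_lit 28727559)) (.leaf
    (nat_lit 15907840)))))))) (.node (.node (.node (.node (.node (.node (.node (.leaf (nat_lit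
    655620)) (.leaf (nat_lit 10783749))) (.leaf (nat_lit 30170373))) (.node (.leaf (nat_lit
    13510662)) (.leaf (nat_lit 35862019)))) (.node (.node (.leaf (nat_lit 7344901)) (.leaf (nat_lit
    35418881))) (.node (.leaf (nat_lit 21644039)) (.leaf (nat_lit 9845254))))) (.node (.node (.node
    (.leaf (nat_lit 4071429)) (.leaf (nat_lit 25361409))) (.node (.leaf (nat_lit 17461506)) (.leaf
    (nat_lit 6861568)))) (.node (.node (.leaf (nat_lit 9981189)) (.leaf (nat_lit 39399683))) (.node
    (.leaf (nat_lit 24662530)) (.leaf (nat_lit 5909510)))))) (.node (.node (.node (.node (.node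
    (.leaf (nat_lit 2229510)) (.leaf (nat_lit 18674944))) (.leaf (nat_lit 31775491))) (.node (.leaf
    (nat_lit 15485702)) (.leaf (nat_lit 37147654)))) (.node (.node (.leaf (nat_lit 8536581)) (.leaf
    (nat_lit 37648898))) (.node (.leaf (nat_lit 19968518)) (.leaf (nat_lit 14981383))))) (.node
    (.node (.node (.leaf (nat_lit 5647365)) (.leaf (nat_lit 17230082))) (.node (.leaf (nat_lit
    19436807)) (.leaf (nat_lit 7358214)))) (.node (.node (.leaf (nat_lit 10771203)) (.leaf (nat_lit
    21665539))) (.node (.leaf (nat_lit 28334084)) (.leaf (nat_lit 8921095))))))) (.node (.node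
    (.node (.node (.node (.node (.leaf (nat_lit 1442566)) (.leaf (nat_lit 13667329))) (.leaf
    (nat_lit 31352070))) (.node (.leaf (nat_lit 14560262)) (.leaf (nat_lit 41191431)))) (.node
    (.node (.leaf (nat_lit 7869698)) (.leaf (nat_lit 36640516))) (.node (.leaf (nat_lit 22326021))
    (.leaf (nat_lit 10645504))))) (.node (.node (.node (.leaf (nat_lit 4990467)) (.leaf (nat_lit
    19451905))) (.node (.leaf (nat_lit 15632899)) (.leaf (nat_lit 9996800)))) (.node (.node (.leaf
    (nat_lit 11031815)) (.leaf (nat_lit 39755780))) (.node (.leaf (nat_lit 26498049)) (.leaf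
    (nat_lit 10132224)))))) (.node (.node (.node (.node (.leaf (nat_lit 3279110)) (.leaf (nat_lit
    11561475))) (.node (.leaf (nat_lit 17052678)) (.leaf (nat_lit 15791877)))) (.node (.node (.leaf
    (nat_lit 8668675)) (.leaf (nat_lit 34155269))) (.node (.leaf (nat_lit 24399364)) (.leaf
    (nat_lit 7086854))))) (.node (.node (.node (.leaf (nat_lit 6689283)) (.leaf (nat_lit
    16573697))) (.node (.leaf (nat_lit 20472834)) (.leaf (nat_lit 6201344)))) (.node (.node (.leaf
    (nat_lit 12859138)) (.leaf (nat_lit 38834948))) (.node (.leaf (nat_lit 29121282)) (.leaf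
    (nat_lit 10493958)))))))))) (.node (.node (.node (.node (.node (.node (.node (.node (.node
    (.leaf (nat_lit 131078)) (.leaf (nat_lit 8134407))) (.leaf (nat_lit 29383429))) (.node (.leaf
    (nat_lit 13123842)) (.leaf (nat_lit 40404231)))) (.node (.node (.leaf (nat_lit 6042883)) (.leaf
    (nat_lit 34933509))) (.node (.leaf (nat_lit 20725510)) (.leaf (nat_lit 20122624))))) (.node
    (.node (.node (.leaf (nat_lit 3545859)) (.leaf (nat_lit 23918850))) (.node (.leaf (nat_lit
    17330689)) (.leaf (nat_lit 7384832)))) (.node (.node (.leaf (nat_lit 9574661)) (.leaf (nat_lit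
    39616260))) (.node (.leaf (nat_lit 25186310)) (.leaf (nat_lit 9382400)))))) (.node (.node
    (.node (.node (.node (.leaf (nat_lit 1705986)) (.leaf (nat_lit 10259969))) (.leaf (nat_lit
    30458369))) (.node (.leaf (nat_lit 14840325)) (.leaf (nat_lit 38178309)))) (.node (.node (.leaf
    (nat_lit 8005377)) (.leaf (nat_lit 36861953))) (.node (.leaf (nat_lit 21015811)) (.leaf
    (nat_lit 8319232))))) (.node (.node (.node (.leaf (nat_lit 2107393)) (.leaf (nat_lit
    30475011))) (.node (.leaf (nat_lit 16289283)) (.leaf (nat_lit 22362368)))) (.node (.node (.leaf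
    (nat_lit 10115331)) (.leaf (nat_lit 21144323))) (.node (.leaf (nat_lit 27284741)) (.leaf
    (nat_lit 7778560))))))) (.node (.node (.node (.node (.node (.node (.leaf (nat_lit 1049093))
    (.leaf (nat_lit 26002948))) (.leaf (nat_lit 30599685))) (.node (.leaf (nat_lit 13904135))
    (.leaf (nat_lit 35862530)))) (.node (.node (.leaf (nat_lit 4733442)) (.leaf (nat_lit
    35721477))) (.node (.leaf (nat_lit 21800705)) (.leaf (nat_lit 13396736))))) (.node (.node
    (.node (.leaf (nat_lit 4459524)) (.leaf (nat_lit 27852291))) (.node (.leaf (nat_lit 17839620))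
    (.leaf (nat_lit 6613760)))) (.node (.node (.leaf (nat_lit 10624517)) (.leaf (nat_lit
    23014148))) (.node (.leaf (nat_lit 13655043)) (.leaf (nat_lit 8056064)))))) (.node (.node
    (.node (.node (.node (.leaf (nat_lit 2622983)) (.leaf (nat_lit 10402560))) (.leaf (nat_lit
    13693697))) (.node (.leaf (nat_lit 16002823)) (.leaf (nat_lit 33371904)))) (.node (.node (.leaf
    (nat_lit 8787717)) (.leaf (nat_lit 38304770))) (.node (.leaf (nat_lit 23743495)) (.leaf
    (nat_lit 19179008))))) (.node (.node (.node (.leaf (nat_lit 4861442)) (.leaf (nat_lit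
    34373890))) (.node (.leaf (nat_lit 20069893)) (.leaf (nat_lit 14823943)))) (.node (.node (.leaf
    (nat_lit 12460806)) (.leaf (nat_lit 27991812))) (.node (.leaf (nat_lit 28628482)) (.leaf
    (nat_lit 12991751)))))))) (.node (.node (.node (.node (.node (.node (.node (.leaf (nat_lit
    262659)) (.leaf (nat_lit 15917056))) (.leaf (nat_lit 29908226))) (.node (.leaf (nat_lit
    9987585)) (.leaf (nat_lit 17773825)))) (.node (.node (.leaf (nat_lit 3683842)) (.leaf (nat_lit
    35196167))) (.node (.leaf (nat_lit 21512966)) (.leaf (nat_lit 9986048))))) (.node (.node (.node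
    (.leaf (nat_lit 4066052)) (.leaf (nat_lit 28375811))) (.node (.leaf (nat_lit 14842624)) (.leaf
    (nat_lit 17885440)))) (.node (.node (.leaf (nat_lit 9968900)) (.leaf (nat_lit 20131846)))
    (.node (.leaf (nat_lit 10927360)) (.leaf (nat_lit 5787910)))))) (.node (.node (.node (.node
    (.node (.leaf (nat_lit 2098183)) (.leaf (nat_lit 10272256))) (.leaf (nat_lit 26538498))) (.node
    (.leaf (nat_lit 6190594)) (.leaf (nat_lit 38214659)))) (.node (.node (.leaf (nat_lit 8525316))
    (.leaf (nat_lit 37386500))) (.node (.leaf (nat_lit 21803270)) (.leaf (nat_lit 3986432)))))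
    (.node (.node (.node (.leaf (nat_lit 4072193)) (.leaf (nat_lit 23773699))) (.node (.leaf
    (nat_lit 19414022)) (.leaf (nat_lit 8686848)))) (.node (.node (.leaf (nat_lit 4213761)) (.leaf
    (nat_lit 16056068))) (.node (.leaf (nat_lit 28071938)) (.leaf (nat_lit 19154690))))))) (.node
    (.node (.node (.node (.node (.node (.leaf (nat_lit 1182209)) (.leaf (nat_lit 24978944))) (.leaf
    (nat_lit 31220742))) (.node (.leaf (nat_lit 14428935)) (.leaf (nat_lit 16420099)))) (.node
    (.node (.leaf (nat_lit 7738625)) (.leaf (nat_lit 36599047))) (.node (.leaf (nat_lit 22300930))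
    (.leaf (nat_lit 21944576))))) (.node (.node (.node (.leaf (nat_lit 4728071)) (.leaf (nat_lit
    27328771))) (.node (.leaf (nat_lit 17975814)) (.leaf (nat_lit 6369024)))) (.node (.node (.leaf
    (nat_lit 11017990)) (.leaf (nat_lit 23113219))) (.node (.leaf (nat_lit 24955139)) (.leaf
    (nat_lit 8688641)))))) (.node (.node (.node (.node (.node (.leaf (nat_lit 3147783)) (.leaf
    (nat_lit 13662469))) (.leaf (nat_lit 24049409))) (.node (.leaf (nat_lit 16790022)) (.leaf
    (nat_lit 17748229)))) (.node (.node (.leaf (nat_lit 8930563)) (.leaf (nat_lit 39222785)))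
    (.node (.leaf (nat_lit 24268290)) (.leaf (nat_lit 21513477))))) (.node (.node (.node (.leaf
    (nat_lit 6566147)) (.leaf (nat_lit 29034754))) (.node (.leaf (nat_lit 20463364)) (.leaf
    (nat_lit 16680197)))) (.node (.node (.leaf (nat_lit 12739077)) (.leaf (nat_lit 16448258)))
    (.node (.leaf (nat_lit 28892423)) (.leaf (nat_lit 18663424))))))))) (.node (.node (.node (.node
    (.node (.node (.node (.node (.leaf (nat_lit 393473)) (.leaf (nat_lit 18412288))) (.leaf
    (nat_lit 29645829))) (.node (.leaf (nat_lit 13249026)) (.leaf (nat_lit 37295873)))) (.node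
    (.node (.leaf (nat_lit 4856835)) (.leaf (nat_lit 35156486))) (.node (.leaf (nat_lit 21012743))
    (.leaf (nat_lit 9099776))))) (.node (.node (.node (.leaf (nat_lit 3803905)) (.leaf (nat_lit
    19192065))) (.node (.leaf (nat_lit 17335557)) (.leaf (nat_lit 15394048)))) (.node (.node (.leaf
    (nat_lit 9706500)) (.leaf (nat_lit 17116929))) (.node (.leaf (nat_lit 25448711)) (.leaf
    (nat_lit 10529024)))))) (.node (.node (.node (.node (.node (.leaf (nat_lit 1707521)) (.leaf
    (nat_lit 15382534))) (.leaf (nat_lit 31640834))) (.node (.leaf (nat_lit 15102983)) (.leaf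
    (nat_lit 35331330)))) (.node (.node (.leaf (nat_lit 4996866)) (.leaf (nat_lit 36993028)))
    (.node (.leaf (nat_lit 21278467)) (.leaf (nat_lit 6038022))))) (.node (.node (.node (.leaf
    (nat_lit 5384707)) (.leaf (nat_lit 30052609))) (.node (.leaf (nat_lit 19020295)) (.leaf
    (nat_lit 9712646)))) (.node (.node (.leaf (nat_lit 5396994)) (.leaf (nat_lit 19739396))) (.node
    (.leaf (nat_lit 27678468)) (.leaf (nat_lit 9066758))))))) (.node (.node (.node (.node (.node
    (.node (.leaf (nat_lit 1180420)) (.leaf (nat_lit 26381828))) (.leaf (nat_lit 17361927))) (.node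
    (.leaf (nat_lit 14166535)) (.leaf (nat_lit 28653829)))) (.node (.node (.leaf (nat_lit 3552257))
    (.leaf (nat_lit 36336645))) (.node (.leaf (nat_lit 22168583)) (.leaf (nat_lit 8686598)))))
    (.node (.node (.node (.leaf (nat_lit 4721926)) (.leaf (nat_lit 33582082))) (.node (.leaf
    (nat_lit 17860869)) (.leaf (nat_lit 7372545)))) (.node (.node (.leaf (nat_lit 5787649)) (.leaf
    (nat_lit 39912706))) (.node (.leaf (nat_lit 26235652)) (.leaf (nat_lit 10953472)))))) (.node
    (.node (.node (.node (.node (.leaf (nat_lit 2885383)) (.leaf (nat_lit 15922688))) (.leaf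
    (nat_lit 32139013))) (.node (.leaf (nat_lit 16284935)) (.leaf (nat_lit 27473920)))) (.node
    (.node (.leaf (nat_lit 8919041)) (.leaf (nat_lit 38698241))) (.node (.leaf (nat_lit 24005895))
    (.leaf (nat_lit 9217026))))) (.node (.node (.node (.leaf (nat_lit 6172675)) (.leaf (nat_lit
    23791617))) (.node (.leaf (nat_lit 19941639)) (.leaf (nat_lit 6085888)))) (.node (.node (.leaf
    (nat_lit 9855235)) (.leaf (nat_lit 27200513))) (.node (.leaf (nat_lit 27450114)) (.leaf
    (nat_lit 12000512)))))))) (.node (.node (.node (.node (.node (.node (.node (.leaf (nat_lit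
    656901)) (.leaf (nat_lit 10910721))) (.leaf (nat_lit 30301953))) (.node (.leaf (nat_lit
    13641735)) (.leaf (nat_lit 40797701)))) (.node (.node (.leaf (nat_lit 7223299)) (.leaf (nat_lit
    35549954))) (.node (.leaf (nat_lit 21775364)) (.leaf (nat_lit 6957830))))) (.node (.node (.node
    (.leaf (nat_lit 4328449)) (.leaf (nat_lit 11168771))) (.node (.leaf (nat_lit 17577222)) (.leaf
    (nat_lit 7250432)))) (.node (.node (.leaf (nat_lit 10231046)) (.leaf (nat_lit 34942465)))
    (.node (.leaf (nat_lit 25842181)) (.leaf (nat_lit 5545472)))))) (.node (.node (.node (.node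
    (.node (.leaf (nat_lit 2360583)) (.leaf (nat_lit 10771460))) (.leaf (nat_lit 27576835))) (.node
    (.leaf (nat_lit 15609350)) (.leaf (nat_lit 27857921)))) (.node (.node (.leaf (nat_lit 3425025))
    (.leaf (nat_lit 37911044))) (.node (.leaf (nat_lit 18002695)) (.leaf (nat_lit 8173056)))))
    (.node (.node (.node (.leaf (nat_lit 5777666)) (.leaf (nat_lit 34237700))) (.node (.leaf
    (nat_lit 19437059)) (.leaf (nat_lit 21813248)))) (.node (.node (.leaf (nat_lit 11951111))
    (.leaf (nat_lit 37656324))) (.node (.leaf (nat_lit 28367109)) (.leaf (nat_lit 5391622)))))))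
    (.node (.node (.node (.node (.node (.node (.leaf (nat_lit 1573639)) (.leaf (nat_lit 10805504)))
    (.leaf (nat_lit 31387655))) (.node (.leaf (nat_lit 14691335)) (.leaf (nat_lit 38222338))))
    (.node (.node (.leaf (nat_lit 8000772)) (.leaf (nat_lit 18290689))) (.node (.leaf (nat_lit
    9218818)) (.leaf (nat_lit 11826944))))) (.node (.node (.node (.leaf (nat_lit 4990727)) (.leaf
    (nat_lit 33596676))) (.node (.leaf (nat_lit 18364166)) (.leaf (nat_lit 5947904)))) (.node
    (.node (.leaf (nat_lit 11411462)) (.leaf (nat_lit 39924227))) (.node (.leaf (nat_lit 26760449))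
    (.leaf (nat_lit 4102656)))))) (.node (.node (.node (.node (.leaf (nat_lit 3410183)) (.leaf
    (nat_lit 26933251))) (.node (.leaf (nat_lit 17183751)) (.leaf (nat_lit 12877312)))) (.node
    (.node (.leaf (nat_lit 9193221)) (.leaf (nat_lit 39485185))) (.node (.leaf (nat_lit 24661761))
    (.leaf (nat_lit 4508416))))) (.node (.node (.node (.leaf (nat_lit 6820357)) (.leaf (nat_lit
    17106948))) (.node (.leaf (nat_lit 20487429)) (.leaf (nat_lit 12351232)))) (.node (.node (.leaf
    (nat_lit 8676098)) (.leaf (nat_lit 28382721))) (.node (.leaf (nat_lit 13688322)) (.leaf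
    (nat_lit 19437829))))))))))))

/-- Certificate data. -/
def l33_just : Trie :=
    (.node (.node (.node (.node (.node (.node (.node (.node (.node (.node (.node (.leaf (nat_lit
    1)) (.leaf (nat_lit 12850769783029762))) (.leaf (nat_lit 0))) (.node (.leaf (nat_lit 0)) (.leaf
    (nat_lit 4686855234108464133436458298093175881525665514370273818002754371651)))) (.node (.node
    (.leaf (nat_lit 4363957355806729)) (.leaf (nat_lit 0))) (.node (.leaf (nat_lit
    53328551440413818890)) (.leaf (nat_lit 12269153901740034))))) (.node (.node (.node (.leaf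
    (nat_lit 2146792158396420)) (.leaf (nat_lit 18421975111584783449653717661843461))) (.node
    (.leaf (nat_lit 11156190436392964)) (.leaf (nat_lit 100909855246236450818)))) (.node (.node
    (.leaf (nat_lit 24650067168702169098)) (.leaf (nat_lit 1690454402904899995872591900))) (.node
    (.leaf (nat_lit 0)) (.leaf (nat_lit 40024180738226323458)))))) (.node (.node (.node (.node
    (.node (.leaf (nat_lit 1020617373646852)) (.leaf (nat_lit 22896337511120898))) (.leaf (nat_lit
    5180802342495031639186526830646))) (.node (.leaf (nat_lit 10030015651643396)) (.leaf (nat_lit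
    2561730008943931169903334452220115378076981395901154492440051730)))) (.node (.node (.leaf
    (nat_lit 378450472424597655027777572)) (.leaf (nat_lit 12399194202176601608701883670003741)))
    (.node (.leaf (nat_lit 4115392877100889872243391594541)) (.leaf (nat_lit
    527768296690755347677186))))) (.node (.node (.node (.leaf (nat_lit
    302136134459328317576879399614022742374917608213275611277230098)) (.leaf (nat_lit 0))) (.node
    (.leaf (nat_lit 3031200331238235223049026011139)) (.leaf (nat_lit 25850149729337346)))) (.node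
    (.node (.leaf (nat_lit 0)) (.leaf (nat_lit 1763046929318631601177165841))) (.node (.leaf
    (nat_lit 0)) (.leaf (nat_lit 14064295612645378))))))) (.node (.node (.node (.node (.node (.node
    (.leaf (nat_lit 1873655899214774282)) (.leaf (nat_lit 51268735900355592194))) (.leaf (nat_lit
    0))) (.node (.leaf (nat_lit 9466928259268612)) (.leaf (nat_lit 94695507245073104906)))) (.node
    (.node (.leaf (nat_lit 0)) (.leaf (nat_lit 3466567156387488486665042132998))) (.node (.leaf
    (nat_lit 0)) (.leaf (nat_lit 31110492529491970))))) (.node (.node (.node (.leaf (nat_lit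
    171685480714280780630917140)) (.leaf (nat_lit 0))) (.node (.leaf (nat_lit
    2902005960316849865070792278019)) (.leaf (nat_lit 60918066567241203714)))) (.node (.node (.leaf
    (nat_lit 0)) (.leaf (nat_lit 29152850068324102998546474892460092))) (.node (.leaf (nat_lit 0))
    (.leaf (nat_lit 13466032438116354)))))) (.node (.node (.node (.node (.node (.leaf (nat_lit
    1583704766021636)) (.leaf (nat_lit 67339092672475496450))) (.leaf (nat_lit
    1345816667463126024481734677))) (.node (.leaf (nat_lit 0)) (.leaf (nat_lit
    135276946280483544511116291220768817224)))) (.node (.node (.leaf (nat_lit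
    383332811662735139594895388)) (.leaf (nat_lit 0))) (.node (.leaf (nat_lit 0)) (.leaf (nat_lit
    22930345062170626))))) (.node (.node (.node (.leaf (nat_lit 0)) (.leaf (nat_lit
    75670401088577798159))) (.node (.leaf (nat_lit 0)) (.leaf (nat_lit 14943063101276162)))) (.node
    (.node (.leaf (nat_lit 0)) (.leaf (nat_lit 3621538415991122851428779294723))) (.node (.leaf
    (nat_lit 0)) (.leaf (nat_lit 20485632497418242)))))))) (.node (.node (.node (.node (.node
    (.node (.node (.leaf (nat_lit 202838952526209600884132194746373)) (.leaf (nat_lit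
    27153457555308546))) (.leaf (nat_lit 18194782841077769))) (.node (.leaf (nat_lit 0)) (.leaf
    (nat_lit 1869456612726403926910631972)))) (.node (.node (.leaf (nat_lit
    1188716279009461019167762546710)) (.leaf (nat_lit
    1166761418741872719403092659169592678869284189683834082097561619))) (.node (.leaf (nat_lit 0))
    (.leaf (nat_lit 59333911555634036738))))) (.node (.node (.node (.leaf (nat_lit
    1257633211195428328425020696494085)) (.leaf (nat_lit 23632647609743427214440472835981365)))
    (.node (.leaf (nat_lit 42662707627810816010)) (.leaf (nat_lit 49388746650956267522)))) (.node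
    (.node (.leaf (nat_lit 289001761418851781068521483)) (.leaf (nat_lit
    1259867257623081600934019098))) (.node (.leaf (nat_lit
    1015680991023799215435428920395477461536065819529228974744862769)) (.leaf (nat_lit
    27054042677321596930)))))) (.node (.node (.node (.node (.node (.leaf (nat_lit
    54412879160731948395331596)) (.leaf (nat_lit 151344494848302579714))) (.leaf (nat_lit
    4853266599135893454432093208626))) (.node (.leaf (nat_lit 0)) (.leaf (nat_lit
    6755849076647799732300149030982)))) (.node (.node (.leaf (nat_lit 405045366302247748574183444))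
    (.leaf (nat_lit 95572054613568978959))) (.node (.leaf (nat_lit 0)) (.leaf (nat_lit
    12497425718264922114))))) (.node (.node (.node (.leaf (nat_lit 0)) (.leaf (nat_lit 0))) (.node
    (.leaf (nat_lit 0)) (.leaf (nat_lit 21935243114271932418)))) (.node (.node (.leaf (nat_lit
    559798488396406516516978726)) (.leaf (nat_lit
    2389973642853568007597615091698377360948074722182319299489628225))) (.node (.leaf (nat_lit 0))
    (.leaf (nat_lit 12744958968725506))))))) (.node (.node (.node (.node (.node (.node (.leaf
    (nat_lit 0)) (.leaf (nat_lit 18111116878151682))) (.leaf (nat_lit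
    5304118658670610079371432951811))) (.node (.leaf (nat_lit 9748471955456004)) (.leaf (nat_lit
    1914025084551199294876876824)))) (.node (.node (.leaf (nat_lit 5226163450544130)) (.leaf
    (nat_lit 0))) (.node (.leaf (nat_lit 0)) (.leaf (nat_lit 50759374064907911170))))) (.node
    (.node (.node (.leaf (nat_lit 861690905142271521320895643651)) (.leaf (nat_lit
    1393022328631003634345508896))) (.node (.leaf (nat_lit 41654147739323400202)) (.leaf (nat_lit
    11459707185266690)))) (.node (.node (.leaf (nat_lit 0)) (.leaf (nat_lit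
    1343550151773354277970350175742312051556512039335967723711561791))) (.node (.leaf (nat_lit
    64868023495450361871)) (.leaf (nat_lit 32242839332438867970)))))) (.node (.node (.node (.node
    (.node (.leaf (nat_lit 1865248462209028)) (.leaf (nat_lit 18041203400507394))) (.leaf (nat_lit
    0))) (.node (.leaf (nat_lit 0)) (.leaf (nat_lit 27644363727306754)))) (.node (.node (.leaf
    (nat_lit 403880417232802387018973215)) (.leaf (nat_lit 0))) (.node (.leaf (nat_lit
    15379345879203844)) (.leaf (nat_lit 60055733148198305794))))) (.node (.node (.node (.leaf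
    (nat_lit 0)) (.leaf (nat_lit 11709186134583056778713898903076893))) (.node (.leaf (nat_lit
    457091162008562663812300814)) (.leaf (nat_lit 21628128157892610)))) (.node (.node (.leaf
    (nat_lit 347044370310359325732044811)) (.leaf (nat_lit 14320797983405132684008193656291333)))
    (.node (.leaf (nat_lit 4814285036703406641611308138550)) (.leaf (nat_lit
    112012073753362235394))))))))) (.node (.node (.node (.node (.node (.node (.node (.node (.leaf
    (nat_lit 29711770163888721622395650051)) (.leaf (nat_lit 15014685975904258))) (.leaf (nat_lit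
    66589560015341944842))) (.node (.leaf (nat_lit 0)) (.leaf (nat_lit 26043062480404484)))) (.node
    (.node (.leaf (nat_lit 2130935829861664416910091171069981)) (.leaf (nat_lit
    76247002741578334218))) (.node (.leaf (nat_lit 0)) (.leaf (nat_lit 27750329160433666)))))
    (.node (.node (.node (.leaf (nat_lit
    212136618286235961396020939072838384421277933803634383544844307)) (.leaf (nat_lit 0))) (.node
    (.leaf (nat_lit 779934581146195876179673104)) (.leaf (nat_lit 45065256670417059842)))) (.node
    (.node (.leaf (nat_lit 6792263145488393)) (.leaf (nat_lit 19234336725401659))) (.node (.leaf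
    (nat_lit 1157117040891928782380480241571557541874549578173441943930863639)) (.leaf (nat_lit
    13747404335611906)))))) (.node (.node (.node (.node (.node (.leaf (nat_lit 0)) (.leaf (nat_lit
    64023761851385053186))) (.leaf (nat_lit 0))) (.node (.leaf (nat_lit
    484848324980595250382045196)) (.leaf (nat_lit 7909878738260788519696616259587)))) (.node (.node
    (.leaf (nat_lit 395413507834943364252631048)) (.leaf (nat_lit 1620358847947399056050159644)))
    (.node (.leaf (nat_lit 0)) (.leaf (nat_lit 107108990082395340802))))) (.node (.node (.node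
    (.leaf (nat_lit 0)) (.leaf (nat_lit 20528081849781613266451974175784965))) (.node (.leaf
    (nat_lit 0)) (.leaf (nat_lit 21839139901145090)))) (.node (.node (.leaf (nat_lit 0)) (.leaf
    (nat_lit 0))) (.node (.leaf (nat_lit 16963020580323337)) (.leaf (nat_lit
    21259525474615298))))))) (.node (.node (.node (.node (.node (.node (.leaf (nat_lit
    598301829365769)) (.leaf (nat_lit 31868197774950402))) (.leaf (nat_lit 0))) (.node (.leaf
    (nat_lit 9607700107362308)) (.leaf (nat_lit 0)))) (.node (.node (.leaf (nat_lit
    351837279376826381476626440)) (.leaf (nat_lit 0))) (.node (.leaf (nat_lit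
    3992092022815635835962276577325)) (.leaf (nat_lit 12445196021268482))))) (.node (.node (.node
    (.leaf (nat_lit 189845636172061215012749323)) (.leaf (nat_lit 0))) (.node (.leaf (nat_lit
    41798262901629452303)) (.leaf (nat_lit 46362504568116543490)))) (.node (.node (.leaf (nat_lit
    7390534909952009)) (.leaf (nat_lit 60986150569206022202))) (.node (.leaf (nat_lit 0)) (.leaf
    (nat_lit 33611776290212478978)))))) (.node (.node (.node (.node (.node (.leaf (nat_lit
    1724476614115332)) (.leaf (nat_lit 153664353632883245058))) (.leaf (nat_lit 0))) (.node (.leaf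
    (nat_lit 0)) (.leaf (nat_lit 17229772409143298)))) (.node (.node (.leaf (nat_lit
    2455900150762946562989209728516125)) (.leaf (nat_lit 0))) (.node (.leaf (nat_lit
    1025344588284684727048791709027360674310075672230266818675015727)) (.leaf (nat_lit
    23528496567549954))))) (.node (.node (.node (.leaf (nat_lit 0)) (.leaf (nat_lit 0))) (.node
    (.leaf (nat_lit 13021408833699849)) (.leaf (nat_lit 320358347129301217050626)))) (.node (.node
    (.leaf (nat_lit 0)) (.leaf (nat_lit 1799327658707902054455902225))) (.node (.leaf (nat_lit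
    4744318203977652015361939603506)) (.leaf (nat_lit 9631348197294082)))))))) (.node (.node (.node
    (.node (.node (.node (.node (.leaf (nat_lit 21763027305768551314685960)) (.leaf (nat_lit
    73390349804653182978))) (.leaf (nat_lit 0))) (.node (.leaf (nat_lit
    257560825583090485023801356)) (.leaf (nat_lit 0)))) (.node (.node (.leaf (nat_lit 0)) (.leaf
    (nat_lit 2089249002482530073640848128209185019036735595427471474971050039))) (.node (.leaf
    (nat_lit 3565645803462314095649210368003)) (.leaf (nat_lit 30494735953166338))))) (.node (.node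
    (.node (.leaf (nat_lit 0)) (.leaf (nat_lit 0))) (.node (.leaf (nat_lit 10857226352852994))
    (.leaf (nat_lit 12180943863414786)))) (.node (.node (.leaf (nat_lit 0)) (.leaf (nat_lit 0)))
    (.node (.leaf (nat_lit 15784137956917250)) (.leaf (nat_lit 17793675845304322)))))) (.node
    (.node (.node (.node (.node (.leaf (nat_lit 1442932917927940)) (.leaf (nat_lit
    36548011320541186))) (.leaf (nat_lit 4735037562078905970694377832502))) (.node (.leaf (nat_lit
    720696599239400717977714701)) (.leaf (nat_lit
    2189185286624239938225606604835980969431642729249515196543598635)))) (.node (.node (.leaf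
    (nat_lit 0)) (.leaf (nat_lit 0))) (.node (.leaf (nat_lit 0)) (.leaf (nat_lit
    30584022490553712642))))) (.node (.node (.node (.leaf (nat_lit 0)) (.leaf (nat_lit
    65738326230605955082))) (.node (.leaf (nat_lit 0)) (.leaf (nat_lit 50614235562219077634))))
    (.node (.node (.leaf (nat_lit 0)) (.leaf (nat_lit 30244708196029923141191485161406517))) (.node
    (.leaf (nat_lit 0)) (.leaf (nat_lit 12991326882758658))))))) (.node (.node (.node (.node (.node
    (.node (.leaf (nat_lit 39907836802407407171207182)) (.leaf (nat_lit 80956979705049972738)))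
    (.leaf (nat_lit 14641333058797614))) (.node (.leaf (nat_lit 9889243803549700)) (.leaf (nat_lit
    1688071699597155556613488664)))) (.node (.node (.leaf (nat_lit
    3813474359938018691528517904433157)) (.leaf (nat_lit 23368156848455684))) (.node (.leaf
    (nat_lit 0)) (.leaf (nat_lit 44634651761945280514))))) (.node (.node (.node (.leaf (nat_lit 0))
    (.leaf (nat_lit 958945075150876530327224331))) (.node (.leaf (nat_lit 0)) (.leaf (nat_lit
    42759677453799718914)))) (.node (.node (.leaf (nat_lit 0)) (.leaf (nat_lit
    60409971455088066618))) (.node (.leaf (nat_lit 1149953561780134036306722827)) (.leaf (nat_lit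
    52419018229163425794)))))) (.node (.node (.node (.node (.leaf (nat_lit 2006020310302724))
    (.leaf (nat_lit 11221823851258758323766702383759389))) (.node (.leaf (nat_lit 0)) (.leaf
    (nat_lit 85489374661483626498)))) (.node (.node (.leaf (nat_lit 0)) (.leaf (nat_lit
    1500647443073356268996722702))) (.node (.leaf (nat_lit 2357232594996712891742444453894)) (.leaf
    (nat_lit 28278390106536214530))))) (.node (.node (.node (.leaf (nat_lit
    296226680648967276407881754)) (.leaf (nat_lit 1263693260710624801941946376))) (.node (.leaf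
    (nat_lit 53472666602719870991)) (.leaf (nat_lit 102207845305694748674)))) (.node (.node (.leaf
    (nat_lit 28683692061292167178)) (.leaf (nat_lit 1397858932707515356590440482))) (.node (.leaf
    (nat_lit 1153897275995675007930412092731344578448799850721153664225837111)) (.leaf (nat_lit
    66327579719094173698)))))))))) (.node (.node (.node (.node (.node (.node (.node (.node (.node
    (.leaf (nat_lit 1)) (.leaf (nat_lit 13325784576032770))) (.leaf (nat_lit
    1139084743488366127488499736))) (.node (.leaf (nat_lit 36608549713376116746)) (.leaf (nat_lit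
    26781908524466178)))) (.node (.node (.leaf (nat_lit 3651175466615894086145938052022277)) (.leaf
    (nat_lit 0))) (.node (.leaf (nat_lit
    1239152894658892575896734616711915633581341695093611591990444076)) (.leaf (nat_lit
    65674852394997055490))))) (.node (.node (.node (.leaf (nat_lit 0)) (.leaf (nat_lit
    1209219574810831752727429128))) (.node (.leaf (nat_lit 42806822772936998927)) (.leaf (nat_lit
    20709738565033197570)))) (.node (.node (.leaf (nat_lit 465537404992232610704195595)) (.leaf
    (nat_lit 1274376731092290041710706714))) (.node (.leaf (nat_lit 0)) (.leaf (nat_lit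
    10950229574680578)))))) (.node (.node (.node (.node (.node (.leaf (nat_lit
    3459204606234656783)) (.leaf (nat_lit 33240542905237506))) (.leaf (nat_lit
    1006037395512735354344289517280683517164470525421918429763272722))) (.node (.leaf (nat_lit 0))
    (.leaf (nat_lit 1673561048779906694164840517)))) (.node (.node (.leaf (nat_lit
    5595702436691977)) (.leaf (nat_lit 6537034337320099070812998729778))) (.node (.leaf (nat_lit
    0)) (.leaf (nat_lit 26061694048534530))))) (.node (.node (.node (.leaf (nat_lit
    180177772543262210249785364)) (.leaf (nat_lit 0))) (.node (.leaf (nat_lit 0)) (.leaf (nat_lit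
    25938110659559426)))) (.node (.node (.leaf (nat_lit 0)) (.leaf (nat_lit
    1319598644941339196096868540773474993235895073782943185183375424))) (.node (.leaf (nat_lit 0))
    (.leaf (nat_lit 14205033101000706))))))) (.node (.node (.node (.node (.node (.node (.leaf
    (nat_lit 39902226973980553994633227)) (.leaf (nat_lit 28068285589356546))) (.leaf (nat_lit 0)))
    (.node (.leaf (nat_lit 2169386077876654126439049068547)) (.leaf (nat_lit 0)))) (.node (.node
    (.leaf (nat_lit 0)) (.leaf (nat_lit 0))) (.node (.leaf (nat_lit 617862650793766019924295692))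
    (.leaf (nat_lit 11812195151249410))))) (.node (.node (.node (.leaf (nat_lit
    782552232062001929732510580758)) (.leaf (nat_lit 0))) (.node (.leaf (nat_lit
    11789663752814596)) (.leaf (nat_lit 18813232361897986)))) (.node (.node (.leaf (nat_lit 0))
    (.leaf (nat_lit 1493345200499534246961283106))) (.node (.leaf (nat_lit
    1125780652693001729990787088)) (.leaf (nat_lit 13553993368338434)))))) (.node (.node (.node
    (.node (.node (.leaf (nat_lit 485316032081030434588985786371)) (.leaf (nat_lit
    19870704849780738))) (.leaf (nat_lit 1081040657047959575250403356))) (.node (.leaf (nat_lit 0))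
    (.leaf (nat_lit 70428985483447173122)))) (.node (.node (.leaf (nat_lit
    425645494792713407033573410)) (.leaf (nat_lit 0))) (.node (.leaf (nat_lit
    4293902799260243139070817337347)) (.leaf (nat_lit 23387759079194626))))) (.node (.node (.node
    (.leaf (nat_lit 0)) (.leaf (nat_lit 75526285917681811466))) (.node (.leaf (nat_lit 0)) (.leaf
    (nat_lit 18742992466739202)))) (.node (.node (.leaf (nat_lit 8446323770654724)) (.leaf (nat_lit
    108035713135743795258))) (.node (.leaf (nat_lit
    1269617615937029687209864193471738255559346853619084992179011636)) (.leaf (nat_lit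
    13642323665747970)))))))) (.node (.node (.node (.node (.node (.node (.node (.leaf (nat_lit
    49521231596654179733186412550)) (.leaf (nat_lit 32853325833699330))) (.leaf (nat_lit
    18459578194082641011368464856055813))) (.node (.leaf (nat_lit 30267639836432334858)) (.leaf
    (nat_lit 0)))) (.node (.node (.leaf (nat_lit 274506164874338842251165704)) (.leaf (nat_lit 0)))
    (.node (.leaf (nat_lit 13795653998215172)) (.leaf (nat_lit 35122644118774415362))))) (.node
    (.node (.node (.leaf (nat_lit 425880406338538384227960225798)) (.leaf (nat_lit 0))) (.node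
    (.leaf (nat_lit 600919371340107455956058124)) (.leaf (nat_lit 49604921017912983554)))) (.node
    (.node (.leaf (nat_lit 7003420917628937)) (.leaf (nat_lit 16067794777014331))) (.node (.leaf
    (nat_lit 9655224380064701359342872286396421)) (.leaf (nat_lit 14732601113837570)))))) (.node
    (.node (.node (.node (.node (.leaf (nat_lit 406066097978801702481198186499)) (.leaf (nat_lit
    24409394359959554))) (.leaf (nat_lit 19285790433607684))) (.node (.leaf (nat_lit
    10417129643966473)) (.leaf (nat_lit 24442491377942530)))) (.node (.node (.leaf (nat_lit 0))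
    (.leaf (nat_lit 0))) (.node (.leaf (nat_lit 0)) (.leaf (nat_lit 10334331264434178))))) (.node
    (.node (.node (.leaf (nat_lit 250306688295996689796628491)) (.leaf (nat_lit
    4308587741663193995618822782982))) (.node (.leaf (nat_lit 12669479213465604)) (.leaf (nat_lit
    41030557460477444098)))) (.node (.node (.leaf (nat_lit 2278370751419819836340307361813)) (.leaf
    (nat_lit 5903928552052609530122486546443))) (.node (.leaf (nat_lit 0)) (.leaf (nat_lit
    19482800583475202))))))) (.node (.node (.node (.node (.node (.node (.leaf (nat_lit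
    44738520115868740928995340)) (.leaf (nat_lit 63806865440296337410))) (.leaf (nat_lit
    13585784716263470))) (.node (.leaf (nat_lit 2377343107561019695432636694531)) (.leaf (nat_lit
    7528148378427140237454303690768)))) (.node (.node (.leaf (nat_lit 354302346680521077526167587))
    (.leaf (nat_lit 1157117040892115865959461872244407408851871381123146009820463123))) (.node
    (.leaf (nat_lit 929882389167554737494884363)) (.leaf (nat_lit 57604948934208454658))))) (.node
    (.node (.node (.leaf (nat_lit 0)) (.leaf (nat_lit 0))) (.node (.leaf (nat_lit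
    613072983957650628002775052)) (.leaf (nat_lit 11283793914757122)))) (.node (.node (.leaf
    (nat_lit 7601692682092548)) (.leaf (nat_lit 1536906965268723318160424986))) (.node (.leaf
    (nat_lit 16575906588000265)) (.leaf (nat_lit 54148417528503926786)))))) (.node (.node (.node
    (.node (.node (.leaf (nat_lit 564553874267722645261854834691)) (.leaf (nat_lit
    15683884830294018))) (.leaf (nat_lit 0))) (.node (.leaf (nat_lit 10980217036341252)) (.leaf
    (nat_lit 85345119616387710978)))) (.node (.node (.leaf (nat_lit 408716415803281288326348832))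
    (.leaf (nat_lit 0))) (.node (.leaf (nat_lit 8438274875065664646611501977108485)) (.leaf
    (nat_lit 71584983546142588930))))) (.node (.node (.node (.leaf (nat_lit
    2738778992917709479657912578539545)) (.leaf (nat_lit 0))) (.node (.leaf (nat_lit 0)) (.leaf
    (nat_lit 22718852282580994)))) (.node (.node (.leaf (nat_lit 0)) (.leaf (nat_lit
    30694655605848414781288585626058818))) (.node (.leaf (nat_lit 0)) (.leaf (nat_lit
    66904040368318382082))))))))) (.node (.node (.node (.node (.node (.node (.node (.node (.leaf
    (nat_lit 105600361037828)) (.leaf (nat_lit 16246293617836034))) (.leaf (nat_lit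
    1249093154275132684080840715))) (.node (.leaf (nat_lit 548985740779060848971022347)) (.leaf
    (nat_lit 2478157834622544679661524045136753543910364894660745204467695671)))) (.node (.node
    (.leaf (nat_lit 4434369049657346)) (.leaf (nat_lit 12922985106078105754894110732779545)))
    (.node (.leaf (nat_lit 0)) (.leaf (nat_lit 113881524570356383746))))) (.node (.node (.node
    (.leaf (nat_lit 2322765558448132)) (.leaf (nat_lit 888819110444689821557653515))) (.node (.leaf
    (nat_lit 0)) (.leaf (nat_lit 36346268339920896002)))) (.node (.node (.leaf (nat_lit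
    477639652651113464348344331)) (.leaf (nat_lit 0))) (.node (.leaf (nat_lit 15872047347531780))
    (.leaf (nat_lit 32386320798090199042)))))) (.node (.node (.node (.node (.node (.leaf (nat_lit
    3315089443928604682)) (.leaf (nat_lit 149772488125922344962))) (.leaf (nat_lit
    1176406574236633864570092988854201314434575422661522391793860627))) (.node (.leaf (nat_lit 0))
    (.leaf (nat_lit 24336912491872258)))) (.node (.node (.leaf (nat_lit 0)) (.leaf (nat_lit
    13737902569132570955235288095850547))) (.node (.leaf (nat_lit 0)) (.leaf (nat_lit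
    13711988035289090))))) (.node (.node (.node (.leaf (nat_lit 3519309087375369)) (.leaf (nat_lit
    73232105849210732559))) (.node (.leaf (nat_lit 3119901530197755021982018437123)) (.leaf
    (nat_lit 124545187484465823746)))) (.node (.node (.leaf (nat_lit 29258199891966099466)) (.leaf
    (nat_lit 1761414792140918832066720695924361415737242917969884159404867603))) (.node (.leaf
    (nat_lit 0)) (.leaf (nat_lit 18990159244689410))))))) (.node (.node (.node (.node (.node (.node
    (.leaf (nat_lit 51993846713673808580247563)) (.leaf (nat_lit 51196748700831645698))) (.leaf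
    (nat_lit 0))) (.node (.leaf (nat_lit 2208688251261518037164193349635)) (.leaf (nat_lit
    1269617615937029687209864193722875358358286460447701211208941591)))) (.node (.node (.leaf
    (nat_lit 5085425962188802)) (.leaf (nat_lit 0))) (.node (.leaf (nat_lit 0)) (.leaf (nat_lit
    27340621299245580290))))) (.node (.node (.node (.leaf (nat_lit 2921037322911753)) (.leaf
    (nat_lit 1400277654292007271665041439))) (.node (.leaf (nat_lit 0)) (.leaf (nat_lit
    46650735798966747138)))) (.node (.node (.leaf (nat_lit 512710586915827642142097421)) (.leaf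
    (nat_lit 1510259231340875779185901579))) (.node (.leaf (nat_lit 574509891680079994127974430))
    (.leaf (nat_lit 31161925737688268802)))))) (.node (.node (.node (.node (.node (.leaf (nat_lit
    524949457036863898777140199427)) (.leaf (nat_lit 18287476825260034))) (.leaf (nat_lit
    1141504070000794518931439627))) (.node (.leaf (nat_lit 0)) (.leaf (nat_lit
    40164867404233637890)))) (.node (.node (.leaf (nat_lit 6264360125202441)) (.leaf (nat_lit
    24353542605242377))) (.node (.leaf (nat_lit
    1166761418741872719403092658835743810649688672843918383074181168)) (.leaf (nat_lit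
    59695446947535192066))))) (.node (.node (.node (.leaf (nat_lit 4082396479750153)) (.leaf
    (nat_lit 1315633374064039469770932252))) (.node (.leaf (nat_lit 899661313676062066647302157))
    (.leaf (nat_lit 19217990079873026)))) (.node (.node (.leaf (nat_lit 0)) (.leaf (nat_lit
    24090209570390018))) (.node (.leaf (nat_lit 17455756408389636)) (.leaf (nat_lit
    65895198644077002754)))))))) (.node (.node (.node (.node (.node (.node (.node (.leaf (nat_lit
    0)) (.leaf (nat_lit 16756492782927874))) (.leaf (nat_lit 18441124985307145))) (.node (.leaf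
    (nat_lit 2050204046240771658193868029955)) (.leaf (nat_lit 1644540022904765308326969355))))
    (.node (.node (.leaf (nat_lit 4927027568312329)) (.leaf (nat_lit
    11927423864072719513445072820961285))) (.node (.leaf (nat_lit 13901241474220036)) (.leaf
    (nat_lit 15242327832526850))))) (.node (.node (.node (.leaf (nat_lit 10809712886168092682))
    (.leaf (nat_lit 11384261435005652517120832266764317))) (.node (.leaf (nat_lit
    1072087045415807185462351086816194177135172690207668134600441898)) (.leaf (nat_lit
    18620173135135309826)))) (.node (.node (.leaf (nat_lit 204353330394490267714781196)) (.leaf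
    (nat_lit 1709802238076357054453579800))) (.node (.leaf (nat_lit 0)) (.leaf (nat_lit
    79079958239397478402)))))) (.node (.node (.node (.node (.node (.leaf (nat_lit
    445755151530035384496217784323)) (.leaf (nat_lit 149556631608020369410))) (.leaf (nat_lit
    1216508544519365960063582216))) (.node (.leaf (nat_lit 610625910447652337304797198)) (.leaf
    (nat_lit 28629461721284654)))) (.node (.node (.leaf (nat_lit 0)) (.leaf (nat_lit 0))) (.node
    (.leaf (nat_lit 0)) (.leaf (nat_lit 93418293415599341570))))) (.node (.node (.node (.leaf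
    (nat_lit 11964429068629377034)) (.leaf (nat_lit
    1997766209472596347508021154416771241837461176084841415886962744))) (.node (.leaf (nat_lit 0))
    (.leaf (nat_lit 27699959068050522114)))) (.node (.node (.leaf (nat_lit 0)) (.leaf (nat_lit
    1405115702690283447405314062))) (.node (.leaf (nat_lit 0)) (.leaf (nat_lit
    14345942388047874))))))) (.node (.node (.node (.node (.node (.node (.leaf (nat_lit
    287222646757397076888500174851)) (.leaf (nat_lit 18146438689193986))) (.leaf (nat_lit 0)))
    (.node (.leaf (nat_lit 2406815481185924298607646081027)) (.leaf (nat_lit 27732135678967812))))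
    (.node (.node (.leaf (nat_lit 624013713967563873534542741510)) (.leaf (nat_lit 0))) (.node
    (.leaf (nat_lit 921352616797576886659383313)) (.leaf (nat_lit 19059943873314818))))) (.node
    (.node (.node (.leaf (nat_lit 0)) (.leaf (nat_lit 24525360827137591446260797925687349))) (.node
    (.leaf (nat_lit 0)) (.leaf (nat_lit 15347606070886402)))) (.node (.node (.leaf (nat_lit 0))
    (.leaf (nat_lit 0))) (.node (.leaf (nat_lit 0)) (.leaf (nat_lit 15418859578327042)))))) (.node
    (.node (.node (.node (.leaf (nat_lit 604183658572056157458918670339)) (.leaf (nat_lit 0)))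
    (.node (.leaf (nat_lit 3090227252673774565855657852931)) (.leaf (nat_lit
    4629656634974635246984205679523846721383060415408522432491438473289)))) (.node (.node (.leaf
    (nat_lit 0)) (.leaf (nat_lit 0))) (.node (.leaf (nat_lit 0)) (.leaf (nat_lit
    8610374341492738))))) (.node (.node (.node (.leaf (nat_lit 17802589667544203291)) (.leaf
    (nat_lit 1315673216376701022321836058))) (.node (.leaf (nat_lit 0)) (.leaf (nat_lit
    34689981500061057026)))) (.node (.node (.leaf (nat_lit 0)) (.leaf (nat_lit
    86063073496412651578))) (.node (.leaf (nat_lit 1070170953966236061393027080)) (.leaf (nat_lit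
    21295010494414850))))))))))) (.node (.node (.node (.node (.node (.node (.node (.node (.node
    (.node (.leaf (nat_lit 1)) (.leaf (nat_lit 15084994590539778))) (.leaf (nat_lit
    66733675177647996943))) (.node (.leaf (nat_lit 8939033828917257)) (.leaf (nat_lit
    24160672803848194)))) (.node (.node (.leaf (nat_lit 0)) (.leaf (nat_lit 76391117912474320911)))
    (.node (.leaf (nat_lit 627583629588093531201011724)) (.leaf (nat_lit
    136187279769245296361474))))) (.node (.node (.node (.leaf (nat_lit
    202495383872176354979735820775605177026530062374379824671031314)) (.leaf (nat_lit 0))) (.node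
    (.leaf (nat_lit 0)) (.leaf (nat_lit 20277392979330793474)))) (.node (.node (.leaf (nat_lit 0))
    (.leaf (nat_lit 865958438818903867225604110))) (.node (.leaf (nat_lit 0)) (.leaf (nat_lit
    17054950060326914)))))) (.node (.node (.node (.node (.node (.leaf (nat_lit 0)) (.leaf (nat_lit
    149326283960656003074))) (.leaf (nat_lit 21380492818273407206313152737640501))) (.node (.leaf
    (nat_lit 0)) (.leaf (nat_lit 6845002535487694229901349879862)))) (.node (.node (.leaf (nat_lit
    23064024871155728411)) (.leaf (nat_lit 23280238867906562))) (.node (.leaf (nat_lit 0)) (.leaf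
    (nat_lit 41176185224365801474))))) (.node (.node (.node (.leaf (nat_lit 0)) (.leaf (nat_lit
    69484319843442425866))) (.node (.leaf (nat_lit 0)) (.leaf (nat_lit 49028760320614793218))))
    (.node (.node (.leaf (nat_lit 7848043416256516)) (.leaf (nat_lit
    1743699393048513472272597004))) (.node (.leaf (nat_lit 0)) (.leaf (nat_lit
    14134664356823042))))))) (.node (.node (.node (.node (.node (.node (.leaf (nat_lit 0)) (.leaf
    (nat_lit 16545395140329474))) (.leaf (nat_lit 0))) (.node (.leaf (nat_lit 0)) (.leaf (nat_lit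
    1897192529525068114663112715)))) (.node (.node (.leaf (nat_lit 295050523669146971259863071))
    (.leaf (nat_lit 0))) (.node (.leaf (nat_lit 14042004732379145)) (.leaf (nat_lit
    15811336155015872514))))) (.node (.node (.node (.leaf (nat_lit 178964123204172679165050901))
    (.leaf (nat_lit 1382133157525766478210859016))) (.node (.leaf (nat_lit 0)) (.leaf (nat_lit
    51046159180269551618)))) (.node (.node (.leaf (nat_lit 7284956023881732)) (.leaf (nat_lit
    1550267426933643935543001149))) (.node (.leaf (nat_lit 1105230685079929479433093148)) (.leaf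
    (nat_lit 13483624624160770)))))) (.node (.node (.node (.node (.node (.leaf (nat_lit 0)) (.leaf
    (nat_lit 36899923760906242))) (.leaf (nat_lit 0))) (.node (.leaf (nat_lit 10663480378130436))
    (.leaf (nat_lit 94784468404458946562)))) (.node (.node (.leaf (nat_lit
    388157593031666706720030750)) (.leaf (nat_lit 24177577795125257))) (.node (.leaf (nat_lit
    10594211145580548)) (.leaf (nat_lit 33151555477831682))))) (.node (.node (.node (.leaf (nat_lit
    2799309329632416581669524114702341)) (.leaf (nat_lit 0))) (.node (.leaf (nat_lit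
    12880645575540740)) (.leaf (nat_lit 51190769578074636290)))) (.node (.node (.leaf (nat_lit 0))
    (.leaf (nat_lit 108467284446216912954))) (.node (.leaf (nat_lit
    4467008774326039662311416135683)) (.leaf (nat_lit 13677499447902210)))))))) (.node (.node
    (.node (.node (.node (.node (.node (.leaf (nat_lit 0)) (.leaf (nat_lit 146160042127403450370)))
    (.leaf (nat_lit 0))) (.node (.leaf (nat_lit 9150208780926985)) (.leaf (nat_lit
    50824658985146318906)))) (.node (.node (.leaf (nat_lit 0)) (.leaf (nat_lit
    1404625894561441508486633035078840445421431241200878324359823408))) (.node (.leaf (nat_lit 0))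
    (.leaf (nat_lit 28102172881321986))))) (.node (.node (.node (.leaf (nat_lit 0)) (.leaf (nat_lit
    1401469176689135499723735066))) (.node (.leaf (nat_lit 744767385998224532223361041)) (.leaf
    (nat_lit 49460806809089671170)))) (.node (.node (.leaf (nat_lit 0)) (.leaf (nat_lit 0))) (.node
    (.leaf (nat_lit 0)) (.leaf (nat_lit 59047649683253166082)))))) (.node (.node (.node (.node
    (.node (.leaf (nat_lit 0)) (.leaf (nat_lit 33381400652677122))) (.leaf (nat_lit 0))) (.node
    (.leaf (nat_lit 0)) (.leaf (nat_lit 24372122633764866)))) (.node (.node (.leaf (nat_lit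
    634223093106090881439288918053)) (.leaf (nat_lit 0))) (.node (.leaf (nat_lit
    14851451448852484)) (.leaf (nat_lit 10686424093425666))))) (.node (.node (.node (.leaf (nat_lit
    12252659410421350415)) (.leaf (nat_lit 1318091082931658552087216136))) (.node (.leaf (nat_lit
    0)) (.leaf (nat_lit 40598211913429745666)))) (.node (.node (.leaf (nat_lit
    9433613400368185492857043498237991)) (.leaf (nat_lit 887790248630041461431533579))) (.node
    (.leaf (nat_lit 17138985390440457)) (.leaf (nat_lit 29793532256486359042))))))) (.node (.node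
    (.node (.node (.node (.node (.leaf (nat_lit 809451011571721)) (.leaf (nat_lit
    24022099979010050))) (.leaf (nat_lit 0))) (.node (.leaf (nat_lit 0)) (.leaf (nat_lit
    2544174552350117100284447713650564785705736285939691955413778500)))) (.node (.node (.leaf
    (nat_lit 298676121617849795633020962)) (.leaf (nat_lit
    1449626069295013989625087321851940550363406109752457538145550359))) (.node (.leaf (nat_lit
    57652658216911437839)) (.leaf (nat_lit 37356731478741024770))))) (.node (.node (.node (.leaf
    (nat_lit 279637828330891063986276611881136032718131124186508260952440855)) (.leaf (nat_lit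
    1334978558604200222424104968))) (.node (.leaf (nat_lit 824606074724933834958503953)) (.leaf
    (nat_lit 47227197083846115330)))) (.node (.node (.leaf (nat_lit 0)) (.leaf (nat_lit
    1735232782403248834837020688))) (.node (.leaf (nat_lit 0)) (.leaf (nat_lit
    53716077088172343298)))))) (.node (.node (.node (.node (.node (.leaf (nat_lit 0)) (.leaf
    (nat_lit 15719060612448258))) (.leaf (nat_lit 74812236188698738703))) (.node (.leaf (nat_lit
    0)) (.leaf (nat_lit 27468467636666370)))) (.node (.node (.leaf (nat_lit 0)) (.leaf (nat_lit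
    0))) (.node (.leaf (nat_lit 0)) (.leaf (nat_lit 57029297826190000130))))) (.node (.node (.node
    (.leaf (nat_lit 0)) (.leaf (nat_lit 22118810991591426))) (.node (.leaf (nat_lit 0)) (.leaf
    (nat_lit 41895515104538198018)))) (.node (.node (.leaf (nat_lit 280538395674859336819343384))
    (.leaf (nat_lit 1419725578253918132238614544))) (.node (.leaf (nat_lit 0)) (.leaf (nat_lit
    99546145220712398850))))))))) (.node (.node (.node (.node (.node (.node (.node (.node (.leaf
    (nat_lit 0)) (.leaf (nat_lit 7731572493123586))) (.leaf (nat_lit 0))) (.node (.leaf (nat_lit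
    30411754990148452367)) (.leaf (nat_lit 27628128768139811639999784800419893)))) (.node (.node
    (.leaf (nat_lit 4416776863612930)) (.leaf (nat_lit 1558617724006878648687984651))) (.node
    (.leaf (nat_lit 0)) (.leaf (nat_lit 58973623555379625986))))) (.node (.node (.node (.leaf
    (nat_lit 0)) (.leaf (nat_lit 71213068541136928783))) (.node (.leaf (nat_lit
    3194613222021594817236922925097)) (.leaf (nat_lit 45353485251272441858)))) (.node (.node (.leaf
    (nat_lit 27816432001228144650)) (.leaf (nat_lit
    1330870753640054848717790106629872827418203596685877000130199594))) (.node (.leaf (nat_lit 0))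
    (.leaf (nat_lit 37070014593229848578)))))) (.node (.node (.node (.node (.node (.leaf (nat_lit
    1161397811675145)) (.leaf (nat_lit 15859548992700418))) (.leaf (nat_lit
    4328472009734251275133810769923))) (.node (.leaf (nat_lit 0)) (.leaf (nat_lit
    7691952998366130293979480457224)))) (.node (.node (.leaf (nat_lit 0)) (.leaf (nat_lit
    1636073112137861171920568336))) (.node (.leaf (nat_lit 14710679600758788)) (.leaf (nat_lit
    27187593955377154))))) (.node (.node (.node (.leaf (nat_lit 0)) (.leaf (nat_lit
    1319249231277999278254260252))) (.node (.leaf (nat_lit 0)) (.leaf (nat_lit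
    48956771321499549698)))) (.node (.node (.leaf (nat_lit 7953630892261385)) (.leaf (nat_lit
    6408360009638013708020981563395))) (.node (.leaf (nat_lit 0)) (.leaf (nat_lit
    14011562004185090))))))) (.node (.node (.node (.node (.node (.node (.leaf (nat_lit
    2450362985072492554)) (.leaf (nat_lit 16598188878331906))) (.leaf (nat_lit 11756154417971204)))
    (.node (.leaf (nat_lit 0)) (.leaf (nat_lit 6576669038199522909715341639683)))) (.node (.node
    (.leaf (nat_lit 1272894991583679402068891009057)) (.leaf (nat_lit 0))) (.node (.leaf (nat_lit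
    16351608925452844246180415404441639)) (.leaf (nat_lit 54290161164487950338))))) (.node (.node
    (.node (.leaf (nat_lit 0)) (.leaf (nat_lit 1208012405900073253845925916))) (.node (.leaf
    (nat_lit 823469490339901522051399710)) (.leaf (nat_lit 46434562750564990978)))) (.node (.node
    (.leaf (nat_lit 258760312289404421855838220)) (.leaf (nat_lit 24863982288502843))) (.node
    (.leaf (nat_lit 1071267723293423109736300552)) (.leaf (nat_lit 15453262605539540994))))))
    (.node (.node (.node (.node (.node (.leaf (nat_lit 0)) (.leaf (nat_lit 19976318095589378)))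
    (.leaf (nat_lit 64284878511313977359))) (.node (.leaf (nat_lit 0)) (.leaf (nat_lit
    23175939882090498)))) (.node (.node (.leaf (nat_lit 6000485924470786)) (.leaf (nat_lit 0)))
    (.node (.leaf (nat_lit 0)) (.leaf (nat_lit 14538898088787970))))) (.node (.node (.node (.leaf
    (nat_lit 0)) (.leaf (nat_lit 0))) (.node (.leaf (nat_lit 470384326196791743544098828)) (.leaf
    (nat_lit 515376839243285246771202)))) (.node (.node (.leaf (nat_lit 8551902656724996)) (.leaf
    (nat_lit 6022790208313568602423225090074))) (.node (.leaf (nat_lit 0)) (.leaf (nat_lit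
    98249073283528065026)))))))) (.node (.node (.node (.node (.node (.node (.node (.leaf (nat_lit
    0)) (.leaf (nat_lit 16281503759728642))) (.leaf (nat_lit 0))) (.node (.leaf (nat_lit 0)) (.leaf
    (nat_lit 94839622407379157007)))) (.node (.node (.leaf (nat_lit 0)) (.leaf (nat_lit 0))) (.node
    (.leaf (nat_lit 0)) (.leaf (nat_lit 15224735646482434))))) (.node (.node (.node (.leaf (nat_lit
    2639485036789769)) (.leaf (nat_lit 1345864187346820135962083359))) (.node (.leaf (nat_lit
    11596098166718466)) (.leaf (nat_lit 46074079690075865090)))) (.node (.node (.leaf (nat_lit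
    7144184175788041)) (.leaf (nat_lit 101180056814263402511))) (.node (.leaf (nat_lit
    4427376540883531968196506943538)) (.leaf (nat_lit 10369781924495362)))))) (.node (.node (.node
    (.node (.node (.leaf (nat_lit 0)) (.leaf (nat_lit 150997695935870599170))) (.leaf (nat_lit
    5492834533934272022162318950403))) (.node (.leaf (nat_lit
    962751301813101873426787903668341862467803819165787146513481768)) (.leaf (nat_lit
    2189185286624239938230092555769400190132368795272172004306780224)))) (.node (.node (.leaf
    (nat_lit 6018009391038473)) (.leaf (nat_lit 0))) (.node (.leaf (nat_lit 13197820320415790))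
    (.leaf (nat_lit 22789607573815298))))) (.node (.node (.node (.leaf (nat_lit 3660106705272841))
    (.leaf (nat_lit 1500546195952925743952232459))) (.node (.leaf (nat_lit 12775058099535876))
    (.leaf (nat_lit 12550517209300994)))) (.node (.node (.leaf (nat_lit
    2139336933271402441857248395267)) (.leaf (nat_lit 1466783350002061830187712532))) (.node (.leaf
    (nat_lit 0)) (.leaf (nat_lit 14310749426024450))))))) (.node (.node (.node (.node (.node (.node
    (.leaf (nat_lit 0)) (.leaf (nat_lit 19817662003675138))) (.leaf (nat_lit 0))) (.node (.leaf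
    (nat_lit 0)) (.leaf (nat_lit 0)))) (.node (.node (.leaf (nat_lit 0)) (.leaf (nat_lit
    2143890799734798218185470968775607497516741485427963678847598610))) (.node (.leaf (nat_lit
    14358767160393737)) (.leaf (nat_lit 37645172510153703426))))) (.node (.node (.node (.leaf
    (nat_lit 911219394717314742892376752131)) (.leaf (nat_lit 1059372100790865524441808920)))
    (.node (.leaf (nat_lit 3001042356739274554629618532355)) (.leaf (nat_lit
    62791739865368297474)))) (.node (.node (.leaf (nat_lit 7707271568162820)) (.leaf (nat_lit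
    25075157240512571))) (.node (.leaf (nat_lit 0)) (.leaf (nat_lit 63083594489543196674))))))
    (.node (.node (.node (.node (.leaf (nat_lit 0)) (.leaf (nat_lit 17333220991434754))) (.node
    (.leaf (nat_lit 0)) (.leaf (nat_lit 23914897595301890)))) (.node (.node (.leaf (nat_lit
    24794182339598155791)) (.leaf (nat_lit 1495813807692507638057467939))) (.node (.leaf (nat_lit
    0)) (.leaf (nat_lit 12339909192974338))))) (.node (.node (.node (.leaf (nat_lit 0)) (.leaf
    (nat_lit 1002849457700813894759172087832771821003750092663954394183565369))) (.node (.leaf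
    (nat_lit 920213668776054678863806480)) (.leaf (nat_lit 17035821864997552130)))) (.node (.node
    (.leaf (nat_lit 610625027808481724057583627)) (.leaf (nat_lit 26904924977758267))) (.node
    (.leaf (nat_lit 0)) (.leaf (nat_lit 15964569533022210)))))))))) (.node (.node (.node (.node
    (.node (.node (.node (.node (.node (.leaf (nat_lit 0)) (.leaf (nat_lit 13290617383813122)))
    (.leaf (nat_lit 0))) (.node (.leaf (nat_lit 625164607949672882167414795)) (.leaf (nat_lit 0))))
    (.node (.node (.leaf (nat_lit 279338621378945563878555676)) (.leaf (nat_lit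
    22523517169958921))) (.node (.leaf (nat_lit 0)) (.leaf (nat_lit 103072817110262677506)))))
    (.node (.node (.node (.leaf (nat_lit 653698848488785173724728262659)) (.leaf (nat_lit
    1327725885814804414525145118))) (.node (.leaf (nat_lit 779933964403385013734014990)) (.leaf
    (nat_lit 20565623544461066242)))) (.node (.node (.leaf (nat_lit 0)) (.leaf (nat_lit 0))) (.node
    (.leaf (nat_lit 0)) (.leaf (nat_lit 27630363770173456386)))))) (.node (.node (.node (.node
    (.node (.leaf (nat_lit 83432118796110636708593680)) (.leaf (nat_lit 15613206848471042))) (.leaf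
    (nat_lit 5230334464470475997010926633014))) (.node (.leaf (nat_lit 10170778909802505)) (.leaf
    (nat_lit 115676789065786785819)))) (.node (.node (.leaf (nat_lit 391783469265706822532399117))
    (.leaf (nat_lit 0))) (.node (.leaf (nat_lit 3853400517217727239419653914627)) (.leaf (nat_lit
    54723104712717172738))))) (.node (.node (.node (.leaf (nat_lit 195888495608016755208028174))
    (.leaf (nat_lit 1322873056165351786084106268))) (.node (.leaf (nat_lit
    3060671519854315182086796214275)) (.leaf (nat_lit 106386623222258008066)))) (.node (.node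
    (.leaf (nat_lit 29402315062862086159)) (.leaf (nat_lit 3878992460376655511479967416327)))
    (.node (.leaf (nat_lit 0)) (.leaf (nat_lit 51986848569616433154))))))) (.node (.node (.node
    (.node (.node (.node (.leaf (nat_lit 0)) (.leaf (nat_lit 146737417707740921858))) (.leaf
    (nat_lit 18617089795424265))) (.node (.leaf (nat_lit 0)) (.leaf (nat_lit
    1888802673191237452380307467)))) (.node (.node (.leaf (nat_lit 330109667729991601934893088))
    (.leaf (nat_lit 23121788934422537))) (.node (.leaf (nat_lit 969796138585383929676890125))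
    (.leaf (nat_lit 38294677668180983810))))) (.node (.node (.node (.leaf (nat_lit 0)) (.leaf
    (nat_lit 70337998143174672399))) (.node (.leaf (nat_lit 0)) (.leaf (nat_lit
    17755586872601673730)))) (.node (.node (.leaf (nat_lit 0)) (.leaf (nat_lit 25426730378461243)))
    (.node (.leaf (nat_lit 11058534348371795451023222702014515)) (.leaf (nat_lit
    52851012885972975618)))))) (.node (.node (.node (.node (.node (.leaf (nat_lit 0)) (.leaf
    (nat_lit 66330357175660249090))) (.leaf (nat_lit 1129407138031171132279029774))) (.node (.leaf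
    (nat_lit 0)) (.leaf (nat_lit 85849311681305575426)))) (.node (.node (.leaf (nat_lit
    420810986084521111292543011)) (.leaf (nat_lit 0))) (.node (.leaf (nat_lit 0)) (.leaf (nat_lit
    96012437418817028098))))) (.node (.node (.node (.leaf (nat_lit 891400285208874985156260528134))
    (.leaf (nat_lit 1515093442156216654949056523))) (.node (.leaf (nat_lit 0)) (.leaf (nat_lit
    18760584652783618)))) (.node (.node (.leaf (nat_lit 0)) (.leaf (nat_lit 26553064077000763)))
    (.node (.leaf (nat_lit 20185464560841443923320004904681497)) (.leaf (nat_lit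
    18920013838811138)))))))) (.node (.node (.node (.node (.node (.node (.node (.leaf (nat_lit
    64395857832671628862234689543)) (.leaf (nat_lit 98538465207815176194))) (.leaf (nat_lit 0)))
    (.node (.leaf (nat_lit 569448934115994266994278417)) (.leaf (nat_lit
    1639699597331881498840989710)))) (.node (.node (.leaf (nat_lit 327686800017385360548233246))
    (.leaf (nat_lit 22769876494057476))) (.node (.leaf (nat_lit 0)) (.leaf (nat_lit
    129229843433884155906))))) (.node (.node (.node (.leaf (nat_lit 0)) (.leaf (nat_lit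
    71068953404600680458))) (.node (.leaf (nat_lit 2882631781851640631900439445530)) (.leaf
    (nat_lit 49749036210283806722)))) (.node (.node (.leaf (nat_lit 0)) (.leaf (nat_lit
    1200535367800932810457119145776359686622042955263965221452972074))) (.node (.leaf (nat_lit
    8867944966186696243871002078412829)) (.leaf (nat_lit 10123456960135170)))))) (.node (.node
    (.node (.node (.node (.leaf (nat_lit 0)) (.leaf (nat_lit 38948118824432631810))) (.leaf
    (nat_lit 19352132986589153624580015490793525))) (.node (.leaf (nat_lit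
    602163727157624171414224908)) (.leaf (nat_lit 28242403563536386)))) (.node (.node (.leaf
    (nat_lit 0)) (.leaf (nat_lit 0))) (.node (.leaf (nat_lit 14218149931122734)) (.leaf (nat_lit
    30511964892220817410))))) (.node (.node (.node (.leaf (nat_lit 181382270424514925844299800))
    (.leaf (nat_lit 1494596023266704885155168277))) (.node (.leaf (nat_lit 0)) (.leaf (nat_lit
    56595033111660789762)))) (.node (.node (.leaf (nat_lit 7830537129558018)) (.leaf (nat_lit
    24230852569464834))) (.node (.leaf (nat_lit 0)) (.leaf (nat_lit 28032628770865154))))))) (.node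
    (.node (.node (.node (.node (.node (.leaf (nat_lit 60461936846846416994500621)) (.leaf (nat_lit
    64743614467732078594))) (.leaf (nat_lit 0))) (.node (.leaf (nat_lit 0)) (.leaf (nat_lit
    24547924235124738)))) (.node (.node (.leaf (nat_lit 0)) (.leaf (nat_lit 0))) (.node (.leaf
    (nat_lit 992755120908713336743723040)) (.leaf (nat_lit 57893179327540035586))))) (.node (.node
    (.node (.leaf (nat_lit 3061817760940036)) (.leaf (nat_lit 69628434979978674191))) (.node (.leaf
    (nat_lit 1113807018228585606257035979285438912179450724792679648155598888)) (.leaf (nat_lit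
    28852528226425307138)))) (.node (.node (.leaf (nat_lit 0)) (.leaf (nat_lit
    4215690380064755392379389083651))) (.node (.leaf (nat_lit 64723908324554375178)) (.leaf
    (nat_lit 13237419918884866)))))) (.node (.node (.node (.node (.node (.leaf (nat_lit 0)) (.leaf
    (nat_lit 20011588367024130))) (.leaf (nat_lit 1220136196101741484431441951))) (.node (.leaf
    (nat_lit 0)) (.leaf (nat_lit 27679582459133954)))) (.node (.node (.leaf (nat_lit
    446148846619701643927945224)) (.leaf (nat_lit 0))) (.node (.leaf (nat_lit 0)) (.leaf (nat_lit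
    17529578306273282))))) (.node (.node (.node (.leaf (nat_lit 296226688359094649799114772))
    (.leaf (nat_lit 1480086245199227943129514016))) (.node (.leaf (nat_lit 0)) (.leaf (nat_lit
    24900309121892354)))) (.node (.node (.leaf (nat_lit 8657507312599049)) (.leaf (nat_lit
    24477280613040130))) (.node (.leaf (nat_lit 17772458706862084)) (.leaf (nat_lit
    115831161499053916162))))))))) (.node (.node (.node (.node (.node (.node (.node (.node (.leaf
    (nat_lit 0)) (.leaf (nat_lit 50836250393208619010))) (.leaf (nat_lit 0))) (.node (.leaf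
    (nat_lit 634820086029165838475788320)) (.leaf (nat_lit 6755849076642955300500712849462))))
    (.node (.node (.leaf (nat_lit 314398353431956412682272788)) (.leaf (nat_lit 0))) (.node (.leaf
    (nat_lit 13690075112144900)) (.leaf (nat_lit 58901565978521567234))))) (.node (.node (.node
    (.leaf (nat_lit 0)) (.leaf (nat_lit 1093209034060938866975899672))) (.node (.leaf (nat_lit
    11296988054290441)) (.leaf (nat_lit 43624088077940752386)))) (.node (.node (.leaf (nat_lit 0))
    (.leaf (nat_lit 770461855763891719722303502))) (.node (.leaf (nat_lit 0)) (.leaf (nat_lit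
    554910520115584030736386)))))) (.node (.node (.node (.node (.node (.leaf (nat_lit
    84636024146782480427712529)) (.leaf (nat_lit 23494592095715330))) (.leaf (nat_lit
    22294696492126782302980781747142681))) (.node (.leaf (nat_lit 10311550757896196)) (.leaf
    (nat_lit 28207193421643778)))) (.node (.node (.leaf (nat_lit
    3793721817688052554109202280677401)) (.leaf (nat_lit 0))) (.node (.leaf (nat_lit
    3882796752724036498850977284099)) (.leaf (nat_lit 10721324997672962))))) (.node (.node (.node
    (.leaf (nat_lit 14413015015277920266)) (.leaf (nat_lit 1267263357230750008628019224))) (.node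
    (.leaf (nat_lit 0)) (.leaf (nat_lit 15154134974070786)))) (.node (.node (.leaf (nat_lit
    269654221397710400695631884)) (.leaf (nat_lit
    1176406574236633864570092989105338417233515033379435834715865136))) (.node (.leaf (nat_lit 0))
    (.leaf (nat_lit 14697674439786498))))))) (.node (.node (.node (.node (.node (.node (.leaf
    (nat_lit 0)) (.leaf (nat_lit 16703741994598402))) (.leaf (nat_lit 11439512249040900))) (.node
    (.leaf (nat_lit 0)) (.leaf (nat_lit
    1594265012525464294951724070979414331104405124509462422918987795)))) (.node (.node (.leaf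
    (nat_lit 5103018148233218)) (.leaf (nat_lit 0))) (.node (.leaf (nat_lit 0)) (.leaf (nat_lit
    13852579494756354))))) (.node (.node (.node (.leaf (nat_lit 0)) (.leaf (nat_lit 0))) (.node
    (.leaf (nat_lit 11930444190842889)) (.leaf (nat_lit 11424522813177858)))) (.node (.node (.leaf
    (nat_lit 267222497451346735988539406)) (.leaf (nat_lit 1727920773572417896921235518))) (.node
    (.leaf (nat_lit 0)) (.leaf (nat_lit 31306040930059091970)))))) (.node (.node (.node (.node
    (.node (.leaf (nat_lit 0)) (.leaf (nat_lit 50766198368509296642))) (.leaf (nat_lit 0))) (.node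
    (.leaf (nat_lit 10874638150270980)) (.leaf (nat_lit 69924653793437483010)))) (.node (.node
    (.leaf (nat_lit 0)) (.leaf (nat_lit 0))) (.node (.leaf (nat_lit 0)) (.leaf (nat_lit
    14609266832965634))))) (.node (.node (.node (.leaf (nat_lit 16718998899418923018)) (.leaf
    (nat_lit 1494596896665350414434369567))) (.node (.leaf (nat_lit
    1202282756273151485389577603024269520718622888940337671898595371)) (.leaf (nat_lit
    18909071988586905602)))) (.node (.node (.leaf (nat_lit 28971922403084140559)) (.leaf (nat_lit
    1472919486479937973485109309))) (.node (.leaf (nat_lit 19676691164089975847722321355145269))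
    (.leaf (nat_lit 34261914887196442626)))))))) (.node (.node (.node (.node (.node (.node (.node
    (.leaf (nat_lit 457521391337481)) (.leaf (nat_lit 16492618582196226))) (.leaf (nat_lit 0)))
    (.node (.leaf (nat_lit 0)) (.leaf (nat_lit 0)))) (.node (.node (.leaf (nat_lit
    20177904356886249482)) (.leaf (nat_lit 0))) (.node (.leaf (nat_lit 0)) (.leaf (nat_lit
    11882228887977986))))) (.node (.node (.node (.leaf (nat_lit 0)) (.leaf (nat_lit
    16946347517280258))) (.node (.leaf (nat_lit 0)) (.leaf (nat_lit 20493706700796395522)))) (.node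
    (.node (.leaf (nat_lit 0)) (.leaf (nat_lit 1555060276191220617296805901))) (.node (.leaf
    (nat_lit 0)) (.leaf (nat_lit 566763922593716688388098)))))) (.node (.node (.node (.node (.node
    (.leaf (nat_lit 0)) (.leaf (nat_lit 16317066088939522))) (.leaf (nat_lit
    1175362557790908370712330261))) (.node (.leaf (nat_lit 0)) (.leaf (nat_lit
    2615098321084386077177742456190082108939512768760532376157618247)))) (.node (.node (.leaf
    (nat_lit 2555960039357861620622281568354309)) (.leaf (nat_lit 0))) (.node (.leaf (nat_lit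
    12212675081797636)) (.leaf (nat_lit 53570428699851030530))))) (.node (.node (.node (.leaf
    (nat_lit 267221612147136254009737227)) (.leaf (nat_lit 0))) (.node (.leaf (nat_lit
    3595357568605661605373562716163)) (.leaf (nat_lit 58396494136797757442)))) (.node (.node (.leaf
    (nat_lit 8305560512495620)) (.leaf (nat_lit 1800528343234482071048355866))) (.node (.leaf
    (nat_lit 17350143162581001)) (.leaf (nat_lit 9701613862256642))))))) (.node (.node (.node
    (.node (.node (.node (.leaf (nat_lit 0)) (.leaf (nat_lit 148475063992829804546))) (.leaf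
    (nat_lit 19039405339705348))) (.node (.leaf (nat_lit 0)) (.leaf (nat_lit
    27993241858861953503822061448396853)))) (.node (.node (.leaf (nat_lit 0)) (.leaf (nat_lit
    14199058634627959904714088906162181))) (.node (.leaf (nat_lit 480058667083774821258297356))
    (.leaf (nat_lit 31568069755273218))))) (.node (.node (.node (.leaf (nat_lit 3237773981122564))
    (.leaf (nat_lit 1452213358237595737587515418))) (.node (.leaf (nat_lit 0)) (.leaf (nat_lit
    19917456144192438274)))) (.node (.node (.leaf (nat_lit 0)) (.leaf (nat_lit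
    102775949718087467018))) (.node (.leaf (nat_lit 0)) (.leaf (nat_lit
    579143705901935425224706)))))) (.node (.node (.node (.node (.leaf (nat_lit 0)) (.leaf (nat_lit
    1333771388106766901867511836))) (.node (.leaf (nat_lit 0)) (.leaf (nat_lit
    36490351616389742594)))) (.node (.node (.leaf (nat_lit 6616298335371273)) (.leaf (nat_lit 0)))
    (.node (.leaf (nat_lit 0)) (.leaf (nat_lit 15884798813244948482))))) (.node (.node (.node
    (.leaf (nat_lit 0)) (.leaf (nat_lit 45923158035397804090))) (.node (.leaf (nat_lit
    13338162671779849)) (.leaf (nat_lit 34978211867622834178)))) (.node (.node (.leaf (nat_lit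
    457084961878307979410079755)) (.leaf (nat_lit 1840437631195151933095870481))) (.node (.leaf
    (nat_lit 1129398874466444745701130270)) (.leaf (nat_lit 33838239144083458))))))))))))

/-- Certificate data. -/
def l33_rel : Trie :=
    (.node (.node (.node (.node (.node (.node (.node (.leaf (nat_lit 0)) (.leaf (nat_lit
    569560025661954))) (.leaf (nat_lit 1103873835781))) (.node (.leaf (nat_lit
    7985793529697311833768666027217979141)) (.leaf (nat_lit 282600308932865)))) (.node (.node
    (.leaf (nat_lit 67306499)) (.leaf (nat_lit 6677334484899959488869694153070543111))) (.node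
    (.leaf (nat_lit 2207680495877)) (.leaf (nat_lit 50660101))))) (.node (.node (.node (.node
    (.leaf (nat_lit 282578884167425)) (.leaf (nat_lit 3302880313858))) (.leaf (nat_lit
    3307175215361))) (.node (.leaf (nat_lit 1692178476761345)) (.leaf (nat_lit 1692178493604354))))
    (.node (.node (.leaf (nat_lit 2207663588098)) (.leaf (nat_lit 460551))) (.node (.leaf (nat_lit
    1103857058561)) (.leaf (nat_lit 1116725249281)))))) (.node (.node (.node (.node (.node (.leaf
    (nat_lit 394758)) (.leaf (nat_lit 1360483744202692198512301619097502721))) (.leaf (nat_lit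
    5501870146051))) (.node (.leaf (nat_lit 2207646941443)) (.leaf (nat_lit
    9315021525482223002824791885600589316)))) (.node (.node (.leaf (nat_lit 4406687105281)) (.leaf
    (nat_lit 6682526781449009288230416981958918406))) (.node (.leaf (nat_lit 2211925000451)) (.leaf
    (nat_lit 218145314614739458))))) (.node (.node (.node (.node (.leaf (nat_lit 1103823569411))
    (.leaf (nat_lit 216455382422323462))) (.leaf (nat_lit 5348106488805558606216599618120122631)))
    (.node (.leaf (nat_lit 3320026563586)) (.leaf (nat_lit
    9330679308324842651260432035573203201)))) (.node (.node (.leaf (nat_lit 3307158504193)) (.leaf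
    (nat_lit 9315021446254060470113710222642054661))) (.node (.leaf (nat_lit 1112430280961)) (.leaf
    (nat_lit 5348106489115043616037944686828126471))))))) (.node (.node (.node (.node (.node (.node
    (.leaf (nat_lit 1972532483851779)) (.leaf (nat_lit 2668921794470240827854047843633726471)))
    (.leaf (nat_lit 2211992109316))) (.node (.leaf (nat_lit 9315021446254060488560454296351606276))
    (.leaf (nat_lit 72345678986151427)))) (.node (.node (.leaf (nat_lit 5506181890817)) (.leaf
    (nat_lit 5353298785973578425220012584424505606))) (.node (.leaf (nat_lit 50594564)) (.leaf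
    (nat_lit 328965))))) (.node (.node (.node (.node (.leaf (nat_lit 1971428660413955)) (.leaf
    (nat_lit 2679245542503516078067418477522913026))) (.leaf (nat_lit 72340172838076673))) (.node
    (.leaf (nat_lit 9315021525482222984378047811891037701)) (.leaf (nat_lit
    7985793450469149337951072511678547716)))) (.node (.node (.leaf (nat_lit 84083971)) (.leaf
    (nat_lit 7985793529697311852215410100927530756))) (.node (.leaf (nat_lit 2211925131778)) (.leaf
    (nat_lit 2684437839671531193150529697971766786)))))) (.node (.node (.node (.node (.node (.leaf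
    (nat_lit 144967318211069698)) (.leaf (nat_lit 1121020150787))) (.leaf (nat_lit
    565157667473154))) (.node (.leaf (nat_lit 1112430215683)) (.leaf (nat_lit
    433191093065154817)))) (.node (.node (.leaf (nat_lit 2216253523202)) (.leaf (nat_lit
    852125823336710))) (.node (.leaf (nat_lit 852130135147014)) (.leaf (nat_lit 3302846694146)))))
    (.node (.node (.node (.node (.leaf (nat_lit 263172)) (.leaf (nat_lit
    2668942076879844479524470691373384711))) (.leaf (nat_lit 565157600559879))) (.node (.leaf
    (nat_lit 73749746745213697)) (.leaf (nat_lit 2679245542814205291341895305793897986)))) (.node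
    (.node (.leaf (nat_lit 4410948518402)) (.leaf (nat_lit 7985793450469149319504328437968996101)))
    (.node (.leaf (nat_lit 3302913868292)) (.leaf (nat_lit
    1360483744202687476145818749452289281))))))))

/-- Certificate data. -/
def l33_rc : Trie :=
    (.node (.node (.node (.node (.node (.node (.node (.leaf (nat_lit 22)) (.leaf (nat_lit 393231)))
    (.leaf (nat_lit 393226))) (.node (.leaf (nat_lit 1966101)) (.leaf (nat_lit 393230)))) (.node
    (.node (.leaf (nat_lit 8)) (.leaf (nat_lit 21))) (.node (.leaf (nat_lit 655371)) (.leaf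
    (nat_lit 9))))) (.node (.node (.node (.node (.leaf (nat_lit 524302)) (.leaf (nat_lit 393220)))
    (.leaf (nat_lit 5))) (.node (.leaf (nat_lit 131086)) (.leaf (nat_lit 262159)))) (.node (.node
    (.leaf (nat_lit 655364)) (.leaf (nat_lit 13))) (.node (.leaf (nat_lit 262149)) (.leaf (nat_lit
    262154)))))) (.node (.node (.node (.node (.node (.leaf (nat_lit 12)) (.leaf (nat_lit 262163)))
    (.leaf (nat_lit 524298))) (.node (.leaf (nat_lit 4)) (.leaf (nat_lit 18)))) (.node (.node
    (.leaf (nat_lit 131082)) (.leaf (nat_lit 1179666))) (.node (.leaf (nat_lit 655365)) (.leaf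
    (nat_lit 262161))))) (.node (.node (.node (.node (.leaf (nat_lit 393221)) (.leaf (nat_lit
    393232))) (.leaf (nat_lit 1048597))) (.node (.leaf (nat_lit 655370)) (.leaf (nat_lit
    1310740)))) (.node (.node (.leaf (nat_lit 131076)) (.leaf (nat_lit 1048594))) (.node (.leaf
    (nat_lit 131077)) (.leaf (nat_lit 131092))))))) (.node (.node (.node (.node (.node (.node
    (.leaf (nat_lit 15)) (.leaf (nat_lit 786451))) (.leaf (nat_lit 10))) (.node (.leaf (nat_lit
    917523)) (.leaf (nat_lit 262160)))) (.node (.node (.leaf (nat_lit 11)) (.leaf (nat_lit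
    131090))) (.node (.leaf (nat_lit 131080)) (.leaf (nat_lit 7))))) (.node (.node (.node (.node
    (.leaf (nat_lit 786446)) (.leaf (nat_lit 786450))) (.leaf (nat_lit 0))) (.node (.leaf (nat_lit
    1966099)) (.leaf (nat_lit 917525)))) (.node (.node (.leaf (nat_lit 131081)) (.leaf (nat_lit
    20))) (.node (.leaf (nat_lit 524292)) (.leaf (nat_lit 1703957)))))) (.node (.node (.node (.node
    (.node (.leaf (nat_lit 393233)) (.leaf (nat_lit 131083))) (.leaf (nat_lit 655375))) (.node
    (.leaf (nat_lit 262148)) (.leaf (nat_lit 16)))) (.node (.node (.leaf (nat_lit 524299)) (.leaf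
    (nat_lit 14))) (.node (.leaf (nat_lit 131087)) (.leaf (nat_lit 524293))))) (.node (.node (.node
    (.node (.leaf (nat_lit 6)) (.leaf (nat_lit 1966098))) (.leaf (nat_lit 786447))) (.node (.leaf
    (nat_lit 131088)) (.leaf (nat_lit 655381)))) (.node (.node (.leaf (nat_lit 393227)) (.leaf
    (nat_lit 1048596))) (.node (.leaf (nat_lit 262155)) (.leaf (nat_lit 1441810))))))))

/-- Certificate data. -/
def l33_lv : Trie :=
    (.node (.node (.node (.node (.node (.node (.node (.leaf (nat_lit 0)) (.leaf (nat_lit 67)))
    (.node (.leaf (nat_lit 32)) (.leaf (nat_lit 118)))) (.node (.node (.leaf (nat_lit 16)) (.leaf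
    (nat_lit 83))) (.node (.leaf (nat_lit 48)) (.leaf (nat_lit 170))))) (.node (.node (.node (.leaf
    (nat_lit 8)) (.leaf (nat_lit 75))) (.node (.leaf (nat_lit 40)) (.leaf (nat_lit 142)))) (.node
    (.node (.leaf (nat_lit 24)) (.leaf (nat_lit 100))) (.leaf (nat_lit 58))))) (.node (.node (.node
    (.node (.leaf (nat_lit 4)) (.leaf (nat_lit 71))) (.node (.leaf (nat_lit 36)) (.leaf (nat_lit
    131)))) (.node (.node (.leaf (nat_lit 20)) (.leaf (nat_lit 92))) (.node (.leaf (nat_lit 53))
    (.leaf (nat_lit 222))))) (.node (.node (.node (.leaf (nat_lit 12)) (.leaf (nat_lit 79))) (.node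
    (.leaf (nat_lit 44)) (.leaf (nat_lit 153)))) (.node (.node (.leaf (nat_lit 28)) (.leaf (nat_lit
    104))) (.leaf (nat_lit 62)))))) (.node (.node (.node (.node (.node (.leaf (nat_lit 2)) (.leaf
    (nat_lit 69))) (.node (.leaf (nat_lit 34)) (.leaf (nat_lit 124)))) (.node (.node (.leaf
    (nat_lit 18)) (.leaf (nat_lit 90))) (.node (.leaf (nat_lit 50)) (.leaf (nat_lit 195))))) (.node
    (.node (.node (.leaf (nat_lit 10)) (.leaf (nat_lit 77))) (.node (.leaf (nat_lit 42)) (.leaf
    (nat_lit 148)))) (.node (.node (.leaf (nat_lit 26)) (.leaf (nat_lit 102))) (.leaf (nat_lit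
    60))))) (.node (.node (.node (.node (.leaf (nat_lit 6)) (.leaf (nat_lit 73))) (.node (.leaf
    (nat_lit 38)) (.leaf (nat_lit 136)))) (.node (.node (.leaf (nat_lit 22)) (.leaf (nat_lit 98)))
    (.leaf (nat_lit 55)))) (.node (.node (.node (.leaf (nat_lit 14)) (.leaf (nat_lit 81))) (.node
    (.leaf (nat_lit 46)) (.leaf (nat_lit 164)))) (.node (.node (.leaf (nat_lit 30)) (.leaf (nat_lit
    114))) (.leaf (nat_lit 65))))))) (.node (.node (.node (.node (.node (.node (.leaf (nat_lit 1))
    (.leaf (nat_lit 68))) (.node (.leaf (nat_lit 33)) (.leaf (nat_lit 121)))) (.node (.node (.leaf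
    (nat_lit 17)) (.leaf (nat_lit 89))) (.node (.leaf (nat_lit 49)) (.leaf (nat_lit 184))))) (.node
    (.node (.node (.leaf (nat_lit 9)) (.leaf (nat_lit 76))) (.node (.leaf (nat_lit 41)) (.leaf
    (nat_lit 146)))) (.node (.node (.leaf (nat_lit 25)) (.leaf (nat_lit 101))) (.leaf (nat_lit
    59))))) (.node (.node (.node (.node (.leaf (nat_lit 5)) (.leaf (nat_lit 72))) (.node (.leaf
    (nat_lit 37)) (.leaf (nat_lit 133)))) (.node (.node (.leaf (nat_lit 21)) (.leaf (nat_lit 97)))
    (.leaf (nat_lit 54)))) (.node (.node (.node (.leaf (nat_lit 13)) (.leaf (nat_lit 80))) (.node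
    (.leaf (nat_lit 45)) (.leaf (nat_lit 156)))) (.node (.node (.leaf (nat_lit 29)) (.leaf (nat_lit
    113))) (.leaf (nat_lit 63)))))) (.node (.node (.node (.node (.node (.leaf (nat_lit 3)) (.leaf
    (nat_lit 70))) (.node (.leaf (nat_lit 35)) (.leaf (nat_lit 127)))) (.node (.node (.leaf
    (nat_lit 19)) (.leaf (nat_lit 91))) (.node (.leaf (nat_lit 52)) (.leaf (nat_lit 198))))) (.node
    (.node (.node (.leaf (nat_lit 11)) (.leaf (nat_lit 78))) (.node (.leaf (nat_lit 43)) (.leaf
    (nat_lit 150)))) (.node (.node (.leaf (nat_lit 27)) (.leaf (nat_lit 103))) (.leaf (nat_lit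
    61))))) (.node (.node (.node (.node (.leaf (nat_lit 7)) (.leaf (nat_lit 74))) (.node (.leaf
    (nat_lit 39)) (.leaf (nat_lit 140)))) (.node (.node (.leaf (nat_lit 23)) (.leaf (nat_lit 99)))
    (.leaf (nat_lit 56)))) (.node (.node (.node (.leaf (nat_lit 15)) (.leaf (nat_lit 82))) (.node
    (.leaf (nat_lit 47)) (.leaf (nat_lit 167)))) (.node (.node (.leaf (nat_lit 31)) (.leaf (nat_lit
    117))) (.leaf (nat_lit 66))))))))

/-- Certificate data. -/
def l33_tb : Trie :=
    (.node (.node (.node (.node (.node (.node (.node (.node (.node (.leaf (nat_lit 0)) (.leaf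
    (nat_lit 254294))) (.node (.leaf (nat_lit 45117)) (.leaf (nat_lit 340440)))) (.node (.node
    (.leaf (nat_lit 106846)) (.leaf (nat_lit 152053))) (.node (.leaf (nat_lit 373277)) (.leaf
    (nat_lit 255880))))) (.node (.node (.node (.leaf (nat_lit 139433)) (.leaf (nat_lit 225565)))
    (.node (.leaf (nat_lit 143570)) (.leaf (nat_lit 133083)))) (.node (.node (.leaf (nat_lit
    389720)) (.leaf (nat_lit 8205))) (.leaf (nat_lit 434910))))) (.node (.node (.node (.node (.leaf
    (nat_lit 123029)) (.leaf (nat_lit 356860))) (.node (.leaf (nat_lit 110727)) (.leaf (nat_lit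
    353956)))) (.node (.node (.leaf (nat_lit 471968)) (.leaf (nat_lit 411328))) (.node (.leaf
    (nat_lit 307740)) (.leaf (nat_lit 391246))))) (.node (.node (.node (.leaf (nat_lit 291217))
    (.leaf (nat_lit 102791))) (.node (.leaf (nat_lit 233792)) (.leaf (nat_lit 272334)))) (.node
    (.node (.leaf (nat_lit 287543)) (.leaf (nat_lit 73825))) (.leaf (nat_lit 4125)))))) (.node
    (.node (.node (.node (.node (.leaf (nat_lit 20525)) (.leaf (nat_lit 315812))) (.node (.leaf
    (nat_lit 77925)) (.leaf (nat_lit 333801)))) (.node (.node (.leaf (nat_lit 193010)) (.leaf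
    (nat_lit 184901))) (.node (.leaf (nat_lit 324058)) (.leaf (nat_lit 284625))))) (.node (.node
    (.node (.leaf (nat_lit 65734)) (.leaf (nat_lit 258395))) (.node (.leaf (nat_lit 229680)) (.leaf
    (nat_lit 145276)))) (.node (.node (.leaf (nat_lit 309318)) (.leaf (nat_lit 102522))) (.leaf
    (nat_lit 467874))))) (.node (.node (.node (.node (.leaf (nat_lit 266606)) (.leaf (nat_lit
    389712))) (.node (.leaf (nat_lit 176339)) (.leaf (nat_lit 430800)))) (.node (.node (.leaf
    (nat_lit 254471)) (.leaf (nat_lit 272247))) (.leaf (nat_lit 394993)))) (.node (.node (.node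
    (.leaf (nat_lit 82213)) (.leaf (nat_lit 123303))) (.node (.leaf (nat_lit 258426)) (.leaf
    (nat_lit 177981)))) (.node (.node (.leaf (nat_lit 16408)) (.leaf (nat_lit 106625))) (.leaf
    (nat_lit 16457))))))) (.node (.node (.node (.node (.node (.node (.leaf (nat_lit 4115)) (.leaf
    (nat_lit 106626))) (.node (.leaf (nat_lit 61525)) (.leaf (nat_lit 53429)))) (.node (.node
    (.leaf (nat_lit 283013)) (.leaf (nat_lit 164369))) (.node (.leaf (nat_lit 340443)) (.leaf
    (nat_lit 448325))))) (.node (.node (.node (.leaf (nat_lit 229671)) (.leaf (nat_lit 262509)))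
    (.node (.leaf (nat_lit 196847)) (.leaf (nat_lit 235529)))) (.node (.node (.leaf (nat_lit
    419608)) (.leaf (nat_lit 69722))) (.leaf (nat_lit 459571))))) (.node (.node (.node (.node
    (.leaf (nat_lit 209197)) (.leaf (nat_lit 61643))) (.node (.leaf (nat_lit 131229)) (.leaf
    (nat_lit 300801)))) (.node (.node (.leaf (nat_lit 428130)) (.leaf (nat_lit 444415))) (.leaf
    (nat_lit 414353)))) (.node (.node (.node (.leaf (nat_lit 151812)) (.leaf (nat_lit 119193)))
    (.node (.leaf (nat_lit 274811)) (.leaf (nat_lit 381596)))) (.node (.node (.leaf (nat_lit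
    340987)) (.leaf (nat_lit 90225))) (.leaf (nat_lit 12337)))))) (.node (.node (.node (.node
    (.node (.leaf (nat_lit 135326)) (.leaf (nat_lit 143533))) (.node (.leaf (nat_lit 94325)) (.leaf
    (nat_lit 321365)))) (.node (.node (.leaf (nat_lit 399410)) (.leaf (nat_lit 313418))) (.node
    (.leaf (nat_lit 360965)) (.leaf (nat_lit 469013))))) (.node (.node (.node (.leaf (nat_lit
    168159)) (.leaf (nat_lit 459568))) (.node (.leaf (nat_lit 221470)) (.leaf (nat_lit 268252))))
    (.node (.node (.leaf (nat_lit 436220)) (.leaf (nat_lit 147630))) (.leaf (nat_lit 28706)))))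
    (.node (.node (.node (.node (.leaf (nat_lit 217367)) (.leaf (nat_lit 209153))) (.node (.leaf
    (nat_lit 106825)) (.leaf (nat_lit 174053)))) (.node (.node (.leaf (nat_lit 476159)) (.leaf
    (nat_lit 469011))) (.leaf (nat_lit 398016)))) (.node (.node (.node (.leaf (nat_lit 102738))
    (.leaf (nat_lit 135625))) (.node (.leaf (nat_lit 352761)) (.leaf (nat_lit 206567)))) (.node
    (.node (.leaf (nat_lit 32811)) (.leaf (nat_lit 307614))) (.leaf (nat_lit 205048)))))))) (.node
    (.node (.node (.node (.node (.node (.node (.leaf (nat_lit 16405)) (.leaf (nat_lit 274808)))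
    (.node (.leaf (nat_lit 41028)) (.leaf (nat_lit 219002)))) (.node (.node (.leaf (nat_lit 98675))
    (.leaf (nat_lit 156161))) (.node (.leaf (nat_lit 369173)) (.leaf (nat_lit 201331))))) (.node
    (.node (.node (.leaf (nat_lit 303517)) (.leaf (nat_lit 201010))) (.node (.leaf (nat_lit
    217365)) (.leaf (nat_lit 198549)))) (.node (.node (.leaf (nat_lit 329758)) (.leaf (nat_lit
    45114))) (.leaf (nat_lit 443128))))) (.node (.node (.node (.node (.leaf (nat_lit 200944))
    (.leaf (nat_lit 365064))) (.node (.leaf (nat_lit 135329)) (.leaf (nat_lit 292558)))) (.node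
    (.node (.leaf (nat_lit 332241)) (.leaf (nat_lit 374890))) (.node (.leaf (nat_lit 411336))
    (.leaf (nat_lit 419876))))) (.node (.node (.node (.leaf (nat_lit 73971)) (.leaf (nat_lit
    115091))) (.node (.leaf (nat_lit 246097)) (.leaf (nat_lit 344543)))) (.node (.node (.leaf
    (nat_lit 344980)) (.leaf (nat_lit 82025))) (.leaf (nat_lit 8231)))))) (.node (.node (.node
    (.node (.node (.leaf (nat_lit 36918)) (.leaf (nat_lit 45209))) (.node (.leaf (nat_lit 86125))
    (.leaf (nat_lit 214814)))) (.node (.node (.leaf (nat_lit 365069)) (.leaf (nat_lit 189011)))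
    (.node (.leaf (nat_lit 295406)) (.leaf (nat_lit 358361))))) (.node (.node (.node (.leaf
    (nat_lit 176341)) (.leaf (nat_lit 94567))) (.node (.leaf (nat_lit 184596)) (.leaf (nat_lit
    311715)))) (.node (.node (.leaf (nat_lit 260022)) (.leaf (nat_lit 49217))) (.leaf (nat_lit
    4))))) (.node (.node (.node (.node (.leaf (nat_lit 237885)) (.leaf (nat_lit 69867))) (.node
    (.leaf (nat_lit 114959)) (.leaf (nat_lit 439004)))) (.node (.node (.leaf (nat_lit 299542))
    (.leaf (nat_lit 452459))) (.leaf (nat_lit 389776)))) (.node (.node (.node (.leaf (nat_lit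
    86331)) (.leaf (nat_lit 428075))) (.node (.leaf (nat_lit 287115)) (.leaf (nat_lit 377377))))
    (.node (.node (.leaf (nat_lit 24609)) (.leaf (nat_lit 114829))) (.leaf (nat_lit 176336)))))))
    (.node (.node (.node (.node (.node (.node (.leaf (nat_lit 28709)) (.leaf (nat_lit 291214)))
    (.node (.leaf (nat_lit 69725)) (.leaf (nat_lit 57533)))) (.node (.node (.leaf (nat_lit 274829))
    (.leaf (nat_lit 399479))) (.node (.leaf (nat_lit 303558)) (.leaf (nat_lit 259886))))) (.node
    (.node (.node (.leaf (nat_lit 250191)) (.leaf (nat_lit 436156))) (.node (.leaf (nat_lit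
    205046)) (.leaf (nat_lit 411316)))) (.node (.node (.leaf (nat_lit 295595)) (.leaf (nat_lit
    86122))) (.leaf (nat_lit 476157))))) (.node (.node (.node (.node (.leaf (nat_lit 246090))
    (.leaf (nat_lit 65753))) (.node (.leaf (nat_lit 118944)) (.leaf (nat_lit 426692)))) (.node
    (.node (.leaf (nat_lit 221691)) (.leaf (nat_lit 246503))) (.leaf (nat_lit 422593)))) (.node
    (.node (.node (.leaf (nat_lit 411289)) (.leaf (nat_lit 309362))) (.node (.leaf (nat_lit
    270711)) (.leaf (nat_lit 243687)))) (.node (.node (.leaf (nat_lit 4105)) (.leaf (nat_lit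
    98425))) (.leaf (nat_lit 139430)))))) (.node (.node (.node (.node (.node (.leaf (nat_lit
    53326)) (.leaf (nat_lit 147634))) (.node (.leaf (nat_lit 102525)) (.leaf (nat_lit 397924))))
    (.node (.node (.leaf (nat_lit 315820)) (.leaf (nat_lit 218813))) (.node (.leaf (nat_lit
    320010)) (.leaf (nat_lit 464979))))) (.node (.node (.node (.leaf (nat_lit 69861)) (.leaf
    (nat_lit 98685))) (.node (.leaf (nat_lit 241985)) (.leaf (nat_lit 328117)))) (.node (.node
    (.leaf (nat_lit 448457)) (.leaf (nat_lit 65625))) (.leaf (nat_lit 53314))))) (.node (.node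
    (.node (.node (.leaf (nat_lit 45203)) (.leaf (nat_lit 407276))) (.node (.leaf (nat_lit 172239))
    (.leaf (nat_lit 223016)))) (.node (.node (.leaf (nat_lit 407284)) (.leaf (nat_lit 477251)))
    (.leaf (nat_lit 451353)))) (.node (.node (.node (.leaf (nat_lit 440229)) (.leaf (nat_lit
    325726))) (.node (.leaf (nat_lit 336333)) (.leaf (nat_lit 456549)))) (.node (.node (.leaf
    (nat_lit 57421)) (.leaf (nat_lit 305163))) (.leaf (nat_lit 229685))))))))) (.node (.node (.node
    (.node (.node (.node (.node (.node (.leaf (nat_lit 12302)) (.leaf (nat_lit 237924))) (.node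
    (.leaf (nat_lit 65698)) (.leaf (nat_lit 190286)))) (.node (.node (.leaf (nat_lit 156016))
    (.leaf (nat_lit 360963))) (.node (.leaf (nat_lit 328601)) (.leaf (nat_lit 276357))))) (.node
    (.node (.node (.leaf (nat_lit 61605)) (.leaf (nat_lit 78107))) (.node (.leaf (nat_lit 139484))
    (.leaf (nat_lit 169950)))) (.node (.node (.leaf (nat_lit 325644)) (.leaf (nat_lit 11))) (.leaf
    (nat_lit 447225))))) (.node (.node (.node (.node (.leaf (nat_lit 184544)) (.leaf (nat_lit
    159936))) (.node (.leaf (nat_lit 151822)) (.leaf (nat_lit 349924)))) (.node (.node (.leaf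
    (nat_lit 143827)) (.leaf (nat_lit 346220))) (.node (.leaf (nat_lit 344999)) (.leaf (nat_lit
    415760))))) (.node (.node (.node (.leaf (nat_lit 147729)) (.leaf (nat_lit 295317))) (.node
    (.leaf (nat_lit 250192)) (.leaf (nat_lit 141209)))) (.node (.node (.leaf (nat_lit 312180))
    (.leaf (nat_lit 20575))) (.leaf (nat_lit 32809)))))) (.node (.node (.node (.node (.node (.leaf
    (nat_lit 24632)) (.leaf (nat_lit 131227))) (.node (.leaf (nat_lit 73994)) (.leaf (nat_lit
    370644)))) (.node (.node (.leaf (nat_lit 131542)) (.leaf (nat_lit 393813))) (.node (.leaf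
    (nat_lit 377766)) (.leaf (nat_lit 288769))))) (.node (.node (.node (.leaf (nat_lit 336335))
    (.leaf (nat_lit 90457))) (.node (.leaf (nat_lit 188678)) (.leaf (nat_lit 247812)))) (.node
    (.node (.leaf (nat_lit 280535)) (.leaf (nat_lit 110724))) (.leaf (nat_lit 463868))))) (.node
    (.node (.node (.node (.leaf (nat_lit 270709)) (.leaf (nat_lit 196845))) (.node (.leaf (nat_lit
    147633)) (.leaf (nat_lit 434902)))) (.node (.node (.leaf (nat_lit 172559)) (.leaf (nat_lit
    267041))) (.leaf (nat_lit 382665)))) (.node (.node (.node (.leaf (nat_lit 160056)) (.leaf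
    (nat_lit 423963))) (.node (.leaf (nat_lit 254336)) (.leaf (nat_lit 251874)))) (.node (.node
    (.leaf (nat_lit 12313)) (.leaf (nat_lit 36991))) (.leaf (nat_lit 168136))))))) (.node (.node
    (.node (.node (.node (.node (.leaf (nat_lit 57425)) (.leaf (nat_lit 110729))) (.node (.leaf
    (nat_lit 49315)) (.leaf (nat_lit 159935)))) (.node (.node (.leaf (nat_lit 443115)) (.leaf
    (nat_lit 329829))) (.node (.leaf (nat_lit 312216)) (.leaf (nat_lit 460553))))) (.node (.node
    (.node (.leaf (nat_lit 188647)) (.leaf (nat_lit 233797))) (.node (.leaf (nat_lit 192750))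
    (.leaf (nat_lit 239619)))) (.node (.node (.leaf (nat_lit 381595)) (.leaf (nat_lit 77922)))
    (.leaf (nat_lit 455474))))) (.node (.node (.node (.node (.leaf (nat_lit 233782)) (.leaf
    (nat_lit 180443))) (.node (.leaf (nat_lit 127132)) (.leaf (nat_lit 422590)))) (.node (.node
    (.leaf (nat_lit 414357)) (.leaf (nat_lit 251808))) (.leaf (nat_lit 407280)))) (.node (.node
    (.node (.leaf (nat_lit 78099)) (.leaf (nat_lit 403573))) (.node (.leaf (nat_lit 237920)) (.leaf
    (nat_lit 407217)))) (.node (.node (.leaf (nat_lit 3)) (.leaf (nat_lit 28783))) (.leaf (nat_lit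
    127126)))))) (.node (.node (.node (.node (.node (.leaf (nat_lit 32839)) (.leaf (nat_lit
    49323))) (.node (.leaf (nat_lit 90474)) (.leaf (nat_lit 337747)))) (.node (.node (.leaf
    (nat_lit 180654)) (.leaf (nat_lit 415479))) (.node (.leaf (nat_lit 356868)) (.leaf (nat_lit
    362443))))) (.node (.node (.node (.leaf (nat_lit 114914)) (.leaf (nat_lit 278911))) (.node
    (.leaf (nat_lit 209201)) (.leaf (nat_lit 182166)))) (.node (.node (.leaf (nat_lit 361211))
    (.leaf (nat_lit 155832))) (.leaf (nat_lit 36910))))) (.node (.node (.node (.node (.leaf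
    (nat_lit 49296)) (.leaf (nat_lit 73983))) (.node (.leaf (nat_lit 123076)) (.leaf (nat_lit
    194381)))) (.node (.node (.leaf (nat_lit 197272)) (.leaf (nat_lit 473126))) (.leaf (nat_lit
    402118)))) (.node (.node (.node (.leaf (nat_lit 90445)) (.leaf (nat_lit 378993))) (.node (.leaf
    (nat_lit 348655)) (.leaf (nat_lit 444251)))) (.node (.node (.leaf (nat_lit 28714)) (.leaf
    (nat_lit 324016))) (.leaf (nat_lit 221464)))))))) (.node (.node (.node (.node (.node (.node
    (.node (.leaf (nat_lit 8208)) (.leaf (nat_lit 283010))) (.node (.leaf (nat_lit 36940)) (.leaf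
    (nat_lit 151735)))) (.node (.node (.leaf (nat_lit 452463)) (.leaf (nat_lit 369171))) (.node
    (.leaf (nat_lit 365067)) (.leaf (nat_lit 209535))))) (.node (.node (.node (.leaf (nat_lit
    127190)) (.leaf (nat_lit 86339))) (.node (.leaf (nat_lit 213255)) (.leaf (nat_lit 227034))))
    (.node (.node (.leaf (nat_lit 226990)) (.leaf (nat_lit 61522))) (.leaf (nat_lit 430872)))))
    (.node (.node (.node (.node (.leaf (nat_lit 213250)) (.leaf (nat_lit 172237))) (.node (.leaf
    (nat_lit 164037)) (.leaf (nat_lit 366373)))) (.node (.node (.leaf (nat_lit 403491)) (.leaf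
    (nat_lit 456642))) (.node (.leaf (nat_lit 418473)) (.leaf (nat_lit 387136))))) (.node (.node
    (.node (.leaf (nat_lit 110894)) (.leaf (nat_lit 303515))) (.node (.leaf (nat_lit 278913))
    (.leaf (nat_lit 135645)))) (.node (.node (.leaf (nat_lit 373669)) (.leaf (nat_lit 24679)))
    (.leaf (nat_lit 41011)))))) (.node (.node (.node (.node (.node (.leaf (nat_lit 118926)) (.leaf
    (nat_lit 332228))) (.node (.leaf (nat_lit 98667)) (.leaf (nat_lit 186266)))) (.node (.node
    (.leaf (nat_lit 463730)) (.leaf (nat_lit 342076))) (.node (.leaf (nat_lit 291320)) (.leaf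
    (nat_lit 477253))))) (.node (.node (.node (.leaf (nat_lit 369177)) (.leaf (nat_lit 432065)))
    (.node (.leaf (nat_lit 225567)) (.leaf (nat_lit 119201)))) (.node (.node (.leaf (nat_lit
    460769)) (.leaf (nat_lit 12351))) (.leaf (nat_lit 20506))))) (.node (.node (.node (.node (.leaf
    (nat_lit 205045)) (.leaf (nat_lit 82189))) (.node (.leaf (nat_lit 155835)) (.leaf (nat_lit
    129031)))) (.node (.node (.leaf (nat_lit 424024)) (.leaf (nat_lit 464976))) (.leaf (nat_lit
    385704)))) (.node (.node (.node (.leaf (nat_lit 94563)) (.leaf (nat_lit 336331))) (.node (.leaf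
    (nat_lit 283018)) (.leaf (nat_lit 164383)))) (.node (.node (.leaf (nat_lit 20512)) (.leaf
    (nat_lit 41099))) (.leaf (nat_lit 192744))))))) (.node (.node (.node (.node (.node (.node
    (.leaf (nat_lit 41013)) (.leaf (nat_lit 299414))) (.node (.leaf (nat_lit 82187)) (.leaf
    (nat_lit 373274)))) (.node (.node (.leaf (nat_lit 385609)) (.leaf (nat_lit 385607))) (.node
    (.leaf (nat_lit 299468)) (.leaf (nat_lit 280288))))) (.node (.node (.node (.leaf (nat_lit
    241990)) (.leaf (nat_lit 447222))) (.node (.leaf (nat_lit 200951)) (.leaf (nat_lit 393818))))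
    (.node (.node (.leaf (nat_lit 378938)) (.leaf (nat_lit 94322))) (.leaf (nat_lit 471971)))))
    (.node (.node (.node (.node (.leaf (nat_lit 262492)) (.leaf (nat_lit 381506))) (.node (.leaf
    (nat_lit 180445)) (.leaf (nat_lit 296730)))) (.node (.node (.leaf (nat_lit 455461)) (.leaf
    (nat_lit 440227))) (.leaf (nat_lit 426695)))) (.node (.node (.node (.leaf (nat_lit 348657))
    (.leaf (nat_lit 319913))) (.node (.leaf (nat_lit 266614)) (.leaf (nat_lit 264141)))) (.node
    (.node (.leaf (nat_lit 8215)) (.leaf (nat_lit 32887))) (.leaf (nat_lit 57419)))))) (.node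
    (.node (.node (.node (.node (.leaf (nat_lit 164034)) (.leaf (nat_lit 348652))) (.node (.leaf
    (nat_lit 160072)) (.leaf (nat_lit 402026)))) (.node (.node (.leaf (nat_lit 467858)) (.leaf
    (nat_lit 213645))) (.node (.leaf (nat_lit 315924)) (.leaf (nat_lit 473129))))) (.node (.node
    (.node (.leaf (nat_lit 393815)) (.leaf (nat_lit 287113))) (.node (.leaf (nat_lit 262497))
    (.leaf (nat_lit 123315)))) (.node (.node (.leaf (nat_lit 432069)) (.leaf (nat_lit 16471)))
    (.leaf (nat_lit 24607))))) (.node (.node (.node (.node (.leaf (nat_lit 319915)) (.leaf (nat_lit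
    418470))) (.node (.leaf (nat_lit 168142)) (.leaf (nat_lit 451350)))) (.node (.node (.leaf
    (nat_lit 352860)) (.leaf (nat_lit 4102))) (.leaf (nat_lit 439007)))) (.node (.node (.node
    (.leaf (nat_lit 356863)) (.leaf (nat_lit 352759))) (.node (.leaf (nat_lit 332231)) (.leaf
    (nat_lit 231197)))) (.node (.node (.leaf (nat_lit 53317)) (.leaf (nat_lit 317434))) (.leaf
    (nat_lit 241982))))))))))

/-- Certificate data. -/
def l33_C : TC.Cert := ⟨9, 511, 12, 4095, 434320308636287488, 62, l33_par, l33_fact, l33_just, l33_rel, 72⟩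

/-- Certificate data. -/
def l33_rs : List (List ℕ) := [[1, 1, 1, 1, 1, 1, 1, 1], [3, 3], [3, 1, 3, 2, 2, 2], [4, 4, 4], [3, 4, 3, 4], [4, 1, 1, 5, 3, 2], [6, 6, 6], [6, 1, 1, 1, 1, 7, 3], [1, 1, 3, 6, 1, 1, 3, 6], [4, 6, 1, 1, 4, 2, 2, 7, 5, 6, 1, 1, 5, 2, 2, 7], [4, 7, 1, 1, 4, 2, 2, 6, 5, 7, 1, 1, 5, 2, 2, 6]]

/-- Certificate data. -/
def l33_gl : List ℕ := [1, 29955, 59908, 89862]

theorem l33_h1_0 : allR l33_C.factChk 0 678 = true := by decide +kernel

theorem l33_h1_1 : allR l33_C.factChk 678 406 = true := by decide +kernel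

theorem l33_h1 : allB l33_C.factChk 1084 = true :=
  allB_of_allR (a := 1084)
    (allR_append (l33_h1_0) l33_h1_1)

theorem l33_h2 : l33_C.finChk 1084 117 l33_lv l33_tb l33_gl = true := by decide +kernel

theorem l33_h3 : TC.relChk l33_C.ivc l33_rs l33_C.rel l33_rc l33_C.nrel = true := by decide +kernel

theorem l33_bound {G : Type*} [Group G] {a r k w : G}
    (r0 : a * a * a * a * a * a * a * a = 1)
    (r1 : r * r = 1)
    (r2 : r * a * r * a⁻¹ * a⁻¹ * a⁻¹ = 1)
    (r3 : k * k * k = 1)
    (r4 : r * k * r * k = 1)
    (r5 : k * a * a * k⁻¹ * r * a⁻¹ = 1)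
    (r6 : w * w * w = 1)
    (r7 : w * a * a * a * a * w⁻¹ * r = 1)
    (r8 : a * a * r * w * a * a * r * w = 1)
    (r9 : k * w * a * a * k * a⁻¹ * a⁻¹ * w⁻¹ * k⁻¹ * w * a * a * k⁻¹ * a⁻¹ * a⁻¹ * w⁻¹ = 1)
    (r10 : k * w⁻¹ * a * a * k * a⁻¹ * a⁻¹ * w * k⁻¹ * w⁻¹ * a * a * k⁻¹ * a⁻¹ * a⁻¹ * w = 1)
    (H : Subgroup G) [Finite H] (m1 : a ∈ H) (m3 : r ∈ H) (m4 : k ∈ H) :
    Finite (Subgroup.closure ({a, r, k, w} : Set G)) ∧
      Nat.card (Subgroup.closure ({a, r, k, w} : Set G)) ≤ 117 * Nat.card H := by
  have hL : TC.Lett (TC.lett [a, a⁻¹, r, k, k⁻¹, w, w⁻¹]) l33_C.ivc :=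
    TC.lett_ok (show Nat.shiftRight l33_C.ivc (8 * 8) = 0 by decide +kernel) (by
      intro a ha
      change a < 8 at ha
      interval_cases a
      · exact inv_one.symm
      · rfl
      · exact (inv_inv _).symm
      · exact (inv_eq_of_mul_eq_one_right r1).symm
      · rfl
      · exact (inv_inv _).symm
      · rfl
      · exact (inv_inv _).symm)
  have h := TC.card_le l33_h1 l33_h2 l33_h3 (by decide) hL (by
    simp only [l33_rs, List.forall_mem_cons]
    refine ⟨?_, ?_, ?_, ?_, ?_, ?_, ?_, ?_, ?_, ?_, ?_, List.forall_mem_nil _⟩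
    · show a * (a * (a * (a * (a * (a * (a * (a * 1))))))) = 1
      simp only [mul_assoc, mul_one] at r0 ⊢
      exact r0
    · show r * (r * 1) = 1
      simp only [mul_one] at r1 ⊢
      exact r1
    · show r * (a * (r * (a⁻¹ * (a⁻¹ * (a⁻¹ * 1))))) = 1
      simp only [mul_assoc, mul_one] at r2 ⊢
      exact r2
    · show k * (k * (k * 1)) = 1
      simp only [mul_assoc, mul_one] at r3 ⊢
      exact r3
    · show r * (k * (r * (k * 1))) = 1
      simp only [mul_assoc, mul_one] at r4 ⊢
      exact r4
    · show k * (a * (a * (k⁻¹ * (r * (a⁻¹ * 1))))) = 1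
      simp only [mul_assoc, mul_one] at r5 ⊢
      exact r5
    · show w * (w * (w * 1)) = 1
      simp only [mul_assoc, mul_one] at r6 ⊢
      exact r6
    · show w * (a * (a * (a * (a * (w⁻¹ * (r * 1)))))) = 1
      simp only [mul_assoc, mul_one] at r7 ⊢
      exact r7
    · show a * (a * (r * (w * (a * (a * (r * (w * 1))))))) = 1
      simp only [mul_assoc, mul_one] at r8 ⊢
      exact r8
    · show k * (w * (a * (a * (k * (a⁻¹ * (a⁻¹ * (w⁻¹ * (k⁻¹ * (w * (a * (a * (k⁻¹ * (a⁻¹ * (a⁻¹ *
    (w⁻¹ * 1))))))))))))))) = 1
      simp only [mul_assoc, mul_one] at r9 ⊢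
      exact r9
    · show k * (w⁻¹ * (a * (a * (k * (a⁻¹ * (a⁻¹ * (w * (k⁻¹ * (w⁻¹ * (a * (a * (k⁻¹ * (a⁻¹ * (a⁻¹
    * (w * 1))))))))))))))) = 1
      simp only [mul_assoc, mul_one] at r10 ⊢
      exact r10) H
    (TC.forall_subs (K := 8) (by decide +kernel) (by
      intro a ha hb
      interval_cases a
      · exact absurd hb (by decide +kernel)
      · exact m1
      · exact H.inv_mem m1
      · exact m3
      · exact m4
      · exact H.inv_mem m4
      · exact absurd hb (by decide +kernel)
      · exact absurd hb (by decide +kernel)))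
  have e : {g₀ | ∃ ak ∈ l33_gl, TC.lett [a, a⁻¹, r, k, k⁻¹, w, w⁻¹] (ak % 256) = g₀} =
      {a, r, k, w} := by
    ext g₀
    simp only [l33_gl, List.mem_cons, List.not_mem_nil, or_false, exists_eq_or_imp,
      exists_eq_left, Set.mem_ofPred_eq, Set.mem_insert_iff, Set.mem_singleton_iff]
    exact or_congr eq_comm (or_congr eq_comm (or_congr eq_comm (eq_comm)))
  rw [e] at h
  exact h

theorem l33_card {G : Type*} [Group G] {a r k w : G}
    (e0 : a ^ 8 = 1)
    (e1 : r * r = 1)
    (e2 : r * a * r = a ^ 3)
    (e3 : k ^ 3 = 1)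
    (e4 : r * k * r = k⁻¹)
    (e5 : k * a ^ 2 * k⁻¹ = a * r)
    (e6 : w ^ 3 = 1)
    (e7 : w * a ^ 4 * w⁻¹ = r)
    (e8 : a ^ 2 * r * w * (a ^ 2 * r) = w⁻¹)
    (e9 : k * (w * (a ^ 2 * k * (a ^ 2)⁻¹) * w⁻¹) = (w * (a ^ 2 * k * (a ^ 2)⁻¹) * w⁻¹) * k)
    (e10 : k * (w⁻¹ * (a ^ 2 * k * (a ^ 2)⁻¹) * w) = (w⁻¹ * (a ^ 2 * k * (a ^ 2)⁻¹) * w) * k)
    (H : Subgroup G) [Finite H] (ma : a ∈ H) (mr : r ∈ H) (mk : k ∈ H) :
    Finite (Subgroup.closure ({a, r, k, w} : Set G)) ∧
      Nat.card (Subgroup.closure ({a, r, k, w} : Set G)) ≤ 117 * Nat.card H := by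
  have ir : r⁻¹ = r := inv_eq_of_mul_eq_one_right e1
  refine l33_bound ?_ ?_ ?_ ?_ ?_ ?_ ?_ ?_ ?_ ?_ ?_ H ma mr mk
  · have h := mul_inv_eq_one.mpr e0
    simp only [pow_succ, pow_zero, mul_inv_rev, inv_inv, inv_one, one_mul, mul_one, mul_assoc,
      mul_inv_cancel_left, inv_mul_cancel_left, mul_inv_cancel, inv_mul_cancel, ir] at h ⊢
    exact h
  · have h := mul_inv_eq_one.mpr e1
    simp only [pow_succ, pow_zero, mul_inv_rev, inv_inv, inv_one, one_mul, mul_one, mul_assoc,
      mul_inv_cancel_left, inv_mul_cancel_left, mul_inv_cancel, inv_mul_cancel, ir] at h ⊢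
    exact h
  · have h := mul_inv_eq_one.mpr e2
    simp only [pow_succ, pow_zero, mul_inv_rev, inv_inv, inv_one, one_mul, mul_one, mul_assoc,
      mul_inv_cancel_left, inv_mul_cancel_left, mul_inv_cancel, inv_mul_cancel, ir] at h ⊢
    exact h
  · have h := mul_inv_eq_one.mpr e3
    simp only [pow_succ, pow_zero, mul_inv_rev, inv_inv, inv_one, one_mul, mul_one, mul_assoc,
      mul_inv_cancel_left, inv_mul_cancel_left, mul_inv_cancel, inv_mul_cancel, ir] at h ⊢
    exact h
  · have h := mul_inv_eq_one.mpr e4
    simp only [pow_succ, pow_zero, mul_inv_rev, inv_inv, inv_one, one_mul, mul_one, mul_assoc,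
      mul_inv_cancel_left, inv_mul_cancel_left, mul_inv_cancel, inv_mul_cancel, ir] at h ⊢
    exact h
  · have h := mul_inv_eq_one.mpr e5
    simp only [pow_succ, pow_zero, mul_inv_rev, inv_inv, inv_one, one_mul, mul_one, mul_assoc,
      mul_inv_cancel_left, inv_mul_cancel_left, mul_inv_cancel, inv_mul_cancel, ir] at h ⊢
    exact h
  · have h := mul_inv_eq_one.mpr e6
    simp only [pow_succ, pow_zero, mul_inv_rev, inv_inv, inv_one, one_mul, mul_one, mul_assoc,
      mul_inv_cancel_left, inv_mul_cancel_left, mul_inv_cancel, inv_mul_cancel, ir] at h ⊢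
    exact h
  · have h := mul_inv_eq_one.mpr e7
    simp only [pow_succ, pow_zero, mul_inv_rev, inv_inv, inv_one, one_mul, mul_one, mul_assoc,
      mul_inv_cancel_left, inv_mul_cancel_left, mul_inv_cancel, inv_mul_cancel, ir] at h ⊢
    exact h
  · have h := mul_inv_eq_one.mpr e8
    simp only [pow_succ, pow_zero, mul_inv_rev, inv_inv, inv_one, one_mul, mul_one, mul_assoc,
      mul_inv_cancel_left, inv_mul_cancel_left, mul_inv_cancel, inv_mul_cancel, ir] at h ⊢
    exact h
  · have h := mul_inv_eq_one.mpr e9
    simp only [pow_succ, pow_zero, mul_inv_rev, inv_inv, inv_one, one_mul, mul_one, mul_assoc,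
      mul_inv_cancel_left, inv_mul_cancel_left, mul_inv_cancel, inv_mul_cancel, ir] at h ⊢
    exact h
  · have h := mul_inv_eq_one.mpr e10
    simp only [pow_succ, pow_zero, mul_inv_rev, inv_inv, inv_one, one_mul, mul_one, mul_assoc,
      mul_inv_cancel_left, inv_mul_cancel_left, mul_inv_cancel, inv_mul_cancel, ir] at h ⊢
    exact h

/-- Certificate data. -/
def cx0_par : Trie :=
    (.node (.node (.leaf (nat_lit 0)) (.leaf (nat_lit 257))) (.node (.leaf (nat_lit 6)) (.leaf
    (nat_lit 258))))

/-- Certificate data. -/
def cx0_fact : Trie :=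
    (.node (.node (.node (.node (.leaf (nat_lit 1)) (.leaf (nat_lit 2816))) (.node (.leaf (nat_lit
    1285)) (.leaf (nat_lit 1281)))) (.node (.node (.leaf (nat_lit 4)) (.leaf (nat_lit 1539)))
    (.leaf (nat_lit 3330)))) (.node (.node (.node (.leaf (nat_lit 3)) (.leaf (nat_lit 1537)))
    (.node (.leaf (nat_lit 2305)) (.leaf (nat_lit 1283)))) (.node (.node (.leaf (nat_lit 1030))
    (.leaf (nat_lit 1536))) (.leaf (nat_lit 1795)))))

/-- Certificate data. -/
def cx0_just : Trie :=
    (.node (.node (.node (.node (.leaf (nat_lit 1)) (.leaf (nat_lit 1574789318214759614119941)))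
    (.node (.leaf (nat_lit 27105538801667)) (.leaf (nat_lit 2572685541378)))) (.node (.node (.leaf
    (nat_lit 1)) (.leaf (nat_lit 1997159923714))) (.leaf (nat_lit 0)))) (.node (.node (.node (.leaf
    (nat_lit 1)) (.leaf (nat_lit 1859720970242))) (.node (.leaf (nat_lit 0)) (.leaf (nat_lit
    2847563448322)))) (.node (.node (.leaf (nat_lit 0)) (.leaf (nat_lit 42165257313255430))) (.leaf
    (nat_lit 27449226183376900)))))

/-- Certificate data. -/
def cx0_rel : Trie :=
    (.node (.node (.node (.leaf (nat_lit 0)) (.leaf (nat_lit 12968919556))) (.leaf (nat_lit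
    1125315184131))) (.node (.leaf (nat_lit 100992516)) (.leaf (nat_lit 4833263402672900473089))))

/-- Certificate data. -/
def cx0_rc : Trie :=
    (.node (.node (.node (.leaf (nat_lit 20)) (.leaf (nat_lit 131081))) (.leaf (nat_lit 262160)))
    (.node (.leaf (nat_lit 131086)) (.leaf (nat_lit 131090))))

/-- Certificate data. -/
def cx0_lv : Trie :=
    (.node (.leaf (nat_lit 0)) (.leaf (nat_lit 1)))

/-- Certificate data. -/
def cx0_tb : Trie :=
    (.node (.node (.node (.leaf (nat_lit 0)) (.leaf (nat_lit 4))) (.node (.leaf (nat_lit 3)) (.leaf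
    (nat_lit 38)))) (.node (.node (.leaf (nat_lit 56)) (.leaf (nat_lit 41))) (.node (.leaf (nat_lit
    59)) (.leaf (nat_lit 7)))))

/-- Certificate data. -/
def cx0_C : TC.Cert := ⟨2, 3, 5, 31, 1693269432009216, 62, cx0_par, cx0_fact, cx0_just, cx0_rel, 5⟩

/-- Certificate data. -/
def cx0_rs : List (List ℕ) := [[1, 1, 1, 1], [3, 3], [3, 1, 3, 1], [4, 4, 4], [4, 1, 1, 5, 3], [1, 3, 4, 1, 3, 4], [6, 6], [6, 4, 6, 5], [6, 1, 3, 6, 3, 2], [1, 1, 1, 3, 6, 1, 1, 1, 3, 6]]

/-- Certificate data. -/
def cx0_gl : List ℕ := [1, 515, 1028, 1542]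

theorem cx0_h1 : allB cx0_C.factChk 14 = true := by decide +kernel

theorem cx0_h2 : cx0_C.finChk 14 2 cx0_lv cx0_tb cx0_gl = true := by decide +kernel

theorem cx0_h3 : TC.relChk cx0_C.ivc cx0_rs cx0_C.rel cx0_rc cx0_C.nrel = true := by decide +kernel

theorem cx0_bound {G : Type*} [Group G] {y r w t : G}
    (r0 : y * y * y * y = 1)
    (r1 : r * r = 1)
    (r2 : r * y * r * y = 1)
    (r3 : w * w * w = 1)
    (r4 : w * y * y * w⁻¹ * r = 1)
    (r5 : y * r * w * y * r * w = 1)
    (r6 : t * t = 1)
    (r7 : t * w * t * w⁻¹ = 1)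
    (r8 : t * y * r * t * r * y⁻¹ = 1)
    (r9 : y * y * y * r * t * y * y * y * r * t = 1)
    (H : Subgroup G) [Finite H] (m1 : y ∈ H) (m3 : r ∈ H) (m4 : w ∈ H) :
    Finite (Subgroup.closure ({y, r, w, t} : Set G)) ∧
      Nat.card (Subgroup.closure ({y, r, w, t} : Set G)) ≤ 2 * Nat.card H := by
  have hL : TC.Lett (TC.lett [y, y⁻¹, r, w, w⁻¹, t]) cx0_C.ivc :=
    TC.lett_ok (show Nat.shiftRight cx0_C.ivc (8 * 7) = 0 by decide +kernel) (by
      intro a ha
      change a < 7 at ha
      interval_cases a
      · exact inv_one.symm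
      · rfl
      · exact (inv_inv _).symm
      · exact (inv_eq_of_mul_eq_one_right r1).symm
      · rfl
      · exact (inv_inv _).symm
      · exact (inv_eq_of_mul_eq_one_right r6).symm)
  have h := TC.card_le cx0_h1 cx0_h2 cx0_h3 (by decide) hL (by
    simp only [cx0_rs, List.forall_mem_cons]
    refine ⟨?_, ?_, ?_, ?_, ?_, ?_, ?_, ?_, ?_, ?_, List.forall_mem_nil _⟩
    · show y * (y * (y * (y * 1))) = 1
      simp only [mul_assoc, mul_one] at r0 ⊢
      exact r0
    · show r * (r * 1) = 1
      simp only [mul_one] at r1 ⊢
      exact r1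
    · show r * (y * (r * (y * 1))) = 1
      simp only [mul_assoc, mul_one] at r2 ⊢
      exact r2
    · show w * (w * (w * 1)) = 1
      simp only [mul_assoc, mul_one] at r3 ⊢
      exact r3
    · show w * (y * (y * (w⁻¹ * (r * 1)))) = 1
      simp only [mul_assoc, mul_one] at r4 ⊢
      exact r4
    · show y * (r * (w * (y * (r * (w * 1))))) = 1
      simp only [mul_assoc, mul_one] at r5 ⊢
      exact r5
    · show t * (t * 1) = 1
      simp only [mul_one] at r6 ⊢
      exact r6
    · show t * (w * (t * (w⁻¹ * 1))) = 1
      simp only [mul_assoc, mul_one] at r7 ⊢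
      exact r7
    · show t * (y * (r * (t * (r * (y⁻¹ * 1))))) = 1
      simp only [mul_assoc, mul_one] at r8 ⊢
      exact r8
    · show y * (y * (y * (r * (t * (y * (y * (y * (r * (t * 1))))))))) = 1
      simp only [mul_assoc, mul_one] at r9 ⊢
      exact r9) H
    (TC.forall_subs (K := 7) (by decide +kernel) (by
      intro a ha hb
      interval_cases a
      · exact absurd hb (by decide +kernel)
      · exact m1
      · exact H.inv_mem m1
      · exact m3
      · exact m4
      · exact H.inv_mem m4
      · exact absurd hb (by decide +kernel)))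
  have e : {g₀ | ∃ ak ∈ cx0_gl, TC.lett [y, y⁻¹, r, w, w⁻¹, t] (ak % 256) = g₀} =
      {y, r, w, t} := by
    ext g₀
    simp only [cx0_gl, List.mem_cons, List.not_mem_nil, or_false, exists_eq_or_imp,
      exists_eq_left, Set.mem_ofPred_eq, Set.mem_insert_iff, Set.mem_singleton_iff]
    exact or_congr eq_comm (or_congr eq_comm (or_congr eq_comm (eq_comm)))
  rw [e] at h
  exact h

theorem cx0_card {G : Type*} [Group G] {y r w t : G}
    (e0 : y ^ 4 = 1)
    (e1 : r * r = 1)
    (e2 : r * y * r = y⁻¹)
    (e3 : w ^ 3 = 1)
    (e4 : w * y ^ 2 * w⁻¹ = r)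
    (e5 : y * r * w * (y * r) = w⁻¹)
    (e6 : t * t = 1)
    (e7 : t * w = w * t)
    (e8 : t * (y * r) = y * r * t)
    (e9 : (y ^ 3 * r * t) ^ 2 = 1)
    (H : Subgroup G) [Finite H] (my : y ∈ H) (mr : r ∈ H) (mw : w ∈ H) :
    Finite (Subgroup.closure ({y, r, w, t} : Set G)) ∧
      Nat.card (Subgroup.closure ({y, r, w, t} : Set G)) ≤ 2 * Nat.card H := by
  have ir : r⁻¹ = r := inv_eq_of_mul_eq_one_right e1
  have it : t⁻¹ = t := inv_eq_of_mul_eq_one_right e6
  refine cx0_bound ?_ ?_ ?_ ?_ ?_ ?_ ?_ ?_ ?_ ?_ H my mr mw
  · have h := mul_inv_eq_one.mpr e0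
    simp only [pow_succ, pow_zero, mul_inv_rev, inv_inv, inv_one, one_mul, mul_one, mul_assoc,
      mul_inv_cancel_left, inv_mul_cancel_left, mul_inv_cancel, inv_mul_cancel, ir, it] at h ⊢
    exact h
  · have h := mul_inv_eq_one.mpr e1
    simp only [pow_succ, pow_zero, mul_inv_rev, inv_inv, inv_one, one_mul, mul_one, mul_assoc,
      mul_inv_cancel_left, inv_mul_cancel_left, mul_inv_cancel, inv_mul_cancel, ir, it] at h ⊢
    exact h
  · have h := mul_inv_eq_one.mpr e2
    simp only [pow_succ, pow_zero, mul_inv_rev, inv_inv, inv_one, one_mul, mul_one, mul_assoc,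
      mul_inv_cancel_left, inv_mul_cancel_left, mul_inv_cancel, inv_mul_cancel, ir, it] at h ⊢
    exact h
  · have h := mul_inv_eq_one.mpr e3
    simp only [pow_succ, pow_zero, mul_inv_rev, inv_inv, inv_one, one_mul, mul_one, mul_assoc,
      mul_inv_cancel_left, inv_mul_cancel_left, mul_inv_cancel, inv_mul_cancel, ir, it] at h ⊢
    exact h
  · have h := mul_inv_eq_one.mpr e4
    simp only [pow_succ, pow_zero, mul_inv_rev, inv_inv, inv_one, one_mul, mul_one, mul_assoc,
      mul_inv_cancel_left, inv_mul_cancel_left, mul_inv_cancel, inv_mul_cancel, ir, it] at h ⊢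
    exact h
  · have h := mul_inv_eq_one.mpr e5
    simp only [pow_succ, pow_zero, mul_inv_rev, inv_inv, inv_one, one_mul, mul_one, mul_assoc,
      mul_inv_cancel_left, inv_mul_cancel_left, mul_inv_cancel, inv_mul_cancel, ir, it] at h ⊢
    exact h
  · have h := mul_inv_eq_one.mpr e6
    simp only [pow_succ, pow_zero, mul_inv_rev, inv_inv, inv_one, one_mul, mul_one, mul_assoc,
      mul_inv_cancel_left, inv_mul_cancel_left, mul_inv_cancel, inv_mul_cancel, ir, it] at h ⊢
    exact h
  · have h := mul_inv_eq_one.mpr e7
    simp only [pow_succ, pow_zero, mul_inv_rev, inv_inv, inv_one, one_mul, mul_one, mul_assoc,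
      mul_inv_cancel_left, inv_mul_cancel_left, mul_inv_cancel, inv_mul_cancel, ir, it] at h ⊢
    exact h
  · have h := mul_inv_eq_one.mpr e8
    simp only [pow_succ, pow_zero, mul_inv_rev, inv_inv, inv_one, one_mul, mul_one, mul_assoc,
      mul_inv_cancel_left, inv_mul_cancel_left, mul_inv_cancel, inv_mul_cancel, ir, it] at h ⊢
    exact h
  · have h := mul_inv_eq_one.mpr e9
    simp only [pow_succ, pow_zero, mul_inv_rev, inv_inv, inv_one, one_mul, mul_one, mul_assoc,
      mul_inv_cancel_left, inv_mul_cancel_left, mul_inv_cancel, inv_mul_cancel, ir, it] at h ⊢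
    exact h

/-- Certificate data. -/
def cx1_par : Trie :=
    (.node (.node (.leaf (nat_lit 0)) (.leaf (nat_lit 257))) (.node (.leaf (nat_lit 6)) (.leaf
    (nat_lit 258))))

/-- Certificate data. -/
def cx1_fact : Trie :=
    (.node (.node (.node (.node (.leaf (nat_lit 1)) (.leaf (nat_lit 2816))) (.node (.leaf (nat_lit
    1285)) (.leaf (nat_lit 1281)))) (.node (.node (.leaf (nat_lit 4)) (.leaf (nat_lit 1539)))
    (.leaf (nat_lit 3330)))) (.node (.node (.node (.leaf (nat_lit 3)) (.leaf (nat_lit 1537)))
    (.node (.leaf (nat_lit 2305)) (.leaf (nat_lit 1283)))) (.node (.node (.leaf (nat_lit 1030))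
    (.leaf (nat_lit 1536))) (.leaf (nat_lit 1795)))))

/-- Certificate data. -/
def cx1_just : Trie :=
    (.node (.node (.node (.node (.leaf (nat_lit 1)) (.leaf (nat_lit 1612584261851919947337039877)))
    (.node (.leaf (nat_lit 27105538801667)) (.leaf (nat_lit 2572685541378)))) (.node (.node (.leaf
    (nat_lit 1)) (.leaf (nat_lit 1997159923714))) (.leaf (nat_lit 0)))) (.node (.node (.node (.leaf
    (nat_lit 1)) (.leaf (nat_lit 1859720970242))) (.node (.leaf (nat_lit 0)) (.leaf (nat_lit
    2847563448322)))) (.node (.node (.leaf (nat_lit 0)) (.leaf (nat_lit 42165257313255430))) (.leaf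
    (nat_lit 27449226183376900)))))

/-- Certificate data. -/
def cx1_rel : Trie :=
    (.node (.node (.node (.leaf (nat_lit 0)) (.leaf (nat_lit 12968919556))) (.leaf (nat_lit
    1125315184131))) (.node (.leaf (nat_lit 100992516)) (.leaf (nat_lit 14277996368412190900481))))

/-- Certificate data. -/
def cx1_rc : Trie :=
    (.node (.node (.node (.leaf (nat_lit 20)) (.leaf (nat_lit 131081))) (.leaf (nat_lit 262160)))
    (.node (.leaf (nat_lit 131086)) (.leaf (nat_lit 131090))))

/-- Certificate data. -/
def cx1_lv : Trie :=
    (.node (.leaf (nat_lit 0)) (.leaf (nat_lit 1)))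

/-- Certificate data. -/
def cx1_tb : Trie :=
    (.node (.node (.node (.leaf (nat_lit 0)) (.leaf (nat_lit 4))) (.node (.leaf (nat_lit 3)) (.leaf
    (nat_lit 38)))) (.node (.node (.leaf (nat_lit 56)) (.leaf (nat_lit 41))) (.node (.leaf (nat_lit
    59)) (.leaf (nat_lit 7)))))

/-- Certificate data. -/
def cx1_C : TC.Cert := ⟨2, 3, 5, 31, 1693269432009216, 62, cx1_par, cx1_fact, cx1_just, cx1_rel, 5⟩

/-- Certificate data. -/
def cx1_rs : List (List ℕ) := [[1, 1, 1, 1], [3, 3], [3, 1, 3, 1], [4, 4, 4], [4, 1, 1, 5, 3], [1, 3, 4, 1, 3, 4], [6, 6], [6, 4, 6, 5], [6, 1, 3, 6, 3, 2], [1, 1, 1, 3, 6, 1, 1, 1, 3, 6, 3, 2]]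

/-- Certificate data. -/
def cx1_gl : List ℕ := [1, 515, 1028, 1542]

theorem cx1_h1 : allB cx1_C.factChk 14 = true := by decide +kernel

theorem cx1_h2 : cx1_C.finChk 14 2 cx1_lv cx1_tb cx1_gl = true := by decide +kernel

theorem cx1_h3 : TC.relChk cx1_C.ivc cx1_rs cx1_C.rel cx1_rc cx1_C.nrel = true := by decide +kernel

theorem cx1_bound {G : Type*} [Group G] {y r w t : G}
    (r0 : y * y * y * y = 1)
    (r1 : r * r = 1)
    (r2 : r * y * r * y = 1)
    (r3 : w * w * w = 1)
    (r4 : w * y * y * w⁻¹ * r = 1)
    (r5 : y * r * w * y * r * w = 1)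
    (r6 : t * t = 1)
    (r7 : t * w * t * w⁻¹ = 1)
    (r8 : t * y * r * t * r * y⁻¹ = 1)
    (r9 : y * y * y * r * t * y * y * y * r * t * r * y⁻¹ = 1)
    (H : Subgroup G) [Finite H] (m1 : y ∈ H) (m3 : r ∈ H) (m4 : w ∈ H) :
    Finite (Subgroup.closure ({y, r, w, t} : Set G)) ∧
      Nat.card (Subgroup.closure ({y, r, w, t} : Set G)) ≤ 2 * Nat.card H := by
  have hL : TC.Lett (TC.lett [y, y⁻¹, r, w, w⁻¹, t]) cx1_C.ivc :=
    TC.lett_ok (show Nat.shiftRight cx1_C.ivc (8 * 7) = 0 by decide +kernel) (by
      intro a ha
      change a < 7 at ha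
      interval_cases a
      · exact inv_one.symm
      · rfl
      · exact (inv_inv _).symm
      · exact (inv_eq_of_mul_eq_one_right r1).symm
      · rfl
      · exact (inv_inv _).symm
      · exact (inv_eq_of_mul_eq_one_right r6).symm)
  have h := TC.card_le cx1_h1 cx1_h2 cx1_h3 (by decide) hL (by
    simp only [cx1_rs, List.forall_mem_cons]
    refine ⟨?_, ?_, ?_, ?_, ?_, ?_, ?_, ?_, ?_, ?_, List.forall_mem_nil _⟩
    · show y * (y * (y * (y * 1))) = 1
      simp only [mul_assoc, mul_one] at r0 ⊢
      exact r0
    · show r * (r * 1) = 1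
      simp only [mul_one] at r1 ⊢
      exact r1
    · show r * (y * (r * (y * 1))) = 1
      simp only [mul_assoc, mul_one] at r2 ⊢
      exact r2
    · show w * (w * (w * 1)) = 1
      simp only [mul_assoc, mul_one] at r3 ⊢
      exact r3
    · show w * (y * (y * (w⁻¹ * (r * 1)))) = 1
      simp only [mul_assoc, mul_one] at r4 ⊢
      exact r4
    · show y * (r * (w * (y * (r * (w * 1))))) = 1
      simp only [mul_assoc, mul_one] at r5 ⊢
      exact r5
    · show t * (t * 1) = 1
      simp only [mul_one] at r6 ⊢
      exact r6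
    · show t * (w * (t * (w⁻¹ * 1))) = 1
      simp only [mul_assoc, mul_one] at r7 ⊢
      exact r7
    · show t * (y * (r * (t * (r * (y⁻¹ * 1))))) = 1
      simp only [mul_assoc, mul_one] at r8 ⊢
      exact r8
    · show y * (y * (y * (r * (t * (y * (y * (y * (r * (t * (r * (y⁻¹ * 1))))))))))) = 1
      simp only [mul_assoc, mul_one] at r9 ⊢
      exact r9) H
    (TC.forall_subs (K := 7) (by decide +kernel) (by
      intro a ha hb
      interval_cases a
      · exact absurd hb (by decide +kernel)
      · exact m1
      · exact H.inv_mem m1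
      · exact m3
      · exact m4
      · exact H.inv_mem m4
      · exact absurd hb (by decide +kernel)))
  have e : {g₀ | ∃ ak ∈ cx1_gl, TC.lett [y, y⁻¹, r, w, w⁻¹, t] (ak % 256) = g₀} =
      {y, r, w, t} := by
    ext g₀
    simp only [cx1_gl, List.mem_cons, List.not_mem_nil, or_false, exists_eq_or_imp,
      exists_eq_left, Set.mem_ofPred_eq, Set.mem_insert_iff, Set.mem_singleton_iff]
    exact or_congr eq_comm (or_congr eq_comm (or_congr eq_comm (eq_comm)))
  rw [e] at h
  exact h

theorem cx1_card {G : Type*} [Group G] {y r w t : G}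
    (e0 : y ^ 4 = 1)
    (e1 : r * r = 1)
    (e2 : r * y * r = y⁻¹)
    (e3 : w ^ 3 = 1)
    (e4 : w * y ^ 2 * w⁻¹ = r)
    (e5 : y * r * w * (y * r) = w⁻¹)
    (e6 : t * t = 1)
    (e7 : t * w = w * t)
    (e8 : t * (y * r) = y * r * t)
    (e9 : (y ^ 3 * r * t) ^ 2 = y * r)
    (H : Subgroup G) [Finite H] (my : y ∈ H) (mr : r ∈ H) (mw : w ∈ H) :
    Finite (Subgroup.closure ({y, r, w, t} : Set G)) ∧
      Nat.card (Subgroup.closure ({y, r, w, t} : Set G)) ≤ 2 * Nat.card H := by
  have ir : r⁻¹ = r := inv_eq_of_mul_eq_one_right e1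
  have it : t⁻¹ = t := inv_eq_of_mul_eq_one_right e6
  refine cx1_bound ?_ ?_ ?_ ?_ ?_ ?_ ?_ ?_ ?_ ?_ H my mr mw
  · have h := mul_inv_eq_one.mpr e0
    simp only [pow_succ, pow_zero, mul_inv_rev, inv_inv, inv_one, one_mul, mul_one, mul_assoc,
      mul_inv_cancel_left, inv_mul_cancel_left, mul_inv_cancel, inv_mul_cancel, ir, it] at h ⊢
    exact h
  · have h := mul_inv_eq_one.mpr e1
    simp only [pow_succ, pow_zero, mul_inv_rev, inv_inv, inv_one, one_mul, mul_one, mul_assoc,
      mul_inv_cancel_left, inv_mul_cancel_left, mul_inv_cancel, inv_mul_cancel, ir, it] at h ⊢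
    exact h
  · have h := mul_inv_eq_one.mpr e2
    simp only [pow_succ, pow_zero, mul_inv_rev, inv_inv, inv_one, one_mul, mul_one, mul_assoc,
      mul_inv_cancel_left, inv_mul_cancel_left, mul_inv_cancel, inv_mul_cancel, ir, it] at h ⊢
    exact h
  · have h := mul_inv_eq_one.mpr e3
    simp only [pow_succ, pow_zero, mul_inv_rev, inv_inv, inv_one, one_mul, mul_one, mul_assoc,
      mul_inv_cancel_left, inv_mul_cancel_left, mul_inv_cancel, inv_mul_cancel, ir, it] at h ⊢
    exact h
  · have h := mul_inv_eq_one.mpr e4
    simp only [pow_succ, pow_zero, mul_inv_rev, inv_inv, inv_one, one_mul, mul_one, mul_assoc,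
      mul_inv_cancel_left, inv_mul_cancel_left, mul_inv_cancel, inv_mul_cancel, ir, it] at h ⊢
    exact h
  · have h := mul_inv_eq_one.mpr e5
    simp only [pow_succ, pow_zero, mul_inv_rev, inv_inv, inv_one, one_mul, mul_one, mul_assoc,
      mul_inv_cancel_left, inv_mul_cancel_left, mul_inv_cancel, inv_mul_cancel, ir, it] at h ⊢
    exact h
  · have h := mul_inv_eq_one.mpr e6
    simp only [pow_succ, pow_zero, mul_inv_rev, inv_inv, inv_one, one_mul, mul_one, mul_assoc,
      mul_inv_cancel_left, inv_mul_cancel_left, mul_inv_cancel, inv_mul_cancel, ir, it] at h ⊢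
    exact h
  · have h := mul_inv_eq_one.mpr e7
    simp only [pow_succ, pow_zero, mul_inv_rev, inv_inv, inv_one, one_mul, mul_one, mul_assoc,
      mul_inv_cancel_left, inv_mul_cancel_left, mul_inv_cancel, inv_mul_cancel, ir, it] at h ⊢
    exact h
  · have h := mul_inv_eq_one.mpr e8
    simp only [pow_succ, pow_zero, mul_inv_rev, inv_inv, inv_one, one_mul, mul_one, mul_assoc,
      mul_inv_cancel_left, inv_mul_cancel_left, mul_inv_cancel, inv_mul_cancel, ir, it] at h ⊢
    exact h
  · have h := mul_inv_eq_one.mpr e9
    simp only [pow_succ, pow_zero, mul_inv_rev, inv_inv, inv_one, one_mul, mul_one, mul_assoc,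
      mul_inv_cancel_left, inv_mul_cancel_left, mul_inv_cancel, inv_mul_cancel, ir, it] at h ⊢
    exact h

/-- Certificate data. -/
def cx2_par : Trie :=
    (.node (.node (.node (.leaf (nat_lit 0)) (.leaf (nat_lit 513))) (.leaf (nat_lit 257))) (.node
    (.leaf (nat_lit 6)) (.leaf (nat_lit 258))))

/-- Certificate data. -/
def cx2_fact : Trie :=
    (.node (.node (.node (.node (.node (.leaf (nat_lit 1)) (.leaf (nat_lit 6661))) (.leaf (nat_lit
    8705))) (.node (.leaf (nat_lit 2309)) (.leaf (nat_lit 9222)))) (.node (.node (.leaf (nat_lit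
    4)) (.leaf (nat_lit 7172))) (.node (.leaf (nat_lit 6402)) (.leaf (nat_lit 4614))))) (.node
    (.node (.node (.leaf (nat_lit 3)) (.leaf (nat_lit 7169))) (.node (.leaf (nat_lit 4353)) (.leaf
    (nat_lit 6918)))) (.node (.node (.leaf (nat_lit 2054)) (.leaf (nat_lit 8707))) (.node (.leaf
    (nat_lit 2819)) (.leaf (nat_lit 5125))))))

/-- Certificate data. -/
def cx2_just : Trie :=
    (.node (.node (.node (.node (.node (.leaf (nat_lit 1)) (.leaf (nat_lit 13712653755351052)))
    (.leaf (nat_lit 0))) (.node (.leaf (nat_lit 106957570768899)) (.leaf (nat_lit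
    28908514913341156259184635244576776)))) (.node (.node (.leaf (nat_lit 1)) (.leaf (nat_lit
    17049924948721670))) (.node (.leaf (nat_lit 0)) (.leaf (nat_lit 1679179200231440394))))) (.node
    (.node (.node (.leaf (nat_lit 1)) (.leaf (nat_lit 214202904150021))) (.node (.leaf (nat_lit 0))
    (.leaf (nat_lit 358530985164809)))) (.node (.node (.leaf (nat_lit 0)) (.leaf (nat_lit
    338421948284935))) (.node (.leaf (nat_lit 435742836114391044)) (.leaf (nat_lit
    736694879627051019))))))

/-- Certificate data. -/
def cx2_rel : Trie :=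
    (.node (.node (.node (.node (.leaf (nat_lit 0)) (.leaf (nat_lit 3302930645766))) (.leaf
    (nat_lit 8623751941))) (.node (.node (.leaf (nat_lit 1125315184131)) (.leaf (nat_lit
    12968919556))) (.leaf (nat_lit 10425317928320053279727160880399110)))) (.node (.node (.node
    (.leaf (nat_lit 100992516)) (.leaf (nat_lit 3302897156356))) (.leaf (nat_lit 33751555))) (.node
    (.leaf (nat_lit 33686018)) (.leaf (nat_lit 84280326)))))

/-- Certificate data. -/
def cx2_rc : Trie :=
    (.node (.node (.node (.node (.leaf (nat_lit 20)) (.leaf (nat_lit 393232))) (.leaf (nat_lit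
    524297))) (.node (.node (.leaf (nat_lit 262160)) (.leaf (nat_lit 131081))) (.leaf (nat_lit
    19)))) (.node (.node (.node (.leaf (nat_lit 131086)) (.leaf (nat_lit 262154))) (.leaf (nat_lit
    131077))) (.node (.leaf (nat_lit 1)) (.leaf (nat_lit 14)))))

/-- Certificate data. -/
def cx2_lv : Trie :=
    (.node (.node (.node (.leaf (nat_lit 0)) (.leaf (nat_lit 4))) (.leaf (nat_lit 2))) (.node
    (.leaf (nat_lit 1)) (.leaf (nat_lit 3))))

/-- Certificate data. -/
def cx2_tb : Trie :=
    (.node (.node (.node (.node (.node (.leaf (nat_lit 0)) (.leaf (nat_lit 7))) (.leaf (nat_lit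
    78))) (.node (.leaf (nat_lit 210)) (.leaf (nat_lit 287)))) (.node (.node (.node (.leaf (nat_lit
    272)) (.leaf (nat_lit 219))) (.leaf (nat_lit 4))) (.node (.leaf (nat_lit 207)) (.leaf (nat_lit
    212))))) (.node (.node (.node (.node (.leaf (nat_lit 138)) (.leaf (nat_lit 157))) (.leaf
    (nat_lit 151))) (.node (.leaf (nat_lit 3)) (.leaf (nat_lit 161)))) (.node (.node (.node (.leaf
    (nat_lit 77)) (.leaf (nat_lit 281))) (.leaf (nat_lit 73))) (.node (.leaf (nat_lit 278)) (.leaf
    (nat_lit 70))))))

/-- Certificate data. -/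
def cx2_C : TC.Cert := ⟨3, 7, 6, 63, 1693269432009216, 62, cx2_par, cx2_fact, cx2_just, cx2_rel, 11⟩

/-- Certificate data. -/
def cx2_rs : List (List ℕ) := [[1, 1, 1, 1], [3, 3], [3, 1, 3, 1], [4, 4, 4], [4, 1, 1, 5, 3], [1, 3, 4, 1, 3, 4], [6, 6], [6, 4, 6, 5], [6, 1, 3, 6, 3, 2], [1, 1, 1, 3, 6, 1, 1, 1, 3, 6, 1, 1, 1, 3, 6]]

/-- Certificate data. -/
def cx2_gl : List ℕ := [1, 1283, 2564, 3846]

theorem cx2_h1 : allB cx2_C.factChk 17 = true := by decide +kernel

theorem cx2_h2 : cx2_C.finChk 17 5 cx2_lv cx2_tb cx2_gl = true := by decide +kernel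

theorem cx2_h3 : TC.relChk cx2_C.ivc cx2_rs cx2_C.rel cx2_rc cx2_C.nrel = true := by decide +kernel

theorem cx2_bound {G : Type*} [Group G] {y r w t : G}
    (r0 : y * y * y * y = 1)
    (r1 : r * r = 1)
    (r2 : r * y * r * y = 1)
    (r3 : w * w * w = 1)
    (r4 : w * y * y * w⁻¹ * r = 1)
    (r5 : y * r * w * y * r * w = 1)
    (r6 : t * t = 1)
    (r7 : t * w * t * w⁻¹ = 1)
    (r8 : t * y * r * t * r * y⁻¹ = 1)
    (r9 : y * y * y * r * t * y * y * y * r * t * y * y * y * r * t = 1)
    (H : Subgroup G) [Finite H] (m1 : y ∈ H) (m3 : r ∈ H) (m4 : w ∈ H) :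
    Finite (Subgroup.closure ({y, r, w, t} : Set G)) ∧
      Nat.card (Subgroup.closure ({y, r, w, t} : Set G)) ≤ 5 * Nat.card H := by
  have hL : TC.Lett (TC.lett [y, y⁻¹, r, w, w⁻¹, t]) cx2_C.ivc :=
    TC.lett_ok (show Nat.shiftRight cx2_C.ivc (8 * 7) = 0 by decide +kernel) (by
      intro a ha
      change a < 7 at ha
      interval_cases a
      · exact inv_one.symm
      · rfl
      · exact (inv_inv _).symm
      · exact (inv_eq_of_mul_eq_one_right r1).symm
      · rfl
      · exact (inv_inv _).symm
      · exact (inv_eq_of_mul_eq_one_right r6).symm)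
  have h := TC.card_le cx2_h1 cx2_h2 cx2_h3 (by decide) hL (by
    simp only [cx2_rs, List.forall_mem_cons]
    refine ⟨?_, ?_, ?_, ?_, ?_, ?_, ?_, ?_, ?_, ?_, List.forall_mem_nil _⟩
    · show y * (y * (y * (y * 1))) = 1
      simp only [mul_assoc, mul_one] at r0 ⊢
      exact r0
    · show r * (r * 1) = 1
      simp only [mul_one] at r1 ⊢
      exact r1
    · show r * (y * (r * (y * 1))) = 1
      simp only [mul_assoc, mul_one] at r2 ⊢
      exact r2
    · show w * (w * (w * 1)) = 1
      simp only [mul_assoc, mul_one] at r3 ⊢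
      exact r3
    · show w * (y * (y * (w⁻¹ * (r * 1)))) = 1
      simp only [mul_assoc, mul_one] at r4 ⊢
      exact r4
    · show y * (r * (w * (y * (r * (w * 1))))) = 1
      simp only [mul_assoc, mul_one] at r5 ⊢
      exact r5
    · show t * (t * 1) = 1
      simp only [mul_one] at r6 ⊢
      exact r6
    · show t * (w * (t * (w⁻¹ * 1))) = 1
      simp only [mul_assoc, mul_one] at r7 ⊢
      exact r7
    · show t * (y * (r * (t * (r * (y⁻¹ * 1))))) = 1
      simp only [mul_assoc, mul_one] at r8 ⊢
      exact r8
    · show y * (y * (y * (r * (t * (y * (y * (y * (r * (t * (y * (y * (y * (r * (t *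
    1)))))))))))))) = 1
      simp only [mul_assoc, mul_one] at r9 ⊢
      exact r9) H
    (TC.forall_subs (K := 7) (by decide +kernel) (by
      intro a ha hb
      interval_cases a
      · exact absurd hb (by decide +kernel)
      · exact m1
      · exact H.inv_mem m1
      · exact m3
      · exact m4
      · exact H.inv_mem m4
      · exact absurd hb (by decide +kernel)))
  have e : {g₀ | ∃ ak ∈ cx2_gl, TC.lett [y, y⁻¹, r, w, w⁻¹, t] (ak % 256) = g₀} =
      {y, r, w, t} := by
    ext g₀
    simp only [cx2_gl, List.mem_cons, List.not_mem_nil, or_false, exists_eq_or_imp,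
      exists_eq_left, Set.mem_ofPred_eq, Set.mem_insert_iff, Set.mem_singleton_iff]
    exact or_congr eq_comm (or_congr eq_comm (or_congr eq_comm (eq_comm)))
  rw [e] at h
  exact h

theorem cx2_card {G : Type*} [Group G] {y r w t : G}
    (e0 : y ^ 4 = 1)
    (e1 : r * r = 1)
    (e2 : r * y * r = y⁻¹)
    (e3 : w ^ 3 = 1)
    (e4 : w * y ^ 2 * w⁻¹ = r)
    (e5 : y * r * w * (y * r) = w⁻¹)
    (e6 : t * t = 1)
    (e7 : t * w = w * t)
    (e8 : t * (y * r) = y * r * t)
    (e9 : (y ^ 3 * r * t) ^ 3 = 1)
    (H : Subgroup G) [Finite H] (my : y ∈ H) (mr : r ∈ H) (mw : w ∈ H) :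
    Finite (Subgroup.closure ({y, r, w, t} : Set G)) ∧
      Nat.card (Subgroup.closure ({y, r, w, t} : Set G)) ≤ 5 * Nat.card H := by
  have ir : r⁻¹ = r := inv_eq_of_mul_eq_one_right e1
  have it : t⁻¹ = t := inv_eq_of_mul_eq_one_right e6
  refine cx2_bound ?_ ?_ ?_ ?_ ?_ ?_ ?_ ?_ ?_ ?_ H my mr mw
  · have h := mul_inv_eq_one.mpr e0
    simp only [pow_succ, pow_zero, mul_inv_rev, inv_inv, inv_one, one_mul, mul_one, mul_assoc,
      mul_inv_cancel_left, inv_mul_cancel_left, mul_inv_cancel, inv_mul_cancel, ir, it] at h ⊢
    exact h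
  · have h := mul_inv_eq_one.mpr e1
    simp only [pow_succ, pow_zero, mul_inv_rev, inv_inv, inv_one, one_mul, mul_one, mul_assoc,
      mul_inv_cancel_left, inv_mul_cancel_left, mul_inv_cancel, inv_mul_cancel, ir, it] at h ⊢
    exact h
  · have h := mul_inv_eq_one.mpr e2
    simp only [pow_succ, pow_zero, mul_inv_rev, inv_inv, inv_one, one_mul, mul_one, mul_assoc,
      mul_inv_cancel_left, inv_mul_cancel_left, mul_inv_cancel, inv_mul_cancel, ir, it] at h ⊢
    exact h
  · have h := mul_inv_eq_one.mpr e3
    simp only [pow_succ, pow_zero, mul_inv_rev, inv_inv, inv_one, one_mul, mul_one, mul_assoc,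
      mul_inv_cancel_left, inv_mul_cancel_left, mul_inv_cancel, inv_mul_cancel, ir, it] at h ⊢
    exact h
  · have h := mul_inv_eq_one.mpr e4
    simp only [pow_succ, pow_zero, mul_inv_rev, inv_inv, inv_one, one_mul, mul_one, mul_assoc,
      mul_inv_cancel_left, inv_mul_cancel_left, mul_inv_cancel, inv_mul_cancel, ir, it] at h ⊢
    exact h
  · have h := mul_inv_eq_one.mpr e5
    simp only [pow_succ, pow_zero, mul_inv_rev, inv_inv, inv_one, one_mul, mul_one, mul_assoc,
      mul_inv_cancel_left, inv_mul_cancel_left, mul_inv_cancel, inv_mul_cancel, ir, it] at h ⊢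
    exact h
  · have h := mul_inv_eq_one.mpr e6
    simp only [pow_succ, pow_zero, mul_inv_rev, inv_inv, inv_one, one_mul, mul_one, mul_assoc,
      mul_inv_cancel_left, inv_mul_cancel_left, mul_inv_cancel, inv_mul_cancel, ir, it] at h ⊢
    exact h
  · have h := mul_inv_eq_one.mpr e7
    simp only [pow_succ, pow_zero, mul_inv_rev, inv_inv, inv_one, one_mul, mul_one, mul_assoc,
      mul_inv_cancel_left, inv_mul_cancel_left, mul_inv_cancel, inv_mul_cancel, ir, it] at h ⊢
    exact h
  · have h := mul_inv_eq_one.mpr e8
    simp only [pow_succ, pow_zero, mul_inv_rev, inv_inv, inv_one, one_mul, mul_one, mul_assoc,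
      mul_inv_cancel_left, inv_mul_cancel_left, mul_inv_cancel, inv_mul_cancel, ir, it] at h ⊢
    exact h
  · have h := mul_inv_eq_one.mpr e9
    simp only [pow_succ, pow_zero, mul_inv_rev, inv_inv, inv_one, one_mul, mul_one, mul_assoc,
      mul_inv_cancel_left, inv_mul_cancel_left, mul_inv_cancel, inv_mul_cancel, ir, it] at h ⊢
    exact h

/-- Certificate data. -/
def cx3_par : Trie :=
    (.node (.node (.node (.leaf (nat_lit 0)) (.leaf (nat_lit 513))) (.leaf (nat_lit 257))) (.node
    (.leaf (nat_lit 6)) (.leaf (nat_lit 258))))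

/-- Certificate data. -/
def cx3_fact : Trie :=
    (.node (.node (.node (.node (.node (.leaf (nat_lit 1)) (.leaf (nat_lit 3072))) (.leaf (nat_lit
    8705))) (.node (.node (.leaf (nat_lit 2309)) (.leaf (nat_lit 6))) (.leaf (nat_lit 9222))))
    (.node (.node (.node (.leaf (nat_lit 4)) (.leaf (nat_lit 2816))) (.leaf (nat_lit 7172))) (.node
    (.leaf (nat_lit 6402)) (.leaf (nat_lit 4614))))) (.node (.node (.node (.node (.leaf (nat_lit
    3)) (.leaf (nat_lit 2560))) (.leaf (nat_lit 7169))) (.node (.leaf (nat_lit 4353)) (.leaf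
    (nat_lit 6918)))) (.node (.node (.node (.leaf (nat_lit 2054)) (.leaf (nat_lit 256))) (.leaf
    (nat_lit 8707))) (.node (.leaf (nat_lit 2819)) (.leaf (nat_lit 4864))))))

/-- Certificate data. -/
def cx3_just : Trie :=
    (.node (.node (.node (.node (.node (.leaf (nat_lit 1)) (.leaf (nat_lit 237292648333314)))
    (.leaf (nat_lit 0))) (.node (.node (.leaf (nat_lit 106957570768899)) (.leaf (nat_lit
    2091649204226))) (.leaf (nat_lit 118409279368194871836761444386694234120)))) (.node (.node
    (.node (.leaf (nat_lit 1)) (.leaf (nat_lit 9474697986050))) (.leaf (nat_lit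
    17049924948721670))) (.node (.leaf (nat_lit 0)) (.leaf (nat_lit 1679179200231440394))))) (.node
    (.node (.node (.node (.leaf (nat_lit 1)) (.leaf (nat_lit 10701954695299074))) (.leaf (nat_lit
    214202904150021))) (.node (.leaf (nat_lit 0)) (.leaf (nat_lit 358530985164809)))) (.node (.node
    (.node (.leaf (nat_lit 0)) (.leaf (nat_lit 8521923785129986))) (.leaf (nat_lit
    338421948284935))) (.node (.leaf (nat_lit 435742836114391044)) (.leaf (nat_lit
    3473468055542977954029651986614179659787))))))

/-- Certificate data. -/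
def cx3_rel : Trie :=
    (.node (.node (.node (.node (.leaf (nat_lit 0)) (.leaf (nat_lit 3302930645766))) (.leaf
    (nat_lit 8623751941))) (.node (.leaf (nat_lit 1125315184131)) (.leaf (nat_lit
    10425317928320053279727165175366406)))) (.node (.node (.node (.leaf (nat_lit 100992516)) (.leaf
    (nat_lit 31214707921322611938451002868433153))) (.leaf (nat_lit 33751555))) (.node (.leaf
    (nat_lit 33686018)) (.leaf (nat_lit 84280326)))))

/-- Certificate data. -/
def cx3_rc : Trie :=
    (.node (.node (.node (.node (.leaf (nat_lit 20)) (.leaf (nat_lit 393232))) (.leaf (nat_lit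
    524297))) (.node (.leaf (nat_lit 262160)) (.leaf (nat_lit 1572883)))) (.node (.node (.node
    (.leaf (nat_lit 131086)) (.leaf (nat_lit 655378))) (.leaf (nat_lit 131077))) (.node (.leaf
    (nat_lit 1)) (.leaf (nat_lit 14)))))

/-- Certificate data. -/
def cx3_lv : Trie :=
    (.leaf (nat_lit 0))

/-- Certificate data. -/
def cx3_tb : Trie :=
    (.node (.node (.leaf (nat_lit 0)) (.leaf (nat_lit 4))) (.node (.leaf (nat_lit 3)) (.leaf
    (nat_lit 41))))

/-- Certificate data. -/
def cx3_C : TC.Cert := ⟨3, 7, 6, 63, 1693269432009216, 62, cx3_par, cx3_fact, cx3_just, cx3_rel, 10⟩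

/-- Certificate data. -/
def cx3_rs : List (List ℕ) := [[1, 1, 1, 1], [3, 3], [3, 1, 3, 1], [4, 4, 4], [4, 1, 1, 5, 3], [1, 3, 4, 1, 3, 4], [6, 6], [6, 4, 6, 5], [6, 1, 3, 6, 3, 2], [1, 1, 1, 3, 6, 1, 1, 1, 3, 6, 1, 1, 1, 3, 6, 3, 2]]

/-- Certificate data. -/
def cx3_gl : List ℕ := [1, 259, 516, 774]

theorem cx3_h1 : allB cx3_C.factChk 21 = true := by decide +kernel

theorem cx3_h2 : cx3_C.finChk 21 1 cx3_lv cx3_tb cx3_gl = true := by decide +kernel

theorem cx3_h3 : TC.relChk cx3_C.ivc cx3_rs cx3_C.rel cx3_rc cx3_C.nrel = true := by decide +kernel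

theorem cx3_bound {G : Type*} [Group G] {y r w t : G}
    (r0 : y * y * y * y = 1)
    (r1 : r * r = 1)
    (r2 : r * y * r * y = 1)
    (r3 : w * w * w = 1)
    (r4 : w * y * y * w⁻¹ * r = 1)
    (r5 : y * r * w * y * r * w = 1)
    (r6 : t * t = 1)
    (r7 : t * w * t * w⁻¹ = 1)
    (r8 : t * y * r * t * r * y⁻¹ = 1)
    (r9 : y * y * y * r * t * y * y * y * r * t * y * y * y * r * t * r * y⁻¹ = 1)
    (H : Subgroup G) [Finite H] (m1 : y ∈ H) (m3 : r ∈ H) (m4 : w ∈ H) :
    Finite (Subgroup.closure ({y, r, w, t} : Set G)) ∧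
      Nat.card (Subgroup.closure ({y, r, w, t} : Set G)) ≤ 1 * Nat.card H := by
  have hL : TC.Lett (TC.lett [y, y⁻¹, r, w, w⁻¹, t]) cx3_C.ivc :=
    TC.lett_ok (show Nat.shiftRight cx3_C.ivc (8 * 7) = 0 by decide +kernel) (by
      intro a ha
      change a < 7 at ha
      interval_cases a
      · exact inv_one.symm
      · rfl
      · exact (inv_inv _).symm
      · exact (inv_eq_of_mul_eq_one_right r1).symm
      · rfl
      · exact (inv_inv _).symm
      · exact (inv_eq_of_mul_eq_one_right r6).symm)
  have h := TC.card_le cx3_h1 cx3_h2 cx3_h3 (by decide) hL (by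
    simp only [cx3_rs, List.forall_mem_cons]
    refine ⟨?_, ?_, ?_, ?_, ?_, ?_, ?_, ?_, ?_, ?_, List.forall_mem_nil _⟩
    · show y * (y * (y * (y * 1))) = 1
      simp only [mul_assoc, mul_one] at r0 ⊢
      exact r0
    · show r * (r * 1) = 1
      simp only [mul_one] at r1 ⊢
      exact r1
    · show r * (y * (r * (y * 1))) = 1
      simp only [mul_assoc, mul_one] at r2 ⊢
      exact r2
    · show w * (w * (w * 1)) = 1
      simp only [mul_assoc, mul_one] at r3 ⊢
      exact r3
    · show w * (y * (y * (w⁻¹ * (r * 1)))) = 1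
      simp only [mul_assoc, mul_one] at r4 ⊢
      exact r4
    · show y * (r * (w * (y * (r * (w * 1))))) = 1
      simp only [mul_assoc, mul_one] at r5 ⊢
      exact r5
    · show t * (t * 1) = 1
      simp only [mul_one] at r6 ⊢
      exact r6
    · show t * (w * (t * (w⁻¹ * 1))) = 1
      simp only [mul_assoc, mul_one] at r7 ⊢
      exact r7
    · show t * (y * (r * (t * (r * (y⁻¹ * 1))))) = 1
      simp only [mul_assoc, mul_one] at r8 ⊢
      exact r8
    · show y * (y * (y * (r * (t * (y * (y * (y * (r * (t * (y * (y * (y * (r * (t * (r * (y⁻¹ *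
    1)))))))))))))))) = 1
      simp only [mul_assoc, mul_one] at r9 ⊢
      exact r9) H
    (TC.forall_subs (K := 7) (by decide +kernel) (by
      intro a ha hb
      interval_cases a
      · exact absurd hb (by decide +kernel)
      · exact m1
      · exact H.inv_mem m1
      · exact m3
      · exact m4
      · exact H.inv_mem m4
      · exact absurd hb (by decide +kernel)))
  have e : {g₀ | ∃ ak ∈ cx3_gl, TC.lett [y, y⁻¹, r, w, w⁻¹, t] (ak % 256) = g₀} =
      {y, r, w, t} := by
    ext g₀
    simp only [cx3_gl, List.mem_cons, List.not_mem_nil, or_false, exists_eq_or_imp,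
      exists_eq_left, Set.mem_ofPred_eq, Set.mem_insert_iff, Set.mem_singleton_iff]
    exact or_congr eq_comm (or_congr eq_comm (or_congr eq_comm (eq_comm)))
  rw [e] at h
  exact h

theorem cx3_card {G : Type*} [Group G] {y r w t : G}
    (e0 : y ^ 4 = 1)
    (e1 : r * r = 1)
    (e2 : r * y * r = y⁻¹)
    (e3 : w ^ 3 = 1)
    (e4 : w * y ^ 2 * w⁻¹ = r)
    (e5 : y * r * w * (y * r) = w⁻¹)
    (e6 : t * t = 1)
    (e7 : t * w = w * t)
    (e8 : t * (y * r) = y * r * t)
    (e9 : (y ^ 3 * r * t) ^ 3 = y * r)
    (H : Subgroup G) [Finite H] (my : y ∈ H) (mr : r ∈ H) (mw : w ∈ H) :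
    Finite (Subgroup.closure ({y, r, w, t} : Set G)) ∧
      Nat.card (Subgroup.closure ({y, r, w, t} : Set G)) ≤ 1 * Nat.card H := by
  have ir : r⁻¹ = r := inv_eq_of_mul_eq_one_right e1
  have it : t⁻¹ = t := inv_eq_of_mul_eq_one_right e6
  refine cx3_bound ?_ ?_ ?_ ?_ ?_ ?_ ?_ ?_ ?_ ?_ H my mr mw
  · have h := mul_inv_eq_one.mpr e0
    simp only [pow_succ, pow_zero, mul_inv_rev, inv_inv, inv_one, one_mul, mul_one, mul_assoc,
      mul_inv_cancel_left, inv_mul_cancel_left, mul_inv_cancel, inv_mul_cancel, ir, it] at h ⊢
    exact h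
  · have h := mul_inv_eq_one.mpr e1
    simp only [pow_succ, pow_zero, mul_inv_rev, inv_inv, inv_one, one_mul, mul_one, mul_assoc,
      mul_inv_cancel_left, inv_mul_cancel_left, mul_inv_cancel, inv_mul_cancel, ir, it] at h ⊢
    exact h
  · have h := mul_inv_eq_one.mpr e2
    simp only [pow_succ, pow_zero, mul_inv_rev, inv_inv, inv_one, one_mul, mul_one, mul_assoc,
      mul_inv_cancel_left, inv_mul_cancel_left, mul_inv_cancel, inv_mul_cancel, ir, it] at h ⊢
    exact h
  · have h := mul_inv_eq_one.mpr e3
    simp only [pow_succ, pow_zero, mul_inv_rev, inv_inv, inv_one, one_mul, mul_one, mul_assoc,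
      mul_inv_cancel_left, inv_mul_cancel_left, mul_inv_cancel, inv_mul_cancel, ir, it] at h ⊢
    exact h
  · have h := mul_inv_eq_one.mpr e4
    simp only [pow_succ, pow_zero, mul_inv_rev, inv_inv, inv_one, one_mul, mul_one, mul_assoc,
      mul_inv_cancel_left, inv_mul_cancel_left, mul_inv_cancel, inv_mul_cancel, ir, it] at h ⊢
    exact h
  · have h := mul_inv_eq_one.mpr e5
    simp only [pow_succ, pow_zero, mul_inv_rev, inv_inv, inv_one, one_mul, mul_one, mul_assoc,
      mul_inv_cancel_left, inv_mul_cancel_left, mul_inv_cancel, inv_mul_cancel, ir, it] at h ⊢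
    exact h
  · have h := mul_inv_eq_one.mpr e6
    simp only [pow_succ, pow_zero, mul_inv_rev, inv_inv, inv_one, one_mul, mul_one, mul_assoc,
      mul_inv_cancel_left, inv_mul_cancel_left, mul_inv_cancel, inv_mul_cancel, ir, it] at h ⊢
    exact h
  · have h := mul_inv_eq_one.mpr e7
    simp only [pow_succ, pow_zero, mul_inv_rev, inv_inv, inv_one, one_mul, mul_one, mul_assoc,
      mul_inv_cancel_left, inv_mul_cancel_left, mul_inv_cancel, inv_mul_cancel, ir, it] at h ⊢
    exact h
  · have h := mul_inv_eq_one.mpr e8
    simp only [pow_succ, pow_zero, mul_inv_rev, inv_inv, inv_one, one_mul, mul_one, mul_assoc,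
      mul_inv_cancel_left, inv_mul_cancel_left, mul_inv_cancel, inv_mul_cancel, ir, it] at h ⊢
    exact h
  · have h := mul_inv_eq_one.mpr e9
    simp only [pow_succ, pow_zero, mul_inv_rev, inv_inv, inv_one, one_mul, mul_one, mul_assoc,
      mul_inv_cancel_left, inv_mul_cancel_left, mul_inv_cancel, inv_mul_cancel, ir, it] at h ⊢
    exact h

/-- Certificate data. -/
def s24_par : Trie :=
    (.node (.node (.node (.leaf (nat_lit 0)) (.leaf (nat_lit 260))) (.leaf (nat_lit 4))) (.node
    (.node (.leaf (nat_lit 3)) (.leaf (nat_lit 261))) (.leaf (nat_lit 5))))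

/-- Certificate data. -/
def s24_fact : Trie :=
    (.node (.node (.node (.node (.leaf (nat_lit 1)) (.leaf (nat_lit 9219))) (.node (.leaf (nat_lit
    4611)) (.leaf (nat_lit 9473)))) (.node (.node (.leaf (nat_lit 2305)) (.leaf (nat_lit 10501)))
    (.node (.leaf (nat_lit 4869)) (.leaf (nat_lit 4865))))) (.node (.node (.node (.leaf (nat_lit
    2051)) (.leaf (nat_lit 7169))) (.node (.leaf (nat_lit 6149)) (.leaf (nat_lit 5378)))) (.node
    (.node (.leaf (nat_lit 4100)) (.leaf (nat_lit 9477))) (.node (.leaf (nat_lit 8452)) (.leaf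
    (nat_lit 7427))))))

/-- Certificate data. -/
def s24_just : Trie :=
    (.node (.node (.node (.node (.leaf (nat_lit 1)) (.leaf (nat_lit 15851998440325124))) (.node
    (.leaf (nat_lit 6773296570040324)) (.leaf (nat_lit 21568934918750215)))) (.node (.node (.leaf
    (nat_lit 35472135094275)) (.leaf (nat_lit 0))) (.node (.leaf (nat_lit 1696512212997)) (.leaf
    (nat_lit 29625838299512839))))) (.node (.node (.node (.leaf (nat_lit 0)) (.leaf (nat_lit
    724045792918437894))) (.node (.leaf (nat_lit 0)) (.leaf (nat_lit 655274660610768904)))) (.node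
    (.node (.leaf (nat_lit 0)) (.leaf (nat_lit 3938485141509))) (.node (.leaf (nat_lit 0)) (.leaf
    (nat_lit 512484087889929))))))

/-- Certificate data. -/
def s24_rel : Trie :=
    (.node (.node (.node (.leaf (nat_lit 0)) (.leaf (nat_lit 3320043472130))) (.node (.leaf
    (nat_lit 21508523011)) (.leaf (nat_lit 4410948453121)))) (.node (.node (.leaf (nat_lit
    50463490)) (.leaf (nat_lit 17230529026))) (.node (.leaf (nat_lit 263172)) (.leaf (nat_lit
    33751555)))))

/-- Certificate data. -/
def s24_rc : Trie :=
    (.node (.node (.node (.leaf (nat_lit 12)) (.leaf (nat_lit 262155))) (.node (.leaf (nat_lit 9))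
    (.leaf (nat_lit 10)))) (.node (.node (.leaf (nat_lit 5)) (.leaf (nat_lit 262153))) (.node
    (.leaf (nat_lit 6)) (.leaf (nat_lit 131077)))))

/-- Certificate data. -/
def s24_lv : Trie :=
    (.node (.node (.node (.leaf (nat_lit 0)) (.leaf (nat_lit 4))) (.leaf (nat_lit 2))) (.node
    (.node (.leaf (nat_lit 1)) (.leaf (nat_lit 5))) (.leaf (nat_lit 3))))

/-- Certificate data. -/
def s24_tb : Trie :=
    (.node (.node (.node (.node (.node (.leaf (nat_lit 0)) (.leaf (nat_lit 343))) (.leaf (nat_lit
    137))) (.node (.leaf (nat_lit 210)) (.leaf (nat_lit 134)))) (.node (.node (.leaf (nat_lit 347))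
    (.leaf (nat_lit 273))) (.node (.leaf (nat_lit 66)) (.leaf (nat_lit 205))))) (.node (.node
    (.node (.node (.leaf (nat_lit 68)) (.leaf (nat_lit 85))) (.leaf (nat_lit 351))) (.node (.leaf
    (nat_lit 280)) (.leaf (nat_lit 270)))) (.node (.node (.leaf (nat_lit 156)) (.leaf (nat_lit
    222))) (.node (.leaf (nat_lit 3)) (.leaf (nat_lit 11))))))

/-- Certificate data. -/
def s24_C : TC.Cert := ⟨3, 7, 6, 63, 4419571745280, 6, s24_par, s24_fact, s24_just, s24_rel, 8⟩

/-- Certificate data. -/
def s24_rs : List (List ℕ) := [[1, 1, 1, 1], [3, 3], [3, 1, 3, 1], [4, 4, 4], [4, 1, 1, 5, 3], [1, 3, 4, 1, 3, 4]]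

/-- Certificate data. -/
def s24_gl : List ℕ := [1, 1539, 3076]

theorem s24_h1 : allB s24_C.factChk 16 = true := by decide +kernel

theorem s24_h2 : s24_C.finChk 16 6 s24_lv s24_tb s24_gl = true := by decide +kernel

theorem s24_h3 : TC.relChk s24_C.ivc s24_rs s24_C.rel s24_rc s24_C.nrel = true := by decide +kernel

theorem s24_bound {G : Type*} [Group G] {y r w : G}
    (r0 : y * y * y * y = 1)
    (r1 : r * r = 1)
    (r2 : r * y * r * y = 1)
    (r3 : w * w * w = 1)
    (r4 : w * y * y * w⁻¹ * r = 1)
    (r5 : y * r * w * y * r * w = 1)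
    (H : Subgroup G) [Finite H] (m1 : y ∈ H) :
    Finite (Subgroup.closure ({y, r, w} : Set G)) ∧
      Nat.card (Subgroup.closure ({y, r, w} : Set G)) ≤ 6 * Nat.card H := by
  have hL : TC.Lett (TC.lett [y, y⁻¹, r, w, w⁻¹]) s24_C.ivc :=
    TC.lett_ok (show Nat.shiftRight s24_C.ivc (8 * 6) = 0 by decide +kernel) (by
      intro a ha
      change a < 6 at ha
      interval_cases a
      · exact inv_one.symm
      · rfl
      · exact (inv_inv _).symm
      · exact (inv_eq_of_mul_eq_one_right r1).symm
      · rfl
      · exact (inv_inv _).symm)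
  have h := TC.card_le s24_h1 s24_h2 s24_h3 (by decide) hL (by
    simp only [s24_rs, List.forall_mem_cons]
    refine ⟨?_, ?_, ?_, ?_, ?_, ?_, List.forall_mem_nil _⟩
    · show y * (y * (y * (y * 1))) = 1
      simp only [mul_assoc, mul_one] at r0 ⊢
      exact r0
    · show r * (r * 1) = 1
      simp only [mul_one] at r1 ⊢
      exact r1
    · show r * (y * (r * (y * 1))) = 1
      simp only [mul_assoc, mul_one] at r2 ⊢
      exact r2
    · show w * (w * (w * 1)) = 1
      simp only [mul_assoc, mul_one] at r3 ⊢
      exact r3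
    · show w * (y * (y * (w⁻¹ * (r * 1)))) = 1
      simp only [mul_assoc, mul_one] at r4 ⊢
      exact r4
    · show y * (r * (w * (y * (r * (w * 1))))) = 1
      simp only [mul_assoc, mul_one] at r5 ⊢
      exact r5) H
    (TC.forall_subs (K := 6) (by decide +kernel) (by
      intro a ha hb
      interval_cases a
      · exact absurd hb (by decide +kernel)
      · exact m1
      · exact H.inv_mem m1
      · exact absurd hb (by decide +kernel)
      · exact absurd hb (by decide +kernel)
      · exact absurd hb (by decide +kernel)))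
  have e : {g₀ | ∃ ak ∈ s24_gl, TC.lett [y, y⁻¹, r, w, w⁻¹] (ak % 256) = g₀} =
      {y, r, w} := by
    ext g₀
    simp only [s24_gl, List.mem_cons, List.not_mem_nil, or_false, exists_eq_or_imp,
      exists_eq_left, Set.mem_ofPred_eq, Set.mem_insert_iff, Set.mem_singleton_iff]
    exact or_congr eq_comm (or_congr eq_comm (eq_comm))
  rw [e] at h
  exact h

theorem s24_card {G : Type*} [Group G] {y r w : G}
    (e0 : y ^ 4 = 1)
    (e1 : r * r = 1)
    (e2 : r * y * r = y⁻¹)
    (e3 : w ^ 3 = 1)
    (e4 : w * y ^ 2 * w⁻¹ = r)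
    (e5 : y * r * w * (y * r) = w⁻¹)
    (H : Subgroup G) [Finite H] (my : y ∈ H) :
    Finite (Subgroup.closure ({y, r, w} : Set G)) ∧
      Nat.card (Subgroup.closure ({y, r, w} : Set G)) ≤ 6 * Nat.card H := by
  have ir : r⁻¹ = r := inv_eq_of_mul_eq_one_right e1
  refine s24_bound ?_ ?_ ?_ ?_ ?_ ?_ H my
  · have h := mul_inv_eq_one.mpr e0
    simp only [pow_succ, pow_zero, mul_inv_rev, inv_inv, inv_one, one_mul, mul_one, mul_assoc,
      mul_inv_cancel_left, inv_mul_cancel_left, mul_inv_cancel, inv_mul_cancel, ir] at h ⊢
    exact h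
  · have h := mul_inv_eq_one.mpr e1
    simp only [pow_succ, pow_zero, mul_inv_rev, inv_inv, inv_one, one_mul, mul_one, mul_assoc,
      mul_inv_cancel_left, inv_mul_cancel_left, mul_inv_cancel, inv_mul_cancel, ir] at h ⊢
    exact h
  · have h := mul_inv_eq_one.mpr e2
    simp only [pow_succ, pow_zero, mul_inv_rev, inv_inv, inv_one, one_mul, mul_one, mul_assoc,
      mul_inv_cancel_left, inv_mul_cancel_left, mul_inv_cancel, inv_mul_cancel, ir] at h ⊢
    exact h
  · have h := mul_inv_eq_one.mpr e3
    simp only [pow_succ, pow_zero, mul_inv_rev, inv_inv, inv_one, one_mul, mul_one, mul_assoc,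
      mul_inv_cancel_left, inv_mul_cancel_left, mul_inv_cancel, inv_mul_cancel, ir] at h ⊢
    exact h
  · have h := mul_inv_eq_one.mpr e4
    simp only [pow_succ, pow_zero, mul_inv_rev, inv_inv, inv_one, one_mul, mul_one, mul_assoc,
      mul_inv_cancel_left, inv_mul_cancel_left, mul_inv_cancel, inv_mul_cancel, ir] at h ⊢
    exact h
  · have h := mul_inv_eq_one.mpr e5
    simp only [pow_succ, pow_zero, mul_inv_rev, inv_inv, inv_one, one_mul, mul_one, mul_assoc,
      mul_inv_cancel_left, inv_mul_cancel_left, mul_inv_cancel, inv_mul_cancel, ir] at h ⊢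
    exact h

end Cfsg.Agent.H3.WTC
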