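import Cfsg.Agent.H3.WFour

/-!
# Primitive groups with point stabilizer `S₄ × C₂`
-/

set_option autoImplicit false

namespace Cfsg.Agent.H3

open Subgroup Equiv
open scoped MatrixGroups

variable {G : Type*} [Group G]

/-- Properties of the elements of `S₄ × C₂`. -/
def TwF (y r w c g : G) : Prop :=
  (∃ (i : Fin 4) (j : Fin 2) (k : Fin 3) (l : Fin 2),
    g = y ^ i.val * r ^ j.val * w ^ k.val * c ^ l.val) ∧
  (g * y ^ 2 * g⁻¹ = y ^ 2 ∨ g * y ^ 2 * g⁻¹ = r ∨ g * y ^ 2 * g⁻¹ = y ^ 2 * r) ∧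
  (g * r * g⁻¹ = y ^ 2 ∨ g * r * g⁻¹ = r ∨ g * r * g⁻¹ = y ^ 2 * r) ∧ g * c = c * g ∧ g ^ 12 = 1 ∧
  (g * g = 1 → g * w = w * g → g = 1 ∨ g = c) ∧ (g * y ^ 2 = y ^ 2 * g →
    (∃ (i : Fin 4) (j l : Fin 2), g = y ^ i.val * r ^ j.val * c ^ l.val) ∧
    (g * r = r * g → (g = 1 ∨ g = y ^ 2 ∨ g = r ∨ g = y ^ 2 * r) ∨
      g = c ∨ g = y ^ 2 * c ∨ g = r * c ∨ g = y ^ 2 * r * c) ∧
    (g * g = 1 ∨ g * g = y ^ 2) ∧
    (g * y = y * g → g * r = r * g → g = 1 ∨ g = y ^ 2 ∨ g = c ∨ g = y ^ 2 * c) ∧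
    (g * g = 1 → g * r = r * g ∨ (g = y * r ∨ g = y * (y * r) * y⁻¹) ∨
      g = y * c * r ∨ g = y * c * (y * c * r) * (y * c)⁻¹) ∧
    (g * r * g⁻¹ = r ∨ g * r * g⁻¹ = y ^ 2 * r) ∧
    (g * y = y * g → g * r * g⁻¹ = y ^ 2 * r → g = y ∨ g = y⁻¹ ∨ g = y * c ∨ g = y⁻¹ * c))

/-- The core-free maximal subgroup `M = ⟨y, r, w⟩ × ⟨c⟩` is isomorphic to `S₄ × C₂`. -/
structure Tw (M : Subgroup G) (y r w c : G) : Prop extends Prim M where
  y4 : y ^ 4 = 1
  z_ne : y ^ 2 ≠ 1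
  rr : r * r = 1
  ryr : r * y * r = y⁻¹
  w3 : w ^ 3 = 1
  wz : w * y ^ 2 * w⁻¹ = r
  sw : y * r * w * (y * r) = w⁻¹
  cc : c * c = 1
  c_ne : c ≠ 1
  c_ne_z : c ≠ y ^ 2
  my : y ∈ M
  mr : r ∈ M
  mw : w ∈ M
  mc : c ∈ M
  F : ∀ g ∈ M, TwF y r w c g

set_option synthInstance.maxSize 4000 in
theorem s42_facts : ∀ (ε : Multiplicative (ZMod 2)) (g : Perm (Fin 4) × Multiplicative (ZMod 2)),
    TwF (y4, ε) (r4, 1) (w4, 1) (1, Multiplicative.ofAdd 1) g := by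
  unfold TwF
  decide +kernel

theorem tw_of {ι : Perm (Fin 4) × Multiplicative (ZMod 2) →* G} (hι : Function.Injective ι)
    (h : Prim ι.range) (ε : Multiplicative (ZMod 2)) :
    Tw ι.range (ι (y4, ε)) (ι (r4, 1)) (ι (w4, 1)) (ι (1, Multiplicative.ofAdd 1)) := by
  refine ⟨h, ?_, ?_, ?_, ?_, ?_, ?_, ?_, ?_, ?_, ?_, ⟨_, rfl⟩, ⟨_, rfl⟩, ⟨_, rfl⟩, ⟨_, rfl⟩, ?_⟩
  rotate_right
  · rintro _ ⟨g, rfl⟩
    have := s42_facts ε g
    simp only [TwF, ← hι.eq_iff] at this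
    simpa only [TwF, map_mul, map_pow, map_inv, map_one] using this
  all_goals
    simp only [← map_mul, ← map_pow, ← map_inv, ← map_one ι, hι.eq_iff, ne_eq]
    revert ε
    decide +kernel

namespace Tw

variable {M : Subgroup G} {y r w c : G} (h : Tw M y r w c)
include h

theorem zz : y ^ 2 * y ^ 2 = 1 := by rw [← pow_add, h.y4]

theorem r_inv : r⁻¹ = r := inv_eq_of_mul_eq_one_right h.rr

theorem c_inv : c⁻¹ = c := inv_eq_of_mul_eq_one_right h.cc

theorem z_inv : (y ^ 2)⁻¹ = y ^ 2 := inv_eq_of_mul_eq_one_right h.zz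

theorem ry : r * y * r⁻¹ = y⁻¹ := by rw [h.r_inv, h.ryr]

theorem rz : Commute r (y ^ 2) :=
  mul_inv_eq_iff_eq_mul.1 (by rw [← conj_pow, h.ry, inv_pow, h.z_inv])

theorem not_ry : ¬ Commute r y := fun e => h.z_ne (by
  have := h.ry
  rw [e.eq, mul_inv_cancel_right] at this
  rw [sq]
  nth_rewrite 1 [this]
  exact inv_mul_cancel y)

theorem cm {g : G} (hg : g ∈ M) : Commute g c := (h.F g hg).2.2.2.1

variable [Finite G]

theorem mem_of_c {g : G} (hg : Commute g c) : g ∈ M := h.mem_of_comm h.mc h.c_ne (fun _ => h.cm) hg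

theorem mem_of_E {g : G} (h1 : g * y ^ 2 * g⁻¹ = y ^ 2) (h2 : Commute (g * r * g⁻¹) r)
    (h3 : g * r * g⁻¹ ∈ M) (h4 : Commute (g * r * g⁻¹) (y ^ 2))
    (h5 : g * c * g⁻¹ = c ∨ g * c * g⁻¹ = y ^ 2 * c) : g ∈ M := by
  have m1 : y ^ 2 ∈ closure {y ^ 2, r, c} := subset_closure (by simp)
  have m2 : r ∈ closure {y ^ 2, r, c} := subset_closure (by simp)
  have m3 : c ∈ closure {y ^ 2, r, c} := subset_closure (by simp)
  refine h.mem_of_norm (V := closure {y ^ 2, r, c}) ((closure_le _).2 (by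
    rintro _ (rfl | rfl | rfl); exacts [pow_mem h.my 2, h.mr, h.mc]))
    (fun e => h.z_ne (by rwa [e, mem_bot] at m1)) (fun m hm => mem_normalizer_closure ?_)
    (mem_normalizer_closure ?_)
  · rintro _ (rfl | rfl | rfl)
    · rcases (h.F m hm).2.1 with e | e | e <;> rw [e]
      exacts [m1, m2, mul_mem m1 m2]
    · rcases (h.F m hm).2.2.1 with e | e | e <;> rw [e]
      exacts [m1, m2, mul_mem m1 m2]
    · rwa [(h.cm hm).eq, mul_inv_cancel_right]
  · rintro _ (rfl | rfl | rfl)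
    · rwa [h1]
    · rcases ((h.F _ h3).2.2.2.2.2.2 h4).2.1 h2 with (e | e | e | e) | e | e | e | e <;> rw [e]
      exacts [one_mem _, m1, m2, mul_mem m1 m2, m3, mul_mem m1 m3, mul_mem m2 m3,
        mul_mem (mul_mem m1 m2) m3]
    · rcases h5 with e | e <;> rw [e]
      exacts [m3, mul_mem m1 m3]

theorem mem_of_V {g : G} (h1 : Commute g (y ^ 2)) (h2 : Commute g r) : g ∈ M := by
  have m1 : y ^ 2 ∈ closure {y ^ 2, r} := subset_closure (by simp)
  have m2 : r ∈ closure {y ^ 2, r} := subset_closure (by simp)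
  refine h.mem_of_norm (V := closure {y ^ 2, r}) ((closure_le _).2 (by
    rintro _ (rfl | rfl); exacts [pow_mem h.my 2, h.mr]))
    (fun e => h.z_ne (by rwa [e, mem_bot] at m1)) (fun m hm => mem_normalizer_closure ?_)
    (mem_normalizer_closure ?_)
  · rintro _ (rfl | rfl)
    · rcases (h.F m hm).2.1 with e | e | e <;> rw [e]
      exacts [m1, m2, mul_mem m1 m2]
    · rcases (h.F m hm).2.2.1 with e | e | e <;> rw [e]
      exacts [m1, m2, mul_mem m1 m2]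
  · rintro _ (rfl | rfl)
    · rwa [h1.eq, mul_inv_cancel_right]
    · rwa [h2.eq, mul_inv_cancel_right]

theorem exists_b {x : G} (h1 : x * y ^ 2 * x⁻¹ = y ^ 2) (h2 : x * c * x⁻¹ = y ^ 2 * c)
    (h3 : x * r * x⁻¹ = y * r ∨ x * r * x⁻¹ = y * (y * r) * y⁻¹) :
    ∃ b, b * r * b⁻¹ = y * r ∧ b * c * b⁻¹ = y ^ 2 * c ∧ b ^ 2 = y := by
  have cy := (Commute.refl y).pow_right 2
  have cz := h.cm (pow_mem h.my 2)
  have sq : ∀ x, x * y ^ 2 * x⁻¹ = y ^ 2 → x * c * x⁻¹ = y ^ 2 * c →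
      x * x ∈ M ∧ Commute (x * x) (y ^ 2) := fun x h1 h2 =>
    ⟨h.mem_of_c (mul_inv_eq_iff_eq_mul.1 (by
      rw [show x * x * c * (x * x)⁻¹ = x * (x * c * x⁻¹) * x⁻¹ by group, h2, ← conj_mul, h1, h2,
        ← mul_assoc, h.zz, one_mul])), Commute.mul_left (mul_inv_eq_iff_eq_mul.1 h1)
        (mul_inv_eq_iff_eq_mul.1 h1)⟩
  obtain ⟨x, h1, h2, h3⟩ : ∃ x, x * y ^ 2 * x⁻¹ = y ^ 2 ∧ x * c * x⁻¹ = y ^ 2 * c ∧
      x * r * x⁻¹ = y * r := by
    rcases h3 with e | e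
    · exact ⟨x, h1, h2, e⟩
    · refine ⟨y⁻¹ * x, ?_, ?_, ?_⟩ <;>
        rw [show ∀ u, y⁻¹ * x * u * (y⁻¹ * x)⁻¹ = y⁻¹ * (x * u * x⁻¹) * y by intro u; group]
      · rw [h1]; group
      · rw [h2, mul_assoc, mul_assoc, ← (h.cm h.my).eq]; group
      · rw [e]; group
  obtain ⟨x, h0, h2, h3⟩ : ∃ x, Commute x y ∧ x * c * x⁻¹ = y ^ 2 * c ∧ x * r * x⁻¹ = y * r := by
    obtain ⟨m1, m2⟩ := sq x h1 h2
    have e0 : x * x * r * (x * x)⁻¹ = x * y * x⁻¹ * (y * r) := by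
      rw [← h3, conj_mul, ← h3]; group
    rcases ((h.F _ m1).2.2.2.2.2.2 m2).2.2.2.2.2.1 with e | e <;> rw [e0] at e
    · refine ⟨x * r, mul_inv_eq_iff_eq_mul.1 ?_, ?_, by rw [← h3]; group⟩
      · rw [← mul_assoc, mul_eq_right, mul_eq_one_iff_eq_inv] at e
        calc _ = x * (r * y * r⁻¹) * x⁻¹ := by group
          _ = _ := by rw [h.ry, ← conj_inv, e, inv_inv]
      · rw [← h2, mul_assoc x r, (h.cm h.mr).eq]; group
    · rw [← mul_assoc, mul_left_inj, _root_.sq, mul_left_inj] at e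
      exact ⟨x, mul_inv_eq_iff_eq_mul.1 e, h2, h3⟩
  have h1 : x * y ^ 2 * x⁻¹ = y ^ 2 := by rw [(h0.pow_right 2).eq, mul_inv_cancel_right]
  obtain ⟨m1, m2⟩ := sq x h1 h2
  have n : ∀ u, Commute x u → x * x ≠ u * c := fun u hu e => h.z_ne (by
    have c1 : Commute x (u * c) := e ▸ (Commute.refl x).mul_right (Commute.refl x)
    have c2 : Commute x c := by simpa using hu.inv_right.mul_right c1
    rwa [c2.eq, mul_inv_cancel_right, right_eq_mul] at h2)
  rcases ((h.F _ m1).2.2.2.2.2.2 m2).2.2.2.2.2.2 (h0.mul_left h0) (by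
    rw [show x * x * r * (x * x)⁻¹ = x * (x * r * x⁻¹) * x⁻¹ by group, h3, ← conj_mul, h3, h0.eq]
    simp [_root_.sq, mul_assoc]) with e | e | e | e
  · exact ⟨x, h3, h2, by rw [_root_.sq, e]⟩
  · refine ⟨x * c, by rw [← h3, mul_assoc x c, ← (h.cm h.mr).eq]; group, by rw [← h2]; group, ?_⟩
    calc _ = x * c * x⁻¹ * (x * x) * c := by simp [_root_.sq, mul_assoc]
      _ = y ^ 2 * y⁻¹ * (c * c) := by rw [h2, e, mul_assoc (y ^ 2), ← (h.cm h.my).inv_left.eq]; group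
      _ = _ := by rw [h.cc]; group
  · exact absurd e (n _ h0)
  · exact absurd e (n _ h0.inv_right)

theorem exists_sign {b : G} (br : b * r * b⁻¹ = y * r) (bc : b * c * b⁻¹ = y ^ 2 * c)
    (b2 : b ^ 2 = y) : ¬ 64 ∣ Nat.card G ∧ ∃ f : G →* ℤˣ, f c = -1 ∧ f b = -1 := by
  have : Fact (Nat.Prime 2) := ⟨Nat.prime_two⟩
  have b4 : b ^ 4 = y ^ 2 := by rw [← b2, ← pow_mul]
  have b8 : b ^ 8 = 1 := by rw [← h.y4, ← b2, ← pow_mul]
  have ob : orderOf b = 2 ^ (2 + 1) := orderOf_eq_prime_pow (b4 ▸ h.z_ne) b8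
  have bz : Commute b (y ^ 2) := b4 ▸ Commute.self_pow b 4
  have rb : r * b * r⁻¹ = b⁻¹ := by
    calc _ = y⁻¹ * (y * r) * b * r⁻¹ := by group
      _ = _ := by rw [← br, ← b2]; group
  have cb : c * b * c⁻¹ = b ^ 5 := by
    calc _ = (y ^ 2)⁻¹ * (y ^ 2 * c) * b * c⁻¹ := by group
      _ = _ := by rw [← bc, h.z_inv, ← b4]; group
  have rc := h.cm h.mr
  have zc := h.cm (pow_mem h.my 2)
  have nM : ∀ g, g * b * g⁻¹ ∉ M := fun g e => h.z_ne (by
    have := (h.F _ e).2.2.2.2.1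
    rwa [conj_pow, conj_eq_one_iff, show 12 = 8 + 4 from rfl, pow_add, b8, one_mul, b4] at this)
  have ncz : ∀ g, g * y ^ 2 * g⁻¹ ≠ c := fun g e =>
    nM g (h.mem_of_c (e ▸ bz.map (MulAut.conj g)))
  have eqz : ∀ u ∈ zpowers b, u ≠ 1 → u * u = 1 → u = y ^ 2 := fun u hu =>
    eq_of_mem_zpowers (b4 ▸ pow_mem (mem_zpowers b) 4) hu h.z_ne h.zz
  have nb : ∀ v k, v * b * v⁻¹ = b ^ (k : ℤ) → ∀ x ∈ zpowers b, v * x * v⁻¹ ∈ zpowers b := by
    rintro v k e _ ⟨i, rfl⟩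
    rw [← conj_zpow, e]
    exact zpow_mem (zpow_mem (mem_zpowers b) k) i
  have nr := nb r (-1) (by simpa using rb)
  have nc := nb c (5 : ℕ) (by rw [zpow_natCast, cb])
  have hby : ∀ u ∈ zpowers b, Commute u y := by
    rintro _ ⟨i, rfl⟩
    exact b2 ▸ (Commute.zpow_self b i).pow_right 2
  obtain ⟨D, hD, cD⟩ := exists_ext2 (h.rr ▸ one_mem _) (fun e => h.not_ry (hby r e)) nr
  obtain ⟨S, hS, cS⟩ := exists_ext2 (A := D) (h.cc ▸ one_mem _) (fun e => by
    rcases (hD c).1 e with e | e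
    · exact h.c_ne_z (eqz c e h.c_ne h.cc)
    · exact h.not_ry (by simpa using (h.cm h.my).symm.inv_left.mul_left (hby _ e))) (fun x hx => by
    rw [hD] at hx ⊢
    refine hx.imp (nc x) (fun e => ?_)
    rw [mul_assoc, ← rc.inv_right.eq]
    simpa [mul_assoc] using nc _ e)
  rw [cD, Nat.card_zpowers, ob] at cS
  have hS' : ∀ g ∈ S, ∃ β ∈ zpowers b, g = β ∨ g = β * c ∨ g = β * r ∨ g = β * (r * c) :=
    fun g hg => by
      rcases (hS g).1 hg with e | e <;> rcases (hD _).1 e with e | e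
      · exact ⟨_, e, Or.inl rfl⟩
      · exact ⟨_, e, Or.inr (Or.inr (Or.inl (by rw [mul_assoc, h.rr, mul_one])))⟩
      · exact ⟨_, e, Or.inr (Or.inl (by rw [mul_assoc, h.cc, mul_one]))⟩
      · exact ⟨_, e, Or.inr (Or.inr (Or.inr (by simp [mul_assoc, ← mul_assoc r, h.rr, h.cc])))⟩
  have mb : ∀ u ∈ zpowers b, u ∈ S := fun u hu => (hS u).2 (Or.inl ((hD u).2 (Or.inl hu)))
  have mr : r ∈ S := (hS r).2 (Or.inl ((hD r).2 (Or.inr (h.rr ▸ one_mem _))))
  have mc : c ∈ S := (hS c).2 (Or.inr (h.cc ▸ one_mem _))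
  have my : y ∈ S := mb y (b2 ▸ pow_mem (mem_zpowers b) 2)
  have hsq : ∀ g ∈ S, g * g ≠ 1 → g * g * (g * g) = 1 → g * g = y ^ 2 := fun g hg => eqz _ (by
    have key : ∀ β v, β ∈ zpowers b → v * v = 1 → v * β * v⁻¹ ∈ zpowers b →
        β * v * (β * v) ∈ zpowers b := fun β v h1 h2 h3 => by
      simpa [mul_assoc, inv_eq_of_mul_eq_one_right h2] using mul_mem h1 h3
    obtain ⟨β, hβ, e | e | e | e⟩ := hS' g hg <;> rw [e]
    exacts [mul_mem hβ hβ, key _ _ hβ h.cc (nc _ hβ), key _ _ hβ h.rr (nr _ hβ),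
      key _ _ hβ (by rw [rc.symm.mul_mul_mul_comm, h.rr, h.cc, one_mul])
        (by simpa [mul_assoc] using nr _ (nc _ hβ))])
  have hN : normalizer (S : Set G) ≤ S := fun g hg => by
    rw [mem_normalizer_iff] at hg
    have gz : g * y ^ 2 * g⁻¹ = y ^ 2 := by
      have := hsq _ ((hg y).1 my) (by simpa [← sq] using h.z_ne) (by simp [← sq, ← pow_mul, h.y4])
      rwa [conj_mul, ← sq] at this
    have key : ∀ g, Commute g (y ^ 2) → Commute g c → g ∈ S := fun g c1 c2 => by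
      obtain ⟨i, j, l, e⟩ := ((h.F g (h.mem_of_c c2)).2.2.2.2.2.2 c1).1
      exact e ▸ mul_mem (mul_mem (pow_mem my _) (pow_mem mr _)) (pow_mem mc _)
    have h1 : ∀ s ∈ S, s * c * s⁻¹ = c ∨ s * c * s⁻¹ = y ^ 2 * c := fun s hs => by
      obtain ⟨β, hβ, e⟩ := hS' s hs
      have e1 : s * c * s⁻¹ = β * c * β⁻¹ := by
        rcases e with e | e | e | e <;> simp [e, mul_assoc, ← rc.eq, ← mul_assoc r⁻¹, rc.left_comm]
      obtain ⟨i, rfl⟩ := mem_powers_iff_mem_zpowers.2 hβ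
      rw [e1]
      obtain ⟨k, rfl | rfl⟩ := Nat.even_or_odd' i
      · exact Or.inl (by simp only [pow_mul, b2, ((h.cm h.my).pow_left k).eq, mul_inv_cancel_right])
      · right
        simp only
        rw [pow_succ', pow_mul, b2, ← bc, mul_assoc b, ((h.cm h.my).pow_left k).eq]; group
    have h2 : b * (g * c * g⁻¹) * b⁻¹ = g * c * g⁻¹ ∨
        b * (g * c * g⁻¹) * b⁻¹ = y ^ 2 * (g * c * g⁻¹) := by
      refine (h1 (g⁻¹ * b * g) ((hg _).2 (by simpa [mul_assoc] using mb b (mem_zpowers b)))).imp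
        (fun e => ?_) (fun e => ?_)
      · nth_rewrite 2 [← e]; group
      · rw [← gz, conj_mul, ← e]; group
    have y1 : y ≠ 1 := fun e => h.z_ne (by simp [e])
    have n1 : ∀ u t, u = y ∨ u = y ^ 2 * y → b * t * b⁻¹ = u * t →
        ¬ (b * t * b⁻¹ = t ∨ b * t * b⁻¹ = y ^ 2 * t) := by
      rintro u t (e0 | e0) e (e' | e') <;> rw [e, e0] at e'
      · exact y1 (by simpa using e')
      · exact y1 (by simpa [sq] using e')
      · exact y1 (by rw [← h.y4, pow_succ, pow_succ, mul_eq_right.1 e', one_mul])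
      · exact y1 (by simpa using e')
    have gz' : Commute g (y ^ 2) := mul_inv_eq_iff_eq_mul.1 gz
    obtain ⟨β, hβ, e⟩ := hS' _ ((hg c).1 mc)
    have bβ : Commute b β := by obtain ⟨i, rfl⟩ := hβ; exact Commute.self_zpow b i
    have e2 : g * c * g⁻¹ * (g * c * g⁻¹) = 1 := by rw [conj_mul, h.cc]; simp
    rcases e with e | e | e | e
    · exact absurd (by rw [← eqz _ hβ (by simpa [← e] using h.c_ne) (e ▸ e2), ← e]; group) (ncz g⁻¹)
    · have e3 : c * β * c⁻¹ = β ^ 5 := by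
        obtain ⟨i, rfl⟩ := hβ
        rw [← conj_zpow, cb, ← zpow_natCast, ← zpow_natCast, ← zpow_mul, ← zpow_mul, mul_comm]
      have e4 : β ^ 8 = 1 := orderOf_dvd_iff_pow_eq_one.1 ((orderOf_dvd_of_mem_zpowers hβ).trans ob.dvd)
      have e5 : β * β = 1 := by
        calc _ = β ^ 8 * (β * β ^ 5)⁻¹ := by rw [← sq]; group
          _ = _ := by rw [e4, ← e3, h.c_inv, ← mul_assoc, ← mul_assoc, mul_assoc _ β, ← e, e2]; simp
      by_cases e6 : β = 1
      · exact key g gz' (mul_inv_eq_iff_eq_mul.1 (by simpa [e6] using e))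
      · rw [eqz β hβ e6 e5, ← bc] at e
        have := key (b⁻¹ * g) (bz.inv_left.mul_left gz') (mul_inv_eq_iff_eq_mul.1 (by
          calc _ = b⁻¹ * (g * c * g⁻¹) * b := by group
            _ = _ := by rw [e]; group))
        simpa using mul_mem (mb b (mem_zpowers b)) this
    · refine absurd h2 (n1 y _ (Or.inl rfl) ?_)
      rw [e, ← conj_mul, br, bβ.eq, mul_inv_cancel_right, ← mul_assoc, (hby β hβ).eq, mul_assoc]
    · refine absurd h2 (n1 _ _ (Or.inr rfl) ?_)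
      rw [e, ← conj_mul, ← conj_mul, br, bc, bβ.eq, mul_inv_cancel_right, mul_assoc y,
        ← mul_assoc r, h.rz.eq, ← mul_assoc, ← mul_assoc, (hby β hβ).eq, ← mul_assoc, mul_assoc y,
        ((hby β hβ).pow_right 2).eq]
      group
  have h64 : ¬ 64 ∣ Nat.card G := fun e => by
    have := (Sylow.prime_pow_dvd_card_normalizer (p := 2) (n := 5) e cS).trans (card_dvd_of_le hN)
    rw [cS] at this
    omega
  refine ⟨h64, ?_⟩
  let P : Sylow 2 G := (IsPGroup.of_card (n := 5) cS).toSylow (fun e => h64 (by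
    rw [← S.card_mul_index, cS]
    exact Nat.mul_dvd_mul_left 32 e))
  have a2 : (b⁻¹ * c) ^ 2 = y := by
    calc _ = b⁻¹ * (c * b * c⁻¹)⁻¹ * (c * c) := by simp [sq, mul_assoc]
      _ = (b ^ 8)⁻¹ * b ^ 2 := by rw [cb, h.cc]; group
      _ = _ := by rw [b8, b2]; simp
  have ra : r * (b⁻¹ * c) * r⁻¹ = (b⁻¹ * c) ^ 3 := by
    rw [pow_succ, a2, ← b2, ← conj_mul, ← conj_inv, rb, rc.eq]; group
  obtain ⟨a, ha⟩ : ∃ a, a = b⁻¹ * c := ⟨_, rfl⟩
  rw [← ha] at a2 ra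
  have a4 : a ^ 4 = y ^ 2 := by rw [← a2, ← pow_mul]
  have oa : orderOf a = 2 ^ (2 + 1) :=
    orderOf_eq_prime_pow (a4 ▸ h.z_ne) (by rw [← h.y4, ← a2, ← pow_mul]; rfl)
  obtain ⟨A, hA, cA⟩ := exists_ext2 (A := zpowers a) (h.rr ▸ one_mem _)
    (fun ⟨k, e⟩ => h.not_ry (e ▸ a2 ▸ (Commute.zpow_self a k).pow_right 2)) (by
      rintro _ ⟨i, rfl⟩
      rw [← conj_zpow, ra]
      exact zpow_mem (pow_mem (mem_zpowers a) 3) i)
  rw [Nat.card_zpowers, oa] at cA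
  have iA : A.index % 4 = 2 := by
    have e1 := A.card_mul_index
    have e2 := cS ▸ card_subgroup_dvd_card S
    rw [cA] at e1
    omega
  have sgn : ∀ u, u ≠ 1 → u * u = 1 → (∀ g, g * y ^ 2 * g⁻¹ ≠ u) → ∃ f : G →* ℤˣ, f u = -1 :=
    fun u u1 u2 hu => H5.exists_sign_of_not_conj iA u2 (fun g hg => by
      have e1 : g * u * g⁻¹ * (g * u * g⁻¹) = 1 := by rw [conj_mul, u2]; simp
      rcases (hA _).1 hg with e | e
      · refine hu g⁻¹ ?_
        rw [← eq_of_mem_zpowers (a4 ▸ pow_mem (mem_zpowers a) 4) e h.z_ne h.zz (by simpa using u1) e1]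
        group
      · obtain ⟨i, hi⟩ := mem_powers_iff_mem_zpowers.2 e
        have e2 : g * u * g⁻¹ = a ^ i * r := by
          rw [show a ^ i = _ from hi, mul_assoc _ r, h.rr, mul_one]
        obtain ⟨k, rfl | rfl⟩ := Nat.even_or_odd' i
        · have e3 : ∀ k : ℕ, b ^ k * r * (b ^ k)⁻¹ = y ^ k * r := fun k => by
            calc _ = b ^ k * (r * b⁻¹ * r⁻¹) ^ k * r := by rw [conj_pow]; group
              _ = _ := by rw [← conj_inv, rb, inv_inv, ← b2]; group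
          refine hu (g⁻¹ * b ^ k * w) ?_
          calc _ = g⁻¹ * (b ^ k * (w * y ^ 2 * w⁻¹) * (b ^ k)⁻¹) * g := by group
            _ = _ := by rw [h.wz, e3, ← a2, ← pow_mul, ← e2]; group
        · refine h.z_ne ?_
          rw [← pow_odd_of_sq h.zz (odd_two_mul_add_one k), ← e1, e2, ← a4]
          calc _ = a ^ (2 * k + 1) * (a ^ 3) ^ (2 * k + 1) * (r * r) := by rw [h.rr]; group
            _ = _ := by rw [← ra, conj_pow]; group)
  obtain ⟨f, hf⟩ := sgn c h.c_ne h.cc ncz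
  have ne : b * r ≠ y ^ 2 := fun e => h.not_ry (by
    rw [eq_inv_mul_of_mul_eq e]
    exact (hby b (mem_zpowers b)).inv_left.mul_left ((Commute.refl y).pow_left 2))
  obtain ⟨f', hf'⟩ := sgn (b * r) (fun e => h.not_ry (by
      rw [eq_inv_of_mul_eq_one_right e]; exact (hby b (mem_zpowers b)).inv_left))
    (by rw [mul_assoc, ← mul_assoc r]; nth_rewrite 2 [← h.r_inv]; rw [rb, mul_inv_cancel])
    (fun g e => by
      have yc := h.cm h.my
      have c1 : Commute (c * y) (b * r) := mul_inv_eq_iff_eq_mul.1 (by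
        calc _ = c * (y * b * y⁻¹) * c⁻¹ * (c * (y * (r * y * r⁻¹)⁻¹ * r) * c⁻¹) := by group
          _ = _ := by
            rw [← (hby b (mem_zpowers b)).eq, mul_inv_cancel_right, cb, h.ry, inv_inv, ← sq,
              ← (zc.mul_left rc).eq, mul_inv_cancel_right, ← b4, ← mul_assoc, ← pow_add,
              show 5 + 4 = 8 + 1 from rfl, pow_add, b8, one_mul, pow_one])
      have c2 : (c * y) ^ 2 = y ^ 2 := by rw [yc.symm.mul_pow, sq, h.cc, one_mul]
      let C := centralizer {y ^ 2}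
      have hSC : S ≤ C := fun s hs => mem_centralizer_singleton_iff.2 (by
        obtain ⟨β, hβ, e⟩ := hS' s hs
        have := (hby β hβ).pow_right 2
        rcases e with e | e | e | e <;> rw [e]
        exacts [this, this.mul_left zc.symm, this.mul_left h.rz,
          this.mul_left (h.rz.mul_left zc.symm)])
      obtain ⟨m, hm⟩ := IsPElt.exists_conj_mem (p := 2) (u := (⟨g⁻¹ * (c * y) * g,
        mem_centralizer_singleton_iff.2 (comm_conj_iff.1 (e ▸ c1))⟩ : C))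
        (isPElt_coe.1 (by
          simpa using (show IsPElt 2 (c * y) from ⟨2, by
            rw [sq, pow_mul, c2, sq (y ^ 2), h.zz]⟩).conj g⁻¹)) (P.subtype hSC)
      have e1 : ∀ u, (m : G) * (g⁻¹ * u * g) * (m : G)⁻¹ = m * g⁻¹ * u * (m * g⁻¹)⁻¹ := by
        intro u; group
      replace hm : (m : G) * (g⁻¹ * (c * y) * g) * (m : G)⁻¹ ∈ S := hm
      rw [e1] at hm
      have e2 := hsq _ hm (by rw [conj_mul, ← sq, c2]; exact mt conj_eq_one_iff.1 h.z_ne)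
        (by rw [conj_mul, ← sq (c * y), c2, conj_mul, h.zz]; simp)
      rw [conj_mul, ← sq, c2] at e2
      refine ne ?_
      have e3 : Commute (m : G) (y ^ 2) := mem_centralizer_singleton_iff.1 m.2
      have e4 : Commute g (y ^ 2) := by
        simpa using ((Commute.mul_left e3.inv_left (mul_inv_eq_iff_eq_mul.1 e2))).inv_left
      rw [← e, e4.eq, mul_inv_cancel_right])
  have fr : f' r = 1 := by
    rw [← h.wz, map_mul, map_mul, map_pow, Int.units_sq, map_inv, mul_one, mul_inv_cancel]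
  rw [map_mul, fr, mul_one] at hf'
  rcases Int.units_eq_one_or (f b) with e | e
  · rcases Int.units_eq_one_or (f' c) with e' | e'
    · exact ⟨f * f', by simp [hf, e'], by simp [hf', e]⟩
    · exact ⟨f', e', hf'⟩
  · exact ⟨f, hf, e⟩

theorem main {b : G} (br : b * r * b⁻¹ = y * r) (bc : b * c * b⁻¹ = y ^ 2 * c) (b2 : b ^ 2 = y) :
    ∃ N : Subgroup G, N.Normal ∧ N.index = 2 ∧ centralizer (N : Set G) = ⊥ ∧
      Nonempty (N ≃* PSL(3, ZMod 3)) := by
  have : Fact (Nat.Prime 2) := ⟨Nat.prime_two⟩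
  obtain ⟨h64, f, fc, fb⟩ := h.exists_sign br bc b2
  have b4 : b ^ 4 = y ^ 2 := by rw [← b2, ← pow_mul]
  have b8 : b ^ 8 = 1 := by rw [← h.y4, ← b2, ← pow_mul]
  have rb : r * b * r⁻¹ = b⁻¹ := by
    calc _ = y⁻¹ * (y * r) * b * r⁻¹ := by group
      _ = _ := by rw [← br, ← b2]; group
  have cb : c * b * c⁻¹ = b ^ 5 := by
    calc _ = (y ^ 2)⁻¹ * (y ^ 2 * c) * b * c⁻¹ := by group
      _ = _ := by rw [← bc, h.z_inv, ← b4]; group
  have rc := h.cm h.mr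
  have a2 : (b⁻¹ * c) ^ 2 = y := by
    calc _ = b⁻¹ * (c * b * c⁻¹)⁻¹ * (c * c) := by simp [sq, mul_assoc]
      _ = (b ^ 8)⁻¹ * b ^ 2 := by rw [cb, h.cc]; group
      _ = _ := by rw [b8, b2]; simp
  have ra : r * (b⁻¹ * c) * r⁻¹ = (b⁻¹ * c) ^ 3 := by
    rw [pow_succ, a2, ← b2, ← conj_mul, ← conj_inv, rb, rc.eq]; group
  have ar : (b⁻¹ * c)⁻¹ * r * (b⁻¹ * c)⁻¹⁻¹ = y * r := by
    calc _ = c⁻¹ * (b * r * b⁻¹ * c) := by group
      _ = _ := by rw [br, (h.cm (mul_mem h.my h.mr)).eq, inv_mul_cancel_left]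
  have fa : f (b⁻¹ * c) = 1 := by simp [fb, fc]
  generalize b⁻¹ * c = a at a2 ra ar fa
  have a4 : a ^ 4 = y ^ 2 := by rw [← a2, ← pow_mul]
  have a8 : a ^ 8 = 1 := by rw [← h.y4, ← a2, ← pow_mul]
  have a12 : a ^ 12 ≠ 1 := fun e => h.z_ne (by
    rwa [show 12 = 8 + 4 from rfl, pow_add, a8, one_mul, a4] at e)
  have fy : f y = 1 := by rw [← a2, map_pow, Int.units_sq]
  have fr : f r = 1 := by simp [← h.wz, fy]
  have fw : f w = 1 := by
    have := congrArg f h.w3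
    rwa [map_pow, map_one, pow_succ, Int.units_sq, one_mul] at this
  have hK : ∀ g, g ∈ f.ker ∨ g * c ∈ f.ker := fun g => by
    rcases Int.units_eq_one_or (f g) with e | e <;> simp [e, fc]
  have cK : c ∉ f.ker := by simp [fc]
  have iK : f.ker.index = 2 := index_eq_two_iff.2 ⟨c, fun g => by
    rcases Int.units_eq_one_or (f g) with e | e <;> simp [e, fc]⟩
  have hmin : ∀ N : Subgroup G, N.Normal → N ≠ ⊥ → f.ker ≤ N := fun N hN h1 g hg => by
    obtain ⟨my, mr, mw⟩ := h.mem_normal h1 h.rr h.w3 h.wz h.sw br (fun m hm => (h.F m hm).2.2.1)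
    obtain ⟨n, hn, m, hm, e⟩ := h.exists_mul (N := N ⊓ f.ker) (fun e => h.z_ne (mem_bot.1 (e ▸
      (pow_mem (show y ∈ N ⊓ f.ker from ⟨my, fy⟩) 2)))) g
    obtain ⟨i, j, k, l, e'⟩ := (h.F m hm).1
    have e1 : f m = 1 := by simpa [e, show f n = 1 from hn.2] using hg
    have e2 : l = 0 := by
      fin_cases l
      · rfl
      · simp [e', fy, fr, fw, fc] at e1
    rw [e, e', e2]
    exact mul_mem hn.1 (by simpa using mul_mem (mul_mem (pow_mem my _) (pow_mem mr _)) (pow_mem mw _))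
  have cc : ∀ g, c * (c * g * c⁻¹) * c⁻¹ = g := fun g => by
    rw [show c * (c * g * c⁻¹) * c⁻¹ = c * c * g * (c * c)⁻¹ by group, h.cc]; simp
  have : Nontrivial f.ker := ⟨⟨⟨y ^ 2, pow_mem fy 2⟩, 1, fun e => h.z_ne (congrArg Subtype.val e)⟩⟩
  have : IsSimpleGroup f.ker := ⟨fun L hL => by
    let L' := L.map f.ker.subtype
    have n1 : ∀ g ∈ f.ker, ∀ l ∈ L', g * l * g⁻¹ ∈ L' := by
      rintro g hg _ ⟨l, hl, rfl⟩
      exact ⟨_, hL.conj_mem l hl ⟨g, hg⟩, rfl⟩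
    have n2 : ∀ g ∈ f.ker, ∀ l, c * l * c⁻¹ ∈ L' → c * (g * l * g⁻¹) * c⁻¹ ∈ L' := fun g hg l hl => by
      simpa [mul_assoc] using n1 _ ((inferInstance : f.ker.Normal).conj_mem g hg c) _ hl
    have n0 : L' ≤ f.ker := map_subtype_le L
    let N := L' ⊓ L'.comap (MulAut.conj c).toMonoidHom
    have hN : ∀ l, l ∈ N ↔ l ∈ L' ∧ c * l * c⁻¹ ∈ L' := fun l => Iff.rfl
    have sp : ∀ g l, g * l * g⁻¹ = g * c * (c * l * c⁻¹) * (g * c)⁻¹ := fun g l => by
      nth_rewrite 1 [← cc l]; group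
    by_cases e : N = ⊥
    · left
      by_contra hL1
      have cm : ∀ l ∈ L', ∀ l', c * l' * c⁻¹ ∈ L' → Commute l l' := fun l hl l' hl' => by
        have m' : l' ∈ f.ker := by simpa [fc] using n0 hl'
        rw [← commutatorElement_eq_one_iff_commute, ← mem_bot, ← e, hN, commutatorElement_def]
        refine ⟨by simpa [mul_assoc] using mul_mem hl (n1 _ m' _ (inv_mem hl)), ?_⟩
        simpa [mul_assoc] using mul_mem (n2 _ (n0 hl) _ hl') (inv_mem hl')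
      have ex : ∀ l ∈ L', l ^ 12 = 1 := fun l hl => by
        have c1 := cm l hl (c * l * c⁻¹) ((cc l).symm ▸ hl)
        have := (h.F _ (h.mem_of_c (g := l * (c * l * c⁻¹)) (Commute.symm
          (mul_inv_eq_iff_eq_mul.1 (by rw [← conj_mul, cc, c1.eq]))))).2.2.2.2.1
        rw [c1.mul_pow, mul_eq_one_iff_eq_inv] at this
        rw [← mem_bot, ← e, hN]
        refine ⟨pow_mem hl 12, ?_⟩
        rw [this, ← conj_inv, ← conj_pow, cc]
        exact inv_mem (pow_mem hl 12)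
      let P : Subgroup G :=
        { carrier := {g | ∃ l ∈ L', ∃ l', c * l' * c⁻¹ ∈ L' ∧ g = l * l'}
          one_mem' := ⟨1, one_mem _, 1, by simp, by simp⟩
          mul_mem' := by
            rintro _ _ ⟨l₁, h1, l₂, h2, rfl⟩ ⟨l₃, h3, l₄, h4, rfl⟩
            exact ⟨_, mul_mem h1 h3, l₂ * l₄, by rw [← conj_mul]; exact mul_mem h2 h4,
              (cm _ h3 _ h2).symm.mul_mul_mul_comm _ _⟩
          inv_mem' := by
            rintro _ ⟨l₁, h1, l₂, h2, rfl⟩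
            exact ⟨_, inv_mem h1, l₂⁻¹, by rw [← conj_inv]; exact inv_mem h2, by
              rw [(cm _ h1 _ h2).eq, mul_inv_rev]⟩ }
      obtain ⟨l, hl, l', hl', e'⟩ : a ∈ P := hmin P ⟨by
        rintro _ ⟨l, hl, l', hl', rfl⟩ g
        rcases hK g with hg | hg
        · exact ⟨_, n1 g hg l hl, _, n2 g hg l' hl', conj_mul.symm⟩
        · refine ⟨g * l' * g⁻¹, sp g l' ▸ n1 _ hg _ hl', g * l * g⁻¹,
            sp g l ▸ n2 _ hg _ ((cc l).symm ▸ hl), by rw [conj_mul, (cm _ hl _ hl').eq]⟩⟩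
        (fun e => hL1 (eq_bot_iff.2 fun l hl => Subtype.ext (mem_bot.1 (e ▸
          (⟨l, mem_map_of_mem _ hl, 1, by simp, by simp⟩ : (l : G) ∈ P))))) fa
      refine a12 ?_
      rw [e', (cm _ hl _ hl').mul_pow, ex l hl, one_mul, ← conj_eq_one_iff (a := c), ← conj_pow,
        ex _ hl']
    · right
      rw [eq_top_iff]
      intro g _
      obtain ⟨l, hl, e'⟩ := (hmin N ⟨fun l hl g => by
        rcases hK g with hg | hg
        · exact ⟨n1 g hg l hl.1, n2 g hg l hl.2⟩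
        · exact (hN _).2 ⟨sp g l ▸ n1 _ hg _ hl.2, sp g l ▸ n2 _ hg _ ((cc l).symm ▸ hl.1)⟩⟩ e g.2).1
      rwa [← Subtype.ext e']⟩
  let y' : f.ker := ⟨y, fy⟩
  let r' : f.ker := ⟨r, fr⟩
  let w' : f.ker := ⟨w, fw⟩
  let a' : f.ker := ⟨a, fa⟩
  have co : ∀ {u v : f.ker}, Commute u v → Commute (u : G) v := fun e => congrArg Subtype.val e
  have hF : Fr y' r' w' a'⁻¹ := ⟨Subtype.ext h.y4, fun e => h.z_ne (congrArg Subtype.val e),
    Subtype.ext h.rr, Subtype.ext h.ryr, Subtype.ext h.w3, Subtype.ext h.wz, Subtype.ext h.sw,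
    fun g c1 c2 => by
      replace c1 : Commute (g : G) (y ^ 2) := co c1
      replace c2 : Commute (g : G) r := co c2
      have e1 : f g = 1 := g.2
      rcases ((h.F _ (h.mem_of_V c1 c2)).2.2.2.2.2.2 c1).2.1 c2 with e | e | e | e | e
      · simp only [Subtype.ext_iff]
        exact e
      all_goals simp [e, fy, fr, fc] at e1,
    (show Commute a' y' from Subtype.ext (show Commute a y from a2 ▸ Commute.self_pow a 2)).inv_left,
    Subtype.ext ar⟩
  have hS : Sy y' r' w' a'⁻¹ a' 2 := ⟨hF, le_rfl, orderOf_eq_prime_pow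
    (fun e => h.z_ne (a4 ▸ congrArg Subtype.val e)) (Subtype.ext a8),
    ⟨(2 : ℕ), Subtype.ext (by simpa using a2)⟩, Or.inr (Subtype.ext ra), fun e => h64 (by
      rw [← f.ker.index_mul_card, iK]
      exact Nat.mul_dvd_mul_left 2 e)⟩
  obtain ⟨a₁, g, W, hd⟩ := hS.exists_sd (Subtype.ext ra)
  obtain ⟨φ, hg⟩ := hd.exists_sg
  refine ⟨f.ker, inferInstance, iK, ?_, hg.iso (fun t t2 tw => Subtype.ext ?_) (fun L h1 h2 => ?_)⟩
  · by_contra e
    exact h.not_ry (mem_centralizer_iff.1 (hmin _ inferInstance e fy) r fr)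
  · replace tw : Commute (t : G) w := co tw
    replace t2 : (t : G) * t = 1 := congrArg Subtype.val t2
    obtain ⟨k, hk, c1, c2⟩ := exists_involution_of_not_isPReg h.cc t2 (fun e => cK (by
      simpa using mul_mem (e.mem_of_sq (A := f.ker) (by simp)) (inv_mem t.2)))
    rcases (h.F _ (h.mem_of_c c1.symm)).2.2.2.2.2.1 (sq_eq_one_of_orderOf hk)
      (((h.cm h.mw).symm.mul_left tw).pow_left k) with e | e
    · simp [e] at hk
    · exact ((h.F _ (h.mem_of_c (e ▸ c2))).2.2.2.2.2.1 t2 tw).resolve_right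
        (fun e => cK (e ▸ t.2))
  · let L' := L.map f.ker.subtype
    let N := L' ⊓ L'.comap (MulAut.conj c).toMonoidHom
    have hN : ∀ l, l ∈ N ↔ l ∈ L' ∧ c * l * c⁻¹ ∈ L' := fun l => Iff.rfl
    have m1 : ∀ g, f g = 1 → Commute g (y ^ 2) → g ∈ N := fun g e1 e2 => (hN g).2
      ⟨⟨⟨g, e1⟩, h1 _ (Subtype.ext e2), rfl⟩, ⟨⟨c * g * c⁻¹, by simp [e1]⟩, h1 _ (Subtype.ext
        (show Commute (c * g * c⁻¹) (y ^ 2) from ((h.cm (pow_mem h.my 2)).symm.mul_left e2).mul_left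
          (h.cm (pow_mem h.my 2)).symm.inv_left)), rfl⟩⟩
    have m2 : w ∈ N := (hN w).2 ⟨⟨w', h2, rfl⟩, ⟨w', h2, by simp [w', ← (h.cm h.mw).eq]⟩⟩
    have m3 := m1 y fy ((Commute.refl y).pow_right 2)
    have hn := (h.max (normalizer (N : Set G)) (fun g hg => by
      obtain ⟨i, j, k, l, e⟩ := (h.F g hg).1
      have : c ∈ normalizer (N : Set G) := mem_normalizer_fintype (fun l hl =>
        (hN _).2 ⟨hl.2, (cc l).symm ▸ hl.1⟩)
      exact e ▸ mul_mem (le_normalizer (mul_mem (mul_mem (pow_mem m3 _)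
        (pow_mem (m1 r fr h.rz) _)) (pow_mem m2 _))) (pow_mem this _))).resolve_left
      (fun e => a12 (h.F a (e ▸ le_normalizer (m1 a fa (a4 ▸ Commute.self_pow a 4)))).2.2.2.2.1)
    rw [eq_top_iff]
    intro g _
    obtain ⟨l, hl, e'⟩ := (hmin N (normalizer_eq_top_iff.1 hn)
      (fun e => h.z_ne (mem_bot.1 (e ▸ pow_mem m3 2))) g.2).1
    rwa [← Subtype.ext e']

end Tw

theorem card_cent_y42 : Nat.card (centralizer
    {((y4, 1) : Perm (Fin 4) × Multiplicative (ZMod 2)) ^ 2}) = 2 ^ 4 := by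
  rw [Nat.card_congr (Equiv.subtypeEquivRight (fun g => mem_centralizer_singleton_iff)),
    Nat.card_eq_fintype_card]
  decide +kernel

theorem of_s42 [Finite G] {ι : Perm (Fin 4) × Multiplicative (ZMod 2) →* G}
    (hι : Function.Injective ι) (h : Prim ι.range) (h3 : Sub3 ι.range) :
    ∃ N : Subgroup G, N.Normal ∧ N.index = 2 ∧ centralizer (N : Set G) = ⊥ ∧
      Nonempty (N ≃* PSL(3, ZMod 3)) := by
  have cM : Nat.card ι.range = 2 ^ 4 * 3 := by
    rw [← Nat.card_congr (MonoidHom.ofInjective hι).toEquiv, Nat.card_eq_fintype_card]; rfl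
  obtain ⟨x, hx, hxT⟩ := h3.exists_norm (T := (centralizer {(y4, 1) ^ 2}).map ι) (map_le_range _ _)
    (by rw [card_map_of_injective hι, card_cent_y42]) cM
  have hT : ∀ t, t ∈ (centralizer {(y4, 1) ^ 2}).map ι ↔
      t ∈ ι.range ∧ Commute t (ι (y4, 1) ^ 2) := fun t =>
    ⟨by
      rintro ⟨g, hg, rfl⟩
      exact ⟨⟨g, rfl⟩, by
        simpa only [commute_iff_eq, map_mul, map_pow] using
          congrArg ι (mem_centralizer_singleton_iff.1 hg)⟩, by
      rintro ⟨⟨g, rfl⟩, hg⟩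
      exact ⟨g, mem_centralizer_singleton_iff.2 (hι (by
        simpa only [map_mul, map_pow] using hg.eq)), rfl⟩⟩
  have hxT' := inv_mem hxT
  simp only [mem_normalizer_iff, hT, inv_inv] at hxT hxT'
  have t1 := tw_of hι h 1
  have t2 := tw_of hι h (Multiplicative.ofAdd 1)
  rw [show ((y4, Multiplicative.ofAdd 1) : Perm (Fin 4) × Multiplicative (ZMod 2)) =
    (y4, 1) * (1, Multiplicative.ofAdd 1) by simp, map_mul] at t2
  generalize ι (y4, 1) = y at *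
  generalize ι (r4, 1) = r at *
  generalize ι (w4, 1) = w at *
  generalize ι (1, Multiplicative.ofAdd 1) = c at *
  generalize ι.range = M at *
  have cy := (Commute.refl y).pow_right 2
  have zc := t1.cm (pow_mem t1.my 2)
  have h1 : x * y ^ 2 * x⁻¹ = y ^ 2 := by
    obtain ⟨m, e⟩ := (hxT y).1 ⟨t1.my, cy⟩
    have := ((t1.F _ m).2.2.2.2.2.2 e).2.2.1.resolve_left (fun e => t1.z_ne (by
      rwa [conj_mul, conj_eq_one_iff, ← sq] at e))
    rwa [conj_mul, ← sq] at this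
  have h2 : x * c * x⁻¹ = y ^ 2 * c := by
    obtain ⟨m, e⟩ := (hxT c).1 ⟨t1.mc, zc.symm⟩
    rcases ((t1.F _ m).2.2.2.2.2.2 e).2.2.2.1
      (conj_comm_iff.2 (t1.cm ((hxT' y).1 ⟨t1.my, cy⟩).1).symm)
      (conj_comm_iff.2 (t1.cm ((hxT' r).1 ⟨t1.mr, t1.rz⟩).1).symm) with e | e | e | e
    · exact absurd (conj_eq_one_iff.1 e) t1.c_ne
    · exact absurd (by rwa [← h1, mul_left_inj, mul_right_inj] at e) t1.c_ne_z
    · exact absurd (t1.mem_of_c (mul_inv_eq_iff_eq_mul.1 e)) hx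
    · exact e
  obtain ⟨m, e⟩ := (hxT r).1 ⟨t1.mr, t1.rz⟩
  rcases ((t1.F _ m).2.2.2.2.2.2 e).2.2.2.2.1 (by rw [conj_mul, t1.rr]; simp) with e' | e' | e'
  · exact absurd (t1.mem_of_E h1 e' m e (Or.inr h2)) hx
  · obtain ⟨b, b1, b2, b3⟩ := t1.exists_b h1 h2 e'
    exact t1.main b1 b2 b3
  · have : (y * c) ^ 2 = y ^ 2 := by rw [(t1.cm t1.my).mul_pow, sq c, t1.cc, mul_one]
    obtain ⟨b, b1, b2, b3⟩ := t2.exists_b (this.symm ▸ h1) (this.symm ▸ h2) e'
    exact t2.main b1 b2 b3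

end Cfsg.Agent.H3
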