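import Cfsg.Agent.H3.X161b
import Cfsg.Prelude.Def_DegreeGraph

/-! A central extension of `M₂₃` by a group of order dividing `24` has no irreducible character
of degree divisible by `161`. -/

set_option autoImplicit false

namespace Cfsg.Agent.H3.X161

open Subgroup Cfsg.Agent.H7 Cfsg.Agent.H4 Cfsg.Agent.Fx4 Cfsg.Agent.H4.Nse Cfsg.Agent.Ma
open scoped ComplexConjugate

theorem sum_comp_surj {L M : Type*} [Group L] [Group M] [Fintype L] [Fintype M] (π : L →* M)
    (hs : Function.Surjective π) : ∃ c : ℕ, ∀ f : M → ℂ, ∑ g, f (π g) = c * ∑ m, f m := by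
  classical
  refine ⟨(Finset.univ.filter fun g => π g = 1).card, fun f => ?_⟩
  rw [← Finset.sum_fiberwise (s := Finset.univ) (g := π), Finset.mul_sum]
  refine Finset.sum_congr rfl fun m _ => ?_
  rw [Finset.sum_congr rfl (g := fun _ => f m) fun g hg => by rw [(Finset.mem_filter.mp hg).2],
    Finset.sum_const, nsmul_eq_mul, MonoidHom.card_fiber_eq_of_mem_range π (hs m) (hs 1)]

theorem lift7 {L M : Type*} [Group L] [Group M] [Finite L] (π : L →* M)
    (hs : Function.Surjective π) (hk : π.ker ≤ center L) (hc : Nat.card π.ker ∣ 24) {s : M}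
    (os : orderOf s = 7) {j : L} (h : Commute s (π j)) : ∃ r : L, orderOf r = 7 ∧ Commute r j := by
  have : Fact (Nat.Prime 7) := ⟨by norm_num⟩
  have k : ∀ z : L, π z = 1 → z ^ 24 = 1 := fun z hz =>
    orderOf_dvd_iff_pow_eq_one.mp ((orderOf_dvd_card_of_mem (show z ∈ π.ker from hz)).trans hc)
  obtain ⟨a, rfl⟩ := hs s
  have s7 : π a ^ 7 = 1 := os ▸ pow_orderOf_eq_one _
  have r7 : (a ^ 24) ^ 7 = 1 := by
    rw [← pow_mul, mul_comm, pow_mul]
    exact k _ (by rw [map_pow, s7])
  refine ⟨a ^ 24, orderOf_eq_prime r7 fun e => ?_, ?_⟩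
  · have := orderOf_dvd_of_pow_eq_one (show π a ^ 24 = 1 by rw [← map_pow, e, map_one])
    rw [os] at this
    omega
  generalize hr : a ^ 24 = r at r7
  have h1 : Commute (π r) (π j) := by rw [← hr, map_pow]; exact h.pow_left 24
  have h2 : π (j⁻¹ * r * j * r⁻¹) = 1 := by
    simp only [map_mul, map_inv]
    rw [mul_assoc (π j)⁻¹, h1.eq]
    group
  generalize hz : j⁻¹ * r * j * r⁻¹ = z at h2
  have h3 : Commute z r := (mem_center_iff.mp (hk h2) r).symm
  have h4 : j⁻¹ * r * j⁻¹⁻¹ = z * r := by rw [← hz]; group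
  have h5 : z ^ 7 = 1 := by
    have := congrArg (· ^ 7) h4
    simpa only [conj_pow, h3.mul_pow, r7, mul_one, mul_inv_cancel, eq_comm (a := (1 : L))]
      using this
  have h6 : z = 1 := orderOf_eq_one_iff.mp (Nat.eq_one_of_dvd_coprimes (by norm_num)
    (orderOf_dvd_of_pow_eq_one h5) (orderOf_dvd_of_pow_eq_one (k z h2)))
  rw [h6, one_mul, inv_inv, mul_assoc, inv_mul_eq_iff_eq_mul] at h4
  exact h4

theorem x161' {L : Type*} [Group L] [Finite L] (π : L →* Spor.M23) (hs : Function.Surjective π)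
    (hk : π.ker ≤ center L) (hc : Nat.card π.ker ∣ 24) : ∀ d ∈ charDegrees L, ¬ 161 ∣ d := by
  rintro _ ⟨⟨χ, hχ⟩, rfl⟩ ⟨k, hd⟩
  have := Fintype.ofFinite L
  have := Fintype.ofFinite Spor.M23
  obtain ⟨n, hn, h1⟩ := irr_one_pos hχ
  obtain rfl : n = 161 * k := by simpa [charDegree, h1] using hd
  have ch := irr_isCharacter hχ
  have h0 := irr_one_ne_zero hχ
  obtain ⟨ψ, hψ, H⟩ := exists_char_quotient π.ker (isCharacter_mul ch (isCharacter_conj ch))
    fun z hz => by
      have := (irr_central_mul hχ fun g => (mem_center_iff.mp (hk hz) g).symm).2 z⁻¹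
      rw [mul_inv_cancel, char_inv ch, div_mul_eq_mul_div, eq_div_iff h0] at this
      simp only [Pi.mul_apply, ← this]
      rw [← char_inv ch, inv_one]
  obtain ⟨θ, hθ, H⟩ : ∃ θ : Spor.M23 → ℂ, IsCharacter _ θ ∧ ∀ g, θ (π g) = χ g * conj (χ g) := by
    refine ⟨_, isCharacter_comp (QuotientGroup.quotientKerEquivOfSurjective π hs).symm.toMonoidHom
      hψ, fun g => ?_⟩
    have : (QuotientGroup.quotientKerEquivOfSurjective π hs).symm (π g) = g :=
      (MulEquiv.symm_apply_eq _).mpr rfl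
    simpa [this] using H g
  have hL : Nat.card L = 10200960 * Nat.card π.ker := by
    rw [← π.ker.index_mul_card, index_ker, MonoidHom.range_eq_top.mpr hs, card_top, Md.card_M23]
  have z : ∀ p ∈ [7, 23], ∀ g, p ∣ orderOf g → χ g = 0 := fun p hp g hg => by
    obtain ⟨c, hc⟩ := hc
    have h2 : ∀ m, Nat.card L = 161 * k * m → m ∣ 63360 * 24 := fun m hm =>
      Nat.dvd_of_mul_dvd_mul_left (show 0 < 161 by norm_num) ⟨k * c, by
        rw [hc, show 161 * m * (k * c) = 161 * k * m * c by ring, ← hm, hL]; ring⟩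
    simp only [List.mem_cons, List.not_mem_nil, or_false] at hp
    rcases hp with rfl | rfl <;>
      exact irr_eq_zero_of_defect_zero (by norm_num) hχ h1
        (fun m hm e => absurd (e.trans (h2 m hm)) (by norm_num)) hg
  refine Th.false (θ := θ) (k := k) ⟨hθ, by omega, ?_, ?_, fun g => ?_, fun g => ?_, fun g hg => ?_,
    fun j s os _ hc' => ?_⟩ k23
  · rw [← map_one π, H, ← char_inv ch, inv_one, h1]
    push_cast
    ring
  · obtain ⟨c, hc⟩ := sum_comp_surj π hs
    have h2 := hc θ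
    have h3 := hc 1
    have h4 := card_mul_classInner χ χ
    simp only [H] at h2
    simp only [Pi.one_apply, Finset.sum_const, Finset.card_univ, nsmul_eq_mul, mul_one,
      ← Nat.card_eq_fintype_card] at h3
    rw [classInner_irr_self hχ, mul_one, h2, h3] at h4
    refine (mul_left_cancel₀ (fun e => ?_) h4).symm
    rw [e, zero_mul] at h3
    exact card_ne_zero' h3
  · obtain ⟨g, rfl⟩ := hs g
    rw [← map_inv, H, H, char_inv ch, Complex.conj_conj, mul_comm]
  · obtain ⟨g, rfl⟩ := hs g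
    rw [H, Complex.mul_conj, Complex.ofReal_re]
    exact Complex.normSq_nonneg _
  · obtain ⟨g, rfl⟩ := hs g
    rw [H, hg.elim (fun e => z 7 (by simp) g (e.trans (orderOf_map_dvd π g)))
      fun e => z 23 (by simp) g (e.trans (orderOf_map_dvd π g)), zero_mul]
  · obtain ⟨j, rfl⟩ := hs j
    obtain ⟨r, or, hr⟩ := lift7 π hs hk hc os hc'
    obtain ⟨φ, hφ, H2⟩ := G22.exists_avg' (isCharacter_res C₁[r] ch) or (mem_cent1_self r)
      fun g hg => by rw [mem_cent1_iff.mp hg, mul_inv_cancel_right]; exact mem_zpowers _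
    have jr : j ∈ C₁[r] := mem_cent1_iff.mpr hr.symm
    have h2 := H2 ⟨j, jr⟩
    by_cases h7 : 7 ∣ orderOf j
    · exact ⟨0, isIntegral_zero, by rw [H, z 7 (by simp) j h7]; simp⟩
    rw [Finset.sum_range_succ', Finset.sum_eq_zero fun i hi => z 7 (by simp) _ ?_] at h2
    · refine ⟨φ ⟨j, jr⟩ * φ ⟨j, jr⟩⁻¹, (char_isIntegral hφ _).mul (char_isIntegral hφ _), ?_⟩
      simp only [pow_zero, one_mul, zero_add] at h2
      rw [H, ← h2, char_inv hφ, map_mul, map_natCast]
      push_cast
      ring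
    · have o : orderOf (r ^ (i + 1)) = 7 := by
        rw [orderOf_pow, or]
        have := Finset.mem_range.mp hi
        interval_cases i <;> rfl
      rw [(hr.pow_left (i + 1)).orderOf_mul_eq_mul_orderOf_of_coprime
        (by rw [o]; exact (Nat.Prime.coprime_iff_not_dvd (by norm_num)).mpr h7), o]
      exact Dvd.intro _ rfl

theorem x161 {L : Type*} [Group L] [Finite L] (π : L →* Spor.M23) (hs : Function.Surjective π)
    (hk : π.ker ≤ center L) (hc : Nat.card π.ker ∣ 24) (_ : commutator L = ⊤) :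
    ∀ d ∈ charDegrees L, ¬ 161 ∣ d := x161' π hs hk hc

end Cfsg.Agent.H3.X161
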