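import Cfsg.Agent.H9.M23f
import Cfsg.Agent.H5.MtB

/-! Conjugacy of elements of equal order in `M₂₃`. -/

set_option autoImplicit false
set_option maxRecDepth 100000

namespace Cfsg.Agent.H3.X161

open Subgroup Cfsg.Agent.H7 Cfsg.Agent.H4 Cfsg.Agent.Fx4 Cfsg.Agent.H4.Nse Cfsg.Agent.Ma

universe u
variable {G : Type u} [Group G] [Finite G] {F : Fr G} {A : Subgroup G} {x y w q g k : G}

/-- order of a code -/
noncomputable def oc (p : ℕ) : ℕ :=
  if eqc (ap p 1) 33825 then 1 else if eqc (ap p 2) 33825 then 2 else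
  if eqc (ap p 3) 33825 then 3 else if eqc (ap p 4) 33825 then 4 else
  if eqc (ap p 5) 33825 then 5 else if eqc (ap p 6) 33825 then 6 else
  if eqc (ap p 7) 33825 then 7 else if eqc (ap p 8) 33825 then 8 else 0

omit [Finite G] in
theorem ord_of (c : Cfg F A x y w q) {p n : ℕ} (hp : F.Rp A p g) (h : oc p = n) (hn : n ≠ 0) :
    orderOf g = n := by
  have e : ∀ m, g ^ m = 1 ↔ eqc (ap p m) 33825 = true := fun m =>
    ⟨c.code (hp.pow m) Fr.Rp.one, c.eq (hp.pow m) Fr.Rp.one⟩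
  rw [orderOf_eq_iff (Nat.pos_of_ne_zero hn)]
  simp only [ne_eq, e]
  unfold oc at h
  split_ifs at h <;> subst h <;>
    first
      | exact absurd rfl hn
      | exact ⟨by assumption, fun m h1 h2 => by interval_cases m <;> assumption⟩

theorem chkC : ∀ p ∈ TL, oc p ≠ 0 ∧
    (oc p = 4 → (TL.filter fun r => eqc (am p r) (am r p)).length ≤ 32) ∧
    (oc p = 8 → (TL.filter fun r => eqc (am p r) (am r p)).length ≤ 8) := by decide +kernel

theorem cent_le (c : Cfg F A x y w q) (hg : IsPGroup 2 C₁[g]) :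
    (orderOf g = 4 → Nat.card C₁[g] ≤ 32) ∧ (orderOf g = 8 → Nat.card C₁[g] ≤ 8) := by
  classical
  obtain ⟨D, h1, h2, h3, -⟩ := c.exists_D
  have h4 : Nat.card ↥(F.E ⊔ D) = 128 := by
    rw [card_sup_of_inf_eq_bot (h1.trans c.AN) (inf_eq_bot_mono (Fr.inf_E c.hA) le_rfl h1),
      F.card_E, h2]
  obtain ⟨a, -, hc⟩ := Nse.exists_conj_le (p := 2) (H := ⊤) (T := F.E ⊔ D) le_top hg fun e => by
    rw [relIndex_top_right] at e
    refine c.syl ?_
    rw [← (F.E ⊔ D).index_mul_card, h4]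
    exact mul_dvd_mul_right e 128
  have h5 : ∀ b ∈ C₁[g], ∃ p ∈ TL, F.Rp A p (a * b * a⁻¹) := fun g hg => by
    obtain ⟨_, ⟨v, hv, rfl⟩, b, hb, e⟩ := (mem_sup_of_norm (h1.trans c.AN)).mp (hc g hg)
    obtain ⟨m, hm, r⟩ := h3 b hb
    obtain ⟨p, hp, f⟩ := chk5 m hm v hv
    exact ⟨p, hp, e ▸ ((Fr.Rp.vec hv).mul r).congr f⟩
  obtain ⟨p, hp, rp⟩ := h5 g (mem_cent1_self g)
  obtain ⟨k0, k1, k2⟩ := chkC p hp
  have ho : orderOf g = oc p := (orderOf_conj' a g).symm.trans (ord_of c rp rfl k0)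
  choose f hf rf using h5
  have key : Nat.card C₁[g] ≤ (TL.filter fun r => eqc (am p r) (am r p)).length := by
    refine le_trans ?_ (List.toFinset_card_le _)
    rw [← Nat.card_eq_finsetCard]
    refine Nat.card_le_card_of_injective (fun b => ⟨f b.1 b.2, ?_⟩) fun b b' e => ?_
    · rw [List.mem_toFinset, List.mem_filter]
      refine ⟨hf _ _, c.code (rp.mul (rf _ _)) ((rf _ _).mul rp) ?_⟩
      rw [conj_mul, conj_mul, mem_cent1_iff.mp b.2]
    · have e1 : f b.1 b.2 = f b'.1 b'.2 := congrArg Subtype.val e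
      have := (rf b.1 b.2).uniq c.hA (e1 ▸ rf b'.1 b'.2)
      exact Subtype.ext (by simpa using this)
  exact ⟨fun e => key.trans (k1 (ho ▸ e)), fun e => key.trans (k2 (ho ▸ e))⟩

/-- The hypothesis. -/
structure K23 (G : Type u) [Group G] : Prop extends H23 G where
  m4 : mo G 4 = 318780
  m8 : mo G 8 = 1275120
  m11 : mo G 11 = 1854720
  m14 : mo G 14 = 1457280
  m15 : mo G 15 = 1360128
  m23 : mo G 23 = 887040

theorem k23 : K23 Spor.M23 :=
  { H23_M23 with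
    m4 := Md.mo_M23 4
    m8 := Md.mo_M23 8
    m11 := Md.mo_M23 11
    m14 := Md.mo_M23 14
    m15 := Md.mo_M23 15
    m23 := Md.mo_M23 23 }

namespace K23

variable (h : K23 G)
include h

theorem conj_of {n c : ℕ} (hg : orderOf g = n) (hk : orderOf k = n) (hc : Nat.card C₁[g] ≤ c)
    (hm : mo G n * c ≤ 10200960) : ∃ a, a * g * a⁻¹ = k := by
  refine conj_of_index ?_ (hk.trans hg.symm)
  have h1 := h.idx C₁[g]
  rw [hg]
  refine Nat.le_of_mul_le_mul_right (hm.trans (h1 ▸ Nat.mul_le_mul_left _ hc)) ?_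
  exact (card_pos' _).trans_le hc

theorem two (hg : orderOf g = 4 ∨ orderOf g = 8) : IsPGroup 2 C₁[g] := by
  have k : ∀ r : ℕ, r.Prime → r ∈ [3, 5, 7, 11, 23] → (Nat.card C₁[g]).Coprime r :=
    fun r hr h1 => by
      simp only [List.mem_cons, List.not_mem_nil, or_false] at h1
      rcases hg with e | e <;> refine h.cop e hr ?_ ?_ <;>
        rcases h1 with rfl | rfl | rfl | rfl | rfl <;> decide
  exact pg_of_dvd (k := 7) Nat.prime_two
    (((k 3 (by norm_num) (by decide)).pow_right 2).dvd_of_dvd_mul_right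
      ((k 5 (by norm_num) (by decide)).dvd_of_dvd_mul_right
        ((k 7 (by norm_num) (by decide)).dvd_of_dvd_mul_right
          ((k 11 (by norm_num) (by decide)).dvd_of_dvd_mul_right
            ((k 23 (by norm_num) (by decide)).dvd_of_dvd_mul_right (h.dvd _))))))

theorem conj4 (hg : orderOf g = 4) (hk : orderOf k = 4) : ∃ a, a * g * a⁻¹ = k := by
  obtain ⟨F, V, P, W, t, x, y, w, q, s⟩ := h.exists_S
  exact h.conj_of hg hk ((cent_le (s.cfg h.toH23) (h.two (.inl hg))).1 hg) (by rw [h.m4])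

theorem conj8 (hg : orderOf g = 8) (hk : orderOf k = 8) : ∃ a, a * g * a⁻¹ = k := by
  obtain ⟨F, V, P, W, t, x, y, w, q, s⟩ := h.exists_S
  exact h.conj_of hg hk ((cent_le (s.cfg h.toH23) (h.two (.inr hg))).2 hg) (by rw [h.m8])

theorem conj5 (hg : orderOf g = 5) (hk : orderOf k = 5) : ∃ a, a * g * a⁻¹ = k :=
  h.conj_of hg hk (Nat.le_of_dvd (by norm_num) (h.cent5 hg)) (by rw [h.m5])

theorem conj6 (hg : orderOf g = 6) (hk : orderOf k = 6) : ∃ a, a * g * a⁻¹ = k := by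
  have o3 : orderOf (g ^ 2) = 3 := by rw [orderOf_pow, hg]; rfl
  have o2 : orderOf (g ^ 3) = 2 := by rw [orderOf_pow, hg]; rfl
  refine h.conj_of hg hk (c := 12) ?_ (by rw [h.m6])
  refine le_trans (card_le_of_le ?_) (Nat.le_of_dvd (by norm_num)
    (h.cent32' o3 (of_o2 o2).1 (of_o2 o2).2))
  exact le_inf (fun b hb => mem_cent1_iff.mpr (Commute.pow_left (mem_cent1_iff.mp hb).symm 3).symm)
    fun b hb => mem_cent1_iff.mpr (Commute.pow_left (mem_cent1_iff.mp hb).symm 2).symm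

theorem conj11 (hg : orderOf g = 11) :
    (∃ a j, j ∈ [2, 3, 4, 5, 6, 7, 8, 9] ∧ a * g * a⁻¹ = g ^ j) ∧
      ∀ k, orderOf k = 11 → ∃ a, a * k * a⁻¹ ∈ zpowers g := by
  have : Fact (Nat.Prime 11) := ⟨by norm_num⟩
  have h1 := mo_prime hg (by rw [h.card]; norm_num)
  rw [h.m11, h.card] at h1
  have h2 : Nat.card N[zpowers g] = 55 := by omega
  refine ⟨?_, fun k hk => conj_mem_zpowers (by rw [hg, h.m11, h2, h.card]; decide) (hk.trans hg.symm)⟩
  obtain ⟨a, ha, oa⟩ := exists_mem_orderOf (p := 5) (H := N[zpowers g]) (by norm_num)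
    (by rw [h2]; norm_num)
  obtain ⟨j, hj, e⟩ := Nse.exists_pow hg (conj_mem_of_norm ha (mem_zpowers g))
  have h3 : a * a * g * (a * a)⁻¹ ≠ g := fun e => by
    have h4 := orderOf_dvd_card_of_mem (mem_cent1_iff.mpr (mul_inv_eq_iff_eq_mul.mp e))
    rw [← pow_two, orderOf_pow, oa] at h4
    exact absurd ((h.cop hg (r := 5) (by norm_num) (by norm_num) (by decide)).symm.eq_one_of_dvd h4)
      (by norm_num)
  have h4 : a * a * g * (a * a)⁻¹ = g ^ (j * j) := by
    rw [← conj_conj, e, ← conj_pow, e, ← pow_mul]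
  refine ⟨a, j, ?_, e⟩
  rw [h4] at h3
  have h5 : j * j % 11 ≠ 1 := fun e => h3 (by rw [← pow_mod_orderOf, hg, e, pow_one])
  have h6 : j ≠ 0 := fun e0 => by
    rw [e0, pow_zero, conj_eq_one_iff] at e
    simp [e] at hg
  interval_cases j <;> simp_all

theorem conj15 (hg : orderOf g = 15) :
    (∃ a j, j ∈ [2, 7] ∧ a * g * a⁻¹ = g ^ j) ∧
      ∀ k, orderOf k = 15 → ∃ a, a * k * a⁻¹ ∈ zpowers g := by
  have o5 : ∀ k : G, orderOf k = 15 → orderOf (k ^ 3) = 5 := fun k hk => by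
    rw [orderOf_pow, hk]; rfl
  have h1 : zpowers g = C₁[g ^ 3] := eq_of_le_of_card_ge
    (zpowers_le.mpr (mem_cent1_iff.mpr (Commute.self_pow g 3)))
    (by rw [Nat.card_zpowers, hg]; exact Nat.le_of_dvd (by norm_num) (h.cent5 (o5 g hg)))
  refine ⟨?_, fun k hk => ?_⟩
  · obtain ⟨a, e⟩ := h.conj5 (o5 g hg) (k := g ^ 6) (by rw [orderOf_pow, hg]; rfl)
    have h2 : a * g * a⁻¹ ∈ zpowers g := by
      rw [h1, mem_cent1_iff]
      have h3 : g ^ 3 = (a * g * a⁻¹) ^ 9 := by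
        rw [show 9 = 3 * 3 from rfl, pow_mul, conj_pow, e, ← pow_mul, Nse.pow_eq_iff hg]
      rw [h3]
      exact Commute.self_pow _ 9
    obtain ⟨j, hj, e1⟩ := Nse.exists_pow hg h2
    refine ⟨a, j, ?_, e1⟩
    rw [← conj_pow, e1, ← pow_mul, Nse.pow_eq_iff hg] at e
    have h3 := orderOf_conj' a g
    rw [e1, orderOf_pow, hg] at h3
    interval_cases j <;> simp_all
  · obtain ⟨a, e⟩ := h.conj5 (o5 k hk) (o5 g hg)
    refine ⟨a, ?_⟩
    rw [h1, mem_cent1_iff, ← e, ← conj_pow]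
    exact Commute.self_pow _ 3

end K23

end Cfsg.Agent.H3.X161
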