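import Cfsg.Agent.H3.X161a

/-! The norm equation for the square of the absolute value of a projective character. -/

set_option autoImplicit false
set_option maxRecDepth 100000

namespace Cfsg.Agent.H3.X161

open Subgroup Cfsg.Agent.H7 Cfsg.Agent.H4 Cfsg.Agent.Fx4 Cfsg.Agent.H4.Nse Cfsg.Agent.Ma
open Finset (range)

universe u
variable {G : Type u} [Group G] [Fintype G] {θ : G → ℂ} {k : ℕ} {g y : G}

/-- the search -/
noncomputable def sr (K a a4 a5 : ℕ) : Bool :=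
  force (161 * K + 1155 * a + 1980 * a4 + 4224 * a5) fun s =>
    allB (fun a11 => force (s + 11520 * a11) fun s => bim (Nat.ble s 63360) <|
      allB (fun a15 => force (s + 8448 * a15) fun s => bim (Nat.ble s 63360) <|
        allB (fun a8 => force (s + 7920 * a8) fun s => bim (Nat.ble s 63360) <|
          allB (fun a6 => force (s + 5280 * a6) fun s => bim (Nat.ble s 63360) <|
            bim (Nat.beq ((63360 - s) % 352) 0) <|
              Nat.blt 0 (((63360 - s) / 352 + 3 * a6) % 4)) 13) 9) 8) 6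

theorem srch : allB (fun k => force (k * k) fun K => bim (Nat.blt 0 K) <|
    allB (fun a => bim (Nat.beq ((25921 * K + 735 * a) % 16) 0) <|
      allB (fun a4 => bim (Nat.beq ((25921 * K + 1323 * a + 36 * a4) % 64) 0) <|
        allB (fun a5 => bim (Nat.beq ((25921 * K + 4 * a5) % 5) 0) <|
          sr K a a4 a5) 16) 33) 55) 20 = true := by decide +kernel

theorem arith {k K a a3 a4 a5 a6 a8 a11 a15 : ℕ} (hk : 0 < k) (hK : k * k = K)
    (e : 161 * K + 1155 * a + 352 * a3 + 1980 * a4 + 4224 * a5 + 5280 * a6 +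
      7920 * a8 + 11520 * a11 + 8448 * a15 = 63360)
    (h1 : 16 ∣ 25921 * K + 735 * a) (h2 : 64 ∣ 25921 * K + 1323 * a + 36 * a4)
    (h3 : 5 ∣ 25921 * K + 4 * a5) (h4 : 4 ∣ a3 + 3 * a6) : False := by
  have b : K < 400 ∧ a < 55 ∧ a4 < 33 ∧ a5 < 16 ∧ a11 < 6 ∧ a15 < 8 ∧ a8 < 9 ∧ a6 < 13 := by
    clear h1 h2 h3 h4 hK
    omega
  obtain ⟨b0, b1, b2, b3, b4, b5, b6, b7⟩ := b
  have hk2 : k < 20 := by
    by_contra h
    exact absurd (hK ▸ Nat.mul_le_mul (not_lt.mp h) (not_lt.mp h) : 20 * 20 ≤ K) (not_le.mpr b0)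
  have := allB_iff.mp srch k hk2
  simp only [force_eq, bim_iff, allB_iff, sr, Nat.beq_eq, Nat.ble_eq, Nat.blt_eq, hK] at this
  have := this (hK ▸ Nat.mul_pos hk hk) a b1 (Nat.mod_eq_zero_of_dvd h1) a4 b2
    (Nat.mod_eq_zero_of_dvd h2) a5 b3 (Nat.mod_eq_zero_of_dvd h3)
  clear h1 h2 h3 hK
  have e1 : 63360 - (161 * K + 1155 * a + 1980 * a4 + 4224 * a5 + 11520 * a11 + 8448 * a15 +
    7920 * a8 + 5280 * a6) = 352 * a3 := by
    clear this h4
    omega
  have := this a11 b4 (by clear this h4; omega) a15 b5 (by clear this h4; omega) a8 b6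
    (by clear this h4; omega) a6 b7 (by clear this h4; omega) (by rw [e1, Nat.mul_mod_right])
  rw [e1, Nat.mul_div_cancel_left _ (by norm_num), Nat.mod_eq_zero_of_dvd h4] at this
  exact absurd this (lt_irrefl 0)

/-- The properties of `|χ|²`. -/
structure Th (θ : G → ℂ) (k : ℕ) : Prop where
  ch : IsCharacter G θ
  pos : 0 < k
  one : θ 1 = (25921 * (k * k) : ℕ)
  sum : ∑ g, θ g = Nat.card G
  inv : ∀ g, θ g⁻¹ = θ g
  nn : ∀ g, 0 ≤ (θ g).re
  z : ∀ g, 7 ∣ orderOf g ∨ 23 ∣ orderOf g → θ g = 0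
  t49 : ∀ t s, orderOf s = 7 → orderOf t = 2 → Commute s t → ∃ α, IsIntegral ℤ α ∧ θ t = 49 * α

open Classical in
/-- value on the elements of order `n` -/
noncomputable def val (θ : G → ℂ) (n : ℕ) : ℂ :=
  if h : ∃ g : G, orderOf g = n then θ h.choose else 0

namespace Th

variable (t : Th θ k)
include t

theorem cj {a : G} (e : a * g * a⁻¹ = y) : θ g = θ y := by
  rw [← e, char_isClassFunction t.ch]

theorem gen {n j : ℕ} {a b : G} (hg : orderOf g = n) (e : a * g * a⁻¹ = g ^ j)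
    (H : ∀ m < n, n / n.gcd m = n → ∃ i < 5, j ^ i % n = m ∨ (j ^ i + m) % n = 0)
    (hy : orderOf y = n) (hb : b * y * b⁻¹ ∈ zpowers g) : θ g = θ y := by
  obtain ⟨m, hm, e1⟩ := Nse.exists_pow hg hb
  have h1 := orderOf_conj' b y
  rw [e1, orderOf_pow, hg, hy] at h1
  obtain ⟨i, -, h2⟩ := H m hm h1
  obtain ⟨c, hc⟩ := isConj_iff.mp (H5.MT.conj_iter (isConj_iff.mpr ⟨a, e⟩) i)
  rw [t.cj e1, t.cj hc]
  rcases h2 with h2 | h2
  · rw [← h2, ← hg, pow_mod_orderOf]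
  · rw [← t.inv, eq_comm]
    congr 1
    rw [eq_inv_iff_mul_eq_one, ← pow_add, add_comm, ← pow_mod_orderOf, hg, h2, pow_zero]

variable (h : K23 G)
include h

theorem const (e : orderOf g = orderOf y) : θ g = θ y := by
  have h1 := h.ord y
  simp only [List.mem_cons, List.not_mem_nil, or_false] at h1
  rcases h1 with f | f | f | f | f | f | f | f | f | f | f | f <;> rw [f] at e
  · rw [orderOf_eq_one_iff.mp e, orderOf_eq_one_iff.mp f]
  · exact t.cj (h.conj2 e f).choose_spec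
  · exact t.cj (h.conj3 e f).choose_spec
  · exact t.cj (h.conj4 e f).choose_spec
  · exact t.cj (h.conj5 e f).choose_spec
  · exact t.cj (h.conj6 e f).choose_spec
  · rw [t.z g (by simp [e]), t.z y (by simp [f])]
  · exact t.cj (h.conj8 e f).choose_spec
  · obtain ⟨⟨a, j, hj, e1⟩, h2⟩ := h.conj11 e
    exact t.gen e e1 ((by decide : ∀ j ∈ [2, 3, 4, 5, 6, 7, 8, 9], ∀ m < 11,
      11 / Nat.gcd 11 m = 11 → ∃ i < 5, j ^ i % 11 = m ∨ (j ^ i + m) % 11 = 0) j hj) f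
      (h2 y f).choose_spec
  · rw [t.z g (by simp [e]), t.z y (by simp [f])]
  · obtain ⟨⟨a, j, hj, e1⟩, h2⟩ := h.conj15 e
    exact t.gen e e1 ((by decide : ∀ j ∈ [2, 7], ∀ m < 15,
      15 / Nat.gcd 15 m = 15 → ∃ i < 5, j ^ i % 15 = m ∨ (j ^ i + m) % 15 = 0) j hj) f
      (h2 y f).choose_spec
  · rw [t.z g (by simp [e]), t.z y (by simp [f])]

theorem eq_val {n : ℕ} (e : orderOf g = n) : θ g = val θ n := by
  rw [val, dif_pos ⟨g, e⟩]
  exact t.const h (e.trans (Exists.choose_spec (⟨g, e⟩ : ∃ g : G, orderOf g = n)).symm)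

theorem v1 : val θ 1 = (25921 * (k * k) : ℕ) := (t.eq_val h orderOf_one).symm.trans t.one

theorem cyc {n : ℕ} (hn : 0 < mo G n) : ∃ m : ℕ, ∑ i ∈ range n, val θ (n / n.gcd i) = n * m := by
  obtain ⟨g, hg⟩ := mo_pos_iff.mp hn
  obtain ⟨m, hm⟩ := G22.exists_sum_pow t.ch hg
  refine ⟨m, hm ▸ Finset.sum_congr rfl fun i _ => (t.eq_val h ?_).symm⟩
  rw [orderOf_pow, hg]

theorem nat {n c : ℕ} {z : ℤ} (hn : 0 < mo G n) (hc : c ≠ 0) (e : c * val θ n = z) :
    ∃ a : ℕ, val θ n = a := by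
  obtain ⟨g, hg⟩ := mo_pos_iff.mp hn
  rw [← t.eq_val h hg] at e ⊢
  obtain ⟨a, ha⟩ := H5.MT.int_of_mul (char_isIntegral t.ch g) hc e
  have h1 := t.nn g
  rw [ha, Complex.intCast_re] at h1
  lift a to ℕ using by exact_mod_cast h1
  exact ⟨a, by simpa using ha⟩

theorem total : ∑ g, θ g = ∑ n ∈ [1, 2, 3, 4, 5, 6, 7, 8, 11, 14, 15, 23].toFinset,
    mo G n * val θ n := by
  classical
  rw [← Finset.sum_fiberwise_of_maps_to (g := orderOf) (t := [1, 2, 3, 4, 5, 6, 7, 8, 11, 14, 15,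
    23].toFinset) fun g _ => List.mem_toFinset.mpr (h.ord g)]
  refine Finset.sum_congr rfl fun n _ => ?_
  rw [Finset.sum_congr rfl (g := fun _ => val θ n) fun g hg =>
    t.eq_val h (Finset.mem_filter.mp hg).2, Finset.sum_const, mo_eq, nsmul_eq_mul]

theorem psi {F : Fr G} {A : Subgroup G} {x y w q : G} (c : Cfg F A x y w q) :
    ∃ ψ : N[F.E] → ℂ, IsCharacter _ ψ ∧ ∀ (g : N[F.E]) (p : ℕ) (l : List ℕ), F.Rp A p g →
      (List.range 16).map (fun v => oc (am (33825 + 65536 * v) p)) = l → 0 ∉ l →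
      16 * ψ g = (l.map (val θ)).sum := by
  classical
  have : (F.E.subgroupOf N[F.E]).Normal := normal_in_normalizer
  refine ⟨_, (avgFun_char (F.E.subgroupOf N[F.E]) (isCharacter_res N[F.E] t.ch)).1,
    fun g p l hp hl h0 => ?_⟩
  have h1 : Nat.card (F.E.subgroupOf N[F.E]) = 16 := by
    rw [Nat.card_congr (subgroupOfEquivOfLe le_normalizer).toEquiv, F.card_E]
  rw [avgFun, h1, ← mul_assoc, show (16 : ℂ) * ((16 : ℕ) : ℂ)⁻¹ = 1 by norm_num, one_mul, ← hl,
    List.map_map]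
  change _ = ∑ v ∈ range 16, val θ (oc (am (33825 + 65536 * v) p))
  symm
  refine Finset.sum_bij (fun v _ => ⟨⟨F.e v, le_normalizer (F.e_mem v)⟩, F.e_mem v⟩)
    (fun _ _ => Finset.mem_univ _) (fun i hi j hj e => F.e_inj (Finset.mem_range.mp hi)
      (Finset.mem_range.mp hj) (congrArg (fun z => z.1.1) e))
    (fun ⟨⟨_, _⟩, v, hv, e⟩ _ => ⟨v, Finset.mem_range.mpr hv, Subtype.ext (Subtype.ext e)⟩)
    fun v hv => (t.eq_val h (ord_of c ((Fr.Rp.vec (Finset.mem_range.mp hv)).mul hp) rfl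
      fun e => h0 ?_)).symm
  rw [← hl, List.mem_map]
  exact ⟨v, List.mem_range.mpr (Finset.mem_range.mp hv), e⟩

theorem false : False := by
  obtain ⟨F, V, P, W, t', x, y, w, q, s⟩ := h.exists_S
  have c := s.cfg h.toH23
  have p2 : 0 < mo G 2 := by rw [h.m2]; norm_num
  have p3 : 0 < mo G 3 := by rw [h.m3]; norm_num
  have p4 : 0 < mo G 4 := by rw [h.m4]; norm_num
  have p5 : 0 < mo G 5 := by rw [h.m5]; norm_num
  have p6 : 0 < mo G 6 := by rw [h.m6]; norm_num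
  have p8 : 0 < mo G 8 := by rw [h.m8]; norm_num
  have p11 : 0 < mo G 11 := by rw [h.m11]; norm_num
  have p15 : 0 < mo G 15 := by rw [h.m15]; norm_num
  have v1 := t.v1 h
  obtain ⟨K, hK⟩ : ∃ K, k * k = K := ⟨_, rfl⟩
  rw [hK] at v1
  obtain ⟨m2, c2⟩ := t.cyc h p2
  obtain ⟨m3, c3⟩ := t.cyc h p3
  obtain ⟨m4, c4⟩ := t.cyc h p4
  obtain ⟨m5, c5⟩ := t.cyc h p5
  obtain ⟨m6, c6⟩ := t.cyc h p6
  obtain ⟨m8, c8⟩ := t.cyc h p8
  obtain ⟨m11, c11⟩ := t.cyc h p11
  obtain ⟨m15, c15⟩ := t.cyc h p15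
  simp only [Finset.sum_range_succ, Finset.range_zero, Finset.sum_empty, Nat.reduceGcd,
    Nat.reduceDiv, v1] at c2 c3 c4 c5 c6 c8 c11 c15
  push_cast at c2 c3 c4 c5 c6 c8 c11 c15
  obtain ⟨a2, e2⟩ := t.nat h p2 (c := 1) (z := 2 * m2 - 25921 * K) (by norm_num)
    (by push_cast; linear_combination c2)
  obtain ⟨a3, e3⟩ := t.nat h p3 (c := 2) (z := 3 * m3 - 25921 * K) (by norm_num)
    (by push_cast; linear_combination c3)
  obtain ⟨a4, e4⟩ := t.nat h p4 (c := 2) (z := 4 * m4 - 25921 * K - a2) (by norm_num)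
    (by push_cast; linear_combination c4 - e2)
  obtain ⟨a5, e5⟩ := t.nat h p5 (c := 4) (z := 5 * m5 - 25921 * K) (by norm_num)
    (by push_cast; linear_combination c5)
  obtain ⟨a6, e6⟩ := t.nat h p6 (c := 2) (z := 6 * m6 - 25921 * K - a2 - 2 * a3) (by norm_num)
    (by push_cast; linear_combination c6 - e2 - 2 * e3)
  obtain ⟨a8, e8⟩ := t.nat h p8 (c := 4) (z := 8 * m8 - 25921 * K - a2 - 2 * a4) (by norm_num)
    (by push_cast; linear_combination c8 - e2 - 2 * e4)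
  obtain ⟨a11, e11⟩ := t.nat h p11 (c := 10) (z := 11 * m11 - 25921 * K) (by norm_num)
    (by push_cast; linear_combination c11)
  obtain ⟨a15, e15⟩ := t.nat h p15 (c := 8) (z := 15 * m15 - 25921 * K - 2 * a3 - 4 * a5)
    (by norm_num) (by push_cast; linear_combination c15 - 2 * e3 - 4 * e5)
  have z : ∀ n, 0 < mo G n → 7 ∣ n ∨ 23 ∣ n → val θ n = 0 := fun n hn hd => by
    obtain ⟨g, hg⟩ := mo_pos_iff.mp hn
    rw [← t.eq_val h hg, t.z g (hg ▸ hd)]
  have tot := (t.total h).symm.trans t.sum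
  simp only [List.toFinset_cons, List.toFinset_nil, insert_empty_eq] at tot
  rw [Finset.sum_insert (by decide), Finset.sum_insert (by decide), Finset.sum_insert (by decide),
    Finset.sum_insert (by decide), Finset.sum_insert (by decide), Finset.sum_insert (by decide),
    Finset.sum_insert (by decide), Finset.sum_insert (by decide), Finset.sum_insert (by decide),
    Finset.sum_insert (by decide), Finset.sum_insert (by decide), Finset.sum_singleton,
    z 7 (by rw [h.m7]; norm_num) (by norm_num), z 14 (by rw [h.m14]; norm_num) (by norm_num),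
    z 23 (by rw [h.m23]; norm_num) (by norm_num), mo_one, h.m2, h.m3, h.m4, h.m5, h.m6, h.m8,
    h.m11, h.m15, h.card, v1, e2, e3, e4, e5, e6, e8, e11, e15] at tot
  -- divisibility by 49
  obtain ⟨a, rfl⟩ : 49 ∣ a2 := by
    obtain ⟨j, hj⟩ := mo_pos_iff.mp p2
    obtain ⟨r, hr, or⟩ := exists_mem_orderOf (by norm_num) (h.seven hj)
    obtain ⟨α, h1, h2⟩ := t.t49 j r or hj (mem_cent1_iff.mp hr)
    rw [t.eq_val h hj, e2] at h2
    obtain ⟨n, rfl⟩ := H5.MT.int_of_mul h1 (k := 49) (m := a2) (by norm_num)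
      (by push_cast; exact h2.symm)
    exact Int.natCast_dvd_natCast.mp ⟨n, by exact_mod_cast h2⟩
  -- the quotient by `E`
  obtain ⟨ψ, hψ, H⟩ := t.psi h c
  obtain ⟨-, -, -, -, u, ru⟩ := c.exists_D
  have rz : F.Rp _ 50225 (w * w) := (c.rw.mul c.rw).congr (by decide +kernel)
  have zN : w * w ∈ N[F.E] := rz.R.norm
  have uN : u ∈ N[F.E] := ru.R.norm
  have f1 := H 1 33825 [1, 2, 2, 2, 2, 2, 2, 2, 2, 2, 2, 2, 2, 2, 2, 2] Fr.Rp.one
    (by decide +kernel) (by decide)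
  have l2 : ∀ p ∈ [50225, 38001, am 50225 38001], (List.range 16).map (fun v =>
    oc (am (33825 + 65536 * v) p)) = [2, 2, 4, 4, 2, 2, 4, 4, 4, 4, 4, 4, 4, 4, 4, 4] := by
    decide +kernel
  have f2 := H ⟨_, zN⟩ _ _ rz (l2 _ (by simp)) (by decide)
  have f3 := H ⟨_, uN⟩ _ _ ru (l2 _ (by simp)) (by decide)
  have f4 := H (⟨_, zN⟩ * ⟨_, uN⟩) _ _ (rz.mul ru) (l2 _ (by simp)) (by decide)
  have f5 := H ⟨x, c.rx.R.norm⟩ _ [3, 6, 6, 6, 3, 6, 6, 6, 3, 6, 6, 6, 3, 6, 6, 6] c.rx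
    (by decide +kernel) (by decide)
  simp only [List.map_cons, List.map_nil, List.sum_cons, List.sum_nil, v1, e2, e3, e4, e6]
    at f1 f2 f3 f4 f5
  obtain ⟨n1, g1⟩ := char_one_nat hψ
  obtain ⟨n5, g5⟩ := H5.MT.int_of_mul (char_isIntegral hψ ⟨x, c.rx.R.norm⟩) (k := 4)
    (m := a3 + 3 * a6) (by norm_num) (by push_cast; linear_combination f5 / 4)
  have oz : orderOf (⟨_, zN⟩ : N[F.E]) = 2 := by
    rw [← orderOf_coe]; exact ord_of c rz (by decide +kernel) (by norm_num)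
  have ou : orderOf (⟨_, uN⟩ : N[F.E]) = 2 := by
    rw [← orderOf_coe]; exact ord_of c ru (by decide +kernel) (by norm_num)
  have uz : (⟨_, uN⟩ : N[F.E]) ∈ C₁[(⟨_, zN⟩ : N[F.E])] := mem_cent1_iff.mpr
    (Subtype.ext (c.eq (ru.mul rz) (rz.mul ru) (by decide +kernel)))
  obtain ⟨φ, hφ, H2⟩ := G22.exists_avg' (isCharacter_res C₁[(⟨_, zN⟩ : N[F.E])] hψ) oz
    (mem_cent1_self _) fun g hg => by
      rw [mem_cent1_iff.mp hg, mul_inv_cancel_right]; exact mem_zpowers _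
  obtain ⟨n2, g2⟩ := G22.exists_sum_pow hφ (y := ⟨_, uz⟩) (n := 2) (by rw [← orderOf_coe]; exact ou)
  have g3 := H2 1
  have g4 := H2 ⟨_, uz⟩
  simp only [Finset.sum_range_succ, Finset.range_zero, Finset.sum_empty, pow_zero, pow_one,
    one_mul, OneMemClass.coe_one, mul_one, zero_add] at g2 g3 g4
  push_cast at f1 f2 f3 f4 f5 g2 g3 g4 tot
  refine arith (a := a) (a3 := a3) (a4 := a4) (a5 := a5) (a6 := a6) (a8 := a8) (a11 := a11)
    (a15 := a15) t.pos hK ?_ ⟨n1, ?_⟩ ⟨n2, ?_⟩ ⟨m5, ?_⟩ (Int.natCast_dvd_natCast.mp ⟨n5, ?_⟩)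
  · apply Nat.cast_injective (R := ℂ)
    push_cast
    linear_combination tot / 161
  · apply Nat.cast_injective (R := ℂ)
    push_cast
    linear_combination 16 * g1 - f1
  · apply Nat.cast_injective (R := ℂ)
    push_cast
    linear_combination 32 * g2 - 16 * g3 - 16 * g4 - f1 - f2 - f3 - f4
  · apply Nat.cast_injective (R := ℂ)
    push_cast
    linear_combination c5 - 4 * e5
  · apply Int.cast_injective (α := ℂ)
    push_cast
    linear_combination 4 * g5 - f5 / 4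

end Th

end Cfsg.Agent.H3.X161
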